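import Cfsg.Agent.Lib.LyPres.Iso
import Cfsg.Prelude.Def_Sporadic

/-!
The presented Lyons group is simple.
-/

set_option autoImplicit false

namespace CfsgLib.LyPres

open CfsgLib.CosetEnum CfsgLib.TwistCoset Cfsg.Lie

theorem subH_index_ne : subH.index ≠ 0 := by rw [index_eq]; norm_num

theorem finite_quot : Finite (G ⧸ subH) := Subgroup.finiteIndex_iff_finite_quotient.mp ⟨subH_index_ne⟩

theorem toCoset_surj : Function.Surjective (TData.toCoset (M := 119) rig tw_holds) := by
  haveI := finite_P0
  have hrun : ∀ w, (∀ g ∈ w, g < certA.K) → certA.run 0 w < certA.N := fun w hw => by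
    rw [run0_eq hw]
    exact Fin.isLt _
  have hns : tw.ns = 5 := by
    have h := tw_misc
    simp only [Bool.and_eq_true] at h
    exact Nat.eq_of_beq_eq_true h.2
  have hroots : ∀ i < tw.ns, tw.rootsOK 119 i = true := by
    rw [hns]
    intro i hi
    interval_cases i
    exacts [tw_roots0, tw_roots1, tw_roots2, tw_roots3, tw_roots4]
  have hreach : ∀ i < tw.ns, ∀ p < tw.C.N, tw.Reach 119 i p := by
    rw [hns]
    intro i hi
    interval_cases i
    exacts [TData.reach_of_ok rig tw_reach0, TData.reach_of_ok rig tw_reach1,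
      TData.reach_of_ok rig tw_reach2, TData.reach_of_ok rig tw_reach3,
      TData.reach_of_ok rig tw_reach4]
  exact TData.toCoset_surjective rig tw_cos tw_holds (by omega) hroots hreach hrun

/-- the sizes of the five orbits -/
def orbSize : ℕ → ℕ
  | 0 => 1
  | 1 => 19530
  | 2 => 5812500
  | 3 => 968750
  | _ => 2034375

theorem orb_facts : (∀ i < 5, Nat.card (TData.orb rig i) = orbSize i) ∧
    ∀ i < 5, ∀ j < i, TData.orb rig j ≠ TData.orb rig i := by
  haveI := finite_P0
  have hsum := TData.index_eq_sum tw_holds toCoset_surj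
  have hns : tw.ns = 5 := by
    have h := tw_misc
    simp only [Bool.and_eq_true] at h
    exact Nat.eq_of_beq_eq_true h.2
  rw [hns] at hsum
  simp only [Finset.sum_range_succ, Finset.sum_range_zero, zero_add, index_eq] at hsum
  obtain ⟨hK1, hK2, hK3, hK4⟩ := index_Kgrp
  have hle : ∀ i n, (tw.Kgrp gen0 119 i).index ∣ n → 0 < n → TData.newCard rig i ≤ n :=
    fun i n hn hpos => by
      rcases TData.newCard_dvd (R := rig) (i := i) tw_holds with h | h
      · omega
      · exact Nat.le_of_dvd hpos (h.trans hn)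
  have b0 : TData.newCard rig 0 ≤ 1 := hle 0 1 (by rw [Kgrp_zero, Subgroup.index_top]) one_pos
  have b1 := hle 1 _ hK1 (by norm_num)
  have b2 := hle 2 _ hK2 (by norm_num)
  have b3 := hle 3 _ hK3 (by norm_num)
  have b4 := hle 4 _ hK4 (by norm_num)
  have key : ∀ i < 5, TData.newCard rig i = orbSize i := fun i hi => by
    interval_cases i <;> simp only [orbSize] <;> omega
  have hno : ∀ i < 5, ∀ j < i, TData.orb rig j ≠ TData.orb rig i := fun i hi j hj e => by
    have h := key i hi
    unfold TData.newCard at h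
    rw [if_pos ⟨j, hj, e⟩] at h
    interval_cases i <;> simp [orbSize] at h
  refine ⟨fun i hi => ?_, hno⟩
  have h := key i hi
  unfold TData.newCard at h
  rwa [if_neg fun ⟨j, hj, e⟩ => hno i hi j hj e] at h

theorem union_check : ∀ b1 b2 b3 b4 : Bool,
    (1 + (bif b1 then 19530 else 0) + (bif b2 then 5812500 else 0) + (bif b3 then 968750 else 0) +
      (bif b4 then 2034375 else 0)) ∣ 8835156 →
    (b1 = false ∧ b2 = false ∧ b3 = false ∧ b4 = false) ∨
      (b1 = true ∧ b2 = true ∧ b3 = true ∧ b4 = true) := by decide +kernel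

theorem subH_maximal (M : Subgroup G) (hM : subH ≤ M) : M = subH ∨ M = ⊤ := by
  classical
  haveI := finite_quot
  haveI := finite_P0
  let T : Set (G ⧸ subH) := QuotientGroup.mk '' (M : Set G)
  have hTm : ∀ q ∈ T, ∀ y : P0, toG y • q ∈ T := by
    rintro _ ⟨m, hm, rfl⟩ y
    exact ⟨toG y * m, mul_mem (hM (toG_range.ge ⟨y, rfl⟩)) hm, rfl⟩
  have horbT : ∀ i, TData.pt rig i ∈ T → TData.orb rig i ⊆ T := fun i hi => by
    rintro _ ⟨y, rfl⟩
    exact hTm _ hi y
  have hns : tw.ns = 5 := by
    have h := tw_misc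
    simp only [Bool.and_eq_true] at h
    exact Nat.eq_of_beq_eq_true h.2
  let S : Finset ℕ := (Finset.range 5).filter fun i => TData.pt rig i ∈ T
  have hT : T = ⋃ i ∈ S, TData.orb rig i := by
    refine Set.Subset.antisymm (fun q hq => ?_) (Set.iUnion₂_subset fun i hi => horbT i
      (Finset.mem_filter.mp hi).2)
    obtain ⟨⟨i, y⟩, rfl⟩ := toCoset_surj q
    induction y using QuotientGroup.induction_on with
    | _ y =>
      refine Set.mem_iUnion₂.mpr ⟨i, Finset.mem_filter.mpr ⟨Finset.mem_range.mpr (hns ▸ i.2), ?_⟩, y, rfl⟩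
      have e : TData.pt rig i = toG y⁻¹ • TData.toCoset rig tw_holds ⟨i, (y : P0 ⧸ _)⟩ := by
        change _ = toG y⁻¹ • ((toG y * (TData.wst rig i)⁻¹ : G) : G ⧸ subH)
        rw [map_inv, MulAction.Quotient.smul_coe, smul_eq_mul, inv_mul_cancel_left]
        rfl
      rw [e]
      exact hTm _ hq _
  have hcard : Nat.card T = ∑ i ∈ S, orbSize i := by
    have hd : (S : Set ℕ).PairwiseDisjoint fun i => TData.orb rig i := by
      intro i hi j hj hne
      have hi5 := Finset.mem_range.mp (Finset.mem_filter.mp hi).1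
      have hj5 := Finset.mem_range.mp (Finset.mem_filter.mp hj).1
      rcases TData.orb_eq_or_disjoint (R := rig) i j with h | h
      · exfalso
        rcases lt_or_gt_of_ne hne with h' | h'
        · exact orb_facts.2 j hj5 i h' h
        · exact orb_facts.2 i hi5 j h' h.symm
      · exact h
    rw [hT, Nat.card_coe_set_eq, ← Finset.set_biUnion_coe,
      Set.Finite.ncard_biUnion S.finite_toSet (fun i _ => Set.toFinite _) hd, finsum_mem_coe_finset]
    refine Finset.sum_congr rfl fun i hi => ?_
    rw [← orb_facts.1 i (Finset.mem_range.mp (Finset.mem_filter.mp hi).1), Nat.card_coe_set_eq]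
  have hrel : Nat.card T = subH.relIndex M := by
    let f : M ⧸ subH.subgroupOf M → G ⧸ subH := fun q => Quotient.liftOn q
      (fun m => ((m : G) : G ⧸ subH)) fun a b hab => by
        rw [QuotientGroup.eq]
        have hk : a⁻¹ * b ∈ subH.subgroupOf M := QuotientGroup.leftRel_apply.mp hab
        exact hk
    have hf : Function.Injective f := by
      intro p q
      induction p using QuotientGroup.induction_on with
      | _ a =>
        induction q using QuotientGroup.induction_on with
        | _ b =>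
          intro h
          change ((a : G) : G ⧸ subH) = ((b : G) : G ⧸ subH) at h
          rw [QuotientGroup.eq] at h ⊢
          exact h
    have hr : Set.range f = T := by
      ext x
      constructor
      · rintro ⟨q, rfl⟩
        induction q using QuotientGroup.induction_on with
        | _ a => exact ⟨a, a.2, rfl⟩
      · rintro ⟨m, hm, rfl⟩
        exact ⟨((⟨m, hm⟩ : M) : M ⧸ subH.subgroupOf M), rfl⟩
    rw [← hr, Nat.card_range_of_injective hf]
    rfl
  have hdvd : Nat.card T ∣ 8835156 := by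
    rw [hrel, ← index_eq]
    exact ⟨M.index, (Subgroup.relIndex_mul_index hM).symm⟩
  have h0 : (0 : ℕ) ∈ S := by
    refine Finset.mem_filter.mpr ⟨Finset.mem_range.mpr (by norm_num), ?_⟩
    rw [TData.pt, TData.wst_zero, inv_one]
    exact ⟨1, one_mem _, rfl⟩
  have hexp : ∑ i ∈ S, orbSize i = 1 + (bif decide (1 ∈ S) then 19530 else 0) +
      (bif decide (2 ∈ S) then 5812500 else 0) + (bif decide (3 ∈ S) then 968750 else 0) +
      (bif decide (4 ∈ S) then 2034375 else 0) := by
    have hsub : S ⊆ Finset.range 5 := Finset.filter_subset _ _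
    rw [show ∑ i ∈ S, orbSize i = ∑ i ∈ Finset.range 5, if i ∈ S then orbSize i else 0 by
      rw [← Finset.sum_filter, Finset.filter_mem_eq_inter, Finset.inter_eq_right.mpr hsub]]
    simp only [Finset.sum_range_succ, Finset.sum_range_zero, h0, if_true, zero_add, orbSize,
      Bool.cond_decide]
  have hmu := Subgroup.relIndex_mul_index hM
  rw [index_eq, ← hrel, hcard, hexp] at hmu
  rw [hcard, hexp] at hdvd
  rcases union_check _ _ _ _ hdvd with ⟨h1, h2, h3, h4⟩ | ⟨h1, h2, h3, h4⟩
  · left
    rw [h1, h2, h3, h4] at hexp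
    rw [hrel] at hcard
    exact le_antisymm (Subgroup.relIndex_eq_one.mp (hcard.trans hexp)) hM
  · right
    rw [h1, h2, h3, h4] at hmu
    norm_num at hmu
    exact hmu

theorem cube_check :
    ((CfsgLib.LyRep.Small.mat (w14 [4]) - 1) ^ 3 ≠ 0 ∧
      (CfsgLib.LyRep.Small.mat (w14 [1, 3, 1, 2, 5, 3, 0, 5, 2, 0]) - 1) ^ 3 = 0) := by
  decide +kernel

theorem not_conj (p : P0) :
    p⁻¹ * prodW gen0 [4] * p ≠ prodW gen0 [1, 3, 1, 2, 5, 3, 0, 5, 2, 0] := by
  intro h
  have h1 := congrArg toGL h
  rw [map_mul, map_mul, map_inv, toGL_word (by decide), toGL_word (by decide)] at h1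
  obtain ⟨hA, hB⟩ := cube_check
  set A := prodW gUnit [4] with hAdef
  set B := prodW gUnit [1, 3, 1, 2, 5, 3, 0, 5, 2, 0] with hBdef
  have key : ∀ w : List ℕ, ((prodW gUnit w : GL chevG2.Idx (ZMod 5)).val - 1) ^ 3 =
      ((CfsgLib.LyRep.Small.mat (w14 w) - 1) ^ 3).submatrix idxEquiv idxEquiv := by
    intro w
    rw [val_gUnit, ← w14_eq]
    have : ∀ M : Matrix (Fin 14) (Fin 14) (ZMod 5), (M.submatrix idxEquiv idxEquiv - 1) ^ 3 =
        ((M - 1) ^ 3).submatrix idxEquiv idxEquiv := by
      intro M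
      rw [← Matrix.submatrix_one_equiv idxEquiv]
      change ((M - 1).submatrix idxEquiv idxEquiv) ^ 3 = _
      rw [pow_three, pow_three, Matrix.submatrix_mul_equiv, Matrix.submatrix_mul_equiv]
    exact this _
  have hB' : (B.val - 1) ^ 3 = 0 := by rw [hBdef, key, hB]; rfl
  have hA' : (A.val - 1) ^ 3 ≠ 0 := by
    rw [hAdef, key]
    intro e
    refine hA ?_
    have e2 := congrArg (fun M => Matrix.submatrix M idxEquiv.symm idxEquiv.symm) e
    simpa [Matrix.submatrix_submatrix] using e2
  refine hA' ?_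
  have e : A.val - 1 = (toGL p).val * (B.val - 1) * ((toGL p)⁻¹).val := by
    have : A = toGL p * B * (toGL p)⁻¹ := by rw [← h1]; group
    rw [this, Units.val_mul, Units.val_mul, Matrix.mul_sub, Matrix.sub_mul, mul_one,
      ← Units.val_mul (toGL p) (toGL p)⁻¹, mul_inv_cancel, Units.val_one]
  have hu : ((toGL p)⁻¹).val * (toGL p).val = 1 := by
    rw [← Units.val_mul, inv_mul_cancel, Units.val_one]
  set X := B.val - 1
  set U := (toGL p).val
  set V := ((toGL p)⁻¹).val
  rw [e, pow_three]
  calc U * X * V * (U * X * V * (U * X * V)) = U * (X * (V * U) * X * (V * U) * X) * V := by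
        noncomm_ring
    _ = U * (X * (X * X)) * V := by rw [hu, mul_one, mul_one, mul_assoc X X X]
    _ = 0 := by rw [← pow_three, hB', mul_zero, zero_mul]

theorem simple_G : IsSimpleGroup G := by
  haveI := finite_G
  haveI := simple_P0
  haveI : IsSimpleGroup subH :=
    ((MulEquiv.subgroupCongr toG_range).trans (MonoidHom.ofInjective toG_injective).symm).isSimpleGroup
  haveI : Nontrivial G := Finite.one_lt_card_iff_nontrivial.mp (by rw [card_G]; norm_num)
  refine ⟨fun N hN => or_iff_not_imp_left.mpr fun hne => ?_⟩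
  haveI := hN
  have hnn : ¬ subH.Normal := by
    intro hn
    haveI := finite_P0
    have h := orb_facts.1 1 (by norm_num)
    have hsub : TData.orb rig 1 ⊆ {TData.pt rig 1} := by
      rintro _ ⟨y, rfl⟩
      rw [Set.mem_singleton_iff, TData.pt]
      change ((toG y * (TData.wst rig 1)⁻¹ : G) : G ⧸ subH) = _
      rw [QuotientGroup.eq]
      have h2 := hn.conj_mem _ (inv_mem (toG_range.ge (⟨y, rfl⟩ : toG y ∈ toG.range)))
        (TData.wst rig 1)
      simpa [mul_assoc] using h2
    have h2 := Set.ncard_le_ncard hsub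
    rw [Set.ncard_singleton, ← Nat.card_coe_set_eq, h] at h2
    simp [orbSize] at h2
  have hinf : N.subgroupOf subH = ⊥ ∨ N.subgroupOf subH = ⊤ :=
    Subgroup.Normal.eq_bot_or_eq_top inferInstance
  rcases subH_maximal (subH ⊔ N) le_sup_left with h | h
  · exfalso
    have hle : N ≤ subH := sup_eq_left.mp h
    rcases hinf with h' | h'
    · refine hne ((Subgroup.eq_bot_iff_forall _).mpr fun x hx => ?_)
      have : (⟨x, hle hx⟩ : subH) ∈ N.subgroupOf subH := hx
      rw [h', Subgroup.mem_bot] at this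
      exact congrArg Subtype.val this
    · rw [Subgroup.subgroupOf_eq_top] at h'
      exact hnn (le_antisymm h' hle ▸ hN)
  · rcases hinf with h' | h'
    · exfalso
      have hdis : ∀ x ∈ subH, x ∈ N → x = 1 := fun x hx hxN => by
        have : (⟨x, hx⟩ : subH) ∈ N.subgroupOf subH := hxN
        rw [h', Subgroup.mem_bot] at this
        exact congrArg Subtype.val this
      have hz : gz ∈ subH ⊔ N := h ▸ Subgroup.mem_top _
      rw [← SetLike.mem_coe, Subgroup.mul_normal, Set.mem_mul] at hz
      obtain ⟨k, hk, n, hn, hkn⟩ := hz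
      rw [SetLike.mem_coe] at hk hn
      obtain ⟨p, hp⟩ := toG_range.le hk
      have hrel : prodW fz [4] * gz = gz * prodW fz [1, 3, 1, 2, 5, 3, 0, 5, 2, 0] :=
        zPairs_twist _ List.mem_cons_self
      have hl1 : ∀ g ∈ ([4] : List ℕ), g < 10 := by decide
      have hl2 : ∀ g ∈ ([1, 3, 1, 2, 5, 3, 0, 5, 2, 0] : List ℕ), g < 10 := by decide
      rw [prodW_fz hl1, prodW_fz hl2, ← toG_word hl1, ← toG_word hl2, ← hkn, ← hp] at hrel
      set c := prodW gen0 [4]
      set x := prodW gen0 [1, 3, 1, 2, 5, 3, 0, 5, 2, 0]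
      refine not_conj p (toG_injective ?_)
      have hin : toG (p⁻¹ * c * p) * (toG x)⁻¹ ∈ subH :=
        mul_mem (toG_range.ge ⟨_, rfl⟩) (inv_mem (toG_range.ge ⟨_, rfl⟩))
      have e : toG (p⁻¹ * c * p) * (toG x)⁻¹ = n * (toG x * n⁻¹ * (toG x)⁻¹) := by
        rw [map_mul, map_mul, map_inv]
        have h5 : toG c * toG p = toG p * n * toG x * n⁻¹ := by
          rw [eq_mul_inv_iff_mul_eq]
          simpa [mul_assoc] using hrel
        rw [mul_assoc (toG p)⁻¹, h5]
        group
      have hin2 : toG (p⁻¹ * c * p) * (toG x)⁻¹ ∈ N := by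
        rw [e]
        exact mul_mem hn (hN.conj_mem _ (inv_mem hn) _)
      exact mul_inv_eq_one.mp (hdis _ hin hin2)
    · rw [Subgroup.subgroupOf_eq_top] at h'
      rw [← h]
      exact (sup_eq_right.mpr h').symm

theorem isLy : Cfsg.IsLy G := ⟨simple_G, card_G⟩

end CfsgLib.LyPres
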