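import Cfsg.Agent.Lib.LyPres.CheckAStep0
import Cfsg.Agent.Lib.LyPres.CheckAStep1
import Cfsg.Agent.Lib.LyPres.CheckAStep2
import Cfsg.Agent.Lib.CosetEnum.Blocks
import Cfsg.Agent.Lib.LyPres.DataA

/-!
Kernel checks of coset enumeration data.
-/

set_option autoImplicit false
set_option Elab.async false

namespace CfsgLib.LyPres
open CfsgLib.CosetEnum

theorem certA_complete : certA.Complete :=
  Cert.complete_of_blocks _ (k := 13) (n := 3) (k₂ := 12) (by decide +kernel)
    (fun j hj => by
      match j, hj with
      | 0, _ => exact certA_step0
      | 1, _ => exact certA_step1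
      | 2, _ => exact certA_step2
      | n + 3, h => omega)
    (by decide +kernel) (by decide +kernel) (by decide +kernel)

theorem certA_act0 : allUp certA.actOK' 10 (0 * 2 ^ 10) = true := by decide +kernel

theorem certA_act1 : allUp certA.actOK' 10 (1 * 2 ^ 10) = true := by decide +kernel

theorem certA_act2 : allUp certA.actOK' 10 (2 * 2 ^ 10) = true := by decide +kernel

theorem certA_act3 : allUp certA.actOK' 10 (3 * 2 ^ 10) = true := by decide +kernel

theorem certA_ndImg0 : allUp certA.ndImgOK' 10 (0 * 2 ^ 10) = true := by decide +kernel

theorem certA_ndImg1 : allUp certA.ndImgOK' 10 (1 * 2 ^ 10) = true := by decide +kernel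

theorem certA_ndImg2 : allUp certA.ndImgOK' 10 (2 * 2 ^ 10) = true := by decide +kernel

theorem certA_ndImg3 : allUp certA.ndImgOK' 10 (3 * 2 ^ 10) = true := by decide +kernel

theorem certA_img0 : allUp certA.imgOK' 11 (0 * 2 ^ 11) = true := by decide +kernel

theorem certA_img1 : allUp certA.imgOK' 11 (1 * 2 ^ 11) = true := by decide +kernel

theorem certA_img2 : allUp certA.imgOK' 11 (2 * 2 ^ 11) = true := by decide +kernel

theorem certA_img3 : allUp certA.imgOK' 11 (3 * 2 ^ 11) = true := by decide +kernel

theorem certA_action : certA.IsAction :=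
  Cert.isAction_of_blocks _ (k₁ := 11) (n₁ := 4) (k₂ := 10) (n₂ := 4) (by decide +kernel) (by decide +kernel)
    (fun j hj => by
      match j, hj with
      | 0, _ => exact certA_act0
      | 1, _ => exact certA_act1
      | 2, _ => exact certA_act2
      | 3, _ => exact certA_act3
      | n + 4, h => omega)
    (fun j hj => by
      match j, hj with
      | 0, _ => exact certA_ndImg0
      | 1, _ => exact certA_ndImg1
      | 2, _ => exact certA_ndImg2
      | 3, _ => exact certA_ndImg3
      | n + 4, h => omega)
    (by decide +kernel)
    (fun j hj => by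
      match j, hj with
      | 0, _ => exact certA_img0
      | 1, _ => exact certA_img1
      | 2, _ => exact certA_img2
      | 3, _ => exact certA_img3
      | n + 4, h => omega)
    (by decide +kernel)

end CfsgLib.LyPres
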