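import Cfsg.Agent.Lib.CosetEnum.Use
import Cfsg.Agent.Lib.LyPres.DataC

/-!
Kernel checks of coset enumeration data.
-/

set_option autoImplicit false

namespace CfsgLib.LyPres
open CfsgLib.CosetEnum

theorem certC_complete : certC.Complete :=
  Cert.complete_of _ 10 9 (by decide +kernel) (by decide +kernel) (by decide +kernel)
    (by decide +kernel) (by decide +kernel)

theorem certC_action : certC.IsAction :=
  Cert.isAction_of _ 9 9 (by decide +kernel) (by decide +kernel) (by decide +kernel)
    (by decide +kernel) (by decide +kernel) (by decide +kernel) (by decide +kernel)

end CfsgLib.LyPres
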