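import Cfsg.Agent.Lib.LyRep.Small
import Cfsg.Agent.Lib.LyPres.DataA
import Cfsg.Prelude.Def_ChevG2

/-!
The matrices of size 14 of the generators, and their root elements.
-/

set_option autoImplicit false
set_option linter.style.longLine false
set_option Elab.async false

namespace CfsgLib.LyPres

open CfsgLib.LyRep.Small

instance : Fact (Nat.Prime 5) := ⟨by norm_num⟩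

/-- the matrices of the letters -/
def g2Mats : List (List (List ℕ)) := [
  [[3, 4, 0, 0, 0, 0, 2, 0, 0, 4, 0, 0, 0, 0], [0, 1, 0, 0, 0, 0, 0, 0, 0, 0, 0, 0, 0, 0], [0, 0, 2, 0, 0, 0, 0, 0, 0, 0, 0, 0, 0, 0], [0, 0, 0, 3, 3, 4, 0, 4, 0, 0, 0, 0, 0, 0], [0, 0, 0, 3, 4, 0, 0, 3, 0, 0, 0, 0, 0, 0], [0, 0, 0, 2, 0, 1, 0, 4, 0, 0, 0, 0, 0, 0], [3, 1, 0, 0, 0, 0, 3, 0, 0, 3, 0, 0, 0, 0], [0, 0, 0, 3, 1, 1, 0, 2, 0, 0, 0, 0, 0, 0], [0, 0, 0, 0, 0, 0, 0, 0, 4, 0, 4, 3, 3, 0], [4, 3, 0, 0, 0, 0, 2, 0, 0, 3, 0, 0, 0, 0], [0, 0, 0, 0, 0, 0, 0, 0, 4, 0, 2, 0, 1, 0], [0, 0, 0, 0, 0, 0, 0, 0, 4, 0, 0, 3, 2, 0], [0, 0, 0, 0, 0, 0, 0, 0, 1, 0, 2, 3, 1, 0], [0, 0, 0, 0, 0, 0, 0, 0, 0, 0,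 0, 0, 0, 3]],
  [[3, 4, 0, 0, 0, 0, 2, 0, 0, 4, 0, 0, 0, 0], [0, 1, 0, 0, 0, 0, 0, 0, 0, 0, 0, 0, 0, 0], [0, 0, 3, 0, 0, 0, 0, 0, 0, 0, 0, 0, 0, 0], [0, 0, 0, 1, 1, 3, 0, 3, 0, 0, 0, 0, 0, 0], [0, 0, 0, 1, 3, 0, 0, 1, 0, 0, 0, 0, 0, 0], [0, 0, 0, 4, 0, 2, 0, 3, 0, 0, 0, 0, 0, 0], [3, 1, 0, 0, 0, 0, 3, 0, 0, 3, 0, 0, 0, 0], [0, 0, 0, 1, 2, 2, 0, 4, 0, 0, 0, 0, 0, 0], [0, 0, 0, 0, 0, 0, 0, 0, 2, 0, 2, 4, 4, 0], [4, 3, 0, 0, 0, 0, 2, 0, 0, 3, 0, 0, 0, 0], [0, 0, 0, 0, 0, 0, 0, 0, 2, 0, 1, 0, 3, 0], [0, 0, 0, 0, 0, 0, 0, 0, 2, 0, 0, 4, 1, 0], [0, 0, 0, 0, 0, 0, 0, 0, 3, 0, 1, 4, 3, 0], [0, 0, 0, 0, 0, 0, 0, 0, 0, 0, 0, 0, 0, 2]],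
  [[1, 0, 0, 0, 0, 0, 1, 0, 0, 0, 0, 0, 0, 0], [0, 1, 0, 0, 0, 0, 0, 0, 0, 0, 0, 0, 0, 0], [0, 0, 1, 0, 0, 0, 0, 0, 0, 0, 0, 0, 0, 0], [0, 0, 0, 1, 0, 0, 0, 0, 0, 0, 0, 0, 0, 0], [0, 0, 0, 4, 1, 0, 0, 0, 0, 0, 0, 0, 0, 0], [0, 0, 0, 4, 2, 1, 0, 0, 0, 0, 0, 0, 0, 0], [0, 0, 0, 0, 0, 0, 1, 0, 0, 0, 0, 0, 0, 0], [0, 0, 0, 4, 3, 3, 0, 1, 0, 0, 0, 0, 0, 0], [0, 0, 0, 0, 0, 0, 0, 0, 1, 0, 0, 0, 0, 0], [3, 1, 0, 0, 0, 0, 4, 0, 0, 1, 0, 0, 0, 0], [0, 0, 0, 0, 0, 0, 0, 0, 4, 0, 1, 0, 0, 0], [0, 0, 0, 0, 0, 0, 0, 0, 1, 0, 3, 1, 0, 0], [0, 0, 0, 0, 0, 0, 0, 0, 1, 0, 2, 3, 1, 0], [0, 0, 0, 0, 0, 0, 0, 0, 0, 0, 0, 0, 0, 1]],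
  [[1, 0, 0, 0, 0, 0, 4, 0, 0, 0, 0, 0, 0, 0], [0, 1, 0, 0, 0, 0, 0, 0, 0, 0, 0, 0, 0, 0], [0, 0, 1, 0, 0, 0, 0, 0, 0, 0, 0, 0, 0, 0], [0, 0, 0, 1, 0, 0, 0, 0, 0, 0, 0, 0, 0, 0], [0, 0, 0, 1, 1, 0, 0, 0, 0, 0, 0, 0, 0, 0], [0, 0, 0, 4, 3, 1, 0, 0, 0, 0, 0, 0, 0, 0], [0, 0, 0, 0, 0, 0, 1, 0, 0, 0, 0, 0, 0, 0], [0, 0, 0, 1, 3, 2, 0, 1, 0, 0, 0, 0, 0, 0], [0, 0, 0, 0, 0, 0, 0, 0, 1, 0, 0, 0, 0, 0], [2, 4, 0, 0, 0, 0, 4, 0, 0, 1, 0, 0, 0, 0], [0, 0, 0, 0, 0, 0, 0, 0, 1, 0, 1, 0, 0, 0], [0, 0, 0, 0, 0, 0, 0, 0, 1, 0, 2, 1, 0, 0], [0, 0, 0, 0, 0, 0, 0, 0, 4, 0, 2, 2, 1, 0], [0, 0, 0, 0, 0, 0, 0, 0, 0, 0, 0, 0, 0, 1]],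
  [[1, 0, 4, 2, 4, 1, 0, 0, 0, 0, 0, 0, 0, 0], [0, 1, 0, 2, 1, 3, 0, 0, 0, 0, 0, 0, 0, 0], [0, 0, 1, 0, 0, 0, 0, 0, 0, 0, 0, 0, 0, 0], [0, 0, 0, 1, 0, 0, 0, 0, 0, 0, 0, 0, 0, 0], [0, 0, 4, 0, 1, 0, 0, 0, 0, 0, 0, 0, 0, 0], [0, 0, 2, 0, 0, 1, 0, 0, 0, 0, 0, 0, 0, 0], [0, 0, 1, 2, 3, 0, 1, 0, 0, 0, 0, 0, 0, 0], [0, 0, 2, 0, 0, 0, 0, 1, 0, 0, 0, 0, 0, 0], [0, 0, 1, 3, 2, 0, 3, 0, 1, 0, 0, 0, 0, 0], [0, 0, 4, 0, 2, 1, 0, 4, 0, 1, 0, 0, 0, 0], [1, 4, 1, 4, 0, 4, 4, 0, 0, 0, 1, 0, 0, 0], [3, 0, 1, 1, 0, 0, 3, 4, 0, 2, 0, 1, 0, 0], [4, 2, 4, 1, 3, 2, 0, 3, 0, 4, 0, 0, 1, 0], [4, 3, 0, 1, 2, 2, 2, 4, 3, 3, 4, 3, 0, 1]],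
  [[1, 0, 4, 3, 1, 4, 0, 0, 0, 0, 0, 0, 0, 0], [0, 1, 0, 3, 4, 2, 0, 0, 0, 0, 0, 0, 0, 0], [0, 0, 1, 0, 0, 0, 0, 0, 0, 0, 0, 0, 0, 0], [0, 0, 0, 1, 0, 0, 0, 0, 0, 0, 0, 0, 0, 0], [0, 0, 1, 0, 1, 0, 0, 0, 0, 0, 0, 0, 0, 0], [0, 0, 3, 0, 0, 1, 0, 0, 0, 0, 0, 0, 0, 0], [0, 0, 1, 3, 2, 0, 1, 0, 0, 0, 0, 0, 0, 0], [0, 0, 3, 0, 0, 0, 0, 1, 0, 0, 0, 0, 0, 0], [0, 0, 4, 3, 2, 0, 2, 0, 1, 0, 0, 0, 0, 0], [0, 0, 4, 0, 3, 4, 0, 1, 0, 1, 0, 0, 0, 0], [4, 1, 4, 4, 0, 4, 1, 0, 0, 0, 1, 0, 0, 0], [2, 0, 4, 1, 0, 0, 2, 4, 0, 3, 0, 1, 0, 0], [1, 3, 1, 1, 3, 2, 0, 3, 0, 1, 0, 0, 1, 0], [4, 3, 0, 4, 3, 3, 2, 1, 2, 3, 1, 2, 0, 1]],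
  [[1, 4, 0, 0, 0, 0, 0, 0, 0, 0, 0, 0, 0, 0], [0, 4, 0, 0, 0, 0, 0, 0, 0, 0, 0, 0, 0, 0], [0, 0, 0, 0, 0, 0, 0, 0, 0, 0, 0, 0, 0, 4], [0, 0, 0, 0, 0, 0, 0, 0, 1, 0, 0, 0, 0, 0], [0, 0, 0, 0, 0, 0, 0, 0, 0, 0, 1, 0, 0, 0], [0, 0, 0, 0, 0, 0, 0, 0, 0, 0, 0, 4, 0, 0], [0, 0, 0, 0, 0, 0, 1, 0, 0, 0, 0, 0, 0, 0], [0, 0, 0, 0, 0, 0, 0, 0, 0, 0, 0, 0, 4, 0], [0, 0, 0, 4, 0, 0, 0, 0, 0, 0, 0, 0, 0, 0], [0, 0, 0, 0, 0, 0, 0, 0, 0, 1, 0, 0, 0, 0], [0, 0, 0, 0, 4, 0, 0, 0, 0, 0, 0, 0, 0, 0], [0, 0, 0, 0, 0, 1, 0, 0, 0, 0, 0, 0, 0, 0], [0, 0, 0, 0, 0, 0, 0, 1, 0, 0, 0, 0, 0, 0], [0, 0, 4, 0, 0, 0, 0, 0, 0, 0, 0, 0, 0, 0]],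
  [[1, 4, 0, 0, 0, 0, 0, 0, 0, 0, 0, 0, 0, 0], [0, 4, 0, 0, 0, 0, 0, 0, 0, 0, 0, 0, 0, 0], [0, 0, 0, 0, 0, 0, 0, 0, 0, 0, 0, 0, 0, 4], [0, 0, 0, 0, 0, 0, 0, 0, 4, 0, 0, 0, 0, 0], [0, 0, 0, 0, 0, 0, 0, 0, 0, 0, 4, 0, 0, 0], [0, 0, 0, 0, 0, 0, 0, 0, 0, 0, 0, 1, 0, 0], [0, 0, 0, 0, 0, 0, 1, 0, 0, 0, 0, 0, 0, 0], [0, 0, 0, 0, 0, 0, 0, 0, 0, 0, 0, 0, 1, 0], [0, 0, 0, 1, 0, 0, 0, 0, 0, 0, 0, 0, 0, 0], [0, 0, 0, 0, 0, 0, 0, 0, 0, 1, 0, 0, 0, 0], [0, 0, 0, 0, 1, 0, 0, 0, 0, 0, 0, 0, 0, 0], [0, 0, 0, 0, 0, 4, 0, 0, 0, 0, 0, 0, 0, 0], [0, 0, 0, 0, 0, 0, 0, 4, 0, 0, 0, 0, 0, 0], [0, 0, 4, 0, 0, 0, 0, 0, 0, 0, 0, 0, 0, 0]],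
  [[1, 0, 4, 2, 4, 1, 3, 0, 0, 0, 0, 0, 0, 0], [3, 4, 0, 4, 2, 0, 4, 0, 0, 0, 0, 0, 0, 0], [0, 0, 0, 3, 0, 0, 0, 0, 0, 0, 0, 0, 0, 0], [0, 0, 2, 0, 0, 0, 0, 0, 0, 0, 0, 0, 0, 0], [0, 0, 1, 3, 4, 0, 0, 0, 0, 0, 0, 0, 0, 0], [0, 0, 2, 0, 1, 0, 2, 0, 0, 0, 0, 0, 0, 0], [0, 0, 2, 3, 3, 3, 0, 0, 0, 0, 0, 0, 0, 0], [0, 0, 4, 4, 3, 0, 2, 0, 4, 0, 0, 0, 0, 0], [0, 0, 0, 2, 3, 1, 0, 4, 0, 0, 0, 0, 0, 0], [2, 3, 2, 4, 0, 3, 2, 0, 4, 0, 2, 0, 0, 0], [2, 4, 2, 2, 0, 4, 3, 2, 0, 3, 0, 0, 0, 0], [1, 4, 2, 1, 4, 0, 0, 1, 1, 3, 1, 4, 0, 0], [0, 2, 1, 4, 3, 1, 2, 2, 4, 4, 0, 4, 0, 3], [4, 3, 3, 1, 1, 1, 1, 0, 4, 1, 1, 3, 2, 0]],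
  [[1, 0, 4, 2, 4, 1, 3, 0, 0, 0, 0, 0, 0, 0], [3, 4, 0, 4, 2, 0, 4, 0, 0, 0, 0, 0, 0, 0], [0, 0, 0, 3, 0, 0, 0, 0, 0, 0, 0, 0, 0, 0], [0, 0, 2, 0, 0, 0, 0, 0, 0, 0, 0, 0, 0, 0], [0, 0, 1, 3, 4, 0, 0, 0, 0, 0, 0, 0, 0, 0], [0, 0, 2, 0, 1, 0, 2, 0, 0, 0, 0, 0, 0, 0], [0, 0, 2, 3, 3, 3, 0, 0, 0, 0, 0, 0, 0, 0], [0, 0, 4, 4, 3, 0, 2, 0, 4, 0, 0, 0, 0, 0], [0, 0, 0, 2, 3, 1, 0, 4, 0, 0, 0, 0, 0, 0], [2, 3, 2, 4, 0, 3, 2, 0, 4, 0, 2, 0, 0, 0], [2, 4, 2, 2, 0, 4, 3, 2, 0, 3, 0, 0, 0, 0], [1, 4, 2, 1, 4, 0, 0, 1, 1, 3, 1, 4, 0, 0], [0, 2, 1, 4, 3, 1, 2, 2, 4, 4, 0, 4, 0, 3], [4, 3, 3, 1, 1, 1, 1, 0, 4, 1, 1, 3, 2, 0]]]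

/-- the matrix of a letter -/
def m14 (c : ℕ) : List (List ℕ) := g2Mats.getD c (scalM 1)

/-- the product along a word -/
def w14 : List ℕ → List (List ℕ)
  | [] => scalM 1
  | c :: w => mulM (m14 c) (w14 w)

/-- the words of the root elements -/
def rootWords : List (List ℕ) := [[6, 4, 0, 4, 1, 5, 0, 5, 6, 0], [1, 6, 5, 1, 2, 5, 3, 6], [2, 6, 4, 3, 7], [2, 7, 5, 5, 3, 4, 3, 4, 6, 2], [0, 0, 3, 0, 3, 3, 0], [7, 4, 2, 5, 3, 4, 3, 5, 6, 2], [0, 4, 1, 2, 4, 3], [2], [2, 4, 3], [2, 5, 2, 4, 3, 4, 3, 5], [2, 4, 2, 5, 3, 4, 3, 5], [0, 4, 1, 4, 0, 5, 1, 5]]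

theorem m14_shape : ((List.range 11).all fun c => shapeOK (m14 c)) = true := by decide +kernel

theorem m14_rels : ((certA.rels ++ [[0, 1], [1, 0], [2, 3], [3, 2], [4, 5], [5, 4], [6, 7], [7, 6], [8, 9],
    [9, 8]]).all fun r => w14 r == scalM 1) = true := by decide +kernel

/-- the coordinates of the Chevalley group as numbers -/
def idxEquiv : Cfsg.Lie.chevG2.Idx ≃ Fin 14 := finSumFinEquiv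

theorem root_check : ∀ (r : Fin 12) (t : Fin 5),
    Cfsg.Lie.chevG2.xMat (ZMod 5) r ((t : ℕ) : ZMod 5) =
      (mat (w14 (List.replicate t (rootWords.getD r [])).flatten)).submatrix idxEquiv idxEquiv := by
  decide +kernel

end CfsgLib.LyPres
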