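import Cfsg.Prelude.Def_Spor_Ly
import Cfsg.Agent.Lib.CosetEnum.Use
import Cfsg.Agent.Lib.LyPres.DataA

/-!
The presented Lyons group: its generators and its relations.
-/

set_option autoImplicit false
set_option linter.style.longLine false

namespace CfsgLib.LyPres

open CfsgLib.CosetEnum

/-- the presented group -/
abbrev G : Type := Cfsg.Spor.Ly

/-- the relators -/
abbrev Rels : Set (FreeGroup Cfsg.Spor.Ly.Gen) :=
  Cfsg.Spor.coxRelators Cfsg.Spor.Ly.edges ∪ {r | r ∈ Cfsg.Spor.Ly.extra}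

/-- generator `a` -/
def ga : G := PresentedGroup.of Cfsg.Spor.Ly.Gen.a
/-- generator `b` -/
def gb : G := PresentedGroup.of Cfsg.Spor.Ly.Gen.b
/-- generator `c` -/
def gc : G := PresentedGroup.of Cfsg.Spor.Ly.Gen.c
/-- generator `d` -/
def gd : G := PresentedGroup.of Cfsg.Spor.Ly.Gen.d
/-- generator `z` -/
def gz : G := PresentedGroup.of Cfsg.Spor.Ly.Gen.z
/-- generator `e` -/
def ge : G := PresentedGroup.of Cfsg.Spor.Ly.Gen.e
/-- generator `a1` -/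
def ga1 : G := PresentedGroup.of Cfsg.Spor.Ly.Gen.a1
/-- generator `a2` -/
def ga2 : G := PresentedGroup.of Cfsg.Spor.Ly.Gen.a2
/-- generator `a3` -/
def ga3 : G := PresentedGroup.of Cfsg.Spor.Ly.Gen.a3
/-- generator `a4` -/
def ga4 : G := PresentedGroup.of Cfsg.Spor.Ly.Gen.a4
/-- generator `c1` -/
def gc1 : G := PresentedGroup.of Cfsg.Spor.Ly.Gen.c1
/-- generator `c2` -/
def gc2 : G := PresentedGroup.of Cfsg.Spor.Ly.Gen.c2
/-- generator `c3` -/
def gc3 : G := PresentedGroup.of Cfsg.Spor.Ly.Gen.c3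
/-- generator `c4` -/
def gc4 : G := PresentedGroup.of Cfsg.Spor.Ly.Gen.c4
/-- generator `c5` -/
def gc5 : G := PresentedGroup.of Cfsg.Spor.Ly.Gen.c5
/-- generator `u` -/
def gu : G := PresentedGroup.of Cfsg.Spor.Ly.Gen.u
/-- generator `x23` -/
def gx23 : G := PresentedGroup.of Cfsg.Spor.Ly.Gen.x23
/-- generator `x24` -/
def gx24 : G := PresentedGroup.of Cfsg.Spor.Ly.Gen.x24
/-- generator `x25` -/
def gx25 : G := PresentedGroup.of Cfsg.Spor.Ly.Gen.x25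
/-- generator `x29` -/
def gx29 : G := PresentedGroup.of Cfsg.Spor.Ly.Gen.x29
/-- generator `x47` -/
def gx47 : G := PresentedGroup.of Cfsg.Spor.Ly.Gen.x47
/-- generator `x96` -/
def gx96 : G := PresentedGroup.of Cfsg.Spor.Ly.Gen.x96
/-- generator `x129` -/
def gx129 : G := PresentedGroup.of Cfsg.Spor.Ly.Gen.x129
/-- generator `x162` -/
def gx162 : G := PresentedGroup.of Cfsg.Spor.Ly.Gen.x162
/-- generator `x163` -/
def gx163 : G := PresentedGroup.of Cfsg.Spor.Ly.Gen.x163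
/-- generator `x164` -/
def gx164 : G := PresentedGroup.of Cfsg.Spor.Ly.Gen.x164
/-- generator `x165` -/
def gx165 : G := PresentedGroup.of Cfsg.Spor.Ly.Gen.x165
/-- generator `x166` -/
def gx166 : G := PresentedGroup.of Cfsg.Spor.Ly.Gen.x166
/-- generator `x167` -/
def gx167 : G := PresentedGroup.of Cfsg.Spor.Ly.Gen.x167
/-- generator `x168` -/
def gx168 : G := PresentedGroup.of Cfsg.Spor.Ly.Gen.x168
/-- generator `x169` -/
def gx169 : G := PresentedGroup.of Cfsg.Spor.Ly.Gen.x169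
/-- generator `x364` -/
def gx364 : G := PresentedGroup.of Cfsg.Spor.Ly.Gen.x364
/-- generator `x365` -/
def gx365 : G := PresentedGroup.of Cfsg.Spor.Ly.Gen.x365
/-- generator `x366` -/
def gx366 : G := PresentedGroup.of Cfsg.Spor.Ly.Gen.x366
/-- generator `x367` -/
def gx367 : G := PresentedGroup.of Cfsg.Spor.Ly.Gen.x367
/-- generator `x368` -/
def gx368 : G := PresentedGroup.of Cfsg.Spor.Ly.Gen.x368
/-- generator `x369` -/
def gx369 : G := PresentedGroup.of Cfsg.Spor.Ly.Gen.x369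
/-- generator `x370` -/
def gx370 : G := PresentedGroup.of Cfsg.Spor.Ly.Gen.x370
/-- generator `x371` -/
def gx371 : G := PresentedGroup.of Cfsg.Spor.Ly.Gen.x371

/-- the letters `a, a⁻¹, b, b⁻¹, c, c⁻¹, d, d⁻¹, e, e⁻¹` -/
def gen : ℕ → G
  | 0 => ga
  | 1 => ga⁻¹
  | 2 => gb
  | 3 => gb⁻¹
  | 4 => gc
  | 5 => gc⁻¹
  | 6 => gd
  | 7 => gd⁻¹
  | 8 => ge
  | 9 => ge⁻¹
  | _ => 1

/-- the remaining letters are trivial -/
theorem gen_ten : gen 10 = 1 := by simp only [gen]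

/-- the subgroup of `a, b, c, d` -/
def subH : Subgroup G :=
  (Subgroup.closure ({Cfsg.Spor.Ly.a, Cfsg.Spor.Ly.b, Cfsg.Spor.Ly.c, Cfsg.Spor.Ly.d} :
    Set (FreeGroup Cfsg.Spor.Ly.Gen))).map (PresentedGroup.mk Rels)

theorem relator_at (k : ℕ) (h : k < Cfsg.Spor.Ly.extra.length) :
    PresentedGroup.mk Rels (Cfsg.Spor.Ly.extra[k]) = 1 :=
  PresentedGroup.one_of_mem (Or.inr (List.getElem_mem h))

theorem rel1 : ga ^ 8 = 1 := by
  have h := relator_at 0 (show 0 < 86 by norm_num)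
  simp only [Cfsg.Spor.Ly.extra, List.getElem_cons_succ, List.getElem_cons_zero, map_mul, map_pow, map_inv] at h
  exact h

theorem rel2 : gb ^ 5 = 1 := by
  have h := relator_at 1 (show 1 < 86 by norm_num)
  simp only [Cfsg.Spor.Ly.extra, List.getElem_cons_succ, List.getElem_cons_zero, map_mul, map_pow, map_inv] at h
  exact h

theorem rel3 : (ga * gb) ^ 4 = 1 := by
  have h := relator_at 2 (show 2 < 86 by norm_num)
  simp only [Cfsg.Spor.Ly.extra, List.getElem_cons_succ, List.getElem_cons_zero, map_mul, map_pow, map_inv] at h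
  exact h

theorem rel4 : (ga ^ 2)⁻¹ * gb⁻¹ * (ga ^ 2) * gb = 1 := by
  have h := relator_at 3 (show 3 < 86 by norm_num)
  simp only [Cfsg.Spor.Ly.extra, List.getElem_cons_succ, List.getElem_cons_zero, map_mul, map_pow, map_inv] at h
  exact h

theorem rel5 : (ga⁻¹ * gb⁻¹ * ga * gb) ^ 3 = 1 := by
  have h := relator_at 4 (show 4 < 86 by norm_num)
  simp only [Cfsg.Spor.Ly.extra, List.getElem_cons_succ, List.getElem_cons_zero, map_mul, map_pow, map_inv] at h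
  exact h

theorem rel6 : gc1 * (gc⁻¹) = 1 := by
  have h := relator_at 5 (show 5 < 86 by norm_num)
  simp only [Cfsg.Spor.Ly.extra, List.getElem_cons_succ, List.getElem_cons_zero, map_mul, map_pow, map_inv] at h
  exact h

theorem rel7 : gc2 * ((ga⁻¹ * gc * ga)⁻¹) = 1 := by
  have h := relator_at 6 (show 6 < 86 by norm_num)
  simp only [Cfsg.Spor.Ly.extra, List.getElem_cons_succ, List.getElem_cons_zero, map_mul, map_pow, map_inv] at h
  exact h

theorem rel8 : gc3 * ((gb⁻¹ * gc * gb)⁻¹) = 1 := by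
  have h := relator_at 7 (show 7 < 86 by norm_num)
  simp only [Cfsg.Spor.Ly.extra, List.getElem_cons_succ, List.getElem_cons_zero, map_mul, map_pow, map_inv] at h
  exact h

theorem rel9 : gc4 * (((gb⁻¹)⁻¹ * gc * (gb⁻¹))⁻¹) = 1 := by
  have h := relator_at 8 (show 8 < 86 by norm_num)
  simp only [Cfsg.Spor.Ly.extra, List.getElem_cons_succ, List.getElem_cons_zero, map_mul, map_pow, map_inv] at h
  exact h

theorem rel10 : gc5 * ((gc1⁻¹ * gc2⁻¹ * gc1 * gc2)⁻¹) = 1 := by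
  have h := relator_at 9 (show 9 < 86 by norm_num)
  simp only [Cfsg.Spor.Ly.extra, List.getElem_cons_succ, List.getElem_cons_zero, map_mul, map_pow, map_inv] at h
  exact h

theorem rel11 : gc1 ^ 5 = 1 := by
  have h := relator_at 10 (show 10 < 86 by norm_num)
  simp only [Cfsg.Spor.Ly.extra, List.getElem_cons_succ, List.getElem_cons_zero, map_mul, map_pow, map_inv] at h
  exact h

theorem rel12 : gc5 ^ 5 = 1 := by
  have h := relator_at 11 (show 11 < 86 by norm_num)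
  simp only [Cfsg.Spor.Ly.extra, List.getElem_cons_succ, List.getElem_cons_zero, map_mul, map_pow, map_inv] at h
  exact h

theorem rel13 : gc1⁻¹ * gc5⁻¹ * gc1 * gc5 = 1 := by
  have h := relator_at 12 (show 12 < 86 by norm_num)
  simp only [Cfsg.Spor.Ly.extra, List.getElem_cons_succ, List.getElem_cons_zero, map_mul, map_pow, map_inv] at h
  exact h

theorem rel14 : gc2⁻¹ * gc5⁻¹ * gc2 * gc5 = 1 := by
  have h := relator_at 13 (show 13 < 86 by norm_num)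
  simp only [Cfsg.Spor.Ly.extra, List.getElem_cons_succ, List.getElem_cons_zero, map_mul, map_pow, map_inv] at h
  exact h

theorem rel15 : gc3⁻¹ * gc5⁻¹ * gc3 * gc5 = 1 := by
  have h := relator_at 14 (show 14 < 86 by norm_num)
  simp only [Cfsg.Spor.Ly.extra, List.getElem_cons_succ, List.getElem_cons_zero, map_mul, map_pow, map_inv] at h
  exact h

theorem rel16 : gc4⁻¹ * gc5⁻¹ * gc4 * gc5 = 1 := by
  have h := relator_at 15 (show 15 < 86 by norm_num)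
  simp only [Cfsg.Spor.Ly.extra, List.getElem_cons_succ, List.getElem_cons_zero, map_mul, map_pow, map_inv] at h
  exact h

theorem rel17 : (gc1⁻¹ * gc3⁻¹ * gc1 * gc3) * (((gc5 ^ 2)⁻¹)⁻¹) = 1 := by
  have h := relator_at 16 (show 16 < 86 by norm_num)
  simp only [Cfsg.Spor.Ly.extra, List.getElem_cons_succ, List.getElem_cons_zero, map_mul, map_pow, map_inv] at h
  exact h

theorem rel18 : (gc1⁻¹ * gc4⁻¹ * gc1 * gc4) * ((gc5 ^ 2)⁻¹) = 1 := by
  have h := relator_at 17 (show 17 < 86 by norm_num)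
  simp only [Cfsg.Spor.Ly.extra, List.getElem_cons_succ, List.getElem_cons_zero, map_mul, map_pow, map_inv] at h
  exact h

theorem rel19 : (gc2⁻¹ * gc3⁻¹ * gc2 * gc3) * ((gc5⁻¹)⁻¹) = 1 := by
  have h := relator_at 18 (show 18 < 86 by norm_num)
  simp only [Cfsg.Spor.Ly.extra, List.getElem_cons_succ, List.getElem_cons_zero, map_mul, map_pow, map_inv] at h
  exact h

theorem rel20 : gc2⁻¹ * gc4⁻¹ * gc2 * gc4 = 1 := by
  have h := relator_at 19 (show 19 < 86 by norm_num)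
  simp only [Cfsg.Spor.Ly.extra, List.getElem_cons_succ, List.getElem_cons_zero, map_mul, map_pow, map_inv] at h
  exact h

theorem rel21 : (gc3⁻¹ * gc4⁻¹ * gc3 * gc4) * ((gc5⁻¹)⁻¹) = 1 := by
  have h := relator_at 20 (show 20 < 86 by norm_num)
  simp only [Cfsg.Spor.Ly.extra, List.getElem_cons_succ, List.getElem_cons_zero, map_mul, map_pow, map_inv] at h
  exact h

theorem rel22 : (ga⁻¹ * gc2 * ga) * (((gc1 ^ 2)⁻¹)⁻¹) = 1 := by
  have h := relator_at 21 (show 21 < 86 by norm_num)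
  simp only [Cfsg.Spor.Ly.extra, List.getElem_cons_succ, List.getElem_cons_zero, map_mul, map_pow, map_inv] at h
  exact h

theorem rel23 : (ga⁻¹ * gc3 * ga) * ((((gc3 ^ 2)⁻¹) * gc1 * gc4)⁻¹) = 1 := by
  have h := relator_at 22 (show 22 < 86 by norm_num)
  simp only [Cfsg.Spor.Ly.extra, List.getElem_cons_succ, List.getElem_cons_zero, map_mul, map_pow, map_inv] at h
  exact h

theorem rel24 : (ga⁻¹ * gc4 * ga) * ((gc1 * (gc2⁻¹) * (gc3⁻¹) * gc4 * gc1 * gc4)⁻¹) = 1 := by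
  have h := relator_at 23 (show 23 < 86 by norm_num)
  simp only [Cfsg.Spor.Ly.extra, List.getElem_cons_succ, List.getElem_cons_zero, map_mul, map_pow, map_inv] at h
  exact h

theorem rel25 : (ga⁻¹ * gc5 * ga) * ((gc5 ^ 2)⁻¹) = 1 := by
  have h := relator_at 24 (show 24 < 86 by norm_num)
  simp only [Cfsg.Spor.Ly.extra, List.getElem_cons_succ, List.getElem_cons_zero, map_mul, map_pow, map_inv] at h
  exact h

theorem rel26 : (gb⁻¹ * gc2 * gb) * ((gc2 * gc3 * (gc4⁻¹) * (gc1⁻¹) * (gc4⁻¹))⁻¹) = 1 := by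
  have h := relator_at 25 (show 25 < 86 by norm_num)
  simp only [Cfsg.Spor.Ly.extra, List.getElem_cons_succ, List.getElem_cons_zero, map_mul, map_pow, map_inv] at h
  exact h

theorem rel27 : (gb⁻¹ * gc3 * gb) * (((gc1 ^ 2) * gc4 * ((gc3 ^ 2)⁻¹))⁻¹) = 1 := by
  have h := relator_at 26 (show 26 < 86 by norm_num)
  simp only [Cfsg.Spor.Ly.extra, List.getElem_cons_succ, List.getElem_cons_zero, map_mul, map_pow, map_inv] at h
  exact h

theorem rel28 : (gb⁻¹ * gc5 * gb) * (gc5⁻¹) = 1 := by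
  have h := relator_at 27 (show 27 < 86 by norm_num)
  simp only [Cfsg.Spor.Ly.extra, List.getElem_cons_succ, List.getElem_cons_zero, map_mul, map_pow, map_inv] at h
  exact h

theorem rel29 : ge * ((((gb ^ 2)⁻¹) * (ga⁻¹ * gc1⁻¹ * ga * gc1) * (ga⁻¹) * gc1 * ga * gd * gc1 * gb * ga * (gb⁻¹) * gd * gc1 * gd)⁻¹) = 1 := by
  have h := relator_at 28 (show 28 < 86 by norm_num)
  simp only [Cfsg.Spor.Ly.extra, List.getElem_cons_succ, List.getElem_cons_zero, map_mul, map_pow, map_inv] at h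
  exact h

theorem rel30 : ge ^ 2 = 1 := by
  have h := relator_at 29 (show 29 < 86 by norm_num)
  simp only [Cfsg.Spor.Ly.extra, List.getElem_cons_succ, List.getElem_cons_zero, map_mul, map_pow, map_inv] at h
  exact h

theorem rel31 : (ge⁻¹ * gc1 * ge) * ((gb * gc3 * gb * (gc1⁻¹))⁻¹) = 1 := by
  have h := relator_at 30 (show 30 < 86 by norm_num)
  simp only [Cfsg.Spor.Ly.extra, List.getElem_cons_succ, List.getElem_cons_zero, map_mul, map_pow, map_inv] at h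
  exact h

theorem rel32 : (ge⁻¹ * gc3 * ge) * (((gb ^ 2) * ga * gc2 * (gc1⁻¹) * (gc4⁻¹) * (ga⁻¹))⁻¹) = 1 := by
  have h := relator_at 31 (show 31 < 86 by norm_num)
  simp only [Cfsg.Spor.Ly.extra, List.getElem_cons_succ, List.getElem_cons_zero, map_mul, map_pow, map_inv] at h
  exact h

theorem rel33 : (ge⁻¹ * gc4 * ge) * (((gb ^ 2) * (gc3⁻¹) * gc4)⁻¹) = 1 := by
  have h := relator_at 32 (show 32 < 86 by norm_num)
  simp only [Cfsg.Spor.Ly.extra, List.getElem_cons_succ, List.getElem_cons_zero, map_mul, map_pow, map_inv] at h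
  exact h

theorem rel34 : (ge⁻¹ * gc5 * ge) * ((gc1 * (gc3⁻¹) * gc1 * (gc4⁻¹))⁻¹) = 1 := by
  have h := relator_at 33 (show 33 < 86 by norm_num)
  simp only [Cfsg.Spor.Ly.extra, List.getElem_cons_succ, List.getElem_cons_zero, map_mul, map_pow, map_inv] at h
  exact h

theorem rel35 : (ge * (ga ^ 2) * ge) * ((ga * (gb ^ 2) * ga * (gb⁻¹) * ga * gc1 * gc5 * (gc4⁻¹))⁻¹) = 1 := by
  have h := relator_at 34 (show 34 < 86 by norm_num)
  simp only [Cfsg.Spor.Ly.extra, List.getElem_cons_succ, List.getElem_cons_zero, map_mul, map_pow, map_inv] at h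
  exact h

theorem rel36 : (ge⁻¹ * gb * ge) * ((gc1 * (gc3⁻¹) * ((gc4 ^ 2)⁻¹))⁻¹) = 1 := by
  have h := relator_at 35 (show 35 < 86 by norm_num)
  simp only [Cfsg.Spor.Ly.extra, List.getElem_cons_succ, List.getElem_cons_zero, map_mul, map_pow, map_inv] at h
  exact h

theorem rel37 : (ge * ga * (gb ^ 2) * ga * (gb⁻¹) * ga * ge) * (((ga ^ 2) * gc1 * gc5 * (gc4⁻¹))⁻¹) = 1 := by
  have h := relator_at 36 (show 36 < 86 by norm_num)
  simp only [Cfsg.Spor.Ly.extra, List.getElem_cons_succ, List.getElem_cons_zero, map_mul, map_pow, map_inv] at h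
  exact h

theorem rel38 : ge * gc2 * ge * (gc2⁻¹) * ge * gc2 * (gc4⁻¹) * ga * gc3 * (ga ^ 3) = 1 := by
  have h := relator_at 37 (show 37 < 86 by norm_num)
  simp only [Cfsg.Spor.Ly.extra, List.getElem_cons_succ, List.getElem_cons_zero, map_mul, map_pow, map_inv] at h
  exact h

theorem rel39 : gd * ((ga * (gb ^ 2) * (ga⁻¹) * (gb⁻¹) * (gc1⁻¹) * (gc4⁻¹) * (gc5⁻¹) * ga * ge * ga * ge * ga * (gc2⁻¹) * gb * ge)⁻¹) = 1 := by
  have h := relator_at 38 (show 38 < 86 by norm_num)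
  simp only [Cfsg.Spor.Ly.extra, List.getElem_cons_succ, List.getElem_cons_zero, map_mul, map_pow, map_inv] at h
  exact h

theorem rel40 : (gd ^ 2) * ((ga ^ 4)⁻¹) = 1 := by
  have h := relator_at 39 (show 39 < 86 by norm_num)
  simp only [Cfsg.Spor.Ly.extra, List.getElem_cons_succ, List.getElem_cons_zero, map_mul, map_pow, map_inv] at h
  exact h

theorem rel41 : gb⁻¹ * gd⁻¹ * gb * gd = 1 := by
  have h := relator_at 40 (show 40 < 86 by norm_num)
  simp only [Cfsg.Spor.Ly.extra, List.getElem_cons_succ, List.getElem_cons_zero, map_mul, map_pow, map_inv] at h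
  exact h

theorem rel42 : (gd⁻¹ * ga * gd) * ((ga ^ 3)⁻¹) = 1 := by
  have h := relator_at 41 (show 41 < 86 by norm_num)
  simp only [Cfsg.Spor.Ly.extra, List.getElem_cons_succ, List.getElem_cons_zero, map_mul, map_pow, map_inv] at h
  exact h

theorem rel43 : (gd * gc5) ^ 5 = 1 := by
  have h := relator_at 42 (show 42 < 86 by norm_num)
  simp only [Cfsg.Spor.Ly.extra, List.getElem_cons_succ, List.getElem_cons_zero, map_mul, map_pow, map_inv] at h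
  exact h

theorem rel44 : gd * gc5 * gd * (gc5⁻¹) * gd * gc5 * ((ga ^ 2)⁻¹) = 1 := by
  have h := relator_at 43 (show 43 < 86 by norm_num)
  simp only [Cfsg.Spor.Ly.extra, List.getElem_cons_succ, List.getElem_cons_zero, map_mul, map_pow, map_inv] at h
  exact h

theorem rel45 : ga1 * (ga⁻¹) = 1 := by
  have h := relator_at 44 (show 44 < 86 by norm_num)
  simp only [Cfsg.Spor.Ly.extra, List.getElem_cons_succ, List.getElem_cons_zero, map_mul, map_pow, map_inv] at h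
  exact h

theorem rel46 : ga2 * (((gb⁻¹)⁻¹ * ga * (gb⁻¹))⁻¹) = 1 := by
  have h := relator_at 45 (show 45 < 86 by norm_num)
  simp only [Cfsg.Spor.Ly.extra, List.getElem_cons_succ, List.getElem_cons_zero, map_mul, map_pow, map_inv] at h
  exact h

theorem rel47 : ga3 * ((((gb ^ 2)⁻¹)⁻¹ * ga * ((gb ^ 2)⁻¹))⁻¹) = 1 := by
  have h := relator_at 46 (show 46 < 86 by norm_num)
  simp only [Cfsg.Spor.Ly.extra, List.getElem_cons_succ, List.getElem_cons_zero, map_mul, map_pow, map_inv] at h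
  exact h

theorem rel48 : ga4 * (((gb ^ 2)⁻¹ * ga * (gb ^ 2))⁻¹) = 1 := by
  have h := relator_at 47 (show 47 < 86 by norm_num)
  simp only [Cfsg.Spor.Ly.extra, List.getElem_cons_succ, List.getElem_cons_zero, map_mul, map_pow, map_inv] at h
  exact h

theorem rel49 : gu * ((ga ^ 2)⁻¹) = 1 := by
  have h := relator_at 48 (show 48 < 86 by norm_num)
  simp only [Cfsg.Spor.Ly.extra, List.getElem_cons_succ, List.getElem_cons_zero, map_mul, map_pow, map_inv] at h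
  exact h

theorem rel50 : gx23 * (gd⁻¹) = 1 := by
  have h := relator_at 49 (show 49 < 86 by norm_num)
  simp only [Cfsg.Spor.Ly.extra, List.getElem_cons_succ, List.getElem_cons_zero, map_mul, map_pow, map_inv] at h
  exact h

theorem rel51 : gx24 * ((gd⁻¹)⁻¹) = 1 := by
  have h := relator_at 50 (show 50 < 86 by norm_num)
  simp only [Cfsg.Spor.Ly.extra, List.getElem_cons_succ, List.getElem_cons_zero, map_mul, map_pow, map_inv] at h
  exact h

theorem rel52 : gx25 * (((gb ^ 2) * (ga⁻¹) * (gb⁻¹) * (ga⁻¹) * (gb ^ 2) * (gc⁻¹) * ga * gc * (ga⁻¹) * (gc⁻¹) * gd * (gc⁻¹) * (gb ^ 2) * (ga⁻¹) * gc * gb)⁻¹) = 1 := by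
  have h := relator_at 51 (show 51 < 86 by norm_num)
  simp only [Cfsg.Spor.Ly.extra, List.getElem_cons_succ, List.getElem_cons_zero, map_mul, map_pow, map_inv] at h
  exact h

theorem rel53 : gx29 * ((ga * gb * (ga⁻¹) * (gb ^ 2) * (ga⁻¹) * (gb ^ 2) * (gc⁻¹) * ga * gc * gb * gc * (gb⁻¹) * gd * gc * ((gb ^ 2)⁻¹) * gd * gc * gb * gc)⁻¹) = 1 := by
  have h := relator_at 52 (show 52 < 86 by norm_num)
  simp only [Cfsg.Spor.Ly.extra, List.getElem_cons_succ, List.getElem_cons_zero, map_mul, map_pow, map_inv] at h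
  exact h

theorem rel54 : gx47 * (((gc⁻¹) * (gd⁻¹) * (ga⁻¹) * (gc⁻¹) * (ga⁻¹) * gb * (gc⁻¹) * (gd⁻¹))⁻¹) = 1 := by
  have h := relator_at 53 (show 53 < 86 by norm_num)
  simp only [Cfsg.Spor.Ly.extra, List.getElem_cons_succ, List.getElem_cons_zero, map_mul, map_pow, map_inv] at h
  exact h

theorem rel55 : gx96 * ((gb * gd)⁻¹) = 1 := by
  have h := relator_at 54 (show 54 < 86 by norm_num)
  simp only [Cfsg.Spor.Ly.extra, List.getElem_cons_succ, List.getElem_cons_zero, map_mul, map_pow, map_inv] at h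
  exact h

theorem rel56 : gx129 * (((gd⁻¹) * (gb⁻¹))⁻¹) = 1 := by
  have h := relator_at 55 (show 55 < 86 by norm_num)
  simp only [Cfsg.Spor.Ly.extra, List.getElem_cons_succ, List.getElem_cons_zero, map_mul, map_pow, map_inv] at h
  exact h

theorem rel57 : gx162 * (((ga⁻¹) * (gb⁻¹) * (ga⁻¹) * gb * (gc⁻¹) * (gb⁻¹) * ga * (gc⁻¹) * gb * ga)⁻¹) = 1 := by
  have h := relator_at 56 (show 56 < 86 by norm_num)
  simp only [Cfsg.Spor.Ly.extra, List.getElem_cons_succ, List.getElem_cons_zero, map_mul, map_pow, map_inv] at h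
  exact h

theorem rel58 : gx163 * ((((gb ^ 2)⁻¹) * ga * gc * (ga⁻¹) * gb * gc * gb)⁻¹) = 1 := by
  have h := relator_at 57 (show 57 < 86 by norm_num)
  simp only [Cfsg.Spor.Ly.extra, List.getElem_cons_succ, List.getElem_cons_zero, map_mul, map_pow, map_inv] at h
  exact h

theorem rel59 : gx164 * (((ga⁻¹) * (gb⁻¹) * (ga⁻¹) * gc * ga * gb * ga)⁻¹) = 1 := by
  have h := relator_at 58 (show 58 < 86 by norm_num)
  simp only [Cfsg.Spor.Ly.extra, List.getElem_cons_succ, List.getElem_cons_zero, map_mul, map_pow, map_inv] at h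
  exact h

theorem rel60 : gx165 * (((gb⁻¹) * (ga⁻¹) * gb * gc * (gb⁻¹) * ga * gb)⁻¹) = 1 := by
  have h := relator_at 59 (show 59 < 86 by norm_num)
  simp only [Cfsg.Spor.Ly.extra, List.getElem_cons_succ, List.getElem_cons_zero, map_mul, map_pow, map_inv] at h
  exact h

theorem rel61 : gx166 * (((gb ^ 2) * (ga⁻¹) * (gb⁻¹) * gc * gb * ga * gc * ((gb ^ 2)⁻¹) * (gc⁻¹))⁻¹) = 1 := by
  have h := relator_at 60 (show 60 < 86 by norm_num)
  simp only [Cfsg.Spor.Ly.extra, List.getElem_cons_succ, List.getElem_cons_zero, map_mul, map_pow, map_inv] at h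
  exact h

theorem rel62 : gx167 * (((ga ^ 3)⁻¹)⁻¹) = 1 := by
  have h := relator_at 61 (show 61 < 86 by norm_num)
  simp only [Cfsg.Spor.Ly.extra, List.getElem_cons_succ, List.getElem_cons_zero, map_mul, map_pow, map_inv] at h
  exact h

theorem rel63 : gx168 * ((gb * (ga⁻¹) * (gb⁻¹) * ((ga ^ 2)⁻¹))⁻¹) = 1 := by
  have h := relator_at 62 (show 62 < 86 by norm_num)
  simp only [Cfsg.Spor.Ly.extra, List.getElem_cons_succ, List.getElem_cons_zero, map_mul, map_pow, map_inv] at h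
  exact h

theorem rel64 : gx169 * ((ga * (gb ^ 2) * ga * ((gb ^ 2)⁻¹) * (ga⁻¹))⁻¹) = 1 := by
  have h := relator_at 63 (show 63 < 86 by norm_num)
  simp only [Cfsg.Spor.Ly.extra, List.getElem_cons_succ, List.getElem_cons_zero, map_mul, map_pow, map_inv] at h
  exact h

theorem rel65 : gx364 * (((ga⁻¹) * gd * (gb⁻¹) * (gc⁻¹) * (ga⁻¹) * gb * (gc⁻¹) * (gd⁻¹) * gb * (gc⁻¹) * (gb⁻¹) * (ga⁻¹) * (gc⁻¹) * ga * (gb⁻¹) * ga * gb * ga * (gb⁻¹))⁻¹) = 1 := by
  have h := relator_at 64 (show 64 < 86 by norm_num)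
  simp only [Cfsg.Spor.Ly.extra, List.getElem_cons_succ, List.getElem_cons_zero, map_mul, map_pow, map_inv] at h
  exact h

theorem rel66 : gx365 * ((ga * ((gb ^ 2)⁻¹) * (ga⁻¹) * gc * gb * (gc⁻¹) * gb * (ga⁻¹) * ((gc ^ 2)⁻¹) * gd * gc * ga * gc * (ga⁻¹) * gc * (gb⁻¹) * (gd⁻¹))⁻¹) = 1 := by
  have h := relator_at 65 (show 65 < 86 by norm_num)
  simp only [Cfsg.Spor.Ly.extra, List.getElem_cons_succ, List.getElem_cons_zero, map_mul, map_pow, map_inv] at h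
  exact h

theorem rel67 : gx366 * ((gb * ga * (gb⁻¹) * (ga⁻¹) * ((gb ^ 2)⁻¹) * (ga⁻¹) * (gb⁻¹) * gc * (gb ^ 2) * gc * gb * gd * gc * ((gb ^ 2)⁻¹) * gd * gc * gb * gc)⁻¹) = 1 := by
  have h := relator_at 66 (show 66 < 86 by norm_num)
  simp only [Cfsg.Spor.Ly.extra, List.getElem_cons_succ, List.getElem_cons_zero, map_mul, map_pow, map_inv] at h
  exact h

theorem rel68 : gx367 * (((gc⁻¹) * (gb⁻¹) * (gc⁻¹) * (gd⁻¹) * (gb ^ 2) * (gc⁻¹) * (gd⁻¹) * (gb⁻¹) * (gc⁻¹) * ((gb ^ 2)⁻¹) * (gc⁻¹) * gb * ga * (gb ^ 2) * ga * gb * (ga⁻¹) * (gb⁻¹))⁻¹) = 1 := by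
  have h := relator_at 67 (show 67 < 86 by norm_num)
  simp only [Cfsg.Spor.Ly.extra, List.getElem_cons_succ, List.getElem_cons_zero, map_mul, map_pow, map_inv] at h
  exact h

theorem rel69 : gx368 * (((ga⁻¹) * (gc⁻¹) * (gd⁻¹) * ga * (gc⁻¹) * (gb⁻¹) * ga * (gc⁻¹) * (gd⁻¹) * (ga⁻¹) * (gc⁻¹) * ga * gc * ((gb ^ 2)⁻¹) * (gc⁻¹) * (gb⁻¹) * (ga⁻¹) * ((gb ^ 2)⁻¹))⁻¹) = 1 := by
  have h := relator_at 68 (show 68 < 86 by norm_num)
  simp only [Cfsg.Spor.Ly.extra, List.getElem_cons_succ, List.getElem_cons_zero, map_mul, map_pow, map_inv] at h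
  exact h

theorem rel70 : gx369 * (((ga⁻¹) * (gc⁻¹) * (gd⁻¹) * gb * (ga⁻¹) * (gb⁻¹) * (gc⁻¹) * (gd⁻¹) * gb * (ga⁻¹) * (gb⁻¹) * (gc⁻¹) * (gb⁻¹) * ga * ((gb ^ 2)⁻¹) * ga * (gb⁻¹))⁻¹) = 1 := by
  have h := relator_at 69 (show 69 < 86 by norm_num)
  simp only [Cfsg.Spor.Ly.extra, List.getElem_cons_succ, List.getElem_cons_zero, map_mul, map_pow, map_inv] at h
  exact h

theorem rel71 : gx370 * (((gd⁻¹) * ga * gc * gb * gc * (ga⁻¹) * (gc⁻¹) * (gd⁻¹) * ga * (gb⁻¹) * (ga⁻¹) * gc * (ga⁻¹) * ((gb ^ 2)⁻¹) * (ga⁻¹) * gb * (ga⁻¹))⁻¹) = 1 := by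
  have h := relator_at 70 (show 70 < 86 by norm_num)
  simp only [Cfsg.Spor.Ly.extra, List.getElem_cons_succ, List.getElem_cons_zero, map_mul, map_pow, map_inv] at h
  exact h

theorem rel72 : gx371 * (((gc⁻¹) * (ga⁻¹) * gc * gb * (gc⁻¹) * (gd⁻¹) * gc * (ga⁻¹) * gc * ga * gc * (gb⁻¹) * (ga⁻¹) * (gb⁻¹) * (ga⁻¹) * gb)⁻¹) = 1 := by
  have h := relator_at 71 (show 71 < 86 by norm_num)
  simp only [Cfsg.Spor.Ly.extra, List.getElem_cons_succ, List.getElem_cons_zero, map_mul, map_pow, map_inv] at h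
  exact h

theorem rel73 : (gz⁻¹ * gc1 * gz) * (gx162⁻¹) = 1 := by
  have h := relator_at 72 (show 72 < 86 by norm_num)
  simp only [Cfsg.Spor.Ly.extra, List.getElem_cons_succ, List.getElem_cons_zero, map_mul, map_pow, map_inv] at h
  exact h

theorem rel74 : (gz⁻¹ * gc2 * gz) * (gx163⁻¹) = 1 := by
  have h := relator_at 73 (show 73 < 86 by norm_num)
  simp only [Cfsg.Spor.Ly.extra, List.getElem_cons_succ, List.getElem_cons_zero, map_mul, map_pow, map_inv] at h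
  exact h

theorem rel75 : (gz⁻¹ * gc3 * gz) * (gx164⁻¹) = 1 := by
  have h := relator_at 74 (show 74 < 86 by norm_num)
  simp only [Cfsg.Spor.Ly.extra, List.getElem_cons_succ, List.getElem_cons_zero, map_mul, map_pow, map_inv] at h
  exact h

theorem rel76 : (gz⁻¹ * gc4 * gz) * (gx165⁻¹) = 1 := by
  have h := relator_at 75 (show 75 < 86 by norm_num)
  simp only [Cfsg.Spor.Ly.extra, List.getElem_cons_succ, List.getElem_cons_zero, map_mul, map_pow, map_inv] at h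
  exact h

theorem rel77 : (gz⁻¹ * gc5 * gz) * (gx166⁻¹) = 1 := by
  have h := relator_at 76 (show 76 < 86 by norm_num)
  simp only [Cfsg.Spor.Ly.extra, List.getElem_cons_succ, List.getElem_cons_zero, map_mul, map_pow, map_inv] at h
  exact h

theorem rel78 : (gz⁻¹ * ga1 * gz) * (gx167⁻¹) = 1 := by
  have h := relator_at 77 (show 77 < 86 by norm_num)
  simp only [Cfsg.Spor.Ly.extra, List.getElem_cons_succ, List.getElem_cons_zero, map_mul, map_pow, map_inv] at h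
  exact h

theorem rel79 : (gz⁻¹ * ga2 * gz) * (gx168⁻¹) = 1 := by
  have h := relator_at 78 (show 78 < 86 by norm_num)
  simp only [Cfsg.Spor.Ly.extra, List.getElem_cons_succ, List.getElem_cons_zero, map_mul, map_pow, map_inv] at h
  exact h

theorem rel80 : (gz⁻¹ * ga3 * gz) * (gx169⁻¹) = 1 := by
  have h := relator_at 79 (show 79 < 86 by norm_num)
  simp only [Cfsg.Spor.Ly.extra, List.getElem_cons_succ, List.getElem_cons_zero, map_mul, map_pow, map_inv] at h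
  exact h

theorem rel81 : (gz ^ 2) * (gu⁻¹) = 1 := by
  have h := relator_at 80 (show 80 < 86 by norm_num)
  simp only [Cfsg.Spor.Ly.extra, List.getElem_cons_succ, List.getElem_cons_zero, map_mul, map_pow, map_inv] at h
  exact h

theorem rel82 : ((ga4 * gz) ^ 3) * gu = 1 := by
  have h := relator_at 81 (show 81 < 86 by norm_num)
  simp only [Cfsg.Spor.Ly.extra, List.getElem_cons_succ, List.getElem_cons_zero, map_mul, map_pow, map_inv] at h
  exact h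

theorem rel83 : gx47 * gz * gx364 * gz * gx368 * gz = 1 := by
  have h := relator_at 82 (show 82 < 86 by norm_num)
  simp only [Cfsg.Spor.Ly.extra, List.getElem_cons_succ, List.getElem_cons_zero, map_mul, map_pow, map_inv] at h
  exact h

theorem rel84 : (gz⁻¹) * gx24 * (gz⁻¹) * gx369 * gz * gx23 * gz * gx29 = 1 := by
  have h := relator_at 83 (show 83 < 86 by norm_num)
  simp only [Cfsg.Spor.Ly.extra, List.getElem_cons_succ, List.getElem_cons_zero, map_mul, map_pow, map_inv] at h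
  exact h

theorem rel85 : gz * gx366 * gz * gx365 * (gz⁻¹) * gx367 * (gz⁻¹) * gx370 = 1 := by
  have h := relator_at 84 (show 84 < 86 by norm_num)
  simp only [Cfsg.Spor.Ly.extra, List.getElem_cons_succ, List.getElem_cons_zero, map_mul, map_pow, map_inv] at h
  exact h

theorem rel86 : gz * gx96 * gz * gx25 * (gz⁻¹) * gx129 * (gz⁻¹) * gx371 = 1 := by
  have h := relator_at 85 (show 85 < 86 by norm_num)
  simp only [Cfsg.Spor.Ly.extra, List.getElem_cons_succ, List.getElem_cons_zero, map_mul, map_pow, map_inv] at h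
  exact h

theorem gc1_eq : gc1 = gc := mul_inv_eq_one.mp rel6

theorem gc2_eq : gc2 = (ga⁻¹ * gc * ga) := mul_inv_eq_one.mp rel7

theorem gc3_eq : gc3 = (gb⁻¹ * gc * gb) := mul_inv_eq_one.mp rel8

theorem gc4_eq : gc4 = ((gb⁻¹)⁻¹ * gc * (gb⁻¹)) := mul_inv_eq_one.mp rel9

theorem gc5_eq : gc5 = (gc1⁻¹ * gc2⁻¹ * gc1 * gc2) := mul_inv_eq_one.mp rel10

theorem ge_eq : ge = (((gb ^ 2)⁻¹) * (ga⁻¹ * gc1⁻¹ * ga * gc1) * (ga⁻¹) * gc1 * ga * gd * gc1 * gb * ga * (gb⁻¹) * gd * gc1 * gd) := mul_inv_eq_one.mp rel29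

theorem ga1_eq : ga1 = ga := mul_inv_eq_one.mp rel45

theorem ga2_eq : ga2 = ((gb⁻¹)⁻¹ * ga * (gb⁻¹)) := mul_inv_eq_one.mp rel46

theorem ga3_eq : ga3 = (((gb ^ 2)⁻¹)⁻¹ * ga * ((gb ^ 2)⁻¹)) := mul_inv_eq_one.mp rel47

theorem ga4_eq : ga4 = ((gb ^ 2)⁻¹ * ga * (gb ^ 2)) := mul_inv_eq_one.mp rel48

theorem gu_eq : gu = (ga ^ 2) := mul_inv_eq_one.mp rel49

theorem gx23_eq : gx23 = gd := mul_inv_eq_one.mp rel50

theorem gx24_eq : gx24 = (gd⁻¹) := mul_inv_eq_one.mp rel51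

theorem gx25_eq : gx25 = ((gb ^ 2) * (ga⁻¹) * (gb⁻¹) * (ga⁻¹) * (gb ^ 2) * (gc⁻¹) * ga * gc * (ga⁻¹) * (gc⁻¹) * gd * (gc⁻¹) * (gb ^ 2) * (ga⁻¹) * gc * gb) := mul_inv_eq_one.mp rel52

theorem gx29_eq : gx29 = (ga * gb * (ga⁻¹) * (gb ^ 2) * (ga⁻¹) * (gb ^ 2) * (gc⁻¹) * ga * gc * gb * gc * (gb⁻¹) * gd * gc * ((gb ^ 2)⁻¹) * gd * gc * gb * gc) := mul_inv_eq_one.mp rel53

theorem gx47_eq : gx47 = ((gc⁻¹) * (gd⁻¹) * (ga⁻¹) * (gc⁻¹) * (ga⁻¹) * gb * (gc⁻¹) * (gd⁻¹)) := mul_inv_eq_one.mp rel54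

theorem gx96_eq : gx96 = (gb * gd) := mul_inv_eq_one.mp rel55

theorem gx129_eq : gx129 = ((gd⁻¹) * (gb⁻¹)) := mul_inv_eq_one.mp rel56

theorem gx162_eq : gx162 = ((ga⁻¹) * (gb⁻¹) * (ga⁻¹) * gb * (gc⁻¹) * (gb⁻¹) * ga * (gc⁻¹) * gb * ga) := mul_inv_eq_one.mp rel57

theorem gx163_eq : gx163 = (((gb ^ 2)⁻¹) * ga * gc * (ga⁻¹) * gb * gc * gb) := mul_inv_eq_one.mp rel58

theorem gx164_eq : gx164 = ((ga⁻¹) * (gb⁻¹) * (ga⁻¹) * gc * ga * gb * ga) := mul_inv_eq_one.mp rel59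

theorem gx165_eq : gx165 = ((gb⁻¹) * (ga⁻¹) * gb * gc * (gb⁻¹) * ga * gb) := mul_inv_eq_one.mp rel60

theorem gx166_eq : gx166 = ((gb ^ 2) * (ga⁻¹) * (gb⁻¹) * gc * gb * ga * gc * ((gb ^ 2)⁻¹) * (gc⁻¹)) := mul_inv_eq_one.mp rel61

theorem gx167_eq : gx167 = ((ga ^ 3)⁻¹) := mul_inv_eq_one.mp rel62

theorem gx168_eq : gx168 = (gb * (ga⁻¹) * (gb⁻¹) * ((ga ^ 2)⁻¹)) := mul_inv_eq_one.mp rel63

theorem gx169_eq : gx169 = (ga * (gb ^ 2) * ga * ((gb ^ 2)⁻¹) * (ga⁻¹)) := mul_inv_eq_one.mp rel64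

theorem gx364_eq : gx364 = ((ga⁻¹) * gd * (gb⁻¹) * (gc⁻¹) * (ga⁻¹) * gb * (gc⁻¹) * (gd⁻¹) * gb * (gc⁻¹) * (gb⁻¹) * (ga⁻¹) * (gc⁻¹) * ga * (gb⁻¹) * ga * gb * ga * (gb⁻¹)) := mul_inv_eq_one.mp rel65

theorem gx365_eq : gx365 = (ga * ((gb ^ 2)⁻¹) * (ga⁻¹) * gc * gb * (gc⁻¹) * gb * (ga⁻¹) * ((gc ^ 2)⁻¹) * gd * gc * ga * gc * (ga⁻¹) * gc * (gb⁻¹) * (gd⁻¹)) := mul_inv_eq_one.mp rel66

theorem gx366_eq : gx366 = (gb * ga * (gb⁻¹) * (ga⁻¹) * ((gb ^ 2)⁻¹) * (ga⁻¹) * (gb⁻¹) * gc * (gb ^ 2) * gc * gb * gd * gc * ((gb ^ 2)⁻¹) * gd * gc * gb * gc) := mul_inv_eq_one.mp rel67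

theorem gx367_eq : gx367 = ((gc⁻¹) * (gb⁻¹) * (gc⁻¹) * (gd⁻¹) * (gb ^ 2) * (gc⁻¹) * (gd⁻¹) * (gb⁻¹) * (gc⁻¹) * ((gb ^ 2)⁻¹) * (gc⁻¹) * gb * ga * (gb ^ 2) * ga * gb * (ga⁻¹) * (gb⁻¹)) := mul_inv_eq_one.mp rel68

theorem gx368_eq : gx368 = ((ga⁻¹) * (gc⁻¹) * (gd⁻¹) * ga * (gc⁻¹) * (gb⁻¹) * ga * (gc⁻¹) * (gd⁻¹) * (ga⁻¹) * (gc⁻¹) * ga * gc * ((gb ^ 2)⁻¹) * (gc⁻¹) * (gb⁻¹) * (ga⁻¹) * ((gb ^ 2)⁻¹)) := mul_inv_eq_one.mp rel69

theorem gx369_eq : gx369 = ((ga⁻¹) * (gc⁻¹) * (gd⁻¹) * gb * (ga⁻¹) * (gb⁻¹) * (gc⁻¹) * (gd⁻¹) * gb * (ga⁻¹) * (gb⁻¹) * (gc⁻¹) * (gb⁻¹) * ga * ((gb ^ 2)⁻¹) * ga * (gb⁻¹)) := mul_inv_eq_one.mp rel70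

theorem gx370_eq : gx370 = ((gd⁻¹) * ga * gc * gb * gc * (ga⁻¹) * (gc⁻¹) * (gd⁻¹) * ga * (gb⁻¹) * (ga⁻¹) * gc * (ga⁻¹) * ((gb ^ 2)⁻¹) * (ga⁻¹) * gb * (ga⁻¹)) := mul_inv_eq_one.mp rel71

theorem gx371_eq : gx371 = ((gc⁻¹) * (ga⁻¹) * gc * gb * (gc⁻¹) * (gd⁻¹) * gc * (ga⁻¹) * gc * ga * gc * (gb⁻¹) * (ga⁻¹) * (gb⁻¹) * (ga⁻¹) * gb) := mul_inv_eq_one.mp rel72

end CfsgLib.LyPres
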