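import Cfsg.Agent.Lib.TwistCoset.Act

/-!
Chains of the stabilisers of the double cosets.
-/

set_option autoImplicit false
set_option linter.style.longLine false

namespace CfsgLib.LyPres
open CfsgLib.CosetEnum CfsgLib.TwistCoset
/-- stabiliser words of state 1 -/
noncomputable def kWit1 : List (List (List (ℕ × Bool))) := [
  [[(6,false)],[(7,false)],[(8,false)],[(9,false)],[(10,false)],[(11,false)],[(12,false),(10,true),(11,true),(10,true),(10,true),(10,true),(10,true)]],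
  [[(10,false)],[(11,false)],[(12,false),(10,true),(11,true),(10,true),(10,true),(10,true),(10,true)]],
  [[(12,false),(10,true),(11,true),(10,true),(10,true),(10,true),(10,true)]]]

/-- part 0 of `kOrb1_0` -/
noncomputable def kOrb1_0P0 : List (ℕ × List ℕ) := [
  (2,[]),
  (259,[0]),
  (251,[1]),
  (71,[2]),
  (591,[3]),
  (252,[0,0]),
  (1359,[0,1]),
  (3800,[0,2]),
  (3831,[0,3]),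
  (250,[0,5]),
  (246,[0,6]),
  (3827,[1,0]),
  (245,[1,1]),
  (3437,[1,2]),
  (285,[1,3]),
  (255,[1,4]),
  (296,[1,5]),
  (292,[1,6]),
  (3007,[2,0]),
  (2762,[2,1]),
  (87,[2,2]),
  (709,[2,3]),
  (86,[2,4]),
  (746,[2,5]),
  (130,[2,6]),
  (2850,[3,0]),
  (537,[3,2]),
  (361,[3,3]),
  (360,[3,4]),
  (575,[3,5]),
  (210,[3,6]),
  (2613,[0,0,1]),
  (1810,[0,0,2]),
  (1717,[0,0,3]),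
  (244,[0,0,5]),
  (3515,[0,1,0]),
  (2812,[0,1,1]),
  (2108,[0,1,2]),
  (3375,[0,1,3]),
  (1429,[0,1,4]),
  (1353,[0,1,5]),
  (2875,[0,1,6]),
  (1340,[0,2,0]),
  (2830,[0,2,1]),
  (2279,[0,2,2]),
  (836,[0,2,3]),
  (3697,[0,2,4]),
  (2970,[0,2,6]),
  (1797,[0,3,0]),
  (3495,[0,3,2]),
  (2650,[0,3,3]),
  (3368,[0,3,5]),
  (2711,[0,3,6]),
  (3600,[0,5,0]),
  (2862,[0,5,1]),
  (3141,[0,5,2]),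
  (2681,[0,5,3]),
  (306,[0,5,4]),
  (3223,[0,6,1]),
  (2496,[0,6,2]),
  (2751,[0,6,3]),
  (249,[0,6,4]),
  (254,[0,6,5]),
  (2606,[1,0,0]),
  (3615,[1,0,1]),
  (1487,[1,0,2]),
  (1648,[1,0,3]),
  (2411,[1,0,4]),
  (1887,[1,0,5]),
  (2831,[1,0,6]),
  (833,[1,1,0]),
  (243,[1,1,1]),
  (1051,[1,1,2]),
  (333,[1,1,3]),
  (289,[1,1,5]),
  (286,[1,1,6]),
  (95,[1,2,1]),
  (2905,[1,2,2]),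
  (2518,[1,2,3]),
  (3649,[1,2,4]),
  (646,[1,2,5]),
  (3494,[1,2,6]),
  (1189,[1,3,0]),
  (3734,[1,3,2]),
  (96,[1,3,3]),
  (338,[1,3,4]),
  (131,[1,3,6]),
  (1863,[1,4,2]),
  (2133,[1,4,3]),
  (258,[1,4,5]),
  (2417,[1,5,0]),
  (1093,[1,5,1]),
  (3826,[1,5,2]),
  (2877,[1,5,3]),
  (288,[1,5,4]),
  (1965,[1,6,0]),
  (814,[1,6,1]),
  (2571,[1,6,2]),
  (2856,[1,6,3]),
  (307,[1,6,6])]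

/-- part 1 of `kOrb1_0` -/
noncomputable def kOrb1_0P1 : List (ℕ × List ℕ) := [
  (1739,[2,0,0]),
  (3465,[2,0,1]),
  (3354,[2,0,2]),
  (2552,[2,0,3]),
  (3010,[2,0,4]),
  (1116,[2,0,6]),
  (2018,[2,1,0]),
  (2062,[2,1,1]),
  (3581,[2,1,2]),
  (1920,[2,1,4]),
  (61,[2,1,5]),
  (3348,[2,1,6]),
  (3393,[2,2,0]),
  (2886,[2,2,1]),
  (104,[2,2,2]),
  (1647,[2,2,3]),
  (116,[2,2,4]),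
  (907,[2,2,5]),
  (228,[2,2,6]),
  (621,[2,3,2]),
  (3901,[2,3,3]),
  (1095,[2,3,4]),
  (3599,[2,3,5]),
  (446,[2,3,6]),
  (1084,[2,4,0]),
  (2512,[2,4,2]),
  (2547,[2,4,3]),
  (224,[2,4,5]),
  (107,[2,4,6]),
  (2647,[2,5,0]),
  (2853,[2,5,1]),
  (1853,[2,5,2]),
  (3525,[2,5,3]),
  (607,[2,5,4]),
  (952,[2,5,6]),
  (198,[2,6,0]),
  (1108,[2,6,1]),
  (1694,[2,6,2]),
  (3444,[2,6,3]),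
  (551,[2,6,4]),
  (538,[2,6,5]),
  (3127,[3,0,0]),
  (3558,[3,0,1]),
  (898,[3,0,3]),
  (3891,[3,0,5]),
  (2649,[3,0,6]),
  (2176,[3,2,1]),
  (3373,[3,2,2]),
  (1072,[3,2,3]),
  (1164,[3,2,4]),
  (2828,[3,2,5]),
  (3765,[3,3,0]),
  (3707,[3,3,2]),
  (884,[3,3,3]),
  (275,[3,3,4]),
  (574,[3,3,5]),
  (161,[3,3,6]),
  (303,[3,4,0]),
  (3159,[3,4,2]),
  (3678,[3,4,3]),
  (105,[3,4,5]),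
  (274,[3,4,6]),
  (3372,[3,5,0]),
  (3467,[3,5,1]),
  (1656,[3,5,2]),
  (2659,[3,5,3]),
  (68,[3,5,4]),
  (227,[3,5,6]),
  (3320,[3,6,0]),
  (975,[3,6,1]),
  (1461,[3,6,2]),
  (1671,[3,6,3]),
  (18,[3,6,4]),
  (773,[3,6,5]),
  (2688,[0,0,1,0]),
  (831,[0,0,1,1]),
  (3784,[0,0,1,2]),
  (1714,[0,0,1,3]),
  (2560,[0,0,1,4]),
  (2265,[0,0,1,5]),
  (985,[0,0,1,6]),
  (2985,[0,0,2,0]),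
  (2589,[0,0,2,1]),
  (3718,[0,0,2,2]),
  (874,[0,0,2,3]),
  (3117,[0,0,2,4]),
  (204,[0,0,2,5]),
  (1766,[0,0,2,6]),
  (3610,[0,0,3,0]),
  (2406,[0,0,3,2]),
  (2990,[0,0,3,3]),
  (704,[0,0,3,4]),
  (2769,[0,0,3,5]),
  (2686,[0,0,3,6]),
  (1420,[0,0,5,0]),
  (141,[0,0,5,1]),
  (1331,[0,0,5,2]),
  (3700,[0,0,5,3]),
  (308,[0,0,5,4]),
  (905,[0,1,0,0])]

/-- part 2 of `kOrb1_0` -/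
noncomputable def kOrb1_0P2 : List (ℕ × List ℕ) := [
  (3073,[0,1,0,1]),
  (2770,[0,1,0,3]),
  (3602,[0,1,0,4]),
  (3201,[0,1,0,5]),
  (912,[0,1,0,6]),
  (996,[0,1,1,0]),
  (2572,[0,1,1,1]),
  (1427,[0,1,1,2]),
  (3634,[0,1,1,3]),
  (544,[0,1,1,5]),
  (3015,[0,1,2,1]),
  (1459,[0,1,2,2]),
  (1129,[0,1,2,3]),
  (1926,[0,1,2,4]),
  (1004,[0,1,2,5]),
  (1922,[0,1,2,6]),
  (1040,[0,1,3,0]),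
  (1243,[0,1,3,2]),
  (2535,[0,1,3,3]),
  (3611,[0,1,3,4]),
  (3167,[0,1,3,5]),
  (1134,[0,1,3,6]),
  (2483,[0,1,4,0]),
  (3679,[0,1,4,2]),
  (1456,[0,1,4,3]),
  (181,[0,1,4,4]),
  (1086,[0,1,4,5]),
  (2598,[0,1,4,6]),
  (420,[0,1,5,0]),
  (630,[0,1,5,1]),
  (1734,[0,1,5,2]),
  (1119,[0,1,5,3]),
  (1491,[0,1,5,4]),
  (2080,[0,1,5,6]),
  (3783,[0,1,6,0]),
  (2153,[0,1,6,1]),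
  (79,[0,1,6,2]),
  (3565,[0,1,6,3]),
  (3315,[0,1,6,4]),
  (2341,[0,1,6,5]),
  (2459,[0,1,6,6]),
  (2968,[0,2,0,0]),
  (1657,[0,2,0,1]),
  (3436,[0,2,0,2]),
  (589,[0,2,0,3]),
  (1801,[0,2,0,4]),
  (2473,[0,2,0,5]),
  (764,[0,2,0,6]),
  (2693,[0,2,1,0]),
  (940,[0,2,1,1]),
  (1816,[0,2,1,2]),
  (3182,[0,2,1,4]),
  (2310,[0,2,1,5]),
  (620,[0,2,1,6]),
  (1034,[0,2,2,0]),
  (2673,[0,2,2,1]),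
  (3582,[0,2,2,2]),
  (2989,[0,2,2,3]),
  (1860,[0,2,2,4]),
  (2712,[0,2,2,5]),
  (2699,[0,2,2,6]),
  (2096,[0,2,3,2]),
  (989,[0,2,3,3]),
  (1727,[0,2,3,4]),
  (3272,[0,2,3,5]),
  (2420,[0,2,3,6]),
  (1873,[0,2,4,0]),
  (3458,[0,2,4,2]),
  (3419,[0,2,4,3]),
  (2956,[0,2,4,4]),
  (3748,[0,2,4,6]),
  (3577,[0,2,6,0]),
  (2584,[0,2,6,1]),
  (1115,[0,2,6,2]),
  (3423,[0,2,6,3]),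
  (1843,[0,2,6,4]),
  (1136,[0,2,6,5]),
  (3903,[0,3,0,0]),
  (1465,[0,3,0,1]),
  (1700,[0,3,0,2]),
  (3817,[0,3,0,3]),
  (3282,[0,3,0,5]),
  (2382,[0,3,0,6]),
  (839,[0,3,2,1]),
  (1792,[0,3,2,2]),
  (3604,[0,3,2,3]),
  (3428,[0,3,2,4]),
  (3069,[0,3,2,5]),
  (3584,[0,3,2,6]),
  (1778,[0,3,3,0]),
  (1141,[0,3,3,2]),
  (707,[0,3,3,3]),
  (759,[0,3,3,4]),
  (3706,[0,3,3,5]),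
  (2155,[0,3,3,6]),
  (3369,[0,3,5,0]),
  (2475,[0,3,5,1]),
  (1478,[0,3,5,2]),
  (2101,[0,3,5,3]),
  (3815,[0,3,5,4])]

/-- part 3 of `kOrb1_0` -/
noncomputable def kOrb1_0P3 : List (ℕ × List ℕ) := [
  (2210,[0,3,5,6]),
  (196,[0,3,6,0]),
  (2040,[0,3,6,1]),
  (2553,[0,3,6,2]),
  (3844,[0,3,6,3]),
  (2321,[0,3,6,5]),
  (2595,[0,5,0,0]),
  (2902,[0,5,0,1]),
  (3595,[0,5,0,2]),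
  (1033,[0,5,0,3]),
  (1242,[0,5,0,5]),
  (1184,[0,5,0,6]),
  (3898,[0,5,1,0]),
  (1841,[0,5,1,1]),
  (600,[0,5,1,2]),
  (775,[0,5,1,3]),
  (1152,[0,5,1,4]),
  (2260,[0,5,1,5]),
  (2172,[0,5,1,6]),
  (236,[0,5,2,1]),
  (3249,[0,5,2,3]),
  (2687,[0,5,2,5]),
  (3149,[0,5,3,0]),
  (3497,[0,5,3,2]),
  (3031,[0,5,3,4]),
  (3802,[0,5,3,5]),
  (3160,[0,5,3,6]),
  (2601,[0,5,4,0]),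
  (1998,[0,5,4,3]),
  (291,[0,5,4,6]),
  (2834,[0,6,1,0]),
  (2276,[0,6,1,1]),
  (1845,[0,6,1,2]),
  (3751,[0,6,1,3]),
  (895,[0,6,1,4]),
  (3731,[0,6,1,5]),
  (2429,[0,6,1,6]),
  (2603,[0,6,2,1]),
  (3110,[0,6,2,2]),
  (1856,[0,6,2,3]),
  (1571,[0,6,2,4]),
  (641,[0,6,2,5]),
  (3727,[0,6,2,6]),
  (1756,[0,6,3,0]),
  (235,[0,6,3,2]),
  (2767,[0,6,3,3]),
  (1773,[0,6,3,4]),
  (855,[0,6,3,5]),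
  (1587,[0,6,3,6]),
  (2585,[0,6,4,0]),
  (2283,[0,6,4,2]),
  (129,[0,6,4,3]),
  (287,[0,6,4,5]),
  (290,[0,6,4,6]),
  (548,[0,6,5,0]),
  (3355,[0,6,5,1]),
  (1214,[1,0,0,4]),
  (2331,[1,0,0,5]),
  (439,[1,0,0,6]),
  (1720,[1,0,1,0]),
  (3383,[1,0,1,1]),
  (1975,[1,0,1,2]),
  (1527,[1,0,1,3]),
  (1804,[1,0,1,4]),
  (3838,[1,0,1,5]),
  (3079,[1,0,2,2]),
  (1649,[1,0,2,3]),
  (1178,[1,0,2,5]),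
  (2786,[1,0,2,6]),
  (2120,[1,0,3,0]),
  (1703,[1,0,3,3]),
  (2764,[1,0,3,4]),
  (1978,[1,0,3,5]),
  (3547,[1,0,3,6]),
  (3304,[1,0,4,0]),
  (449,[1,0,4,2]),
  (2427,[1,0,4,3]),
  (3029,[1,0,4,4]),
  (554,[1,0,4,5]),
  (936,[1,0,4,6]),
  (596,[1,0,5,0]),
  (771,[1,0,5,1]),
  (3098,[1,0,5,2]),
  (3769,[1,0,5,3]),
  (497,[1,0,5,6]),
  (2998,[1,0,6,1]),
  (2497,[1,0,6,2]),
  (3845,[1,0,6,3]),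
  (1179,[1,0,6,5]),
  (1223,[1,0,6,6]),
  (2412,[1,1,0,0]),
  (1130,[1,1,0,1]),
  (1335,[1,1,0,2]),
  (540,[1,1,0,3]),
  (1085,[1,1,0,5]),
  (2868,[1,1,1,0]),
  (2978,[1,1,1,2]),
  (112,[1,1,1,3]),
  (3094,[1,1,2,1]),
  (3246,[1,1,2,2])]

/-- part 4 of `kOrb1_0` -/
noncomputable def kOrb1_0P4 : List (ℕ × List ℕ) := [
  (1852,[1,1,2,3]),
  (3502,[1,1,2,4]),
  (1601,[1,1,2,5]),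
  (2374,[1,1,2,6]),
  (3318,[1,1,3,0]),
  (3460,[1,1,3,2]),
  (760,[1,1,3,3]),
  (611,[1,1,3,5]),
  (610,[1,1,3,6]),
  (2821,[1,1,5,0]),
  (425,[1,1,5,1]),
  (3032,[1,1,5,2]),
  (1511,[1,1,5,3]),
  (1284,[1,1,6,1]),
  (2938,[1,1,6,2]),
  (2508,[1,1,6,3]),
  (309,[1,1,6,6]),
  (3842,[1,2,1,1]),
  (3314,[1,2,1,2]),
  (212,[1,2,1,4]),
  (592,[1,2,1,5]),
  (3425,[1,2,2,0]),
  (3185,[1,2,2,1]),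
  (1893,[1,2,2,2]),
  (2099,[1,2,2,3]),
  (3696,[1,2,2,4]),
  (2854,[1,2,2,5]),
  (2959,[1,2,2,6]),
  (3549,[1,2,3,2]),
  (3829,[1,2,3,3]),
  (3216,[1,2,3,4]),
  (2893,[1,2,3,5]),
  (2464,[1,2,3,6]),
  (2112,[1,2,4,0]),
  (1428,[1,2,4,2]),
  (1128,[1,2,4,3]),
  (2793,[1,2,4,4]),
  (1928,[1,2,4,5]),
  (2504,[1,2,4,6]),
  (1058,[1,2,5,0]),
  (1683,[1,2,5,1]),
  (3237,[1,2,5,2]),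
  (2892,[1,2,5,3]),
  (2525,[1,2,5,4]),
  (1708,[1,2,5,6]),
  (686,[1,2,6,0]),
  (1005,[1,2,6,1]),
  (1682,[1,2,6,2]),
  (2263,[1,2,6,3]),
  (3631,[1,2,6,4]),
  (850,[1,2,6,5]),
  (1952,[1,2,6,6]),
  (2860,[1,3,0,1]),
  (3270,[1,3,0,2]),
  (1892,[1,3,0,3]),
  (3164,[1,3,0,4]),
  (3779,[1,3,0,5]),
  (566,[1,3,0,6]),
  (2964,[1,3,2,1]),
  (1661,[1,3,2,2]),
  (1201,[1,3,2,3]),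
  (3195,[1,3,2,4]),
  (3178,[1,3,2,5]),
  (3208,[1,3,2,6]),
  (1997,[1,3,3,2]),
  (215,[1,3,3,3]),
  (217,[1,3,3,4]),
  (581,[1,3,3,5]),
  (101,[1,3,3,6]),
  (3399,[1,3,4,2]),
  (3753,[1,3,4,3]),
  (214,[1,3,4,5]),
  (128,[1,3,4,6]),
  (199,[1,3,6,0]),
  (2565,[1,3,6,1]),
  (2235,[1,3,6,2]),
  (1425,[1,3,6,3]),
  (539,[1,3,6,4]),
  (91,[1,3,6,5]),
  (106,[1,3,6,6]),
  (1665,[1,4,2,0]),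
  (3112,[1,4,2,1]),
  (2494,[1,4,2,2]),
  (2038,[1,4,2,3]),
  (2180,[1,4,2,4]),
  (2523,[1,4,2,5]),
  (1617,[1,4,3,0]),
  (1543,[1,4,3,2]),
  (2016,[1,4,3,3]),
  (2118,[1,4,3,4]),
  (3705,[1,4,3,5]),
  (3221,[1,4,5,0]),
  (3364,[1,4,5,1]),
  (3121,[1,4,5,3]),
  (2602,[1,5,0,0]),
  (1664,[1,5,0,1]),
  (3605,[1,5,0,2]),
  (3725,[1,5,0,3]),
  (2528,[1,5,0,4]),
  (424,[1,5,0,5])]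

/-- part 5 of `kOrb1_0` -/
noncomputable def kOrb1_0P5 : List (ℕ × List ℕ) := [
  (2495,[1,5,1,0]),
  (2397,[1,5,1,1]),
  (1736,[1,5,1,2]),
  (1642,[1,5,1,3]),
  (1593,[1,5,1,4]),
  (2454,[1,5,1,5]),
  (1367,[1,5,1,6]),
  (2941,[1,5,2,0]),
  (1953,[1,5,2,1]),
  (1880,[1,5,2,2]),
  (2947,[1,5,2,3]),
  (3278,[1,5,2,4]),
  (948,[1,5,2,5]),
  (3695,[1,5,2,6]),
  (2466,[1,5,3,0]),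
  (3551,[1,5,3,2]),
  (3457,[1,5,3,3]),
  (3232,[1,5,3,4]),
  (3252,[1,5,3,5]),
  (3520,[1,5,3,6]),
  (2600,[1,5,4,0]),
  (1006,[1,5,4,2]),
  (951,[1,5,4,3]),
  (1477,[1,6,0,1]),
  (1173,[1,6,0,2]),
  (488,[1,6,0,3]),
  (2554,[1,6,0,5]),
  (1839,[1,6,0,6]),
  (3254,[1,6,1,0]),
  (2416,[1,6,1,1]),
  (2378,[1,6,1,2]),
  (3617,[1,6,1,3]),
  (817,[1,6,1,4]),
  (2256,[1,6,1,5]),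
  (1187,[1,6,1,6]),
  (1985,[1,6,2,0]),
  (2878,[1,6,2,1]),
  (3173,[1,6,2,2]),
  (536,[1,6,2,3]),
  (2134,[1,6,2,5]),
  (3472,[1,6,2,6]),
  (3517,[1,6,3,0]),
  (2031,[1,6,3,2]),
  (3418,[1,6,3,3]),
  (1233,[1,6,3,4]),
  (562,[1,6,3,5]),
  (2308,[1,6,3,6]),
  (3353,[2,0,0,0]),
  (2505,[2,0,0,4]),
  (705,[2,0,0,5]),
  (2193,[2,0,0,6]),
  (1814,[2,0,1,4]),
  (3281,[2,0,1,5]),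
  (3482,[2,0,1,6]),
  (3276,[2,0,2,0]),
  (1791,[2,0,2,6]),
  (2713,[2,0,3,2]),
  (917,[2,0,3,4]),
  (3316,[2,0,3,5]),
  (998,[2,0,4,0]),
  (2191,[2,0,4,2]),
  (3461,[2,0,4,3]),
  (3492,[2,0,4,4]),
  (3534,[2,0,4,6]),
  (1836,[2,0,6,1]),
  (2921,[2,0,6,4]),
  (2887,[2,0,6,5]),
  (1686,[2,1,0,4]),
  (485,[2,1,0,5]),
  (3102,[2,1,0,6]),
  (2702,[2,1,1,1]),
  (209,[2,1,1,5]),
  (184,[2,1,1,6]),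
  (3422,[2,1,2,1]),
  (714,[2,1,2,2]),
  (3172,[2,1,2,5]),
  (3005,[2,1,2,6]),
  (2885,[2,1,4,0]),
  (1781,[2,1,4,2]),
  (2865,[2,1,4,3]),
  (2961,[2,1,4,4]),
  (2129,[2,1,4,5]),
  (3116,[2,1,4,6]),
  (2392,[2,1,5,0]),
  (1869,[2,1,5,1]),
  (232,[2,1,5,2]),
  (1138,[2,1,5,3]),
  (583,[2,1,5,6]),
  (3792,[2,1,6,0]),
  (2205,[2,1,6,1]),
  (2023,[2,1,6,2]),
  (218,[2,1,6,3]),
  (1067,[2,1,6,4]),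
  (689,[2,1,6,5]),
  (2028,[2,1,6,6]),
  (1644,[2,2,0,2]),
  (1110,[2,2,0,3]),
  (3764,[2,2,0,4]),
  (3768,[2,2,0,6]),
  (1921,[2,2,1,1])]

/-- part 6 of `kOrb1_0` -/
noncomputable def kOrb1_0P6 : List (ℕ × List ℕ) := [
  (2491,[2,2,1,2]),
  (1905,[2,2,1,4]),
  (2918,[2,2,1,6]),
  (2766,[2,2,2,0]),
  (1654,[2,2,2,1]),
  (117,[2,2,2,2]),
  (70,[2,2,2,4]),
  (580,[2,2,2,5]),
  (125,[2,2,2,6]),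
  (3402,[2,2,3,2]),
  (1094,[2,2,3,3]),
  (2140,[2,2,3,4]),
  (3825,[2,2,3,5]),
  (3277,[2,2,3,6]),
  (1940,[2,2,4,0]),
  (2151,[2,2,4,2]),
  (3722,[2,2,4,3]),
  (74,[2,2,4,6]),
  (3004,[2,2,5,0]),
  (3299,[2,2,5,1]),
  (845,[2,2,5,2]),
  (3546,[2,2,5,3]),
  (3271,[2,2,6,0]),
  (3770,[2,2,6,1]),
  (890,[2,2,6,2]),
  (124,[2,2,6,5]),
  (481,[2,3,2,1]),
  (499,[2,3,2,3]),
  (2746,[2,3,2,4]),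
  (3186,[2,3,2,5]),
  (617,[2,3,2,6]),
  (2926,[2,3,3,0]),
  (2011,[2,3,3,2]),
  (1645,[2,3,3,3]),
  (2748,[2,3,3,5]),
  (3627,[2,3,3,6]),
  (3291,[2,3,4,0]),
  (494,[2,3,4,2]),
  (3158,[2,3,4,3]),
  (234,[2,3,4,4]),
  (1840,[2,3,4,5]),
  (3527,[2,3,4,6]),
  (2700,[2,3,5,0]),
  (619,[2,3,5,1]),
  (2468,[2,3,5,2]),
  (3126,[2,3,5,3]),
  (1809,[2,3,5,4]),
  (3708,[2,3,6,3]),
  (1907,[2,3,6,4]),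
  (2869,[2,3,6,5]),
  (1691,[2,4,0,0]),
  (3738,[2,4,0,2]),
  (1032,[2,4,0,3]),
  (3448,[2,4,0,5]),
  (1675,[2,4,0,6]),
  (2381,[2,4,2,0]),
  (2467,[2,4,3,0]),
  (2105,[2,4,3,2]),
  (947,[2,4,3,3]),
  (2729,[2,4,3,4]),
  (3622,[2,4,3,5]),
  (2113,[2,4,3,6]),
  (1150,[2,4,5,2]),
  (1176,[2,4,5,3]),
  (80,[2,4,5,4]),
  (284,[2,4,5,6]),
  (2849,[2,4,6,0]),
  (1330,[2,4,6,2]),
  (2776,[2,4,6,3]),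
  (75,[2,4,6,4]),
  (226,[2,4,6,5]),
  (635,[2,4,6,6]),
  (2196,[2,5,0,0]),
  (3075,[2,5,0,1]),
  (3124,[2,5,0,2]),
  (3415,[2,5,0,3]),
  (3129,[2,5,0,4]),
  (1551,[2,5,0,5]),
  (2792,[2,5,0,6]),
  (1154,[2,5,1,0]),
  (1992,[2,5,1,1]),
  (2061,[2,5,1,2]),
  (3864,[2,5,1,3]),
  (1118,[2,5,1,4]),
  (3411,[2,5,1,6]),
  (3479,[2,5,2,0]),
  (1865,[2,5,2,2]),
  (1111,[2,5,2,3]),
  (2627,[2,5,2,4]),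
  (2618,[2,5,2,6]),
  (2731,[2,5,3,0]),
  (2517,[2,5,3,2]),
  (966,[2,5,3,3]),
  (3504,[2,5,3,4]),
  (3187,[2,5,3,5]),
  (2522,[2,5,3,6]),
  (1474,[2,5,4,0]),
  (3140,[2,5,4,2]),
  (885,[2,5,4,3]),
  (3859,[2,5,6,0])]

/-- part 7 of `kOrb1_0` -/
noncomputable def kOrb1_0P7 : List (ℕ × List ℕ) := [
  (3601,[2,5,6,1]),
  (69,[2,5,6,2]),
  (2179,[2,5,6,3]),
  (577,[2,5,6,6]),
  (3805,[2,6,0,0]),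
  (3745,[2,6,0,1]),
  (3491,[2,6,0,2]),
  (3093,[2,6,0,3]),
  (1483,[2,6,0,4]),
  (1534,[2,6,0,5]),
  (2952,[2,6,0,6]),
  (3176,[2,6,1,0]),
  (2818,[2,6,1,1]),
  (2536,[2,6,1,3]),
  (555,[2,6,1,4]),
  (3684,[2,6,1,5]),
  (2919,[2,6,1,6]),
  (2294,[2,6,2,0]),
  (2437,[2,6,2,1]),
  (2794,[2,6,2,2]),
  (3808,[2,6,2,4]),
  (1517,[2,6,2,5]),
  (2216,[2,6,2,6]),
  (2908,[2,6,3,0]),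
  (3392,[2,6,3,2]),
  (2370,[2,6,3,3]),
  (2976,[2,6,3,4]),
  (1931,[2,6,3,5]),
  (3285,[2,6,3,6]),
  (3616,[2,6,4,0]),
  (3749,[2,6,4,3]),
  (102,[2,6,4,5]),
  (73,[2,6,4,6]),
  (2846,[2,6,5,0]),
  (19,[2,6,5,1]),
  (1939,[2,6,5,2]),
  (395,[2,6,5,4]),
  (3742,[3,0,0,0]),
  (1951,[3,0,0,5]),
  (2798,[3,0,0,6]),
  (1976,[3,0,1,3]),
  (3406,[3,0,1,5]),
  (2930,[3,0,1,6]),
  (2520,[3,0,3,0]),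
  (2290,[3,0,3,3]),
  (618,[3,0,3,4]),
  (622,[3,0,3,5]),
  (786,[3,0,3,6]),
  (1161,[3,0,5,1]),
  (1613,[3,0,5,2]),
  (2781,[3,0,5,4]),
  (2689,[3,0,5,6]),
  (1207,[3,0,6,1]),
  (3564,[3,0,6,5]),
  (1866,[3,2,1,1]),
  (2110,[3,2,1,4]),
  (2178,[3,2,1,5]),
  (918,[3,2,1,6]),
  (1455,[3,2,2,1]),
  (3095,[3,2,2,2]),
  (3776,[3,2,2,5]),
  (2484,[3,2,2,6]),
  (891,[3,2,3,2]),
  (3850,[3,2,3,3]),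
  (3580,[3,2,3,4]),
  (2529,[3,2,3,5]),
  (2379,[3,2,3,6]),
  (2774,[3,2,4,0]),
  (3795,[3,2,4,2]),
  (2281,[3,2,4,3]),
  (1433,[3,2,4,4]),
  (1332,[3,2,4,5]),
  (2596,[3,2,4,6]),
  (3528,[3,2,5,0]),
  (3200,[3,2,5,1]),
  (694,[3,2,5,2]),
  (832,[3,2,5,4]),
  (2350,[3,2,5,6]),
  (110,[3,3,0,1]),
  (2611,[3,3,0,3]),
  (1024,[3,3,0,4]),
  (3620,[3,3,0,5]),
  (3900,[3,3,0,6]),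
  (2669,[3,3,2,1]),
  (1163,[3,3,2,2]),
  (3881,[3,3,2,3]),
  (2691,[3,3,2,5]),
  (2474,[3,3,2,6]),
  (698,[3,3,3,0]),
  (3772,[3,3,3,2]),
  (761,[3,3,3,3]),
  (576,[3,3,3,5]),
  (211,[3,3,3,6]),
  (276,[3,3,4,0]),
  (3305,[3,3,4,2]),
  (72,[3,3,4,5]),
  (2003,[3,3,5,0]),
  (3371,[3,3,5,1]),
  (740,[3,3,5,2]),
  (1980,[3,3,5,3])]

/-- part 8 of `kOrb1_0` -/
noncomputable def kOrb1_0P8 : List (ℕ × List ℕ) := [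
  (85,[3,3,5,4]),
  (3585,[3,3,6,0]),
  (3548,[3,3,6,1]),
  (2255,[3,3,6,3]),
  (213,[3,3,6,5]),
  (3797,[3,4,0,2]),
  (1862,[3,4,0,3]),
  (11,[3,4,0,5]),
  (332,[3,4,0,6]),
  (2923,[3,4,2,0]),
  (3542,[3,4,2,2]),
  (846,[3,4,2,3]),
  (3351,[3,4,2,4]),
  (2676,[3,4,2,5]),
  (3499,[3,4,2,6]),
  (2566,[3,4,3,0]),
  (3188,[3,4,3,2]),
  (2722,[3,4,3,3]),
  (3478,[3,4,3,4]),
  (1249,[3,4,3,6]),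
  (2876,[3,4,5,2]),
  (2624,[3,4,5,3]),
  (89,[3,4,5,4]),
  (3060,[3,4,6,1]),
  (1737,[3,4,6,2]),
  (561,[3,4,6,3]),
  (277,[3,4,6,4]),
  (387,[3,4,6,5]),
  (2651,[3,5,0,0]),
  (1813,[3,5,0,1]),
  (3778,[3,5,0,2]),
  (3193,[3,5,0,3]),
  (2721,[3,5,0,4]),
  (3867,[3,5,0,6]),
  (2915,[3,5,1,0]),
  (2498,[3,5,1,2]),
  (3571,[3,5,1,3]),
  (1509,[3,5,1,4]),
  (3730,[3,5,2,0]),
  (1541,[3,5,2,1]),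
  (3170,[3,5,2,2]),
  (2548,[3,5,2,3]),
  (770,[3,5,2,4]),
  (3206,[3,5,2,6]),
  (2967,[3,5,3,0]),
  (3199,[3,5,3,2]),
  (582,[3,5,3,3]),
  (3144,[3,5,3,5]),
  (2654,[3,5,3,6]),
  (1598,[3,5,4,0]),
  (2697,[3,5,4,3]),
  (3268,[3,5,6,0]),
  (339,[3,5,6,1]),
  (475,[3,5,6,2]),
  (552,[3,5,6,4]),
  (626,[3,5,6,6]),
  (3870,[3,6,0,0]),
  (3356,[3,6,0,1]),
  (3613,[3,6,0,2]),
  (3470,[3,6,0,3]),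
  (715,[3,6,0,5]),
  (2097,[3,6,0,6]),
  (3431,[3,6,1,2]),
  (3456,[3,6,1,3]),
  (1569,[3,6,1,4]),
  (3830,[3,6,1,5]),
  (2006,[3,6,2,0]),
  (2472,[3,6,2,1]),
  (1449,[3,6,2,2]),
  (2881,[3,6,2,3]),
  (3579,[3,6,2,4]),
  (795,[3,6,2,5]),
  (1533,[3,6,2,6]),
  (1842,[3,6,3,0]),
  (3273,[3,6,3,3]),
  (1663,[3,6,3,4]),
  (1761,[3,6,3,5]),
  (2103,[3,6,3,6]),
  (1588,[3,6,4,0]),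
  (1757,[3,6,4,3]),
  (2173,[3,6,5,0]),
  (750,[3,6,5,1]),
  (66,[3,6,5,2]),
  (3487,[3,6,5,3]),
  (3552,[0,0,1,0,0]),
  (2455,[0,0,1,0,2]),
  (3078,[0,0,1,0,3]),
  (3408,[0,0,1,0,4]),
  (2814,[0,0,1,0,5]),
  (2645,[0,0,1,0,6]),
  (3153,[0,0,1,1,0]),
  (2610,[0,0,1,1,1]),
  (3424,[0,0,1,1,3]),
  (1229,[0,0,1,1,5]),
  (3759,[0,0,1,1,6]),
  (3519,[0,0,1,2,1]),
  (3811,[0,0,1,2,4]),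
  (3713,[0,0,1,2,5]),
  (1029,[0,0,1,2,6]),
  (2462,[0,0,1,3,2])]

/-- part 9 of `kOrb1_0` -/
noncomputable def kOrb1_0P9 : List (ℕ × List ℕ) := [
  (2347,[0,0,1,3,3]),
  (3387,[0,0,1,3,4]),
  (2757,[0,0,1,3,5]),
  (3493,[0,0,1,3,6]),
  (1215,[0,0,1,4,0]),
  (1177,[0,0,1,4,2]),
  (903,[0,0,1,4,3]),
  (1448,[0,0,1,4,5]),
  (2025,[0,0,1,5,0]),
  (2982,[0,0,1,5,1]),
  (3522,[0,0,1,5,2]),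
  (1182,[0,0,1,5,4]),
  (1999,[0,0,1,5,6]),
  (3563,[0,0,1,6,1]),
  (1695,[0,0,1,6,2]),
  (3583,[0,0,1,6,3]),
  (1125,[0,0,1,6,5]),
  (1075,[0,0,1,6,6]),
  (90,[0,0,2,0,0]),
  (2175,[0,0,2,0,1]),
  (3051,[0,0,2,0,2]),
  (1747,[0,0,2,0,3]),
  (1354,[0,0,2,1,1]),
  (3780,[0,0,2,1,4]),
  (2163,[0,0,2,1,5]),
  (3760,[0,0,2,1,6]),
  (2493,[0,0,2,2,2]),
  (3626,[0,0,2,2,3]),
  (2635,[0,0,2,2,4]),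
  (1520,[0,0,2,3,2]),
  (1936,[0,0,2,3,3]),
  (1144,[0,0,2,3,4]),
  (1002,[0,0,2,3,5]),
  (3136,[0,0,2,3,6]),
  (182,[0,0,2,4,0]),
  (1701,[0,0,2,4,2]),
  (2825,[0,0,2,4,5]),
  (2091,[0,0,2,5,0]),
  (1623,[0,0,2,5,1]),
  (1627,[0,0,2,5,3]),
  (691,[0,0,2,5,4]),
  (1684,[0,0,2,5,6]),
  (3851,[0,0,2,6,0]),
  (3685,[0,0,2,6,2]),
  (3614,[0,0,2,6,3]),
  (979,[0,0,2,6,4]),
  (2816,[0,0,2,6,5]),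
  (118,[0,0,3,0,0]),
  (3220,[0,0,3,0,1]),
  (3397,[0,0,3,0,2]),
  (3260,[0,0,3,0,3]),
  (2889,[0,0,3,0,5]),
  (549,[0,0,3,0,6]),
  (2217,[0,0,3,2,2]),
  (2643,[0,0,3,2,3]),
  (2539,[0,0,3,2,4]),
  (2841,[0,0,3,2,5]),
  (2538,[0,0,3,2,6]),
  (1674,[0,0,3,3,2]),
  (3412,[0,0,3,3,3]),
  (3814,[0,0,3,3,5]),
  (2284,[0,0,3,4,0]),
  (2694,[0,0,3,4,3]),
  (3103,[0,0,3,4,5]),
  (3239,[0,0,3,5,0]),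
  (3152,[0,0,3,5,4]),
  (2575,[0,0,3,5,6]),
  (3699,[0,0,3,6,0]),
  (2137,[0,0,3,6,2]),
  (2920,[0,0,3,6,3]),
  (2604,[0,0,5,0,0]),
  (2727,[0,0,5,0,1]),
  (864,[0,0,5,0,2]),
  (1124,[0,0,5,0,4]),
  (1467,[0,0,5,0,5]),
  (3598,[0,0,5,0,6]),
  (778,[0,0,5,1,0]),
  (1126,[0,0,5,1,1]),
  (1471,[0,0,5,1,2]),
  (1567,[0,0,5,1,3]),
  (1225,[0,0,5,1,4]),
  (2398,[0,0,5,1,6]),
  (2704,[0,0,5,2,1]),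
  (2987,[0,0,5,2,2]),
  (1247,[0,0,5,2,4]),
  (2423,[0,0,5,2,5]),
  (873,[0,0,5,2,6]),
  (3774,[0,0,5,3,0]),
  (3287,[0,0,5,3,3]),
  (2154,[0,0,5,3,4]),
  (904,[0,0,5,3,5]),
  (2913,[0,0,5,4,0]),
  (3163,[0,0,5,4,3]),
  (605,[0,1,0,0,4]),
  (3134,[0,1,0,0,5]),
  (1929,[0,1,0,0,6]),
  (1342,[0,1,0,1,1]),
  (585,[0,1,0,1,2]),
  (541,[0,1,0,1,3]),
  (3409,[0,1,0,1,4])]

/-- part 10 of `kOrb1_0` -/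
noncomputable def kOrb1_0P10 : List (ℕ × List ℕ) := [
  (2823,[0,1,0,3,0]),
  (3061,[0,1,0,3,4]),
  (2421,[0,1,0,3,5]),
  (3395,[0,1,0,3,6]),
  (1237,[0,1,0,4,3]),
  (3477,[0,1,0,4,5]),
  (3488,[0,1,0,5,0]),
  (3267,[0,1,0,5,2]),
  (3690,[0,1,0,5,6]),
  (3139,[0,1,0,6,2]),
  (2796,[0,1,0,6,3]),
  (3669,[0,1,0,6,5]),
  (3231,[0,1,0,6,6]),
  (1728,[0,1,1,0,0]),
  (3401,[0,1,1,0,1]),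
  (1711,[0,1,1,0,2]),
  (1096,[0,1,1,0,3]),
  (2012,[0,1,1,0,5]),
  (3530,[0,1,1,1,0]),
  (3607,[0,1,1,1,1]),
  (2576,[0,1,1,1,2]),
  (2346,[0,1,1,1,3]),
  (2272,[0,1,1,1,5]),
  (2480,[0,1,1,1,6]),
  (2867,[0,1,1,2,1]),
  (426,[0,1,1,2,2]),
  (1877,[0,1,1,2,4]),
  (1622,[0,1,1,2,5]),
  (323,[0,1,1,2,6]),
  (3656,[0,1,1,3,0]),
  (2625,[0,1,1,3,3]),
  (1073,[0,1,1,5,0]),
  (222,[0,1,1,5,1]),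
  (2212,[0,1,1,5,2]),
  (137,[0,1,1,5,4]),
  (3162,[0,1,2,1,1]),
  (2456,[0,1,2,1,2]),
  (3019,[0,1,2,1,4]),
  (1577,[0,1,2,1,5]),
  (2806,[0,1,2,1,6]),
  (2077,[0,1,2,2,1]),
  (2192,[0,1,2,2,2]),
  (3191,[0,1,2,2,3]),
  (783,[0,1,2,2,4]),
  (1454,[0,1,2,2,5]),
  (2761,[0,1,2,2,6]),
  (2586,[0,1,2,3,2]),
  (3590,[0,1,2,3,3]),
  (1962,[0,1,2,3,6]),
  (3114,[0,1,2,4,0]),
  (1653,[0,1,2,4,2]),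
  (1834,[0,1,2,4,6]),
  (3214,[0,1,2,5,0]),
  (3710,[0,1,2,5,1]),
  (3535,[0,1,2,5,2]),
  (2085,[0,1,2,5,4]),
  (2452,[0,1,2,6,0]),
  (1391,[0,1,2,6,1]),
  (3026,[0,1,2,6,2]),
  (1868,[0,1,2,6,3]),
  (1288,[0,1,2,6,4]),
  (1712,[0,1,2,6,5]),
  (636,[0,1,2,6,6]),
  (1169,[0,1,3,0,1]),
  (558,[0,1,3,0,4]),
  (3557,[0,1,3,0,5]),
  (2177,[0,1,3,0,6]),
  (2924,[0,1,3,2,1]),
  (2958,[0,1,3,2,2]),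
  (2094,[0,1,3,2,3]),
  (3451,[0,1,3,2,4]),
  (2660,[0,1,3,3,2]),
  (3698,[0,1,3,3,3]),
  (3020,[0,1,3,3,4]),
  (3024,[0,1,3,3,5]),
  (1436,[0,1,3,3,6]),
  (2499,[0,1,3,4,2]),
  (3904,[0,1,3,4,4]),
  (2241,[0,1,3,4,5]),
  (3680,[0,1,3,5,0]),
  (2266,[0,1,3,5,1]),
  (1835,[0,1,3,5,2]),
  (3025,[0,1,3,6,0]),
  (2226,[0,1,3,6,1]),
  (500,[0,1,3,6,2]),
  (2931,[0,1,3,6,3]),
  (135,[0,1,3,6,4]),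
  (3647,[0,1,3,6,6]),
  (995,[0,1,4,0,1]),
  (3430,[0,1,4,0,3]),
  (3352,[0,1,4,0,4]),
  (2562,[0,1,4,0,5]),
  (1915,[0,1,4,2,0]),
  (2787,[0,1,4,2,1]),
  (3513,[0,1,4,2,3]),
  (3672,[0,1,4,2,5]),
  (3204,[0,1,4,2,6]),
  (579,[0,1,4,3,0]),
  (1121,[0,1,4,3,2]),
  (1481,[0,1,4,3,4])]

/-- part 11 of `kOrb1_0` -/
noncomputable def kOrb1_0P11 : List (ℕ × List ℕ) := [
  (2986,[0,1,4,3,6]),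
  (841,[0,1,4,4,0]),
  (3566,[0,1,4,4,2]),
  (2359,[0,1,4,4,3]),
  (1386,[0,1,4,4,5]),
  (2874,[0,1,4,4,6]),
  (1858,[0,1,4,5,0]),
  (1244,[0,1,4,5,1]),
  (478,[0,1,4,5,2]),
  (543,[0,1,4,5,4]),
  (1166,[0,1,4,6,1]),
  (347,[0,1,4,6,2]),
  (1982,[0,1,4,6,3]),
  (2357,[0,1,4,6,5]),
  (3483,[0,1,4,6,6]),
  (2811,[0,1,5,0,0]),
  (745,[0,1,5,0,1]),
  (1088,[0,1,5,0,2]),
  (1547,[0,1,5,0,3]),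
  (2503,[0,1,5,0,4]),
  (755,[0,1,5,0,6]),
  (3330,[0,1,5,1,0]),
  (1670,[0,1,5,1,1]),
  (3735,[0,1,5,1,2]),
  (2670,[0,1,5,1,5]),
  (2090,[0,1,5,2,0]),
  (3836,[0,1,5,2,1]),
  (1578,[0,1,5,2,3]),
  (1745,[0,1,5,3,0]),
  (3322,[0,1,5,3,2]),
  (3481,[0,1,5,3,3]),
  (3008,[0,1,5,3,4]),
  (767,[0,1,5,3,5]),
  (3247,[0,1,5,3,6]),
  (2039,[0,1,5,4,2]),
  (383,[0,1,5,6,0]),
  (1955,[0,1,5,6,1]),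
  (1904,[0,1,5,6,2]),
  (2944,[0,1,5,6,3]),
  (1183,[0,1,5,6,4]),
  (1197,[0,1,5,6,5]),
  (1204,[0,1,5,6,6]),
  (1916,[0,1,6,0,0]),
  (2943,[0,1,6,0,1]),
  (473,[0,1,6,0,2]),
  (3013,[0,1,6,0,3]),
  (3732,[0,1,6,0,4]),
  (1007,[0,1,6,0,5]),
  (3755,[0,1,6,0,6]),
  (2945,[0,1,6,1,0]),
  (1768,[0,1,6,1,1]),
  (2658,[0,1,6,1,3]),
  (1884,[0,1,6,1,5]),
  (3507,[0,1,6,1,6]),
  (3801,[0,1,6,2,1]),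
  (3057,[0,1,6,2,2]),
  (2741,[0,1,6,2,3]),
  (3361,[0,1,6,3,2]),
  (1919,[0,1,6,3,3]),
  (1048,[0,1,6,3,4]),
  (88,[0,1,6,4,2]),
  (1502,[0,1,6,4,3]),
  (2305,[0,1,6,4,5]),
  (2639,[0,1,6,5,1]),
  (2078,[0,1,6,5,4]),
  (409,[0,1,6,6,4]),
  (1605,[0,2,0,0,0]),
  (3142,[0,2,0,0,5]),
  (1021,[0,2,0,1,4]),
  (3740,[0,2,0,1,5]),
  (3877,[0,2,0,1,6]),
  (120,[0,2,0,2,0]),
  (2017,[0,2,0,2,2]),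
  (3887,[0,2,0,2,6]),
  (603,[0,2,0,3,2]),
  (2146,[0,2,0,3,4]),
  (1156,[0,2,0,3,5]),
  (1957,[0,2,0,4,0]),
  (2857,[0,2,0,4,2]),
  (94,[0,2,0,4,3]),
  (1779,[0,2,0,4,4]),
  (1731,[0,2,0,4,5]),
  (3414,[0,2,0,4,6]),
  (1981,[0,2,0,5,0]),
  (2636,[0,2,0,5,1]),
  (842,[0,2,0,5,2]),
  (477,[0,2,0,5,3]),
  (3062,[0,2,0,5,6]),
  (3452,[0,2,0,6,1]),
  (1555,[0,2,0,6,3]),
  (990,[0,2,0,6,4]),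
  (3828,[0,2,0,6,5]),
  (3785,[0,2,1,0,4]),
  (2973,[0,2,1,0,5]),
  (3041,[0,2,1,0,6]),
  (136,[0,2,1,1,1]),
  (2415,[0,2,1,1,6]),
  (3677,[0,2,1,2,1]),
  (584,[0,2,1,2,2]),
  (3875,[0,2,1,2,5])]

/-- part 12 of `kOrb1_0` -/
noncomputable def kOrb1_0P12 : List (ℕ × List ℕ) := [
  (3485,[0,2,1,2,6]),
  (529,[0,2,1,4,0]),
  (974,[0,2,1,4,2]),
  (3012,[0,2,1,4,3]),
  (1794,[0,2,1,4,4]),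
  (3096,[0,2,1,4,5]),
  (2940,[0,2,1,4,6]),
  (1232,[0,2,1,5,0]),
  (1709,[0,2,1,5,2]),
  (2955,[0,2,1,6,2]),
  (1696,[0,2,1,6,3]),
  (3529,[0,2,1,6,5]),
  (2753,[0,2,1,6,6]),
  (3539,[0,2,2,0,2]),
  (1669,[0,2,2,0,3]),
  (1913,[0,2,2,0,6]),
  (3118,[0,2,2,1,1]),
  (844,[0,2,2,1,2]),
  (2138,[0,2,2,1,5]),
  (1987,[0,2,2,1,6]),
  (1574,[0,2,2,2,2]),
  (3111,[0,2,2,2,4]),
  (688,[0,2,2,2,5]),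
  (3065,[0,2,2,2,6]),
  (3596,[0,2,2,3,3]),
  (2969,[0,2,2,3,4]),
  (2824,[0,2,2,4,0]),
  (305,[0,2,2,4,3]),
  (3807,[0,2,2,5,0]),
  (3275,[0,2,2,5,2]),
  (1049,[0,2,2,5,3]),
  (2581,[0,2,2,5,4]),
  (1560,[0,2,2,6,0]),
  (3376,[0,2,2,6,1]),
  (447,[0,2,2,6,2]),
  (3686,[0,2,3,2,1]),
  (3329,[0,2,3,2,2]),
  (3572,[0,2,3,2,3]),
  (3621,[0,2,3,2,4]),
  (2386,[0,2,3,2,5]),
  (2690,[0,2,3,3,0]),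
  (13,[0,2,3,3,2]),
  (1667,[0,2,3,3,3]),
  (899,[0,2,3,3,4]),
  (3545,[0,2,3,3,5]),
  (2029,[0,2,3,3,6]),
  (3306,[0,2,3,4,0]),
  (2008,[0,2,3,4,2]),
  (693,[0,2,3,4,4]),
  (3104,[0,2,3,4,5]),
  (3398,[0,2,3,4,6]),
  (568,[0,2,3,5,1]),
  (2424,[0,2,3,5,2]),
  (2573,[0,2,3,6,4]),
  (2726,[0,2,3,6,5]),
  (3099,[0,2,4,0,0]),
  (1831,[0,2,4,0,4]),
  (1702,[0,2,4,0,5]),
  (2795,[0,2,4,0,6]),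
  (467,[0,2,4,2,0]),
  (1846,[0,2,4,2,3]),
  (2184,[0,2,4,2,5]),
  (1899,[0,2,4,2,6]),
  (3459,[0,2,4,3,2]),
  (2198,[0,2,4,3,3]),
  (2631,[0,2,4,3,4]),
  (2621,[0,2,4,3,6]),
  (762,[0,2,4,4,3]),
  (3719,[0,2,4,4,4]),
  (664,[0,2,4,6,0]),
  (2189,[0,2,4,6,1]),
  (3310,[0,2,4,6,2]),
  (3244,[0,2,4,6,3]),
  (2838,[0,2,4,6,5]),
  (3709,[0,2,4,6,6]),
  (3050,[0,2,6,0,0]),
  (1581,[0,2,6,0,6]),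
  (553,[0,2,6,1,0]),
  (2122,[0,2,6,1,1]),
  (1070,[0,2,6,1,4]),
  (3229,[0,2,6,1,5]),
  (3286,[0,2,6,2,3]),
  (2917,[0,2,6,2,4]),
  (2898,[0,2,6,2,5]),
  (3131,[0,2,6,2,6]),
  (3574,[0,2,6,3,0]),
  (3030,[0,2,6,3,2]),
  (2871,[0,2,6,3,4]),
  (3365,[0,2,6,3,5]),
  (3852,[0,2,6,4,0]),
  (2380,[0,2,6,4,2]),
  (1740,[0,2,6,4,3]),
  (3855,[0,2,6,4,5]),
  (2211,[0,2,6,5,1]),
  (3379,[0,2,6,5,2]),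
  (1515,[0,3,0,0,0]),
  (2171,[0,3,0,1,4]),
  (684,[0,3,0,1,5]),
  (1231,[0,3,0,1,6]),
  (1854,[0,3,0,2,5])]

/-- part 13 of `kOrb1_0` -/
noncomputable def kOrb1_0P13 : List (ℕ × List ℕ) := [
  (3550,[0,3,0,3,5]),
  (3868,[0,3,0,3,6]),
  (848,[0,3,0,5,1]),
  (2316,[0,3,0,5,3]),
  (3283,[0,3,0,5,4]),
  (2738,[0,3,0,5,6]),
  (1510,[0,3,0,6,1]),
  (3728,[0,3,0,6,2]),
  (2583,[0,3,2,1,1]),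
  (1828,[0,3,2,1,4]),
  (993,[0,3,2,1,5]),
  (3120,[0,3,2,1,6]),
  (2132,[0,3,2,2,1]),
  (1672,[0,3,2,2,2]),
  (1338,[0,3,2,2,4]),
  (2777,[0,3,2,2,5]),
  (1800,[0,3,2,2,6]),
  (3324,[0,3,2,3,2]),
  (3559,[0,3,2,3,3]),
  (3865,[0,3,2,3,4]),
  (3879,[0,3,2,3,5]),
  (765,[0,3,2,4,0]),
  (2519,[0,3,2,4,3]),
  (625,[0,3,2,5,0]),
  (2623,[0,3,2,5,1]),
  (2507,[0,3,2,5,4]),
  (3038,[0,3,2,6,1]),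
  (3462,[0,3,2,6,2]),
  (1689,[0,3,2,6,4]),
  (2135,[0,3,2,6,5]),
  (1568,[0,3,3,0,3]),
  (1662,[0,3,3,0,5]),
  (613,[0,3,3,0,6]),
  (2640,[0,3,3,2,1]),
  (1524,[0,3,3,2,2]),
  (2715,[0,3,3,2,4]),
  (1636,[0,3,3,3,2]),
  (1776,[0,3,3,3,3]),
  (1658,[0,3,3,3,4]),
  (3403,[0,3,3,3,5]),
  (483,[0,3,3,4,0]),
  (3518,[0,3,3,4,2]),
  (2004,[0,3,3,4,6]),
  (1838,[0,3,3,5,1]),
  (1157,[0,3,3,5,2]),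
  (949,[0,3,3,5,4]),
  (2126,[0,3,3,5,6]),
  (1053,[0,3,3,6,0]),
  (2399,[0,3,3,6,1]),
  (3091,[0,3,3,6,4]),
  (1988,[0,3,3,6,5]),
  (1558,[0,3,5,0,2]),
  (2872,[0,3,5,0,5]),
  (2225,[0,3,5,0,6]),
  (569,[0,3,5,1,1]),
  (3441,[0,3,5,1,3]),
  (631,[0,3,5,1,4]),
  (3205,[0,3,5,2,1]),
  (1400,[0,3,5,2,4]),
  (2136,[0,3,5,2,5]),
  (1318,[0,3,5,2,6]),
  (1903,[0,3,5,3,0]),
  (2215,[0,3,5,3,6]),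
  (2675,[0,3,5,4,0]),
  (3618,[0,3,5,4,3]),
  (2149,[0,3,5,6,0]),
  (1369,[0,3,5,6,1]),
  (3628,[0,3,5,6,5]),
  (2123,[0,3,5,6,6]),
  (2682,[0,3,6,0,0]),
  (1699,[0,3,6,0,1]),
  (2100,[0,3,6,0,5]),
  (3885,[0,3,6,0,6]),
  (2629,[0,3,6,1,1]),
  (2515,[0,3,6,1,4]),
  (3556,[0,3,6,1,5]),
  (2642,[0,3,6,2,0]),
  (2622,[0,3,6,2,1]),
  (1633,[0,3,6,2,4]),
  (1122,[0,3,6,2,5]),
  (1681,[0,3,6,3,2]),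
  (3687,[0,3,6,3,4]),
  (3861,[0,3,6,5,0]),
  (2088,[0,3,6,5,3]),
  (1153,[0,5,0,0,0]),
  (1137,[0,5,0,0,1]),
  (2891,[0,5,0,1,0]),
  (2124,[0,5,0,1,1]),
  (856,[0,5,0,1,2]),
  (1458,[0,5,0,1,4]),
  (3576,[0,5,0,1,5]),
  (628,[0,5,0,1,6]),
  (3703,[0,5,0,2,0]),
  (1966,[0,5,0,2,1]),
  (2763,[0,5,0,2,6]),
  (2563,[0,5,0,3,0]),
  (3633,[0,5,0,3,2]),
  (3209,[0,5,0,3,4]),
  (3645,[0,5,0,3,6]),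
  (3490,[0,5,0,5,1])]

/-- part 14 of `kOrb1_0` -/
noncomputable def kOrb1_0P14 : List (ℕ × List ℕ) := [
  (1013,[0,5,0,5,6]),
  (3049,[0,5,0,6,1]),
  (3396,[0,5,0,6,2]),
  (3222,[0,5,0,6,4]),
  (1710,[0,5,1,0,0]),
  (3235,[0,5,1,0,1]),
  (2372,[0,5,1,0,5]),
  (2353,[0,5,1,0,6]),
  (1200,[0,5,1,1,0]),
  (1222,[0,5,1,1,1]),
  (195,[0,5,1,1,3]),
  (2461,[0,5,1,1,6]),
  (1585,[0,5,1,2,2]),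
  (3893,[0,5,1,3,2]),
  (3233,[0,5,1,3,4]),
  (3147,[0,5,1,3,5]),
  (1470,[0,5,1,3,6]),
  (1226,[0,5,1,4,0]),
  (2912,[0,5,1,4,4]),
  (2098,[0,5,1,5,0]),
  (3122,[0,5,1,5,1]),
  (1579,[0,5,1,5,2]),
  (3666,[0,5,1,5,3]),
  (638,[0,5,1,5,4]),
  (1849,[0,5,1,6,1]),
  (2745,[0,5,1,6,2]),
  (3511,[0,5,1,6,3]),
  (1078,[0,5,1,6,4]),
  (3360,[0,5,1,6,5]),
  (1235,[0,5,1,6,6]),
  (2373,[0,5,2,1,0]),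
  (2680,[0,5,2,1,2]),
  (1823,[0,5,2,1,6]),
  (3039,[0,5,2,3,2]),
  (3739,[0,5,2,3,5]),
  (815,[0,5,2,5,1]),
  (2848,[0,5,2,5,3]),
  (2644,[0,5,2,5,6]),
  (3279,[0,5,3,0,4]),
  (3750,[0,5,3,0,6]),
  (1536,[0,5,3,4,0]),
  (3388,[0,5,3,4,2]),
  (1935,[0,5,3,4,4]),
  (2678,[0,5,3,4,5]),
  (3712,[0,5,3,4,6]),
  (2605,[0,5,3,5,0]),
  (3489,[0,5,3,5,1]),
  (774,[0,5,3,5,2]),
  (1043,[0,5,3,5,4]),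
  (3857,[0,5,3,5,6]),
  (2813,[0,5,3,6,1]),
  (2933,[0,5,3,6,3]),
  (1545,[0,5,3,6,5]),
  (2594,[0,5,4,0,0]),
  (3603,[0,5,4,0,1]),
  (1741,[0,5,4,0,2]),
  (3169,[0,5,4,0,3]),
  (3027,[0,5,4,0,5]),
  (1216,[0,5,4,0,6]),
  (3880,[0,5,4,3,0]),
  (2646,[0,5,4,3,4]),
  (482,[0,5,4,3,6]),
  (1463,[0,5,4,6,0]),
  (1180,[0,5,4,6,1]),
  (959,[0,5,4,6,2]),
  (1774,[0,5,4,6,3]),
  (3736,[0,6,1,0,1]),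
  (2477,[0,6,1,0,3]),
  (3344,[0,6,1,0,4]),
  (3762,[0,6,1,0,5]),
  (3438,[0,6,1,0,6]),
  (2168,[0,6,1,1,0]),
  (1143,[0,6,1,1,1]),
  (3440,[0,6,1,1,3]),
  (2259,[0,6,1,1,5]),
  (2785,[0,6,1,2,1]),
  (2797,[0,6,1,2,3]),
  (2363,[0,6,1,2,4]),
  (1600,[0,6,1,3,0]),
  (1783,[0,6,1,3,2]),
  (1767,[0,6,1,3,4]),
  (1539,[0,6,1,3,5]),
  (1659,[0,6,1,3,6]),
  (2772,[0,6,1,4,0]),
  (3011,[0,6,1,4,2]),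
  (3701,[0,6,1,4,3]),
  (2311,[0,6,1,4,5]),
  (3763,[0,6,1,5,0]),
  (1850,[0,6,1,5,1]),
  (2301,[0,6,1,5,4]),
  (474,[0,6,1,6,1]),
  (3363,[0,6,1,6,3]),
  (1162,[0,6,1,6,4]),
  (1239,[0,6,1,6,5]),
  (3358,[0,6,1,6,6]),
  (3420,[0,6,2,1,0]),
  (559,[0,6,2,1,2]),
  (1590,[0,6,2,1,4]),
  (1066,[0,6,2,1,5]),
  (1811,[0,6,2,1,6])]

/-- part 15 of `kOrb1_0` -/
noncomputable def kOrb1_0P15 : List (ℕ × List ℕ) := [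
  (2202,[0,6,2,2,0]),
  (3410,[0,6,2,2,1]),
  (692,[0,6,2,2,5]),
  (3066,[0,6,2,2,6]),
  (3806,[0,6,2,3,2]),
  (3824,[0,6,2,3,3]),
  (1607,[0,6,2,4,0]),
  (2927,[0,6,2,4,2]),
  (2567,[0,6,2,4,3]),
  (2556,[0,6,2,5,1]),
  (747,[0,6,2,5,3]),
  (1742,[0,6,2,5,4]),
  (189,[0,6,2,5,6]),
  (1798,[0,6,2,6,0]),
  (2837,[0,6,2,6,2]),
  (1668,[0,6,2,6,4]),
  (208,[0,6,2,6,5]),
  (2638,[0,6,3,0,0]),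
  (1514,[0,6,3,0,1]),
  (1580,[0,6,3,0,3]),
  (731,[0,6,3,0,4]),
  (1495,[0,6,3,0,5]),
  (3082,[0,6,3,0,6]),
  (2703,[0,6,3,2,1]),
  (2888,[0,6,3,2,2]),
  (1519,[0,6,3,2,3]),
  (941,[0,6,3,2,4]),
  (480,[0,6,3,3,0]),
  (1716,[0,6,3,3,4]),
  (2511,[0,6,3,3,5]),
  (3447,[0,6,3,3,6]),
  (2240,[0,6,3,4,0]),
  (1376,[0,6,3,4,5]),
  (1643,[0,6,3,4,6]),
  (3341,[0,6,3,5,0]),
  (119,[0,6,3,5,1]),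
  (1120,[0,6,3,5,3]),
  (878,[0,6,3,5,6]),
  (2836,[0,6,3,6,0]),
  (1799,[0,6,3,6,3]),
  (187,[0,6,3,6,5]),
  (1462,[0,6,4,0,0]),
  (3325,[0,6,4,0,1]),
  (3858,[0,6,4,0,2]),
  (2527,[0,6,4,0,5]),
  (1092,[0,6,4,0,6]),
  (2348,[0,6,4,2,0]),
  (1586,[0,6,4,2,1]),
  (1052,[0,6,4,2,2]),
  (3714,[0,6,4,2,3]),
  (3652,[0,6,4,2,4]),
  (2835,[0,6,4,2,6]),
  (1083,[0,6,4,3,0]),
  (2725,[0,6,4,3,2]),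
  (2705,[0,6,4,5,0]),
  (3407,[0,6,4,5,2]),
  (3531,[0,6,4,5,3]),
  (3500,[0,6,4,6,2]),
  (2222,[0,6,4,6,3]),
  (1479,[0,6,5,0,0]),
  (599,[0,6,5,0,1]),
  (1790,[0,6,5,0,2]),
  (2612,[0,6,5,0,5]),
  (1158,[0,6,5,1,1]),
  (1195,[0,6,5,1,5]),
  (1209,[0,6,5,1,6]),
  (2897,[1,0,0,4,3]),
  (3637,[1,0,0,4,5]),
  (1320,[1,0,0,4,6]),
  (2001,[1,0,0,5,1]),
  (3350,[1,0,0,5,2]),
  (2092,[1,0,0,5,4]),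
  (3433,[1,0,0,6,1]),
  (2076,[1,0,0,6,3]),
  (408,[1,0,0,6,4]),
  (1236,[1,0,0,6,5]),
  (2863,[1,0,0,6,6]),
  (1829,[1,0,1,0,4]),
  (3382,[1,0,1,1,0]),
  (3389,[1,0,1,1,1]),
  (1087,[1,0,1,1,2]),
  (1726,[1,0,1,1,5]),
  (3335,[1,0,1,1,6]),
  (2733,[1,0,1,2,3]),
  (2209,[1,0,1,3,3]),
  (1505,[1,0,1,3,4]),
  (1279,[1,0,1,3,5]),
  (2478,[1,0,1,3,6]),
  (3377,[1,0,1,4,0]),
  (3523,[1,0,1,4,6]),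
  (3296,[1,0,1,5,0]),
  (2309,[1,0,1,5,3]),
  (2866,[1,0,1,5,4]),
  (2531,[1,0,2,2,2]),
  (3890,[1,0,2,2,5]),
  (3256,[1,0,2,2,6]),
  (2962,[1,0,2,3,3]),
  (992,[1,0,2,3,4]),
  (1113,[1,0,2,5,0]),
  (586,[1,0,2,5,1])]

/-- part 16 of `kOrb1_0` -/
noncomputable def kOrb1_0P16 : List (ℕ × List ℕ) := [
  (1563,[1,0,2,5,3]),
  (1175,[1,0,2,5,4]),
  (219,[1,0,2,6,1]),
  (1769,[1,0,2,6,2]),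
  (1061,[1,0,2,6,4]),
  (1817,[1,0,2,6,5]),
  (2492,[1,0,2,6,6]),
  (1399,[1,0,3,0,4]),
  (2599,[1,0,3,0,5]),
  (2469,[1,0,3,0,6]),
  (2815,[1,0,3,3,3]),
  (945,[1,0,3,3,4]),
  (2278,[1,0,3,3,5]),
  (1986,[1,0,3,3,6]),
  (1230,[1,0,3,4,0]),
  (1692,[1,0,3,4,2]),
  (3274,[1,0,3,4,4]),
  (3113,[1,0,3,5,0]),
  (2861,[1,0,3,5,2]),
  (1561,[1,0,3,6,0]),
  (2904,[1,0,3,6,1]),
  (2330,[1,0,3,6,2]),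
  (2282,[1,0,3,6,4]),
  (2157,[1,0,4,0,0]),
  (1729,[1,0,4,0,1]),
  (2974,[1,0,4,0,4]),
  (893,[1,0,4,2,3]),
  (142,[1,0,4,2,5]),
  (1127,[1,0,4,2,6]),
  (2471,[1,0,4,3,0]),
  (1807,[1,0,4,3,4]),
  (3860,[1,0,4,3,6]),
  (2147,[1,0,4,4,3]),
  (2819,[1,0,4,5,1]),
  (640,[1,0,4,5,2]),
  (2329,[1,0,4,5,3]),
  (3132,[1,0,4,6,0]),
  (2929,[1,0,4,6,1]),
  (1500,[1,0,4,6,2]),
  (2521,[1,0,4,6,3]),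
  (937,[1,0,4,6,4]),
  (138,[1,0,4,6,5]),
  (2510,[1,0,4,6,6]),
  (3086,[1,0,5,0,1]),
  (410,[1,0,5,0,2]),
  (629,[1,0,5,0,5]),
  (1679,[1,0,5,1,0]),
  (2975,[1,0,5,1,1]),
  (1109,[1,0,5,1,3]),
  (3056,[1,0,5,1,5]),
  (1054,[1,0,5,2,3]),
  (1027,[1,0,5,2,4]),
  (2783,[1,0,5,2,5]),
  (3694,[1,0,5,3,4]),
  (3804,[1,0,5,3,5]),
  (3416,[1,0,5,3,6]),
  (1003,[1,0,5,6,1]),
  (3046,[1,0,5,6,2]),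
  (2506,[1,0,5,6,4]),
  (882,[1,0,5,6,6]),
  (1041,[1,0,6,1,0]),
  (3259,[1,0,6,1,1]),
  (1941,[1,0,6,1,2]),
  (2230,[1,0,6,1,3]),
  (3336,[1,0,6,1,5]),
  (593,[1,0,6,2,0]),
  (3538,[1,0,6,2,2]),
  (999,[1,0,6,2,5]),
  (1589,[1,0,6,2,6]),
  (2807,[1,0,6,3,3]),
  (1190,[1,0,6,3,5]),
  (2883,[1,0,6,3,6]),
  (2093,[1,0,6,5,1]),
  (2299,[1,0,6,6,5]),
  (1091,[1,0,6,6,6]),
  (2840,[1,1,0,1,1]),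
  (853,[1,1,0,1,3]),
  (3226,[1,1,0,1,5]),
  (2109,[1,1,0,1,6]),
  (1079,[1,1,0,2,4]),
  (1879,[1,1,0,2,5]),
  (3002,[1,1,0,3,3]),
  (3197,[1,1,0,5,3]),
  (132,[1,1,0,5,4]),
  (2200,[1,1,1,0,1]),
  (877,[1,1,1,0,3]),
  (1212,[1,1,1,0,5]),
  (411,[1,1,1,0,6]),
  (3092,[1,1,1,2,2]),
  (2907,[1,1,1,2,5]),
  (2714,[1,1,1,2,6]),
  (2542,[1,1,1,3,2]),
  (115,[1,1,1,3,6]),
  (1996,[1,1,2,1,5]),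
  (1861,[1,1,2,1,6]),
  (3090,[1,1,2,2,2]),
  (1925,[1,1,2,2,3]),
  (3125,[1,1,2,3,3]),
  (2630,[1,1,2,3,4]),
  (2343,[1,1,2,3,5])]

/-- part 17 of `kOrb1_0` -/
noncomputable def kOrb1_0P17 : List (ℕ × List ℕ) := [
  (1704,[1,1,2,3,6]),
  (3449,[1,1,2,4,2]),
  (3245,[1,1,2,4,3]),
  (1537,[1,1,2,4,5]),
  (1758,[1,1,2,4,6]),
  (2289,[1,1,2,5,0]),
  (188,[1,1,2,5,1]),
  (1453,[1,1,2,5,2]),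
  (867,[1,1,2,5,4]),
  (1506,[1,1,2,5,6]),
  (751,[1,1,2,6,1]),
  (2315,[1,1,2,6,4]),
  (852,[1,1,2,6,6]),
  (3834,[1,1,3,0,3]),
  (1891,[1,1,3,0,5]),
  (2089,[1,1,3,0,6]),
  (749,[1,1,3,2,2]),
  (2864,[1,1,3,2,4]),
  (2805,[1,1,3,2,5]),
  (1081,[1,1,3,2,6]),
  (3668,[1,1,3,3,2]),
  (3767,[1,1,3,5,0]),
  (1570,[1,1,3,5,1]),
  (3642,[1,1,3,5,2]),
  (578,[1,1,3,5,4]),
  (782,[1,1,3,6,0]),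
  (67,[1,1,3,6,5]),
  (465,[1,1,5,0,0]),
  (2238,[1,1,5,0,3]),
  (3536,[1,1,5,0,5]),
  (2740,[1,1,5,1,0]),
  (2708,[1,1,5,1,2]),
  (3650,[1,1,5,1,3]),
  (2258,[1,1,5,1,6]),
  (3390,[1,1,5,2,0]),
  (3508,[1,1,5,2,2]),
  (2616,[1,1,5,2,3]),
  (1097,[1,1,5,2,4]),
  (1139,[1,1,5,2,5]),
  (2410,[1,1,5,3,0]),
  (1489,[1,1,5,3,2]),
  (3236,[1,1,5,3,3]),
  (1217,[1,1,6,1,1]),
  (1958,[1,1,6,1,2]),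
  (2199,[1,1,6,1,3]),
  (1805,[1,1,6,1,4]),
  (685,[1,1,6,2,1]),
  (2500,[1,1,6,2,2]),
  (3510,[1,1,6,2,5]),
  (3293,[1,1,6,2,6]),
  (1219,[1,1,6,3,3]),
  (2758,[1,1,6,3,6]),
  (1185,[1,1,6,6,1]),
  (2718,[1,2,1,1,1]),
  (3888,[1,2,1,1,5]),
  (3841,[1,2,1,2,2]),
  (1062,[1,2,1,2,5]),
  (2402,[1,2,1,4,0]),
  (111,[1,2,1,4,4]),
  (708,[1,2,1,4,5]),
  (2768,[1,2,1,5,0]),
  (3661,[1,2,1,5,2]),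
  (372,[1,2,1,5,3]),
  (126,[1,2,1,5,6]),
  (2735,[1,2,2,0,6]),
  (2896,[1,2,2,1,2]),
  (3553,[1,2,2,1,6]),
  (3168,[1,2,2,2,1]),
  (1602,[1,2,2,2,5]),
  (2068,[1,2,2,2,6]),
  (3676,[1,2,2,3,4]),
  (1131,[1,2,2,3,6]),
  (1780,[1,2,2,4,3]),
  (1821,[1,2,2,5,1]),
  (3003,[1,2,2,5,2]),
  (3058,[1,2,2,5,3]),
  (3464,[1,2,2,5,6]),
  (3516,[1,2,2,6,0]),
  (2804,[1,2,2,6,1]),
  (1832,[1,2,2,6,3]),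
  (1132,[1,2,2,6,4]),
  (3143,[1,2,2,6,5]),
  (2320,[1,2,2,6,6]),
  (3821,[1,2,3,2,3]),
  (3663,[1,2,3,2,4]),
  (2352,[1,2,3,3,3]),
  (3300,[1,2,3,3,4]),
  (3541,[1,2,3,4,0]),
  (3833,[1,2,3,4,2]),
  (2925,[1,2,3,4,4]),
  (3130,[1,2,3,5,1]),
  (1446,[1,2,3,5,2]),
  (3001,[1,2,3,5,6]),
  (3665,[1,2,3,6,0]),
  (1343,[1,2,3,6,1]),
  (858,[1,2,3,6,2]),
  (1680,[1,2,3,6,3]),
  (1759,[1,2,4,0,0]),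
  (3899,[1,2,4,0,2]),
  (3036,[1,2,4,0,3])]

/-- part 18 of `kOrb1_0` -/
noncomputable def kOrb1_0P18 : List (ℕ × List ℕ) := [
  (3045,[1,2,4,0,4]),
  (3544,[1,2,4,0,5]),
  (3816,[1,2,4,0,6]),
  (3054,[1,2,4,2,0]),
  (1466,[1,2,4,2,4]),
  (2788,[1,2,4,2,6]),
  (2195,[1,2,4,3,3]),
  (1826,[1,2,4,4,2]),
  (2375,[1,2,4,4,5]),
  (2771,[1,2,4,4,6]),
  (3724,[1,2,4,5,2]),
  (2577,[1,2,4,5,6]),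
  (3009,[1,2,4,6,0]),
  (139,[1,2,4,6,1]),
  (2167,[1,2,4,6,2]),
  (2710,[1,2,4,6,3]),
  (3303,[1,2,4,6,4]),
  (1723,[1,2,4,6,5]),
  (3394,[1,2,4,6,6]),
  (1971,[1,2,5,0,1]),
  (3812,[1,2,5,0,2]),
  (2937,[1,2,5,0,3]),
  (1883,[1,2,5,0,4]),
  (1469,[1,2,5,0,5]),
  (3789,[1,2,5,1,0]),
  (910,[1,2,5,1,1]),
  (3803,[1,2,5,1,3]),
  (3847,[1,2,5,1,5]),
  (3689,[1,2,5,1,6]),
  (1482,[1,2,5,2,0]),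
  (1597,[1,2,5,2,4]),
  (3175,[1,2,5,2,5]),
  (1650,[1,2,5,2,6]),
  (2827,[1,2,5,3,2]),
  (550,[1,2,5,3,4]),
  (1562,[1,2,5,4,3]),
  (2991,[1,2,5,4,6]),
  (3587,[1,2,5,6,1]),
  (435,[1,2,5,6,6]),
  (3673,[1,2,6,0,1]),
  (3648,[1,2,6,0,2]),
  (2220,[1,2,6,0,5]),
  (2273,[1,2,6,0,6]),
  (633,[1,2,6,1,0]),
  (2234,[1,2,6,1,1]),
  (1112,[1,2,6,1,4]),
  (3202,[1,2,6,2,1]),
  (3378,[1,2,6,2,2]),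
  (2317,[1,2,6,2,3]),
  (594,[1,2,6,3,0]),
  (1956,[1,2,6,3,2]),
  (2446,[1,2,6,3,3]),
  (2859,[1,2,6,4,0]),
  (3560,[1,2,6,4,2]),
  (1485,[1,2,6,4,3]),
  (1857,[1,2,6,5,0]),
  (3070,[1,2,6,6,4]),
  (1057,[1,2,6,6,5]),
  (3786,[1,3,0,1,3]),
  (3435,[1,3,0,1,4]),
  (1573,[1,3,0,1,5]),
  (1775,[1,3,0,1,6]),
  (2465,[1,3,0,2,4]),
  (1133,[1,3,0,3,3]),
  (547,[1,3,0,3,4]),
  (1472,[1,3,0,3,5]),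
  (2067,[1,3,0,3,6]),
  (3484,[1,3,0,4,4]),
  (2488,[1,3,0,5,0]),
  (1730,[1,3,0,5,1]),
  (2223,[1,3,0,5,2]),
  (3155,[1,3,0,6,1]),
  (557,[1,3,0,6,4]),
  (986,[1,3,0,6,6]),
  (3227,[1,3,2,1,1]),
  (314,[1,3,2,1,5]),
  (1688,[1,3,2,1,6]),
  (3569,[1,3,2,2,4]),
  (3207,[1,3,2,2,6]),
  (2024,[1,3,2,3,4]),
  (1652,[1,3,2,4,2]),
  (2617,[1,3,2,4,3]),
  (3543,[1,3,2,4,5]),
  (3177,[1,3,2,4,6]),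
  (3573,[1,3,2,5,0]),
  (2983,[1,3,2,5,1]),
  (2438,[1,3,2,5,2]),
  (3052,[1,3,2,5,4]),
  (1531,[1,3,2,6,2]),
  (3658,[1,3,2,6,5]),
  (304,[1,3,3,2,3]),
  (3055,[1,3,3,2,5]),
  (3840,[1,3,3,3,0]),
  (896,[1,3,3,3,5]),
  (744,[1,3,3,3,6]),
  (1991,[1,3,3,4,2]),
  (3157,[1,3,3,5,3]),
  (2801,[1,3,3,6,0]),
  (1038,[1,3,3,6,2]),
  (2946,[1,3,4,2,2])]

/-- part 19 of `kOrb1_0` -/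
noncomputable def kOrb1_0P19 : List (ℕ × List ℕ) := [
  (1748,[1,3,4,2,3]),
  (1576,[1,3,4,2,4]),
  (3496,[1,3,4,2,6]),
  (2086,[1,3,4,3,0]),
  (2204,[1,3,4,3,3]),
  (3533,[1,3,4,3,4]),
  (2884,[1,3,4,3,6]),
  (1733,[1,3,4,5,1]),
  (127,[1,3,4,6,0]),
  (3787,[1,3,4,6,1]),
  (3503,[1,3,4,6,2]),
  (1718,[1,3,4,6,3]),
  (225,[1,3,4,6,6]),
  (3788,[1,3,6,0,0]),
  (2159,[1,3,6,0,3]),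
  (915,[1,3,6,0,6]),
  (908,[1,3,6,1,0]),
  (624,[1,3,6,1,1]),
  (1621,[1,3,6,1,2]),
  (1830,[1,3,6,1,3]),
  (3067,[1,3,6,2,0]),
  (1294,[1,3,6,2,1]),
  (2000,[1,3,6,2,2]),
  (3468,[1,3,6,2,3]),
  (2540,[1,3,6,2,6]),
  (3064,[1,3,6,3,2]),
  (1382,[1,3,6,3,4]),
  (2847,[1,3,6,4,0]),
  (2826,[1,3,6,5,0]),
  (2664,[1,3,6,5,1]),
  (3161,[1,3,6,5,3]),
  (639,[1,3,6,6,6]),
  (3469,[1,4,2,0,0]),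
  (3480,[1,4,2,0,4]),
  (1615,[1,4,2,0,5]),
  (2775,[1,4,2,0,6]),
  (3309,[1,4,2,1,0]),
  (3667,[1,4,2,1,2]),
  (2095,[1,4,2,1,5]),
  (1938,[1,4,2,1,6]),
  (643,[1,4,2,2,5]),
  (2880,[1,4,2,3,2]),
  (3832,[1,4,2,3,4]),
  (1395,[1,4,2,3,5]),
  (3608,[1,4,2,4,3]),
  (1979,[1,4,2,4,6]),
  (1445,[1,4,2,5,1]),
  (3591,[1,4,3,0,0]),
  (1732,[1,4,3,0,1]),
  (1693,[1,4,3,0,4]),
  (954,[1,4,3,0,5]),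
  (3218,[1,4,3,0,6]),
  (2513,[1,4,3,2,2]),
  (1528,[1,4,3,2,4]),
  (1518,[1,4,3,2,5]),
  (230,[1,4,3,3,5]),
  (892,[1,4,3,4,3]),
  (2739,[1,4,3,4,5]),
  (3635,[1,4,3,5,0]),
  (723,[1,4,3,5,1]),
  (1140,[1,4,3,5,2]),
  (2662,[1,4,3,5,4]),
  (1227,[1,4,5,0,0]),
  (1867,[1,4,5,0,1]),
  (1147,[1,4,5,0,3]),
  (2551,[1,4,5,0,5]),
  (2152,[1,4,5,0,6]),
  (741,[1,4,5,1,1]),
  (2648,[1,4,5,1,3]),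
  (1358,[1,4,5,1,5]),
  (785,[1,4,5,1,6]),
  (2145,[1,4,5,3,0]),
  (3463,[1,4,5,3,3]),
  (3115,[1,4,5,3,4]),
  (3782,[1,5,0,0,3]),
  (1090,[1,5,0,0,4]),
  (2418,[1,5,0,1,0]),
  (1035,[1,5,0,1,1]),
  (3198,[1,5,0,1,3]),
  (1765,[1,5,0,1,4]),
  (3575,[1,5,0,1,5]),
  (3554,[1,5,0,2,0]),
  (3863,[1,5,0,2,3]),
  (3242,[1,5,0,3,2]),
  (2922,[1,5,0,3,4]),
  (754,[1,5,0,3,5]),
  (3071,[1,5,0,3,6]),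
  (1908,[1,5,0,4,0]),
  (3443,[1,5,0,4,3]),
  (1206,[1,5,0,4,5]),
  (2351,[1,5,0,4,6]),
  (857,[1,5,0,5,1]),
  (1995,[1,5,0,5,6]),
  (2485,[1,5,1,0,1]),
  (2102,[1,5,1,0,2]),
  (3843,[1,5,1,1,0]),
  (3345,[1,5,1,1,2]),
  (3302,[1,5,1,1,5]),
  (1196,[1,5,1,1,6]),
  (2724,[1,5,1,2,2])]

/-- part 20 of `kOrb1_0` -/
noncomputable def kOrb1_0P20 : List (ℕ × List ℕ) := [
  (3087,[1,5,1,2,3]),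
  (3384,[1,5,1,2,4]),
  (1498,[1,5,1,3,2]),
  (1871,[1,5,1,3,3]),
  (14,[1,5,1,4,3]),
  (3632,[1,5,1,5,0]),
  (2895,[1,5,1,5,3]),
  (2608,[1,5,1,5,6]),
  (3638,[1,5,1,6,0]),
  (1117,[1,5,1,6,5]),
  (1444,[1,5,1,6,6]),
  (207,[1,5,2,0,2]),
  (2679,[1,5,2,1,1]),
  (2242,[1,5,2,1,2]),
  (3818,[1,5,2,1,4]),
  (2760,[1,5,2,1,6]),
  (1188,[1,5,2,2,2]),
  (3059,[1,5,2,2,4]),
  (3570,[1,5,2,2,5]),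
  (1532,[1,5,2,2,6]),
  (2197,[1,5,2,3,3]),
  (3561,[1,5,2,3,4]),
  (710,[1,5,2,3,5]),
  (2620,[1,5,2,3,6]),
  (2139,[1,5,2,4,0]),
  (2851,[1,5,2,4,3]),
  (1022,[1,5,2,4,5]),
  (1065,[1,5,2,4,6]),
  (3434,[1,5,2,5,0]),
  (3347,[1,5,2,6,0]),
  (2458,[1,5,2,6,1]),
  (2582,[1,5,2,6,2]),
  (1064,[1,5,2,6,5]),
  (3756,[1,5,3,0,0]),
  (3367,[1,5,3,0,1]),
  (448,[1,5,3,0,4]),
  (3862,[1,5,3,2,2]),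
  (1822,[1,5,3,2,4]),
  (1213,[1,5,3,2,5]),
  (3021,[1,5,3,3,4]),
  (2010,[1,5,3,3,5]),
  (570,[1,5,3,3,6]),
  (994,[1,5,3,4,5]),
  (1796,[1,5,3,4,6]),
  (3048,[1,5,3,5,0]),
  (2026,[1,5,3,5,1]),
  (2747,[1,5,3,5,2]),
  (3016,[1,5,3,6,1]),
  (1606,[1,5,3,6,4]),
  (3791,[1,5,3,6,5]),
  (3716,[1,5,4,2,2]),
  (546,[1,5,4,2,3]),
  (3524,[1,5,4,2,5]),
  (2005,[1,5,4,3,0]),
  (2579,[1,5,4,3,2]),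
  (3400,[1,5,4,3,3]),
  (3417,[1,5,4,3,4]),
  (3047,[1,5,4,3,5]),
  (946,[1,6,0,1,5]),
  (880,[1,6,0,2,0]),
  (2368,[1,6,0,2,6]),
  (2717,[1,6,0,3,0]),
  (3681,[1,6,0,3,2]),
  (486,[1,6,0,3,4]),
  (3180,[1,6,0,5,1]),
  (1389,[1,6,0,6,1]),
  (3331,[1,6,0,6,2]),
  (2607,[1,6,0,6,3]),
  (942,[1,6,1,0,3]),
  (1394,[1,6,1,0,4]),
  (906,[1,6,1,1,5]),
  (1898,[1,6,1,2,1]),
  (784,[1,6,1,2,3]),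
  (887,[1,6,1,3,0]),
  (1507,[1,6,1,3,2]),
  (2020,[1,6,1,3,5]),
  (3081,[1,6,1,3,6]),
  (2065,[1,6,1,4,0]),
  (1855,[1,6,1,5,0]),
  (939,[1,6,1,5,2]),
  (3643,[1,6,1,5,3]),
  (2460,[1,6,1,5,4]),
  (495,[1,6,2,3,3]),
  (3101,[1,6,2,5,3]),
  (3022,[1,6,2,5,4]),
  (2755,[1,6,2,5,6]),
  (2482,[1,6,2,6,2]),
  (2641,[1,6,2,6,5]),
  (1375,[1,6,3,0,1]),
  (3264,[1,6,3,0,3]),
  (953,[1,6,3,0,4]),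
  (2383,[1,6,3,2,5]),
  (766,[1,6,3,2,6]),
  (3474,[1,6,3,3,2]),
  (484,[1,6,3,3,6]),
  (2720,[1,6,3,4,4]),
  (3854,[1,6,3,4,5]),
  (1457,[1,6,3,5,0]),
  (3181,[1,6,3,6,2]),
  (231,[1,6,3,6,3])]

/-- part 21 of `kOrb1_0` -/
noncomputable def kOrb1_0P21 : List (ℕ × List ℕ) := [
  (2142,[1,6,3,6,4]),
  (3346,[2,0,0,0,4]),
  (3866,[2,0,0,0,5]),
  (2034,[2,0,0,4,2]),
  (1050,[2,0,0,4,3]),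
  (3429,[2,0,0,4,5]),
  (1724,[2,0,0,5,4]),
  (1943,[2,0,0,5,6]),
  (2957,[2,0,0,6,2]),
  (837,[2,0,0,6,4]),
  (1194,[2,0,1,4,6]),
  (1068,[2,0,1,5,0]),
  (1721,[2,0,1,5,1]),
  (3869,[2,0,1,5,2]),
  (1037,[2,0,1,5,3]),
  (604,[2,0,1,6,0]),
  (1878,[2,0,1,6,3]),
  (3313,[2,0,1,6,5]),
  (2441,[2,0,1,6,6]),
  (1640,[2,0,2,6,1]),
  (1963,[2,0,2,6,2]),
  (1782,[2,0,2,6,4]),
  (2652,[2,0,3,2,4]),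
  (2728,[2,0,3,4,0]),
  (1228,[2,0,3,4,2]),
  (1859,[2,0,3,4,4]),
  (1743,[2,0,3,5,0]),
  (1787,[2,0,3,5,1]),
  (3109,[2,0,3,5,2]),
  (3609,[2,0,3,5,6]),
  (3892,[2,0,4,0,0]),
  (2069,[2,0,4,0,2]),
  (1777,[2,0,4,0,3]),
  (3319,[2,0,4,0,4]),
  (2022,[2,0,4,0,6]),
  (965,[2,0,4,2,0]),
  (2574,[2,0,4,3,0]),
  (2965,[2,0,4,3,3]),
  (3793,[2,0,4,3,6]),
  (1055,[2,0,4,6,1]),
  (3720,[2,0,4,6,2]),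
  (2899,[2,0,4,6,6]),
  (1023,[2,0,6,1,1]),
  (2546,[2,0,6,1,5]),
  (2765,[2,0,6,4,3]),
  (3896,[2,0,6,4,5]),
  (140,[2,0,6,5,0]),
  (556,[2,1,0,4,0]),
  (2174,[2,1,0,4,3]),
  (1678,[2,1,0,5,0]),
  (180,[2,1,0,5,1]),
  (3241,[2,1,0,5,2]),
  (489,[2,1,0,5,4]),
  (1045,[2,1,0,6,2]),
  (642,[2,1,0,6,4]),
  (2936,[2,1,1,5,0]),
  (1406,[2,1,1,5,1]),
  (2115,[2,1,1,5,2]),
  (1599,[2,1,1,6,1]),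
  (1557,[2,1,1,6,3]),
  (1632,[2,1,1,6,6]),
  (1142,[2,1,2,2,1]),
  (3664,[2,1,2,2,5]),
  (1351,[2,1,2,2,6]),
  (1819,[2,1,2,5,1]),
  (2514,[2,1,2,5,2]),
  (3240,[2,1,2,5,4]),
  (1450,[2,1,2,6,1]),
  (1076,[2,1,2,6,3]),
  (1473,[2,1,2,6,6]),
  (3777,[2,1,4,0,3]),
  (2164,[2,1,4,2,0]),
  (1039,[2,1,4,2,4]),
  (616,[2,1,4,2,6]),
  (2253,[2,1,4,3,4]),
  (1452,[2,1,4,4,0]),
  (1535,[2,1,4,4,2]),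
  (3873,[2,1,4,4,3]),
  (3108,[2,1,4,4,6]),
  (2470,[2,1,4,5,2]),
  (1906,[2,1,4,6,0]),
  (2593,[2,1,4,6,3]),
  (3312,[2,1,4,6,4]),
  (690,[2,1,4,6,5]),
  (980,[2,1,4,6,6]),
  (2252,[2,1,5,0,3]),
  (849,[2,1,5,1,2]),
  (2479,[2,1,5,1,3]),
  (1872,[2,1,5,1,4]),
  (1082,[2,1,5,1,5]),
  (2667,[2,1,5,1,6]),
  (1030,[2,1,5,2,0]),
  (2677,[2,1,5,2,2]),
  (1629,[2,1,5,2,3]),
  (956,[2,1,5,2,4]),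
  (2997,[2,1,5,2,5]),
  (2742,[2,1,5,2,6]),
  (2979,[2,1,5,3,4]),
  (3043,[2,1,5,3,5]),
  (2526,[2,1,5,6,0])]

/-- part 22 of `kOrb1_0` -/
noncomputable def kOrb1_0P22 : List (ℕ × List ℕ) := [
  (3737,[2,1,5,6,3]),
  (2809,[2,1,6,0,0]),
  (2656,[2,1,6,0,1]),
  (2934,[2,1,6,0,5]),
  (1248,[2,1,6,0,6]),
  (1264,[2,1,6,1,1]),
  (909,[2,1,6,1,2]),
  (2549,[2,1,6,2,1]),
  (1989,[2,1,6,2,3]),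
  (2754,[2,1,6,3,3]),
  (701,[2,1,6,3,4]),
  (3872,[2,1,6,4,3]),
  (3715,[2,1,6,5,3]),
  (3625,[2,1,6,6,4]),
  (788,[2,1,6,6,5]),
  (1475,[2,2,0,4,0]),
  (2384,[2,2,0,4,2]),
  (1439,[2,2,0,6,2]),
  (2709,[2,2,0,6,5]),
  (1784,[2,2,1,1,6]),
  (3080,[2,2,1,2,4]),
  (3366,[2,2,1,2,6]),
  (2128,[2,2,1,4,5]),
  (1114,[2,2,1,4,6]),
  (1772,[2,2,1,6,0]),
  (883,[2,2,1,6,1]),
  (665,[2,2,1,6,3]),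
  (1028,[2,2,1,6,4]),
  (2822,[2,2,1,6,6]),
  (2790,[2,2,2,0,4]),
  (1516,[2,2,2,1,5]),
  (186,[2,2,2,1,6]),
  (103,[2,2,2,2,4]),
  (943,[2,2,2,4,3]),
  (2214,[2,2,2,5,0]),
  (1677,[2,2,2,5,1]),
  (3106,[2,2,2,6,1]),
  (2911,[2,2,2,6,3]),
  (3509,[2,2,3,2,3]),
  (1135,[2,2,3,2,4]),
  (3301,[2,2,3,2,6]),
  (3540,[2,2,3,3,3]),
  (3597,[2,2,3,3,5]),
  (3028,[2,2,3,5,0]),
  (571,[2,2,3,5,2]),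
  (2695,[2,2,3,5,6]),
  (2953,[2,2,3,6,0]),
  (2580,[2,2,3,6,2]),
  (2698,[2,2,3,6,5]),
  (1864,[2,2,4,0,2]),
  (3813,[2,2,4,0,3]),
  (3135,[2,2,4,2,0]),
  (1789,[2,2,4,2,3]),
  (3072,[2,2,4,3,2]),
  (2732,[2,2,4,3,3]),
  (1760,[2,2,4,3,5]),
  (1583,[2,2,4,3,6]),
  (1825,[2,2,5,0,2]),
  (1802,[2,2,5,1,6]),
  (3294,[2,2,5,2,0]),
  (2476,[2,2,5,2,2]),
  (938,[2,2,5,2,4]),
  (3505,[2,2,5,3,3]),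
  (3567,[2,2,5,3,4]),
  (3213,[2,2,5,3,6]),
  (1556,[2,2,6,0,0]),
  (3328,[2,2,6,0,2]),
  (1837,[2,2,6,0,6]),
  (1107,[2,2,6,1,1]),
  (3203,[2,2,6,1,2]),
  (3773,[2,2,6,1,4]),
  (769,[2,2,6,2,1]),
  (3809,[2,2,6,2,2]),
  (3137,[2,2,6,2,4]),
  (627,[2,2,6,2,5]),
  (3280,[2,2,6,5,2]),
  (3743,[2,3,2,3,3]),
  (3068,[2,3,2,3,6]),
  (2148,[2,3,2,4,2]),
  (3077,[2,3,2,4,3]),
  (700,[2,3,2,5,2]),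
  (3819,[2,3,2,5,6]),
  (1628,[2,3,2,6,0]),
  (757,[2,3,2,6,2]),
  (3243,[2,3,2,6,5]),
  (3853,[2,3,3,2,2]),
  (2750,[2,3,3,2,3]),
  (2033,[2,3,3,2,6]),
  (3754,[2,3,3,3,3]),
  (3532,[2,3,3,3,5]),
  (3145,[2,3,3,3,6]),
  (1990,[2,3,3,5,0]),
  (1690,[2,3,3,5,6]),
  (916,[2,3,3,6,2]),
  (3641,[2,3,4,0,1]),
  (1046,[2,3,4,0,2]),
  (2663,[2,3,4,0,3]),
  (753,[2,3,4,0,5]),
  (1676,[2,3,4,2,0]),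
  (2984,[2,3,4,2,2])]

/-- part 23 of `kOrb1_0` -/
noncomputable def kOrb1_0P23 : List (ℕ × List ℕ) := [
  (2578,[2,3,4,2,3]),
  (2743,[2,3,4,2,4]),
  (3849,[2,3,4,3,0]),
  (3311,[2,3,4,3,2]),
  (886,[2,3,4,3,3]),
  (2297,[2,3,4,3,4]),
  (1100,[2,3,4,4,2]),
  (1089,[2,3,4,4,4]),
  (530,[2,3,4,5,6]),
  (796,[2,3,4,6,2]),
  (2334,[2,3,4,6,5]),
  (2971,[2,3,5,0,0]),
  (3148,[2,3,5,0,2]),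
  (2773,[2,3,5,1,0]),
  (3578,[2,3,5,1,2]),
  (3089,[2,3,5,2,0]),
  (2994,[2,3,5,3,4]),
  (1538,[2,3,6,3,3]),
  (2696,[2,3,6,3,5]),
  (3670,[2,3,6,3,6]),
  (1525,[2,3,6,5,0]),
  (2116,[2,3,6,5,1]),
  (3427,[2,4,0,0,5]),
  (3876,[2,4,0,2,0]),
  (3225,[2,4,0,2,2]),
  (493,[2,4,0,2,6]),
  (2633,[2,4,0,3,0]),
  (1697,[2,4,0,3,3]),
  (3506,[2,4,0,3,6]),
  (3014,[2,4,0,5,0]),
  (3902,[2,4,0,6,2]),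
  (3262,[2,4,0,6,5]),
  (2882,[2,4,0,6,6]),
  (1851,[2,4,2,0,1]),
  (3874,[2,4,2,0,2]),
  (1339,[2,4,2,0,6]),
  (2150,[2,4,3,0,3]),
  (1384,[2,4,3,0,4]),
  (2376,[2,4,3,3,0]),
  (1705,[2,4,3,3,4]),
  (476,[2,4,3,3,6]),
  (3442,[2,4,3,4,2]),
  (2948,[2,4,3,4,6]),
  (3752,[2,4,3,5,0]),
  (1548,[2,4,3,5,1]),
  (2487,[2,4,3,5,4]),
  (3606,[2,4,3,6,1]),
  (2977,[2,4,5,2,2]),
  (1311,[2,4,5,2,3]),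
  (2074,[2,4,5,3,0]),
  (3454,[2,4,5,3,2]),
  (2070,[2,4,5,3,3]),
  (1042,[2,4,5,4,2]),
  (3386,[2,4,5,6,1]),
  (1972,[2,4,6,0,2]),
  (2752,[2,4,6,0,5]),
  (2166,[2,4,6,2,0]),
  (2833,[2,4,6,2,6]),
  (1947,[2,4,6,3,6]),
  (1165,[2,4,6,5,2]),
  (2719,[2,4,6,5,3]),
  (3413,[2,5,0,0,0]),
  (3146,[2,5,0,0,1]),
  (2692,[2,5,0,0,2]),
  (1582,[2,5,0,0,5]),
  (2111,[2,5,0,0,6]),
  (3675,[2,5,0,1,0]),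
  (724,[2,5,0,2,1]),
  (3269,[2,5,0,2,3]),
  (1148,[2,5,0,3,2]),
  (1106,[2,5,0,3,6]),
  (3514,[2,5,0,4,0]),
  (3592,[2,5,0,5,2]),
  (1754,[2,5,0,6,2]),
  (3639,[2,5,1,0,0]),
  (221,[2,5,1,0,2]),
  (2949,[2,5,1,0,3]),
  (1432,[2,5,1,0,5]),
  (835,[2,5,1,1,5]),
  (900,[2,5,1,1,6]),
  (3088,[2,5,1,2,2]),
  (2843,[2,5,1,3,0]),
  (2481,[2,5,1,4,0]),
  (2401,[2,5,1,4,2]),
  (479,[2,5,1,4,3]),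
  (3105,[2,5,1,6,3]),
  (3210,[2,5,2,0,0]),
  (1974,[2,5,2,0,1]),
  (2293,[2,5,2,2,0]),
  (2218,[2,5,2,2,1]),
  (472,[2,5,2,2,4]),
  (2674,[2,5,2,2,5]),
  (913,[2,5,2,3,6]),
  (3033,[2,5,2,6,1]),
  (2954,[2,5,2,6,2]),
  (3498,[2,5,3,0,1]),
  (3255,[2,5,3,0,2]),
  (1168,[2,5,3,0,6]),
  (2463,[2,5,3,2,6]),
  (3290,[2,5,3,3,2])]

/-- part 24 of `kOrb1_0` -/
noncomputable def kOrb1_0P24 : List (ℕ × List ℕ) := [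
  (466,[2,5,3,4,0]),
  (2855,[2,5,3,4,2]),
  (3189,[2,5,3,5,4]),
  (3726,[2,5,3,5,6]),
  (3063,[2,5,3,6,0]),
  (492,[2,5,3,6,3]),
  (1504,[2,5,4,0,2]),
  (193,[2,5,4,0,3]),
  (2844,[2,5,4,0,5]),
  (2780,[2,5,4,0,6]),
  (3217,[2,5,4,2,0]),
  (1047,[2,5,4,2,3]),
  (1001,[2,5,4,3,0]),
  (133,[2,5,4,3,2]),
  (911,[2,5,4,3,3]),
  (185,[2,5,4,3,6]),
  (1793,[2,5,6,0,0]),
  (1592,[2,5,6,0,2]),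
  (2561,[2,5,6,1,3]),
  (419,[2,5,6,1,5]),
  (3501,[2,5,6,1,6]),
  (1961,[2,5,6,2,3]),
  (2737,[2,5,6,3,0]),
  (3671,[2,5,6,3,2]),
  (1460,[2,5,6,3,5]),
  (1763,[2,5,6,6,1]),
  (3421,[2,6,0,1,3]),
  (1245,[2,6,0,1,4]),
  (3083,[2,6,0,2,2]),
  (1464,[2,6,0,2,5]),
  (3682,[2,6,0,3,2]),
  (2413,[2,6,0,3,3]),
  (3820,[2,6,0,4,2]),
  (1753,[2,6,0,4,6]),
  (955,[2,6,0,5,0]),
  (3654,[2,6,0,5,3]),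
  (2684,[2,6,0,5,6]),
  (1566,[2,6,0,6,2]),
  (2224,[2,6,0,6,5]),
  (1181,[2,6,1,0,1]),
  (1080,[2,6,1,0,3]),
  (1036,[2,6,1,1,0]),
  (2130,[2,6,1,1,5]),
  (1687,[2,6,1,3,0]),
  (3224,[2,6,1,3,4]),
  (1174,[2,6,1,6,0]),
  (572,[2,6,2,0,5]),
  (3391,[2,6,2,1,1]),
  (1273,[2,6,2,1,6]),
  (2685,[2,6,2,2,3]),
  (2951,[2,6,2,4,5]),
  (1503,[2,6,2,5,0]),
  (1685,[2,6,2,5,1]),
  (2839,[2,6,2,6,1]),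
  (2032,[2,6,2,6,3]),
  (3332,[2,6,2,6,4]),
  (1031,[2,6,3,2,3]),
  (3878,[2,6,3,2,5]),
  (1818,[2,6,3,3,2]),
  (1146,[2,6,3,3,4]),
  (3757,[2,6,3,4,2]),
  (1744,[2,6,3,4,6]),
  (1924,[2,6,3,5,0]),
  (3138,[2,6,3,5,1]),
  (614,[2,6,3,6,3]),
  (1666,[2,6,4,0,3]),
  (1917,[2,6,4,0,5]),
  (3006,[2,6,4,0,6]),
  (197,[2,6,4,3,0]),
  (3651,[2,6,4,3,2]),
  (787,[2,6,5,0,1]),
  (2942,[2,6,5,0,2]),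
  (2385,[2,6,5,0,3]),
  (2615,[2,6,5,2,1]),
  (2014,[2,6,5,2,4]),
  (1755,[3,0,0,5,3]),
  (3123,[3,0,0,5,6]),
  (1631,[3,0,1,3,4]),
  (1350,[3,0,1,3,6]),
  (423,[3,0,1,5,0]),
  (1155,[3,0,1,5,2]),
  (1167,[3,0,1,6,4]),
  (2426,[3,0,3,0,5]),
  (3000,[3,0,3,4,0]),
  (3486,[3,0,3,4,2]),
  (987,[3,0,3,4,4]),
  (1735,[3,0,3,5,2]),
  (3308,[3,0,3,6,1]),
  (2236,[3,0,5,1,1]),
  (1069,[3,0,5,2,1]),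
  (2845,[3,0,6,1,1]),
  (997,[3,0,6,1,5]),
  (2239,[3,0,6,1,6]),
  (703,[3,2,1,1,6]),
  (2707,[3,2,1,4,0]),
  (2106,[3,2,1,4,2]),
  (1795,[3,2,1,4,5]),
  (2995,[3,2,1,5,0]),
  (2013,[3,2,1,5,4]),
  (2672,[3,2,1,6,0])]

/-- part 25 of `kOrb1_0` -/
noncomputable def kOrb1_0P25 : List (ℕ × List ℕ) := [
  (958,[3,2,1,6,2]),
  (991,[3,2,2,2,6]),
  (3846,[3,2,2,5,6]),
  (2632,[3,2,3,2,5]),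
  (854,[3,2,3,2,6]),
  (3691,[3,2,3,3,2]),
  (3886,[3,2,3,3,3]),
  (2430,[3,2,3,3,5]),
  (3562,[3,2,3,3,6]),
  (1071,[3,2,3,4,4]),
  (3211,[3,2,3,5,6]),
  (1914,[3,2,3,6,5]),
  (3042,[3,2,4,0,3]),
  (2671,[3,2,4,0,4]),
  (201,[3,2,4,0,5]),
  (1074,[3,2,4,2,0]),
  (1341,[3,2,4,2,4]),
  (3307,[3,2,4,3,2]),
  (3733,[3,2,4,4,3]),
  (3194,[3,2,4,5,0]),
  (1946,[3,2,4,5,3]),
  (1523,[3,2,4,6,2]),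
  (3317,[3,2,4,6,5]),
  (3717,[3,2,5,0,0]),
  (3905,[3,2,5,0,6]),
  (1827,[3,2,5,1,1]),
  (2083,[3,2,5,2,0]),
  (1738,[3,2,5,2,2]),
  (840,[3,2,5,4,0]),
  (3100,[3,2,5,6,2]),
  (2337,[3,2,5,6,4]),
  (851,[3,3,0,1,4]),
  (2114,[3,3,0,4,0]),
  (1014,[3,3,2,2,5]),
  (3612,[3,3,2,3,4]),
  (3586,[3,3,2,3,5]),
  (3799,[3,3,2,3,6]),
  (2879,[3,3,2,5,2]),
  (2666,[3,3,2,5,4]),
  (3794,[3,3,2,6,2]),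
  (2870,[3,3,2,6,3]),
  (1552,[3,3,3,0,3]),
  (3258,[3,3,3,2,1]),
  (3711,[3,3,3,2,5]),
  (1025,[3,3,3,2,6]),
  (3263,[3,3,3,3,0]),
  (1673,[3,3,3,3,2]),
  (359,[3,3,3,3,4]),
  (2431,[3,3,3,5,1]),
  (3655,[3,3,3,5,2]),
  (879,[3,3,3,5,3]),
  (3526,[3,3,3,6,1]),
  (216,[3,3,4,0,0]),
  (2665,[3,3,5,0,1]),
  (2306,[3,3,5,0,3]),
  (2637,[3,3,5,1,1]),
  (434,[3,3,5,1,3]),
  (1499,[3,3,5,1,4]),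
  (3555,[3,3,5,1,6]),
  (2027,[3,3,5,2,0]),
  (2544,[3,3,5,2,1]),
  (1480,[3,3,5,2,2]),
  (3889,[3,3,5,3,0]),
  (1945,[3,3,6,0,5]),
  (2789,[3,3,6,0,6]),
  (794,[3,3,6,1,1]),
  (220,[3,3,6,5,3]),
  (1063,[3,4,0,2,2]),
  (3790,[3,4,0,2,5]),
  (3405,[3,4,0,2,6]),
  (2716,[3,4,0,3,0]),
  (1186,[3,4,0,3,3]),
  (65,[3,4,0,5,4]),
  (10,[3,4,0,6,5]),
  (2928,[3,4,2,0,0]),
  (3439,[3,4,2,0,2]),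
  (1379,[3,4,2,0,3]),
  (2894,[3,4,2,0,5]),
  (3248,[3,4,2,0,6]),
  (3215,[3,4,2,2,0]),
  (597,[3,4,2,3,4]),
  (780,[3,4,2,3,5]),
  (2414,[3,4,2,5,0]),
  (816,[3,4,2,5,3]),
  (3133,[3,4,2,6,1]),
  (2619,[3,4,3,0,0]),
  (3037,[3,4,3,0,5]),
  (2992,[3,4,3,2,2]),
  (3475,[3,4,3,2,4]),
  (3165,[3,4,3,4,0]),
  (3758,[3,4,5,2,0]),
  (2433,[3,4,5,2,2]),
  (1954,[3,4,6,2,0]),
  (2808,[3,4,6,3,3]),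
  (1933,[3,4,6,4,0]),
  (3228,[3,4,6,4,2]),
  (2890,[3,4,6,5,1]),
  (2021,[3,5,0,0,0]),
  (2972,[3,5,0,0,1]),
  (1944,[3,5,0,0,2])]

/-- part 26 of `kOrb1_0` -/
noncomputable def kOrb1_0P26 : List (ℕ × List ℕ) := [
  (1191,[3,5,0,0,5]),
  (2916,[3,5,0,0,6]),
  (2084,[3,5,0,1,2]),
  (3822,[3,5,0,1,6]),
  (601,[3,5,0,2,1]),
  (3741,[3,5,0,2,4]),
  (1542,[3,5,0,3,3]),
  (438,[3,5,0,4,0]),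
  (2852,[3,5,0,4,2]),
  (567,[3,5,0,6,1]),
  (346,[3,5,0,6,2]),
  (1912,[3,5,1,0,0]),
  (1149,[3,5,1,2,2]),
  (3657,[3,5,1,3,0]),
  (2203,[3,5,1,3,5]),
  (3466,[3,5,1,4,4]),
  (1626,[3,5,1,4,6]),
  (1844,[3,5,2,0,0]),
  (2537,[3,5,2,0,1]),
  (950,[3,5,2,0,3]),
  (3839,[3,5,2,0,4]),
  (1171,[3,5,2,0,6]),
  (60,[3,5,2,1,0]),
  (3190,[3,5,2,2,5]),
  (2015,[3,5,2,4,0]),
  (2524,[3,5,2,4,2]),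
  (1725,[3,5,2,6,0]),
  (781,[3,5,2,6,1]),
  (3512,[3,5,2,6,2]),
  (3297,[3,5,3,0,1]),
  (3380,[3,5,3,0,2]),
  (1218,[3,5,3,2,3]),
  (763,[3,5,3,2,4]),
  (3183,[3,5,3,2,6]),
  (3292,[3,5,3,5,2]),
  (944,[3,5,3,5,6]),
  (1612,[3,5,4,0,6]),
  (3044,[3,5,6,1,0]),
  (612,[3,5,6,1,6]),
  (2626,[3,5,6,2,3]),
  (3835,[3,6,0,1,0]),
  (3323,[3,6,0,3,3]),
  (666,[3,6,0,3,5]),
  (1746,[3,6,0,5,3]),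
  (1596,[3,6,0,5,6]),
  (1501,[3,6,0,6,4]),
  (1751,[3,6,0,6,5]),
  (3017,[3,6,1,2,3]),
  (2903,[3,6,1,3,0]),
  (324,[3,6,1,3,2]),
  (2858,[3,6,1,3,6]),
  (2502,[3,6,1,4,3]),
  (2344,[3,6,1,5,3]),
  (2181,[3,6,2,1,5]),
  (1077,[3,6,2,2,5]),
  (1788,[3,6,2,3,2]),
  (3781,[3,6,2,4,2]),
  (1246,[3,6,2,5,2]),
  (1208,[3,6,3,0,5]),
  (3837,[3,6,3,5,1]),
  (1199,[3,6,3,5,2]),
  (2007,[3,6,3,5,3]),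
  (1749,[3,6,3,5,6]),
  (1618,[3,6,4,0,0]),
  (3674,[3,6,4,3,0]),
  (1312,[3,6,4,3,2]),
  (1641,[3,6,4,3,4]),
  (3321,[3,6,4,3,5]),
  (190,[3,6,5,1,0]),
  (12,[3,6,5,2,4]),
  (2206,[3,6,5,3,4]),
  (3537,[0,0,1,0,0,0]),
  (1771,[0,0,1,0,2,4]),
  (2125,[0,0,1,0,3,4]),
  (1948,[0,0,1,0,4,0]),
  (702,[0,0,1,0,4,3]),
  (3588,[0,0,1,0,5,0]),
  (1812,[0,0,1,0,5,1]),
  (2233,[0,0,1,0,5,2]),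
  (3107,[0,0,1,0,5,6]),
  (545,[0,0,1,0,6,1]),
  (838,[0,0,1,0,6,2]),
  (487,[0,0,1,0,6,5]),
  (791,[0,0,1,0,6,6]),
  (3298,[0,0,1,1,0,3]),
  (1785,[0,0,1,1,1,1]),
  (3775,[0,0,1,1,6,3]),
  (1220,[0,0,1,2,4,0]),
  (2162,[0,0,1,2,4,4]),
  (3450,[0,0,1,2,5,0]),
  (1059,[0,0,1,2,5,2]),
  (3659,[0,0,1,3,2,1]),
  (2243,[0,0,1,3,3,3]),
  (988,[0,0,1,3,3,4]),
  (2661,[0,0,1,3,3,6]),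
  (1923,[0,0,1,3,5,2]),
  (2558,[0,0,1,4,0,3]),
  (2345,[0,0,1,4,2,0]),
  (2516,[0,0,1,4,5,0]),
  (1145,[0,0,1,4,5,1])]

/-- part 27 of `kOrb1_0` -/
noncomputable def kOrb1_0P27 : List (ℕ × List ℕ) := [
  (2981,[0,0,1,5,0,4]),
  (1932,[0,0,1,5,2,1]),
  (1151,[0,0,1,5,6,1]),
  (3257,[0,0,1,5,6,3]),
  (3359,[0,0,1,6,1,2]),
  (1549,[0,0,1,6,1,3]),
  (1336,[0,0,1,6,2,5]),
  (3288,[0,0,2,1,1,1]),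
  (2002,[0,0,2,1,5,0]),
  (2127,[0,0,2,1,5,1]),
  (2564,[0,0,2,1,5,6]),
  (2312,[0,0,2,1,6,1]),
  (1808,[0,0,2,1,6,5]),
  (3334,[0,0,2,1,6,6]),
  (205,[0,0,2,2,2,5]),
  (3521,[0,0,2,2,4,0]),
  (3084,[0,0,2,3,2,2]),
  (1554,[0,0,2,3,2,5]),
  (2360,[0,0,2,3,3,5]),
  (1000,[0,0,2,3,6,5]),
  (2425,[0,0,2,4,0,2]),
  (2328,[0,0,2,4,2,0]),
  (1894,[0,0,2,4,2,3]),
  (3327,[0,0,2,4,5,4]),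
  (2208,[0,0,2,5,0,4]),
  (1610,[0,0,2,5,1,1]),
  (2999,[0,0,2,5,4,0]),
  (382,[0,0,2,5,4,6]),
  (2759,[0,0,2,5,6,4]),
  (3871,[0,0,2,6,0,6]),
  (3683,[0,0,2,6,2,4]),
  (2820,[0,0,2,6,2,5]),
  (2277,[0,0,2,6,3,3]),
  (1302,[0,0,2,6,3,4]),
  (1630,[0,0,2,6,4,0]),
  (1210,[0,0,2,6,4,2]),
  (1930,[0,0,3,0,0,0]),
  (2165,[0,0,3,0,5,1]),
  (1625,[0,0,3,2,2,5]),
  (1707,[0,0,3,2,4,3]),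
  (2701,[0,0,3,2,4,6]),
  (777,[0,0,3,2,5,6]),
  (471,[0,0,3,2,6,1]),
  (1526,[0,0,3,2,6,2]),
  (1546,[0,0,3,3,2,3]),
  (2501,[0,0,3,3,3,4]),
  (711,[0,0,3,3,3,5]),
  (667,[0,0,3,3,5,1]),
  (2141,[0,0,3,3,5,4]),
  (1241,[0,0,3,4,3,3]),
  (2706,[0,0,3,4,3,4]),
  (229,[0,0,3,4,5,2]),
  (2653,[0,0,3,4,5,3]),
  (790,[0,0,3,4,5,4]),
  (1833,[0,0,3,5,0,1]),
  (1486,[0,0,3,5,0,4]),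
  (3568,[0,0,3,5,0,6]),
  (3702,[0,0,3,6,0,0]),
  (3895,[0,0,3,6,0,5]),
  (1099,[0,0,3,6,0,6]),
  (2543,[0,0,3,6,2,1]),
  (1824,[0,0,3,6,2,2]),
  (2307,[0,0,5,0,1,1]),
  (2910,[0,0,5,0,5,1]),
  (2271,[0,0,5,1,1,5]),
  (2963,[0,0,5,1,2,4]),
  (2749,[0,0,5,1,2,6]),
  (3747,[0,0,5,2,1,4]),
  (2019,[0,0,5,2,2,1]),
  (687,[0,0,5,2,4,0]),
  (1646,[0,0,5,2,5,4]),
  (1508,[0,0,5,2,6,0]),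
  (2756,[0,0,5,2,6,5]),
  (897,[0,0,5,3,0,0]),
  (2734,[0,0,5,3,5,1]),
  (3761,[0,0,5,3,5,3]),
  (1977,[0,0,5,3,5,4]),
  (1098,[0,0,5,4,0,5]),
  (3856,[0,0,5,4,3,4]),
  (3594,[0,1,0,0,4,3]),
  (2073,[0,1,0,0,6,2]),
  (3128,[0,1,0,0,6,5]),
  (2545,[0,1,0,0,6,6]),
  (3796,[0,1,0,1,1,1]),
  (3295,[0,1,0,3,4,0]),
  (1927,[0,1,0,3,5,4]),
  (2829,[0,1,0,3,6,4]),
  (3644,[0,1,0,4,5,1]),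
  (3238,[0,1,0,4,5,6]),
  (1240,[0,1,0,5,6,1]),
  (1934,[0,1,0,5,6,3]),
  (1044,[0,1,0,6,2,4]),
  (1619,[0,1,0,6,2,6]),
  (3230,[0,1,0,6,3,5]),
  (902,[0,1,0,6,6,4]),
  (3151,[0,1,1,0,1,1]),
  (1258,[0,1,1,0,1,3]),
  (1651,[0,1,1,1,1,0]),
  (3894,[0,1,1,1,1,2]),
  (3810,[0,1,1,1,1,5])]

/-- part 28 of `kOrb1_0` -/
noncomputable def kOrb1_0P28 : List (ℕ × List ℕ) := [
  (2744,[0,1,1,1,2,3]),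
  (3326,[0,1,1,1,2,6]),
  (3744,[0,1,1,1,3,5]),
  (1468,[0,1,1,1,5,0]),
  (1786,[0,1,1,1,5,1]),
  (2280,[0,1,1,1,5,2]),
  (1484,[0,1,1,1,6,0]),
  (3097,[0,1,1,1,6,1]),
  (3385,[0,1,1,2,1,6]),
  (1159,[0,1,1,2,2,5]),
  (78,[0,1,1,2,5,0]),
  (1522,[0,1,1,2,5,6]),
  (3723,[0,1,1,2,6,3]),
  (2541,[0,1,1,3,0,1]),
  (3646,[0,1,1,5,0,0]),
  (2909,[0,1,1,5,0,5]),
  (1875,[0,1,1,5,1,4]),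
  (3640,[0,1,1,5,2,0]),
  (789,[0,1,1,5,2,2]),
  (587,[0,1,1,5,4,3]),
  (2349,[0,1,2,1,4,0]),
  (699,[0,1,2,1,6,1]),
  (3455,[0,1,2,1,6,4]),
  (3339,[0,1,2,2,1,5]),
  (894,[0,1,2,2,1,6]),
  (3688,[0,1,2,2,3,2]),
  (615,[0,1,2,2,3,4]),
  (3476,[0,1,2,2,5,2]),
  (2161,[0,1,2,2,6,2]),
  (3023,[0,1,2,3,3,5]),
  (2993,[0,1,2,3,6,1]),
  (1634,[0,1,2,4,2,4]),
  (978,[0,1,2,4,6,1]),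
  (1713,[0,1,2,4,6,5]),
  (2064,[0,1,2,5,1,4]),
  (3357,[0,1,2,5,1,5]),
  (1698,[0,1,2,5,2,1]),
  (3404,[0,1,2,5,2,3]),
  (1616,[0,1,2,5,4,3]),
  (1205,[0,1,2,6,0,5]),
  (1198,[0,1,2,6,0,6]),
  (3370,[0,1,2,6,3,2]),
  (1620,[0,1,2,6,3,6]),
  (3154,[0,1,3,0,5,3]),
  (2614,[0,1,3,0,5,4]),
  (2779,[0,1,3,0,6,2]),
  (2906,[0,1,3,2,2,6]),
  (2950,[0,1,3,2,3,2]),
  (1820,[0,1,3,2,3,4]),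
  (2655,[0,1,3,3,2,5]),
  (1870,[0,1,3,3,4,2]),
  (1512,[0,1,3,3,6,4]),
  (1635,[0,1,3,4,2,5]),
  (3729,[0,1,3,5,0,1]),
  (2784,[0,1,3,5,0,2]),
  (1902,[0,1,3,5,1,0]),
  (960,[0,1,3,5,1,2]),
  (3653,[0,1,3,5,2,0]),
  (695,[0,1,3,5,2,5]),
  (3261,[0,1,3,6,0,0]),
  (1591,[0,1,3,6,1,2]),
  (3883,[0,1,3,6,2,0]),
  (2377,[0,1,3,6,2,1]),
  (2730,[0,1,3,6,2,4]),
  (498,[0,1,3,6,2,5]),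
  (1715,[0,1,3,6,2,6]),
  (1274,[0,1,3,6,3,3]),
  (3234,[0,1,3,6,3,6]),
  (203,[0,1,3,6,4,3]),
  (2966,[0,1,3,6,6,5]),
  (2628,[0,1,4,0,4,2]),
  (1604,[0,1,4,2,5,3]),
  (3174,[0,1,4,2,6,4]),
  (1803,[0,1,4,2,6,6]),
  (779,[0,1,4,3,0,0]),
  (1973,[0,1,4,4,0,0]),
  (2559,[0,1,4,4,2,0]),
  (3212,[0,1,4,4,2,6]),
  (730,[0,1,4,4,3,6]),
  (2960,[0,1,4,4,5,3]),
  (1319,[0,1,4,4,5,6]),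
  (3251,[0,1,4,4,6,2]),
  (3624,[0,1,4,4,6,3]),
  (847,[0,1,4,5,1,2]),
  (3266,[0,1,4,5,1,4]),
  (490,[0,1,4,5,1,5]),
  (1750,[0,1,4,5,1,6]),
  (3219,[0,1,4,6,1,2]),
  (1308,[0,1,4,6,1,3]),
  (634,[0,1,5,0,0,4]),
  (2291,[0,1,5,1,0,0]),
  (1521,[0,1,5,1,0,5]),
  (2207,[0,1,5,1,1,6]),
  (1603,[0,1,5,2,0,2]),
  (3432,[0,1,5,2,3,4]),
  (1770,[0,1,5,3,0,6]),
  (200,[0,1,5,3,2,6]),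
  (1911,[0,1,5,3,3,5]),
  (1407,[0,1,5,3,4,2]),
  (3848,[0,1,5,3,4,5])]

/-- part 29 of `kOrb1_0` -/
noncomputable def kOrb1_0P29 : List (ℕ × List ℕ) := [
  (3771,[0,1,5,3,5,3]),
  (1101,[0,1,5,3,5,4]),
  (1494,[0,1,5,6,0,0]),
  (1950,[0,1,5,6,1,3]),
  (1360,[0,1,5,6,1,5]),
  (2817,[0,1,5,6,3,0]),
  (3798,[0,1,6,0,0,1]),
  (637,[0,1,6,0,1,2]),
  (588,[0,1,6,0,2,6]),
  (2030,[0,1,6,0,6,1]),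
  (2075,[0,1,6,0,6,2]),
  (2319,[0,1,6,1,0,0]),
  (3362,[0,1,6,1,3,5]),
  (2066,[0,1,6,2,1,5]),
  (3053,[0,1,6,2,2,1]),
  (2736,[0,1,6,2,3,3]),
  (3374,[0,2,0,0,5,4]),
  (3636,[0,2,0,1,5,0]),
  (1847,[0,2,0,3,4,6]),
  (1609,[0,2,0,3,5,1]),
  (1476,[0,2,0,3,5,6]),
  (1949,[0,2,0,4,0,0]),
  (901,[0,2,0,4,2,5]),
  (2842,[0,2,0,4,3,5]),
  (2901,[0,2,0,4,5,1]),
  (1874,[0,2,0,5,0,6]),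
  (2119,[0,2,0,5,1,5]),
  (1584,[0,2,0,5,6,2]),
  (3171,[0,2,0,5,6,3]),
  (2939,[0,2,0,5,6,6]),
  (3179,[0,2,0,6,3,0]),
  (706,[0,2,0,6,4,2]),
  (1224,[0,2,1,1,1,6]),
  (2298,[0,2,1,2,2,2]),
  (606,[0,2,1,2,2,5]),
  (595,[0,2,1,2,2,6]),
  (3823,[0,2,1,2,5,1]),
  (1655,[0,2,1,2,6,1]),
  (134,[0,2,1,4,0,4]),
  (3426,[0,2,1,4,2,3]),
  (3589,[0,2,1,4,2,4]),
  (3192,[0,2,1,4,3,5]),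
  (2832,[0,2,1,4,5,2]),
  (2873,[0,2,1,4,6,4]),
  (1544,[0,2,1,5,2,1]),
  (2723,[0,2,1,5,2,3]),
  (2143,[0,2,1,6,2,1]),
  (1553,[0,2,1,6,5,1]),
  (1660,[0,2,2,1,2,4]),
  (1492,[0,2,2,1,6,1]),
  (1910,[0,2,2,2,2,3]),
  (983,[0,2,2,3,3,5]),
  (3746,[0,2,2,5,0,2]),
  (1238,[0,2,2,5,2,1]),
  (2318,[0,2,2,5,2,4]),
  (2657,[0,2,2,5,3,2]),
  (3445,[0,2,2,6,0,5]),
  (1550,[0,2,2,6,2,2]),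
  (3085,[0,2,3,2,2,5]),
  (712,[0,2,3,2,4,0]),
  (3704,[0,2,3,2,4,5]),
  (3471,[0,2,3,2,5,1]),
  (1611,[0,2,3,3,0,5]),
  (206,[0,2,3,3,3,5]),
  (2996,[0,2,3,4,0,2]),
  (2342,[0,2,3,4,2,1]),
  (776,[0,2,3,4,2,4]),
  (1565,[0,2,3,4,2,6]),
  (3381,[0,2,3,4,5,0]),
  (1388,[0,2,3,4,5,3]),
  (758,[0,2,3,4,6,0]),
  (2422,[0,2,3,4,6,5]),
  (1876,[0,2,3,5,1,2]),
  (2914,[0,2,3,6,5,0]),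
  (696,[0,2,4,0,0,2]),
  (1293,[0,2,4,0,4,5]),
  (2144,[0,2,4,0,5,4]),
  (1815,[0,2,4,2,0,3]),
  (2237,[0,2,4,2,5,4]),
  (2131,[0,2,4,3,3,6]),
  (834,[0,2,4,3,6,0]),
  (1488,[0,2,4,6,0,6]),
  (2107,[0,2,4,6,2,6]),
  (192,[0,2,6,0,6,4]),
  (565,[0,2,6,1,1,5]),
  (2634,[0,2,6,2,5,3]),
  (768,[0,2,6,3,4,2]),
  (1530,[0,2,6,3,5,1]),
  (469,[0,2,6,3,5,2]),
  (2668,[0,2,6,5,2,4]),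
  (2072,[0,3,0,2,5,1]),
  (2557,[0,3,0,5,6,6]),
  (1901,[0,3,2,1,6,0]),
  (17,[0,3,2,2,2,5]),
  (1896,[0,3,2,2,4,3]),
  (3660,[0,3,2,2,5,6]),
  (1493,[0,3,2,3,3,5]),
  (1211,[0,3,2,6,5,1]),
  (1529,[0,3,3,0,3,5]),
  (1848,[0,3,3,2,1,5])]

/-- part 30 of `kOrb1_0` -/
noncomputable def kOrb1_0P30 : List (ℕ × List ℕ) := [
  (194,[0,3,3,2,2,5]),
  (3150,[0,3,3,3,2,3]),
  (183,[0,3,3,3,5,1]),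
  (1026,[0,3,3,4,2,4]),
  (3453,[0,3,3,5,4,0]),
  (1639,[0,3,5,0,2,4]),
  (1993,[0,3,5,3,0,3]),
  (1719,[0,3,5,6,5,3]),
  (1060,[0,3,6,1,5,2]),
  (1490,[0,3,6,2,4,3]),
  (1572,[0,3,6,2,4,6]),
  (2791,[0,5,0,1,2,5]),
  (3446,[0,5,0,1,5,1]),
  (1881,[0,5,0,1,5,3]),
  (2009,[0,5,0,3,0,3]),
  (2988,[0,5,0,3,2,5]),
  (2117,[0,5,0,5,1,1]),
  (3250,[0,5,0,5,1,4]),
  (3882,[0,5,1,0,6,2]),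
  (3338,[0,5,1,3,6,0]),
  (1942,[0,5,1,5,0,3]),
  (866,[0,5,1,5,1,0]),
  (1897,[0,5,1,6,1,0]),
  (3623,[0,5,1,6,1,2]),
  (1170,[0,5,2,3,2,5]),
  (984,[0,5,2,5,6,0]),
  (2104,[0,5,3,4,2,5]),
  (191,[0,5,3,4,6,5]),
  (3349,[0,5,3,5,0,6]),
  (2587,[0,5,3,5,6,6]),
  (3340,[0,5,4,0,5,2]),
  (2778,[0,5,4,3,6,2]),
  (3156,[0,5,4,6,2,2]),
  (1967,[0,6,1,0,1,4]),
  (1540,[0,6,1,0,4,0]),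
  (3035,[0,6,1,0,6,6]),
  (3337,[0,6,1,1,0,3]),
  (1637,[0,6,1,1,3,0]),
  (2400,[0,6,1,2,3,2]),
  (2292,[0,6,1,4,2,0]),
  (1344,[0,6,1,4,3,3]),
  (1706,[0,6,2,3,2,3]),
  (202,[0,6,2,4,0,0]),
  (3884,[0,6,2,4,0,3]),
  (982,[0,6,2,4,2,3]),
  (1806,[0,6,2,5,1,3]),
  (560,[0,6,3,0,3,5]),
  (1559,[0,6,3,0,5,6]),
  (1752,[0,6,3,2,2,6]),
  (293,[0,6,3,2,3,2]),
  (1994,[0,6,3,4,0,6]),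
  (1614,[0,6,3,4,6,3]),
  (2121,[0,6,3,5,1,3]),
  (2555,[0,6,3,6,3,5]),
  (1964,[0,6,4,0,0,2]),
  (2158,[0,6,4,0,1,0]),
  (2588,[0,6,4,3,0,2]),
  (491,[0,6,4,3,2,4]),
  (3076,[0,6,5,0,5,0]),
  (3693,[1,0,0,6,1,4]),
  (2980,[1,0,0,6,4,3]),
  (2932,[1,0,1,1,5,0]),
  (2683,[1,0,1,3,4,5]),
  (3289,[1,0,1,4,6,6]),
  (2156,[1,0,1,5,0,2]),
  (3196,[1,0,1,5,4,2]),
  (2935,[1,0,2,2,2,5]),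
  (1608,[1,0,2,2,6,1]),
  (1900,[1,0,3,4,4,2]),
  (3265,[1,0,3,5,0,2]),
  (3166,[1,0,3,6,4,2]),
  (294,[1,0,4,0,0,4]),
  (3184,[1,0,4,0,4,3]),
  (914,[1,0,4,5,1,5]),
  (748,[1,0,4,5,2,4]),
  (3119,[1,0,4,6,0,4]),
  (1918,[1,0,4,6,0,6]),
  (3721,[1,0,5,1,1,6]),
  (3766,[1,0,5,3,4,5]),
  (2201,[1,0,5,6,1,2]),
  (843,[1,0,5,6,1,5]),
  (3074,[1,0,5,6,1,6]),
  (2160,[1,0,6,2,2,1]),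
  (2396,[1,0,6,2,2,4]),
  (3662,[1,0,6,5,1,4]),
  (3473,[1,1,1,0,1,1]),
  (1355,[1,1,1,2,5,3]),
  (3630,[1,1,1,2,6,0]),
  (981,[1,1,1,3,6,0]),
  (1172,[1,1,2,1,5,0]),
  (1983,[1,1,2,3,4,4]),
  (2194,[1,1,2,4,6,2]),
  (1638,[1,1,2,5,1,5]),
  (2782,[1,1,2,5,2,6]),
  (1764,[1,1,2,6,6,4]),
  (3629,[1,2,2,1,6,0]),
  (3593,[1,2,2,2,5,0]),
  (564,[1,2,2,3,6,2]),
  (2049,[1,2,2,5,6,2]),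
  (470,[1,2,2,6,0,1])]

/-- part 31 of `kOrb1_0` -/
noncomputable def kOrb1_0P31 : List (ℕ × List ℕ) := [
  (3333,[1,2,2,6,4,6]),
  (1937,[1,2,2,6,5,1]),
  (1123,[1,2,3,4,4,2]),
  (2231,[1,2,3,6,2,6]),
  (2799,[1,2,4,0,2,5]),
  (2213,[1,2,4,3,3,4]),
  (632,[1,2,4,5,2,2]),
  (1451,[1,2,5,6,1,1]),
  (3018,[1,2,6,0,5,2]),
  (542,[1,3,0,5,2,0]),
  (3040,[1,3,3,4,2,0]),
  (3284,[1,3,3,6,0,1]),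
  (468,[1,3,4,3,3,0]),
  (3692,[1,3,6,0,0,1]),
  (697,[1,3,6,2,0,6]),
  (3253,[1,4,5,1,6,1]),
  (496,[2,0,0,0,5,1]),
  (3619,[2,0,0,4,5,1]),
  (2063,[2,1,1,5,1,6]),
  (644,[2,1,2,2,6,1]),
  (1263,[2,2,0,4,2,5]),
  (1909,[2,2,4,0,3,2]),
  (2900,[2,3,3,5,6,0]),
  (3897,[2,4,0,6,2,6]),
  (1056,[2,6,0,1,4,3])]

/-- certificate data -/
noncomputable def kOrb1_0 : List (ℕ × List ℕ) :=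
  [kOrb1_0P0, kOrb1_0P1, kOrb1_0P2, kOrb1_0P3, kOrb1_0P4, kOrb1_0P5, kOrb1_0P6, kOrb1_0P7, kOrb1_0P8, kOrb1_0P9, kOrb1_0P10, kOrb1_0P11, kOrb1_0P12, kOrb1_0P13, kOrb1_0P14, kOrb1_0P15, kOrb1_0P16, kOrb1_0P17, kOrb1_0P18, kOrb1_0P19, kOrb1_0P20, kOrb1_0P21, kOrb1_0P22, kOrb1_0P23, kOrb1_0P24, kOrb1_0P25, kOrb1_0P26, kOrb1_0P27, kOrb1_0P28, kOrb1_0P29, kOrb1_0P30, kOrb1_0P31].flatten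

/-- part 0 of `kOrb1_1` -/
noncomputable def kOrb1_1P0 : List (ℕ × List ℕ) := [
  (13,[]),
  (14,[0]),
  (303,[1]),
  (11,[0,0]),
  (578,[0,1]),
  (745,[0,2]),
  (215,[1,0]),
  (332,[1,2]),
  (65,[0,0,0]),
  (896,[0,1,0]),
  (610,[0,2,0]),
  (339,[0,2,1]),
  (744,[1,0,2]),
  (372,[1,2,0]),
  (10,[1,2,1]),
  (305,[1,2,2]),
  (612,[0,0,0,1]),
  (579,[0,0,0,2]),
  (333,[0,1,0,2]),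
  (67,[0,2,0,1]),
  (216,[0,2,1,0]),
  (611,[1,0,2,0]),
  (66,[1,2,1,0]),
  (12,[1,2,2,1])]

/-- certificate data -/
noncomputable def kOrb1_1 : List (ℕ × List ℕ) :=
  [kOrb1_1P0].flatten

/-- part 0 of `kOrb1_2` -/
noncomputable def kOrb1_2P0 : List (ℕ × List ℕ) := [
  (65,[]),
  (579,[0]),
  (372,[0,0]),
  (578,[0,0,0])]

/-- certificate data -/
noncomputable def kOrb1_2 : List (ℕ × List ℕ) :=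
  [kOrb1_2P0].flatten

/-- orbits of state 1 -/
noncomputable def kLevs1 : List (ℕ × List (ℕ × List ℕ)) := [(2, kOrb1_0), (13, kOrb1_1), (65, kOrb1_2)]

/-- stabiliser words of state 2 -/
noncomputable def kWit2 : List (List (List (ℕ × Bool))) := [
  [[(17,false)],[(18,false)],[(72,false)],[(18,false),(72,false),(17,true),(17,true),(72,false),(18,true)]],
  [[(18,false),(72,false),(17,true),(17,true),(72,false),(18,true)]]]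

/-- part 0 of `kOrb2_0` -/
noncomputable def kOrb2_0P0 : List (ℕ × List ℕ) := [
  (13,[]),
  (67,[0]),
  (332,[1]),
  (2212,[2]),
  (12,[0,0]),
  (578,[0,1]),
  (2090,[0,2]),
  (2708,[0,3]),
  (215,[1,0]),
  (3,[1,2]),
  (305,[1,3]),
  (3401,[2,0]),
  (2462,[2,1]),
  (66,[0,0,0]),
  (303,[0,0,1]),
  (2206,[0,0,2]),
  (3083,[0,0,3]),
  (611,[0,1,0]),
  (2636,[0,1,2]),
  (595,[0,1,3]),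
  (2077,[0,2,0]),
  (229,[0,2,1]),
  (3024,[0,2,3]),
  (3821,[0,3,0]),
  (3433,[0,3,1]),
  (745,[1,0,1]),
  (2009,[1,0,2]),
  (1,[1,2,0]),
  (4,[1,2,1]),
  (3084,[1,2,3]),
  (372,[1,3,0]),
  (3644,[1,3,2]),
  (1375,[1,3,3]),
  (597,[2,0,1]),
  (3829,[2,0,2]),
  (3339,[2,0,3]),
  (780,[2,1,0]),
  (9,[2,1,2]),
  (3226,[2,1,3]),
  (10,[0,0,0,0]),
  (744,[0,0,0,1]),
  (3419,[0,0,0,2]),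
  (2027,[0,0,0,3]),
  (333,[0,0,1,0]),
  (3487,[0,0,2,0]),
  (2915,[0,0,2,1]),
  (2690,[0,0,2,3]),
  (587,[0,0,3,0]),
  (3579,[0,0,3,1]),
  (1916,[0,0,3,3]),
  (1636,[0,1,0,2]),
  (2622,[0,1,0,3]),
  (1336,[0,1,2,0]),
  (3883,[0,1,2,1]),
  (2791,[0,2,0,0]),
  (2818,[0,2,0,1]),
  (3885,[0,2,0,2]),
  (2487,[0,2,0,3]),
  (3022,[0,2,1,2]),
  (778,[0,2,1,3]),
  (2631,[0,2,3,0]),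
  (3472,[0,2,3,1]),
  (2692,[0,3,0,0]),
  (3772,[0,3,0,1]),
  (3857,[0,3,0,2]),
  (355,[0,3,0,3]),
  (2740,[0,3,1,0]),
  (3588,[0,3,1,2]),
  (612,[0,3,1,3]),
  (2500,[1,0,1,2]),
  (2621,[1,0,1,3]),
  (2034,[1,0,2,0]),
  (3019,[1,0,2,1]),
  (7,[1,2,0,1]),
  (3622,[1,2,0,2]),
  (5,[1,2,1,0]),
  (2729,[1,2,1,2]),
  (1626,[1,2,1,3]),
  (3081,[1,2,3,0]),
  (3807,[1,2,3,1]),
  (3776,[1,2,3,3]),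
  (579,[1,3,0,1]),
  (1676,[1,3,0,2]),
  (3767,[1,3,0,3]),
  (975,[1,3,2,1]),
  (2785,[1,3,3,0]),
  (3020,[1,3,3,1]),
  (846,[2,0,1,0]),
  (2571,[2,0,1,2]),
  (3425,[2,0,2,0]),
  (3587,[2,0,2,1]),
  (2997,[2,0,3,0]),
  (2130,[2,0,3,1]),
  (596,[2,1,0,1]),
  (8,[2,1,2,0]),
  (39,[2,1,2,1]),
  (3329,[2,1,2,3]),
  (1695,[2,1,3,2]),
  (1312,[2,1,3,3]),
  (65,[0,0,0,0,0])]

/-- part 1 of `kOrb2_0` -/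
noncomputable def kOrb2_0P1 : List (ℕ × List ℕ) := [
  (216,[0,0,0,0,1]),
  (3218,[0,0,0,0,2]),
  (909,[0,0,0,1,2]),
  (2359,[0,0,0,2,1]),
  (2755,[0,0,0,3,0]),
  (3300,[0,0,0,3,2]),
  (2491,[0,0,0,3,3]),
  (896,[0,0,1,0,1]),
  (3006,[0,0,1,0,2]),
  (1130,[0,0,2,0,0]),
  (1264,[0,0,2,0,2]),
  (570,[0,0,2,0,3]),
  (3497,[0,0,2,3,0]),
  (3085,[0,0,2,3,1]),
  (3082,[0,0,3,0,0]),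
  (628,[0,0,3,0,1]),
  (47,[0,0,3,0,2]),
  (2547,[0,0,3,0,3]),
  (1461,[0,0,3,1,0]),
  (231,[0,0,3,3,0]),
  (3395,[0,0,3,3,1]),
  (1666,[0,1,0,2,0]),
  (795,[0,1,0,2,1]),
  (2200,[0,1,0,3,1]),
  (339,[0,1,0,3,2]),
  (2003,[0,1,0,3,3]),
  (2319,[0,1,2,0,0]),
  (3015,[0,1,2,0,1]),
  (2745,[0,1,2,0,2]),
  (1611,[0,1,2,0,3]),
  (1388,[0,1,2,1,0]),
  (3468,[0,1,2,1,2]),
  (3889,[0,1,2,1,3]),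
  (2109,[0,2,0,0,0]),
  (3428,[0,2,0,0,3]),
  (2897,[0,2,0,1,0]),
  (1990,[0,2,0,2,1]),
  (2217,[0,2,0,2,3]),
  (2579,[0,2,0,3,1]),
  (3016,[0,2,0,3,2]),
  (2134,[0,2,1,2,0]),
  (999,[0,2,1,3,2]),
  (956,[0,2,1,3,3]),
  (1569,[0,2,3,0,1]),
  (334,[0,2,3,0,2]),
  (1001,[0,2,3,0,3]),
  (3830,[0,2,3,1,0]),
  (2641,[0,2,3,1,2]),
  (856,[0,2,3,1,3]),
  (2709,[0,3,0,0,0]),
  (356,[0,3,0,0,3]),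
  (2565,[0,3,0,1,0]),
  (3080,[0,3,0,2,1]),
  (727,[0,3,0,3,0]),
  (329,[0,3,0,3,1]),
  (794,[0,3,0,3,2]),
  (3711,[0,3,0,3,3]),
  (3558,[0,3,1,0,1]),
  (1567,[0,3,1,2,0]),
  (3884,[0,3,1,2,1]),
  (2535,[0,3,1,2,3]),
  (3089,[0,3,1,3,2]),
  (2710,[1,0,2,0,2]),
  (1769,[1,0,2,0,3]),
  (2032,[1,0,2,1,2]),
  (6,[1,2,0,1,0]),
  (873,[1,2,0,2,0]),
  (2728,[1,2,0,2,1]),
  (3245,[1,2,0,2,3]),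
  (2578,[1,2,1,2,1]),
  (2733,[1,2,1,2,3]),
  (908,[1,2,3,0,1]),
  (3050,[1,2,3,1,0]),
  (3768,[1,2,3,3,1]),
  (610,[1,3,0,1,0]),
  (3498,[1,3,0,2,0]),
  (3805,[1,3,0,3,0]),
  (1725,[1,3,2,1,2]),
  (2648,[1,3,3,0,2]),
  (2756,[1,3,3,0,3]),
  (2197,[1,3,3,1,2]),
  (11,[1,3,3,1,3]),
  (2372,[2,0,1,0,2]),
  (3406,[2,0,2,0,0]),
  (2707,[2,0,2,0,1]),
  (242,[2,0,2,0,3]),
  (2829,[2,0,3,0,0]),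
  (2076,[2,0,3,1,0]),
  (3109,[2,0,3,1,3]),
  (30,[2,1,2,0,1]),
  (223,[2,1,2,0,2]),
  (40,[2,1,2,1,0]),
  (369,[2,1,2,1,2]),
  (1577,[2,1,2,1,3]),
  (2827,[2,1,2,3,1]),
  (1618,[2,1,3,3,1]),
  (1915,[0,0,0,0,1,2]),
  (3373,[0,0,0,0,1,3]),
  (3332,[0,0,0,0,2,0]),
  (781,[0,0,0,1,2,0])]

/-- part 2 of `kOrb2_0` -/
noncomputable def kOrb2_0P2 : List (ℕ × List ℕ) := [
  (787,[0,0,0,1,2,1]),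
  (1806,[0,0,0,3,2,1]),
  (3153,[0,0,1,0,2,1]),
  (3018,[0,0,2,0,2,1]),
  (3017,[0,0,2,0,3,0]),
  (2175,[0,0,2,0,3,2]),
  (1768,[0,0,2,0,3,3]),
  (2021,[0,0,2,3,0,1]),
  (328,[0,0,2,3,0,3]),
  (1351,[0,0,2,3,1,0]),
  (2497,[0,0,3,0,0,0]),
  (340,[0,0,3,0,2,0]),
  (608,[0,0,3,0,2,1]),
  (2776,[0,0,3,0,2,3]),
  (3898,[0,0,3,0,3,2]),
  (713,[0,0,3,0,3,3]),
  (3258,[0,0,3,1,0,1]),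
  (2074,[0,0,3,3,0,1]),
  (3106,[0,0,3,3,1,0]),
  (609,[0,1,0,2,0,2]),
  (2507,[0,1,0,2,0,3]),
  (2119,[0,1,2,0,0,1]),
  (2548,[0,1,2,0,2,1]),
  (3616,[0,1,2,0,2,3]),
  (2216,[0,1,2,0,3,1]),
  (3693,[0,1,2,1,3,0]),
  (1748,[0,1,2,1,3,2]),
  (3495,[0,2,0,0,3,0]),
  (270,[0,2,0,0,3,3]),
  (1917,[0,2,0,1,0,1]),
  (2005,[0,2,0,2,1,0]),
  (3069,[0,2,1,2,0,2]),
  (232,[0,2,1,3,3,0]),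
  (152,[0,2,3,0,2,1]),
  (779,[0,2,3,0,3,0]),
  (623,[0,3,0,0,3,0]),
  (48,[0,3,0,3,0,2]),
  (368,[0,3,0,3,1,0]),
  (335,[0,3,1,2,0,2]),
  (2792,[1,2,0,2,0,1]),
  (2732,[1,2,0,2,3,1]),
  (729,[1,2,1,2,1,2]),
  (1036,[1,2,1,2,3,1]),
  (1625,[1,2,3,1,0,1]),
  (14,[1,3,0,1,0,1]),
  (629,[1,3,0,1,0,2]),
  (3068,[1,3,3,0,3,1]),
  (1749,[2,0,1,0,2,0]),
  (156,[2,1,2,0,2,3]),
  (300,[2,1,2,1,2,3]),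
  (237,[0,0,3,0,2,0,0]),
  (299,[0,2,0,0,3,0,2])]

/-- certificate data -/
noncomputable def kOrb2_0 : List (ℕ × List ℕ) :=
  [kOrb2_0P0, kOrb2_0P1, kOrb2_0P2].flatten

/-- part 0 of `kOrb2_1` -/
noncomputable def kOrb2_1P0 : List (ℕ × List ℕ) := [
  (0,[]),
  (2778,[0]),
  (3569,[0,0]),
  (3882,[0,0,0])]

/-- certificate data -/
noncomputable def kOrb2_1 : List (ℕ × List ℕ) :=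
  [kOrb2_1P0].flatten

/-- orbits of state 2 -/
noncomputable def kLevs2 : List (ℕ × List (ℕ × List ℕ)) := [(13, kOrb2_0), (0, kOrb2_1)]

/-- stabiliser words of state 3 -/
noncomputable def kWit3 : List (List (List (ℕ × Bool))) := [
  [[(23,false)],[(24,false)],[(57,false),(57,false)],[(24,false),(23,false),(24,true),(57,false)],[(23,true),(57,false),(23,false),(23,false),(24,true),(57,true),(23,false)]],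
  [[(57,false),(57,false)],[(24,false),(23,false),(24,true),(57,false)],[(23,true),(57,false),(23,false),(23,false),(24,true),(57,true),(23,false)]],
  [[(23,true),(57,false),(23,false),(23,false),(24,true),(57,true),(23,false)]]]

/-- part 0 of `kOrb3_0` -/
noncomputable def kOrb3_0P0 : List (ℕ × List ℕ) := [
  (65,[]),
  (579,[0]),
  (216,[1]),
  (372,[0,0]),
  (333,[0,1]),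
  (13,[0,2]),
  (1274,[0,3]),
  (2749,[0,4]),
  (303,[1,0]),
  (578,[1,1]),
  (745,[1,2]),
  (2964,[1,3]),
  (10,[0,0,1]),
  (339,[0,0,2]),
  (7,[0,0,3]),
  (610,[0,1,0]),
  (215,[0,1,2]),
  (1,[0,1,3]),
  (2703,[0,1,4]),
  (612,[0,2,2]),
  (2069,[0,2,3]),
  (2377,[0,3,0]),
  (753,[0,3,1]),
  (1472,[0,3,4]),
  (2070,[0,4,0]),
  (547,[0,4,1]),
  (2067,[0,4,4]),
  (332,[1,0,0]),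
  (774,[1,0,3]),
  (434,[1,0,4]),
  (14,[1,1,1]),
  (5,[1,1,4]),
  (12,[1,2,2]),
  (633,[1,2,4]),
  (1688,[1,3,0]),
  (1060,[1,3,1]),
  (611,[0,0,1,1]),
  (744,[0,0,1,2]),
  (3291,[0,0,1,3]),
  (314,[0,0,1,4]),
  (4,[0,0,3,1]),
  (1894,[0,0,3,4]),
  (67,[0,1,0,0]),
  (66,[0,1,0,1]),
  (2963,[0,1,0,3]),
  (2,[0,1,0,4]),
  (11,[0,1,2,1]),
  (1058,[0,1,4,2]),
  (2072,[0,2,3,0]),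
  (2233,[0,3,0,1]),
  (1471,[0,3,0,2]),
  (305,[0,3,0,3]),
  (2084,[0,3,1,0]),
  (1049,[0,3,1,1]),
  (3639,[0,4,1,0]),
  (2932,[0,4,1,2]),
  (3,[0,4,1,4]),
  (1883,[0,4,4,0]),
  (1892,[1,0,0,3]),
  (1469,[1,0,3,0]),
  (6,[1,1,4,0]),
  (896,[1,2,2,1]),
  (1707,[0,0,1,1,4])]

/-- certificate data -/
noncomputable def kOrb3_0 : List (ℕ × List ℕ) :=
  [kOrb3_0P0].flatten

/-- part 0 of `kOrb3_1` -/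
noncomputable def kOrb3_1P0 : List (ℕ × List ℕ) := [
  (13,[]),
  (612,[0]),
  (2069,[1]),
  (303,[0,0]),
  (633,[0,1]),
  (578,[0,2]),
  (2072,[1,2]),
  (579,[0,0,0]),
  (774,[0,0,1]),
  (434,[0,0,2]),
  (1060,[0,1,2]),
  (216,[0,2,0]),
  (2067,[0,2,1]),
  (5,[0,2,2]),
  (2749,[1,2,0]),
  (1894,[1,2,1]),
  (1,[1,2,2]),
  (1274,[0,0,0,1]),
  (2703,[0,0,2,1]),
  (372,[0,0,2,2]),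
  (1058,[0,1,2,1]),
  (745,[0,1,2,2]),
  (2964,[0,2,0,1]),
  (339,[0,2,2,1]),
  (2070,[1,2,0,1]),
  (4,[1,2,2,0]),
  (333,[1,2,2,1]),
  (1472,[0,0,0,1,2]),
  (12,[0,0,2,1,2]),
  (7,[0,0,2,2,1]),
  (215,[1,2,2,0,1]),
  (753,[0,0,0,1,2,0])]

/-- certificate data -/
noncomputable def kOrb3_1 : List (ℕ × List ℕ) :=
  [kOrb3_1P0].flatten

/-- part 0 of `kOrb3_2` -/
noncomputable def kOrb3_2P0 : List (ℕ × List ℕ) := [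
  (0,[]),
  (919,[0]),
  (921,[0,0])]

/-- certificate data -/
noncomputable def kOrb3_2 : List (ℕ × List ℕ) :=
  [kOrb3_2P0].flatten

/-- orbits of state 3 -/
noncomputable def kLevs3 : List (ℕ × List (ℕ × List ℕ)) := [(65, kOrb3_0), (13, kOrb3_1), (0, kOrb3_2)]

/-- stabiliser words of state 4 -/
noncomputable def kWit4 : List (List (List (ℕ × Bool))) := [
  [[(27,false)],[(28,false)],[(29,false)],[(30,false)],[(60,false)],[(69,false)],[(29,false),(60,true),(69,false),(28,true),(60,false),(69,false)]],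
  [[(29,false),(60,true),(69,false),(28,true),(60,false),(69,false)]]]

/-- part 0 of `kOrb4_0` -/
noncomputable def kOrb4_0P0 : List (ℕ × List ℕ) := [
  (2,[]),
  (854,[0]),
  (2007,[1]),
  (333,[2]),
  (3072,[3]),
  (2398,[4]),
  (2647,[5]),
  (2383,[0,0]),
  (2163,[0,1]),
  (3498,[0,2]),
  (3431,[0,3]),
  (843,[0,4]),
  (366,[0,5]),
  (2744,[0,6]),
  (3541,[1,2]),
  (205,[1,3]),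
  (2637,[1,4]),
  (738,[1,5]),
  (3270,[1,6]),
  (554,[2,0]),
  (3545,[2,1]),
  (339,[2,2]),
  (2189,[2,3]),
  (2915,[2,4]),
  (2951,[2,5]),
  (2526,[2,6]),
  (3652,[3,0]),
  (3618,[3,1]),
  (2845,[3,2]),
  (2236,[3,3]),
  (3269,[3,4]),
  (344,[3,5]),
  (1030,[3,6]),
  (1483,[4,0]),
  (1893,[4,1]),
  (3324,[4,2]),
  (135,[4,3]),
  (1187,[4,4]),
  (3238,[4,5]),
  (2008,[5,0]),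
  (1228,[5,1]),
  (3535,[5,3]),
  (1010,[5,5]),
  (1725,[5,6]),
  (214,[0,0,2]),
  (3550,[0,0,3]),
  (1846,[0,0,4]),
  (3028,[0,0,5]),
  (2334,[0,1,2]),
  (2640,[0,1,3]),
  (2557,[0,1,4]),
  (1243,[0,1,5]),
  (1308,[0,2,0]),
  (2899,[0,2,2]),
  (1298,[0,2,4]),
  (113,[0,2,5]),
  (173,[0,2,6]),
  (2910,[0,3,0]),
  (1467,[0,3,1]),
  (1929,[0,3,2]),
  (1480,[0,3,3]),
  (2880,[0,3,4]),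
  (1662,[0,3,5]),
  (2128,[0,3,6]),
  (2204,[0,4,0]),
  (753,[0,4,1]),
  (1749,[0,4,2]),
  (2024,[0,4,3]),
  (2366,[0,4,4]),
  (3011,[0,4,5]),
  (3694,[0,4,6]),
  (1017,[0,5,0]),
  (825,[0,5,1]),
  (660,[0,5,3]),
  (3640,[0,5,5]),
  (3222,[0,5,6]),
  (3379,[0,6,1]),
  (1141,[0,6,2]),
  (2477,[0,6,3]),
  (1895,[0,6,4]),
  (3200,[0,6,5]),
  (2040,[1,2,2]),
  (299,[1,2,4]),
  (1356,[1,2,5]),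
  (418,[1,2,6]),
  (2881,[1,3,2]),
  (1492,[1,3,3]),
  (1965,[1,3,4]),
  (2660,[1,3,5]),
  (1816,[1,3,6]),
  (705,[1,4,2]),
  (3327,[1,4,3]),
  (502,[1,4,4]),
  (1111,[1,4,5]),
  (3250,[1,4,6]),
  (972,[1,5,3]),
  (249,[1,5,5]),
  (2632,[1,5,6]),
  (1612,[1,6,2]),
  (1504,[1,6,3])]

/-- part 1 of `kOrb4_0` -/
noncomputable def kOrb4_0P1 : List (ℕ × List ℕ) := [
  (62,[1,6,4]),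
  (1911,[1,6,5]),
  (1656,[2,0,0]),
  (493,[2,0,1]),
  (949,[2,0,2]),
  (3815,[2,0,4]),
  (301,[2,0,5]),
  (2488,[2,0,6]),
  (603,[2,1,2]),
  (3017,[2,1,4]),
  (2367,[2,1,5]),
  (1832,[2,1,6]),
  (215,[2,2,2]),
  (3760,[2,2,3]),
  (3817,[2,2,4]),
  (2649,[2,2,5]),
  (1447,[2,2,6]),
  (2063,[2,3,0]),
  (3689,[2,3,1]),
  (3350,[2,3,2]),
  (1831,[2,3,3]),
  (2956,[2,3,4]),
  (440,[2,3,5]),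
  (1540,[2,3,6]),
  (3672,[2,4,0]),
  (1989,[2,4,1]),
  (2774,[2,4,2]),
  (2627,[2,4,3]),
  (481,[2,4,4]),
  (70,[2,4,5]),
  (3892,[2,5,0]),
  (2349,[2,5,1]),
  (3099,[2,5,3]),
  (3631,[2,5,6]),
  (1710,[2,6,0]),
  (1420,[2,6,1]),
  (3484,[2,6,2]),
  (3000,[2,6,3]),
  (1297,[2,6,4]),
  (2584,[2,6,5]),
  (2576,[3,0,0]),
  (1975,[3,0,1]),
  (635,[3,0,3]),
  (1157,[3,0,4]),
  (747,[3,0,5]),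
  (3164,[3,0,6]),
  (1735,[3,1,3]),
  (1636,[3,1,4]),
  (3600,[3,1,5]),
  (2952,[3,1,6]),
  (1796,[3,2,4]),
  (445,[3,2,5]),
  (3509,[3,2,6]),
  (3858,[3,3,0]),
  (3465,[3,3,1]),
  (2745,[3,3,3]),
  (2337,[3,3,4]),
  (3235,[3,3,5]),
  (429,[3,3,6]),
  (3555,[3,4,0]),
  (1543,[3,4,1]),
  (2315,[3,4,2]),
  (1923,[3,4,3]),
  (3777,[3,4,4]),
  (2125,[3,4,5]),
  (623,[3,5,0]),
  (671,[3,5,1]),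
  (1277,[3,5,3]),
  (1539,[3,5,5]),
  (407,[3,5,6]),
  (2278,[3,6,0]),
  (1682,[3,6,1]),
  (3743,[3,6,3]),
  (3862,[3,6,4]),
  (1069,[3,6,5]),
  (1936,[4,0,0]),
  (3386,[4,0,1]),
  (1737,[4,0,3]),
  (563,[4,0,4]),
  (1943,[4,0,5]),
  (2928,[4,0,6]),
  (3565,[4,1,2]),
  (1713,[4,1,3]),
  (2597,[4,1,4]),
  (816,[4,1,5]),
  (3900,[4,1,6]),
  (3594,[4,2,0]),
  (2599,[4,2,1]),
  (3864,[4,2,2]),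
  (1217,[4,2,3]),
  (908,[4,2,4]),
  (3842,[4,2,5]),
  (3148,[4,2,6]),
  (2648,[4,3,0]),
  (3184,[4,3,1]),
  (1928,[4,3,3]),
  (450,[4,3,4]),
  (2860,[4,3,5]),
  (1752,[4,3,6]),
  (1407,[4,4,0])]

/-- part 2 of `kOrb4_0` -/
noncomputable def kOrb4_0P2 : List (ℕ × List ℕ) := [
  (2073,[4,4,1]),
  (1355,[4,4,2]),
  (1169,[4,4,3]),
  (486,[4,4,5]),
  (561,[4,5,0]),
  (3145,[4,5,1]),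
  (3636,[4,5,3]),
  (3839,[4,5,5]),
  (2071,[4,5,6]),
  (2924,[5,0,0]),
  (2596,[5,0,1]),
  (3241,[5,0,2]),
  (2873,[5,0,3]),
  (2279,[5,0,4]),
  (2552,[5,0,5]),
  (3756,[5,0,6]),
  (3163,[5,1,2]),
  (2028,[5,1,3]),
  (2459,[5,1,4]),
  (3781,[5,1,5]),
  (2828,[5,1,6]),
  (2761,[5,3,0]),
  (3256,[5,3,1]),
  (1166,[5,3,2]),
  (3485,[5,3,3]),
  (2961,[5,3,4]),
  (3192,[5,3,6]),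
  (2048,[5,5,0]),
  (1008,[5,5,1]),
  (1378,[5,5,3]),
  (2033,[5,5,6]),
  (3715,[5,6,0]),
  (306,[5,6,1]),
  (3009,[5,6,2]),
  (1908,[5,6,3]),
  (1107,[5,6,4]),
  (3105,[5,6,5]),
  (3404,[0,0,2,2]),
  (3708,[0,0,2,5]),
  (2953,[0,0,3,0]),
  (209,[0,0,3,1]),
  (2822,[0,0,3,2]),
  (3445,[0,0,3,3]),
  (1695,[0,0,3,5]),
  (570,[0,0,4,2]),
  (228,[0,0,4,3]),
  (1672,[0,0,4,5]),
  (3757,[0,0,5,0]),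
  (2834,[0,0,5,1]),
  (285,[0,0,5,3]),
  (2487,[0,0,5,5]),
  (390,[0,0,5,6]),
  (78,[0,1,2,5]),
  (3181,[0,1,3,5]),
  (2797,[0,1,4,2]),
  (1918,[0,1,4,3]),
  (3499,[0,1,4,5]),
  (644,[0,1,5,3]),
  (1211,[0,1,5,5]),
  (661,[0,1,5,6]),
  (2320,[0,2,0,4]),
  (1655,[0,2,0,5]),
  (2358,[0,2,0,6]),
  (3597,[0,2,2,3]),
  (1216,[0,2,2,4]),
  (336,[0,2,2,5]),
  (2511,[0,2,2,6]),
  (368,[0,2,4,0]),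
  (421,[0,2,4,1]),
  (2060,[0,2,4,3]),
  (126,[0,2,4,4]),
  (3589,[0,2,4,5]),
  (1102,[0,2,5,0]),
  (943,[0,2,5,6]),
  (1417,[0,2,6,1]),
  (400,[0,2,6,2]),
  (415,[0,2,6,3]),
  (131,[0,2,6,4]),
  (3502,[0,2,6,5]),
  (1583,[0,3,0,1]),
  (480,[0,3,0,3]),
  (984,[0,3,0,4]),
  (2616,[0,3,0,5]),
  (96,[0,3,1,4]),
  (3347,[0,3,1,5]),
  (3880,[0,3,2,4]),
  (1473,[0,3,2,5]),
  (372,[0,3,3,1]),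
  (2374,[0,3,3,3]),
  (3399,[0,3,3,4]),
  (3176,[0,3,3,5]),
  (795,[0,3,3,6]),
  (2824,[0,3,4,0]),
  (3146,[0,3,4,2]),
  (3508,[0,3,4,3]),
  (841,[0,3,4,4]),
  (2778,[0,3,4,5]),
  (884,[0,3,5,0]),
  (2353,[0,3,5,1]),
  (1743,[0,3,5,3])]

/-- part 3 of `kOrb4_0` -/
noncomputable def kOrb4_0P3 : List (ℕ × List ℕ) := [
  (1946,[0,3,5,5]),
  (3716,[0,3,5,6]),
  (905,[0,3,6,1]),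
  (1175,[0,3,6,3]),
  (41,[0,3,6,4]),
  (496,[0,3,6,5]),
  (3228,[0,4,0,3]),
  (3336,[0,4,0,4]),
  (656,[0,4,0,5]),
  (773,[0,4,1,2]),
  (833,[0,4,1,3]),
  (981,[0,4,1,4]),
  (2047,[0,4,1,5]),
  (1705,[0,4,2,2]),
  (1945,[0,4,2,3]),
  (893,[0,4,2,5]),
  (3227,[0,4,3,0]),
  (1976,[0,4,3,1]),
  (3645,[0,4,3,3]),
  (1224,[0,4,3,4]),
  (930,[0,4,3,5]),
  (1376,[0,4,3,6]),
  (40,[0,4,4,0]),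
  (157,[0,4,4,1]),
  (1346,[0,4,4,2]),
  (371,[0,4,4,3]),
  (1098,[0,4,4,5]),
  (709,[0,4,5,0]),
  (1235,[0,4,5,1]),
  (2293,[0,4,5,3]),
  (1260,[0,4,5,5]),
  (923,[0,4,5,6]),
  (1186,[0,4,6,0]),
  (1048,[0,4,6,1]),
  (3413,[0,4,6,2]),
  (18,[0,4,6,3]),
  (194,[0,4,6,5]),
  (721,[0,5,0,0]),
  (48,[0,5,0,1]),
  (2810,[0,5,0,2]),
  (669,[0,5,0,3]),
  (763,[0,5,0,4]),
  (3251,[0,5,0,5]),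
  (3434,[0,5,0,6]),
  (1268,[0,5,1,2]),
  (1441,[0,5,1,3]),
  (3525,[0,5,1,4]),
  (2156,[0,5,1,5]),
  (3877,[0,5,1,6]),
  (177,[0,5,3,0]),
  (1019,[0,5,3,1]),
  (355,[0,5,3,2]),
  (84,[0,5,3,3]),
  (895,[0,5,3,4]),
  (1351,[0,5,3,5]),
  (890,[0,5,3,6]),
  (639,[0,5,5,3]),
  (2588,[0,5,6,0]),
  (2030,[0,5,6,1]),
  (2684,[0,5,6,2]),
  (1342,[0,5,6,4]),
  (1466,[0,5,6,5]),
  (1188,[0,6,1,3]),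
  (2643,[0,6,1,4]),
  (2605,[0,6,1,5]),
  (892,[0,6,2,4]),
  (3016,[0,6,2,6]),
  (3276,[0,6,3,1]),
  (1742,[0,6,3,2]),
  (960,[0,6,3,4]),
  (1494,[0,6,3,5]),
  (3097,[0,6,3,6]),
  (504,[0,6,4,0]),
  (312,[0,6,4,1]),
  (388,[0,6,4,2]),
  (670,[0,6,4,3]),
  (1507,[0,6,4,5]),
  (3599,[0,6,5,0]),
  (1007,[0,6,5,1]),
  (1906,[0,6,5,3]),
  (693,[0,6,5,5]),
  (1973,[0,6,5,6]),
  (2342,[1,2,2,3]),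
  (2419,[1,2,2,5]),
  (1959,[1,2,4,3]),
  (3497,[1,2,4,4]),
  (2098,[1,2,4,5]),
  (3132,[1,2,5,6]),
  (968,[1,2,6,2]),
  (168,[1,2,6,3]),
  (1941,[1,2,6,4]),
  (3675,[1,2,6,5]),
  (3561,[1,3,2,5]),
  (1692,[1,3,3,4]),
  (226,[1,3,3,5]),
  (3826,[1,3,3,6]),
  (1084,[1,3,4,2]),
  (1767,[1,3,4,3]),
  (3690,[1,3,4,4]),
  (447,[1,3,4,5])]

/-- part 4 of `kOrb4_0` -/
noncomputable def kOrb4_0P4 : List (ℕ × List ℕ) := [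
  (1579,[1,3,5,3]),
  (222,[1,3,5,5]),
  (3037,[1,3,5,6]),
  (2406,[1,3,6,3]),
  (2322,[1,3,6,4]),
  (1780,[1,3,6,5]),
  (993,[1,4,2,2]),
  (2192,[1,4,2,3]),
  (216,[1,4,2,5]),
  (2682,[1,4,3,3]),
  (1728,[1,4,3,4]),
  (322,[1,4,3,5]),
  (1806,[1,4,3,6]),
  (804,[1,4,4,2]),
  (813,[1,4,4,3]),
  (3824,[1,4,4,5]),
  (3042,[1,4,5,3]),
  (868,[1,4,5,5]),
  (756,[1,4,5,6]),
  (777,[1,4,6,2]),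
  (950,[1,4,6,5]),
  (2186,[1,5,3,2]),
  (404,[1,5,3,3]),
  (1057,[1,5,3,4]),
  (1626,[1,5,3,6]),
  (3166,[1,5,5,3]),
  (2472,[1,5,6,2]),
  (2661,[1,5,6,4]),
  (1649,[1,5,6,5]),
  (3838,[1,6,2,5]),
  (101,[1,6,3,5]),
  (164,[1,6,4,2]),
  (272,[1,6,4,3]),
  (3115,[1,6,4,5]),
  (1085,[1,6,5,3]),
  (1859,[1,6,5,5]),
  (2159,[1,6,5,6]),
  (2108,[2,0,0,5]),
  (3427,[2,0,1,5]),
  (98,[2,0,2,5]),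
  (3604,[2,0,4,0]),
  (1209,[2,0,4,1]),
  (1204,[2,0,4,2]),
  (446,[2,0,4,3]),
  (1588,[2,0,4,4]),
  (1751,[2,0,4,5]),
  (1497,[2,0,5,0]),
  (737,[2,0,5,1]),
  (3461,[2,0,5,6]),
  (2804,[2,0,6,3]),
  (2844,[2,0,6,5]),
  (2791,[2,1,2,4]),
  (2395,[2,1,2,5]),
  (2717,[2,1,4,2]),
  (3035,[2,1,4,3]),
  (2009,[2,1,4,4]),
  (955,[2,1,4,5]),
  (1242,[2,1,5,6]),
  (1849,[2,1,6,5]),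
  (3283,[2,2,2,4]),
  (685,[2,2,2,5]),
  (686,[2,2,2,6]),
  (247,[2,2,3,4]),
  (316,[2,2,3,5]),
  (2144,[2,2,4,0]),
  (3321,[2,2,4,1]),
  (2712,[2,2,4,2]),
  (2097,[2,2,4,3]),
  (1055,[2,2,4,4]),
  (585,[2,2,4,5]),
  (2363,[2,2,5,6]),
  (2532,[2,2,6,0]),
  (1296,[2,2,6,1]),
  (722,[2,2,6,2]),
  (3282,[2,2,6,4]),
  (3428,[2,2,6,5]),
  (2053,[2,3,0,4]),
  (2867,[2,3,0,5]),
  (526,[2,3,1,4]),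
  (1335,[2,3,1,5]),
  (2720,[2,3,2,4]),
  (2275,[2,3,2,5]),
  (1667,[2,3,3,5]),
  (2094,[2,3,4,0]),
  (2426,[2,3,4,1]),
  (1161,[2,3,4,2]),
  (2675,[2,3,4,4]),
  (395,[2,3,4,5]),
  (375,[2,3,5,0]),
  (452,[2,3,5,1]),
  (77,[2,3,5,3]),
  (1942,[2,3,5,6]),
  (1056,[2,3,6,3]),
  (1009,[2,3,6,4]),
  (977,[2,3,6,5]),
  (2885,[2,4,0,5]),
  (3887,[2,4,1,2]),
  (2809,[2,4,1,4]),
  (1825,[2,4,1,5]),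
  (419,[2,4,2,2])]

/-- part 5 of `kOrb4_0` -/
noncomputable def kOrb4_0P5 : List (ℕ × List ℕ) := [
  (3367,[2,4,2,5]),
  (1707,[2,4,3,0]),
  (3721,[2,4,3,1]),
  (1731,[2,4,3,2]),
  (2927,[2,4,3,3]),
  (230,[2,4,3,5]),
  (1847,[2,4,4,0]),
  (1681,[2,4,4,1]),
  (3354,[2,4,4,5]),
  (2231,[2,4,5,0]),
  (2859,[2,4,5,1]),
  (485,[2,4,5,3]),
  (2600,[2,4,5,6]),
  (3800,[2,5,0,0]),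
  (3149,[2,5,0,1]),
  (581,[2,5,0,2]),
  (122,[2,5,0,4]),
  (2431,[2,5,0,6]),
  (2955,[2,5,1,2]),
  (641,[2,5,1,3]),
  (717,[2,5,1,4]),
  (3080,[2,5,1,6]),
  (1033,[2,5,3,0]),
  (1099,[2,5,3,1]),
  (3026,[2,5,3,2]),
  (2453,[2,5,3,4]),
  (2205,[2,5,6,0]),
  (2239,[2,5,6,1]),
  (193,[2,5,6,2]),
  (304,[2,5,6,3]),
  (3673,[2,5,6,4]),
  (2335,[2,5,6,5]),
  (3012,[2,6,0,4]),
  (3044,[2,6,0,5]),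
  (3443,[2,6,1,4]),
  (537,[2,6,1,5]),
  (2635,[2,6,2,0]),
  (3686,[2,6,2,1]),
  (1031,[2,6,2,2]),
  (2397,[2,6,2,5]),
  (3734,[2,6,2,6]),
  (420,[2,6,3,3]),
  (2123,[2,6,3,5]),
  (2044,[2,6,4,2]),
  (2424,[2,6,4,5]),
  (759,[2,6,5,0]),
  (3574,[2,6,5,1]),
  (3345,[2,6,5,3]),
  (1771,[2,6,5,5]),
  (1274,[3,0,0,4]),
  (2716,[3,0,0,5]),
  (684,[3,0,1,4]),
  (613,[3,0,1,5]),
  (1992,[3,0,3,4]),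
  (607,[3,0,3,5]),
  (3560,[3,0,4,0]),
  (186,[3,0,4,1]),
  (3053,[3,0,4,3]),
  (518,[3,0,4,4]),
  (974,[3,0,4,5]),
  (19,[3,0,5,0]),
  (3592,[3,0,5,1]),
  (2499,[3,0,5,3]),
  (3143,[3,0,5,5]),
  (3637,[3,0,5,6]),
  (2762,[3,0,6,3]),
  (2515,[3,0,6,4]),
  (2405,[3,0,6,5]),
  (1167,[3,1,3,4]),
  (3197,[3,1,3,5]),
  (245,[3,1,4,3]),
  (1374,[3,1,4,4]),
  (3129,[3,1,4,5]),
  (3432,[3,1,5,3]),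
  (1489,[3,1,5,5]),
  (107,[3,1,5,6]),
  (2220,[3,1,6,2]),
  (1537,[3,1,6,3]),
  (2562,[3,1,6,4]),
  (337,[3,1,6,5]),
  (2589,[3,2,4,0]),
  (1429,[3,2,4,2]),
  (2838,[3,2,4,4]),
  (1502,[3,2,4,5]),
  (3616,[3,2,5,6]),
  (3248,[3,2,6,1]),
  (2131,[3,3,0,4]),
  (3568,[3,3,0,5]),
  (1571,[3,3,1,4]),
  (1687,[3,3,1,5]),
  (2914,[3,3,3,4]),
  (68,[3,3,3,5]),
  (129,[3,3,4,0]),
  (779,[3,3,4,1]),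
  (2743,[3,3,4,2]),
  (2194,[3,3,4,3]),
  (697,[3,3,4,4]),
  (2005,[3,3,4,5]),
  (3664,[3,3,5,0]),
  (199,[3,3,5,1])]

/-- part 6 of `kOrb4_0` -/
noncomputable def kOrb4_0P6 : List (ℕ × List ℕ) := [
  (3576,[3,3,5,3]),
  (885,[3,3,5,5]),
  (3658,[3,3,5,6]),
  (1283,[3,3,6,3]),
  (1850,[3,3,6,5]),
  (809,[3,4,0,4]),
  (1970,[3,4,0,5]),
  (534,[3,4,1,4]),
  (1435,[3,4,1,5]),
  (3104,[3,4,2,0]),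
  (2909,[3,4,2,1]),
  (1185,[3,4,2,4]),
  (2670,[3,4,2,5]),
  (3496,[3,4,2,6]),
  (3726,[3,4,3,0]),
  (3681,[3,4,3,1]),
  (3901,[3,4,3,3]),
  (237,[3,4,3,5]),
  (1524,[3,4,4,0]),
  (3405,[3,4,4,1]),
  (3274,[3,4,4,3]),
  (1264,[3,4,4,5]),
  (3410,[3,4,5,0]),
  (937,[3,4,5,1]),
  (2702,[3,4,5,3]),
  (257,[3,4,5,5]),
  (1564,[3,5,0,0]),
  (720,[3,5,0,1]),
  (123,[3,5,0,3]),
  (760,[3,5,0,4]),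
  (523,[3,5,0,6]),
  (233,[3,5,1,3]),
  (3446,[3,5,1,4]),
  (148,[3,5,1,6]),
  (100,[3,5,3,0]),
  (341,[3,5,3,1]),
  (962,[3,5,3,3]),
  (751,[3,5,3,4]),
  (1152,[3,5,3,6]),
  (2938,[3,5,5,0]),
  (2696,[3,5,5,1]),
  (2297,[3,5,5,3]),
  (2972,[3,5,5,6]),
  (2463,[3,5,6,4]),
  (2351,[3,5,6,5]),
  (3160,[3,6,0,2]),
  (3456,[3,6,0,3]),
  (2831,[3,6,0,5]),
  (3396,[3,6,1,2]),
  (1843,[3,6,1,5]),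
  (2433,[3,6,3,0]),
  (3503,[3,6,3,1]),
  (3406,[3,6,3,2]),
  (748,[3,6,3,3]),
  (147,[3,6,3,4]),
  (767,[3,6,3,5]),
  (3709,[3,6,3,6]),
  (1246,[3,6,4,0]),
  (3786,[3,6,4,5]),
  (2655,[3,6,5,0]),
  (593,[3,6,5,1]),
  (3285,[3,6,5,3]),
  (3591,[3,6,5,6]),
  (111,[4,0,0,0]),
  (213,[4,0,0,1]),
  (3389,[4,0,0,5]),
  (1927,[4,0,1,5]),
  (1526,[4,0,3,5]),
  (166,[4,0,4,2]),
  (818,[4,0,4,3]),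
  (2747,[4,0,4,4]),
  (2049,[4,0,4,5]),
  (3089,[4,0,4,6]),
  (2865,[4,0,5,0]),
  (2316,[4,0,5,1]),
  (996,[4,0,5,3]),
  (2174,[4,0,5,5]),
  (3388,[4,0,5,6]),
  (1239,[4,0,6,2]),
  (2290,[4,0,6,3]),
  (608,[4,0,6,5]),
  (565,[4,1,2,5]),
  (1991,[4,1,3,5]),
  (527,[4,1,4,2]),
  (933,[4,1,4,3]),
  (1541,[4,1,4,4]),
  (2857,[4,1,4,5]),
  (761,[4,1,4,6]),
  (491,[4,1,5,3]),
  (758,[4,1,5,5]),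
  (66,[4,1,5,6]),
  (1622,[4,1,6,3]),
  (2802,[4,1,6,5]),
  (1694,[4,2,0,2]),
  (1343,[4,2,0,5]),
  (1065,[4,2,1,5]),
  (2129,[4,2,2,2]),
  (2420,[4,2,2,5]),
  (878,[4,2,3,0]),
  (1133,[4,2,3,5])]

/-- part 7 of `kOrb4_0` -/
noncomputable def kOrb4_0P7 : List (ℕ × List ℕ) := [
  (1932,[4,2,4,3]),
  (2221,[4,2,4,4]),
  (3647,[4,2,4,5]),
  (3092,[4,2,5,0]),
  (2347,[4,2,5,1]),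
  (2375,[4,2,5,3]),
  (2619,[4,2,5,6]),
  (3071,[4,2,6,1]),
  (3384,[4,2,6,5]),
  (3291,[4,3,0,5]),
  (780,[4,3,1,5]),
  (3260,[4,3,3,0]),
  (483,[4,3,3,1]),
  (475,[4,3,3,5]),
  (887,[4,3,4,5]),
  (583,[4,3,5,0]),
  (2689,[4,3,5,1]),
  (3198,[4,3,5,3]),
  (2799,[4,3,5,5]),
  (3267,[4,3,6,0]),
  (128,[4,3,6,1]),
  (2299,[4,3,6,3]),
  (1974,[4,4,0,3]),
  (1733,[4,4,0,4]),
  (1914,[4,4,0,5]),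
  (1164,[4,4,1,3]),
  (1544,[4,4,1,4]),
  (610,[4,4,1,5]),
  (3762,[4,4,2,2]),
  (2529,[4,4,2,4]),
  (425,[4,4,2,5]),
  (3558,[4,4,2,6]),
  (2104,[4,4,3,5]),
  (2041,[4,4,3,6]),
  (834,[4,4,5,0]),
  (211,[4,4,5,1]),
  (2555,[4,4,5,3]),
  (3220,[4,4,5,5]),
  (1178,[4,5,0,0]),
  (1512,[4,5,0,1]),
  (3791,[4,5,0,2]),
  (1837,[4,5,0,4]),
  (3191,[4,5,0,5]),
  (772,[4,5,0,6]),
  (831,[4,5,1,2]),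
  (3693,[4,5,1,4]),
  (3735,[4,5,1,5]),
  (2228,[4,5,1,6]),
  (1022,[4,5,3,4]),
  (2226,[4,5,3,5]),
  (1004,[4,5,5,0]),
  (1038,[4,5,5,1]),
  (1701,[4,5,5,3]),
  (1670,[4,5,5,6]),
  (922,[4,5,6,0]),
  (158,[4,5,6,1]),
  (663,[4,5,6,3]),
  (3057,[5,0,0,0]),
  (243,[5,0,0,1]),
  (1198,[5,0,0,2]),
  (1581,[5,0,0,3]),
  (2869,[5,0,0,4]),
  (2726,[5,0,0,5]),
  (1952,[5,0,1,2]),
  (1930,[5,0,1,3]),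
  (2742,[5,0,1,4]),
  (3782,[5,0,1,5]),
  (2735,[5,0,2,0]),
  (2929,[5,0,2,2]),
  (2140,[5,0,2,4]),
  (1406,[5,0,3,0]),
  (1748,[5,0,3,1]),
  (80,[5,0,3,3]),
  (2685,[5,0,3,4]),
  (846,[5,0,3,6]),
  (2206,[5,0,4,0]),
  (2238,[5,0,4,1]),
  (1517,[5,0,4,2]),
  (3108,[5,0,4,3]),
  (3514,[5,0,4,4]),
  (1452,[5,0,4,6]),
  (1213,[5,0,6,1]),
  (1823,[5,0,6,2]),
  (3362,[5,0,6,3]),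
  (2718,[5,0,6,4]),
  (2991,[5,1,2,2]),
  (79,[5,1,2,4]),
  (1589,[5,1,3,3]),
  (465,[5,1,3,4]),
  (1833,[5,1,3,5]),
  (3331,[5,1,3,6]),
  (3764,[5,1,4,2]),
  (3633,[5,1,4,3]),
  (3304,[5,1,4,4]),
  (3809,[5,1,4,5]),
  (2872,[5,1,4,6]),
  (2759,[5,1,6,2]),
  (1648,[5,1,6,4]),
  (1545,[5,3,0,0]),
  (2683,[5,3,0,1])]

/-- part 8 of `kOrb4_0` -/
noncomputable def kOrb4_0P8 : List (ℕ × List ℕ) := [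
  (649,[5,3,0,4]),
  (1614,[5,3,0,5]),
  (3229,[5,3,0,6]),
  (2890,[5,3,1,5]),
  (586,[5,3,1,6]),
  (3798,[5,3,2,6]),
  (538,[5,3,3,0]),
  (1741,[5,3,3,1]),
  (999,[5,3,3,3]),
  (1036,[5,3,3,5]),
  (1100,[5,3,3,6]),
  (1219,[5,3,4,1]),
  (2112,[5,3,4,2]),
  (3014,[5,3,4,4]),
  (842,[5,3,6,0]),
  (3754,[5,3,6,1]),
  (3106,[5,3,6,3]),
  (3006,[5,3,6,4]),
  (16,[5,3,6,5]),
  (1287,[5,5,0,3]),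
  (3219,[5,5,0,4]),
  (417,[5,5,1,3]),
  (1251,[5,5,3,0]),
  (342,[5,5,3,1]),
  (869,[5,5,3,3]),
  (1025,[5,5,3,4]),
  (591,[5,5,3,5]),
  (1337,[5,5,3,6]),
  (2127,[5,5,6,0]),
  (3713,[5,5,6,1]),
  (2207,[5,5,6,4]),
  (1015,[5,5,6,5]),
  (1568,[5,6,0,4]),
  (2522,[5,6,1,4]),
  (1977,[5,6,2,2]),
  (2055,[5,6,2,4]),
  (1819,[5,6,3,4]),
  (1709,[5,6,3,5]),
  (1860,[5,6,3,6]),
  (2868,[5,6,4,0]),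
  (3107,[5,6,4,1]),
  (2943,[5,6,4,2]),
  (2222,[5,6,4,3]),
  (2583,[5,6,5,5]),
  (3537,[5,6,5,6]),
  (3374,[0,0,2,2,5]),
  (778,[0,0,2,5,6]),
  (1812,[0,0,3,0,5]),
  (2819,[0,0,3,1,5]),
  (1781,[0,0,3,2,5]),
  (2674,[0,0,3,3,4]),
  (1958,[0,0,3,3,5]),
  (3569,[0,0,3,3,6]),
  (3426,[0,0,3,5,1]),
  (1598,[0,0,4,2,1]),
  (2255,[0,0,4,2,2]),
  (2061,[0,0,4,2,5]),
  (2840,[0,0,4,3,0]),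
  (687,[0,0,4,3,1]),
  (125,[0,0,4,3,3]),
  (853,[0,0,4,5,0]),
  (2062,[0,0,4,5,1]),
  (183,[0,0,4,5,3]),
  (1272,[0,0,4,5,5]),
  (2025,[0,0,4,5,6]),
  (1154,[0,0,5,0,1]),
  (1013,[0,0,5,0,3]),
  (2260,[0,0,5,0,4]),
  (3366,[0,0,5,1,2]),
  (2731,[0,0,5,1,3]),
  (2644,[0,0,5,1,4]),
  (3718,[0,0,5,3,1]),
  (227,[0,0,5,3,2]),
  (2178,[0,0,5,3,4]),
  (543,[0,0,5,3,6]),
  (544,[0,0,5,5,3]),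
  (662,[0,0,5,6,0]),
  (370,[0,0,5,6,2]),
  (2410,[0,0,5,6,4]),
  (2732,[0,1,2,5,6]),
  (2072,[0,1,4,2,2]),
  (730,[0,1,4,2,5]),
  (1171,[0,1,4,3,3]),
  (3179,[0,1,4,5,3]),
  (1357,[0,1,4,5,5]),
  (1532,[0,1,4,5,6]),
  (1772,[0,1,5,3,4]),
  (2815,[0,1,5,3,6]),
  (916,[0,1,5,5,3]),
  (651,[0,1,5,6,2]),
  (1006,[0,1,5,6,4]),
  (2942,[0,2,0,4,2]),
  (2856,[0,2,0,4,4]),
  (3032,[0,2,0,4,5]),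
  (232,[0,2,0,6,5]),
  (1935,[0,2,2,3,4]),
  (3646,[0,2,2,4,3]),
  (2727,[0,2,2,4,5]),
  (1442,[0,2,2,5,3]),
  (945,[0,2,2,5,6])]

/-- part 9 of `kOrb4_0` -/
noncomputable def kOrb4_0P9 : List (ℕ × List ℕ) := [
  (2740,[0,2,2,6,4]),
  (1361,[0,2,2,6,5]),
  (574,[0,2,4,0,5]),
  (2357,[0,2,4,1,5]),
  (99,[0,2,4,3,0]),
  (2533,[0,2,4,3,1]),
  (655,[0,2,4,3,3]),
  (1284,[0,2,4,4,5]),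
  (2164,[0,2,4,5,0]),
  (3552,[0,2,4,5,1]),
  (2380,[0,2,4,5,3]),
  (2578,[0,2,4,5,6]),
  (870,[0,2,5,0,3]),
  (2842,[0,2,5,6,2]),
  (3810,[0,2,5,6,3]),
  (1176,[0,2,5,6,4]),
  (1686,[0,2,6,1,4]),
  (3479,[0,2,6,1,5]),
  (374,[0,2,6,2,0]),
  (455,[0,2,6,2,1]),
  (2444,[0,2,6,2,2]),
  (501,[0,2,6,2,3]),
  (221,[0,2,6,2,5]),
  (2325,[0,2,6,2,6]),
  (528,[0,2,6,3,3]),
  (982,[0,2,6,3,5]),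
  (3268,[0,2,6,4,3]),
  (1275,[0,2,6,4,5]),
  (3504,[0,2,6,5,0]),
  (1177,[0,2,6,5,1]),
  (3603,[0,2,6,5,3]),
  (3818,[0,3,0,1,5]),
  (3703,[0,3,0,3,5]),
  (2604,[0,3,0,4,0]),
  (3213,[0,3,0,4,1]),
  (1718,[0,3,0,4,3]),
  (2629,[0,3,0,4,5]),
  (1080,[0,3,0,5,0]),
  (3855,[0,3,0,5,1]),
  (1646,[0,3,0,5,3]),
  (1302,[0,3,0,5,6]),
  (592,[0,3,1,4,2]),
  (3068,[0,3,1,4,3]),
  (1197,[0,3,1,4,5]),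
  (1231,[0,3,1,4,6]),
  (1653,[0,3,1,5,3]),
  (2565,[0,3,1,5,6]),
  (2052,[0,3,2,4,5]),
  (1191,[0,3,2,5,6]),
  (2581,[0,3,3,1,5]),
  (897,[0,3,3,3,5]),
  (2843,[0,3,3,4,0]),
  (1082,[0,3,3,4,1]),
  (1460,[0,3,3,4,2]),
  (1029,[0,3,3,4,3]),
  (1867,[0,3,3,4,4]),
  (1486,[0,3,3,4,5]),
  (3662,[0,3,3,5,0]),
  (3093,[0,3,3,5,1]),
  (1043,[0,3,3,5,3]),
  (1290,[0,3,4,0,5]),
  (646,[0,3,4,2,0]),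
  (3226,[0,3,4,2,1]),
  (1338,[0,3,4,2,5]),
  (3403,[0,3,4,3,1]),
  (1234,[0,3,4,3,5]),
  (3342,[0,3,4,4,5]),
  (1458,[0,3,4,5,0]),
  (81,[0,3,4,5,5]),
  (2507,[0,3,5,0,0]),
  (1503,[0,3,5,0,1]),
  (1724,[0,3,5,0,3]),
  (1558,[0,3,5,0,4]),
  (2786,[0,3,5,0,6]),
  (1428,[0,3,5,1,4]),
  (1607,[0,3,5,1,6]),
  (1520,[0,3,5,3,0]),
  (3244,[0,3,5,3,1]),
  (1643,[0,3,5,3,4]),
  (3854,[0,3,5,3,6]),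
  (2697,[0,3,5,5,0]),
  (1937,[0,3,5,5,1]),
  (3003,[0,3,5,5,3]),
  (1727,[0,3,5,5,6]),
  (1836,[0,3,5,6,3]),
  (1755,[0,3,5,6,4]),
  (2436,[0,3,5,6,5]),
  (3039,[0,3,6,1,3]),
  (3153,[0,3,6,3,0]),
  (448,[0,3,6,3,1]),
  (2598,[0,3,6,3,6]),
  (1193,[0,3,6,4,0]),
  (2150,[0,3,6,4,5]),
  (1096,[0,3,6,5,0]),
  (994,[0,3,6,5,1]),
  (838,[0,3,6,5,3]),
  (891,[0,4,0,3,5]),
  (2018,[0,4,0,4,4]),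
  (2518,[0,4,0,4,5]),
  (1390,[0,4,0,5,0])]

/-- part 10 of `kOrb4_0` -/
noncomputable def kOrb4_0P10 : List (ℕ × List ℕ) := [
  (2440,[0,4,0,5,1]),
  (1888,[0,4,0,5,3]),
  (2233,[0,4,0,5,5]),
  (1915,[0,4,0,5,6]),
  (743,[0,4,1,2,5]),
  (3087,[0,4,1,3,5]),
  (2141,[0,4,1,4,4]),
  (2960,[0,4,1,4,5]),
  (1282,[0,4,1,5,3]),
  (127,[0,4,1,5,5]),
  (2678,[0,4,1,5,6]),
  (1318,[0,4,2,2,5]),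
  (2936,[0,4,2,3,1]),
  (3654,[0,4,2,5,0]),
  (1967,[0,4,2,5,1]),
  (12,[0,4,2,5,3]),
  (3411,[0,4,2,5,6]),
  (2606,[0,4,3,0,1]),
  (1950,[0,4,3,0,5]),
  (1461,[0,4,3,0,6]),
  (2120,[0,4,3,1,5]),
  (3307,[0,4,3,1,6]),
  (1817,[0,4,3,3,0]),
  (1664,[0,4,3,3,1]),
  (3780,[0,4,3,3,5]),
  (815,[0,4,3,4,5]),
  (927,[0,4,3,5,0]),
  (2447,[0,4,3,5,3]),
  (1156,[0,4,3,5,5]),
  (2954,[0,4,3,6,0]),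
  (1602,[0,4,3,6,1]),
  (1058,[0,4,4,0,5]),
  (3712,[0,4,4,2,5]),
  (35,[0,4,4,3,0]),
  (1878,[0,4,4,3,5]),
  (3272,[0,4,4,5,0]),
  (3666,[0,4,4,5,1]),
  (2517,[0,4,4,5,3]),
  (1147,[0,4,4,5,5]),
  (3357,[0,4,5,0,0]),
  (3073,[0,4,5,0,1]),
  (3668,[0,4,5,0,2]),
  (840,[0,4,5,0,3]),
  (2933,[0,4,5,0,4]),
  (1889,[0,4,5,0,6]),
  (3840,[0,4,5,1,2]),
  (1478,[0,4,5,1,3]),
  (618,[0,4,5,1,4]),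
  (1258,[0,4,5,1,5]),
  (1349,[0,4,5,1,6]),
  (3333,[0,4,5,3,0]),
  (1584,[0,4,5,3,3]),
  (1690,[0,4,5,3,4]),
  (2037,[0,4,5,5,3]),
  (393,[0,4,5,6,0]),
  (436,[0,4,5,6,1]),
  (530,[0,4,5,6,5]),
  (3711,[0,4,6,0,5]),
  (2427,[0,4,6,1,5]),
  (573,[0,4,6,2,4]),
  (2536,[0,4,6,2,5]),
  (1405,[0,4,6,2,6]),
  (2105,[0,4,6,3,3]),
  (1034,[0,4,6,3,4]),
  (2161,[0,4,6,3,5]),
  (1856,[0,4,6,5,0]),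
  (1391,[0,4,6,5,3]),
  (2582,[0,4,6,5,6]),
  (872,[0,5,0,0,0]),
  (2039,[0,5,0,0,4]),
  (114,[0,5,0,1,2]),
  (2739,[0,5,0,1,4]),
  (598,[0,5,0,2,2]),
  (2706,[0,5,0,2,4]),
  (82,[0,5,0,3,1]),
  (1071,[0,5,0,4,0]),
  (723,[0,5,0,4,1]),
  (1711,[0,5,0,4,2]),
  (796,[0,5,0,4,3]),
  (2636,[0,5,0,4,6]),
  (2423,[0,5,0,5,5]),
  (2642,[0,5,0,6,3]),
  (275,[0,5,0,6,4]),
  (1902,[0,5,1,4,2]),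
  (1734,[0,5,1,4,3]),
  (3394,[0,5,1,4,6]),
  (2384,[0,5,1,5,5]),
  (2393,[0,5,3,0,0]),
  (330,[0,5,3,0,1]),
  (2093,[0,5,3,0,6]),
  (1266,[0,5,3,1,3]),
  (2711,[0,5,3,1,4]),
  (3725,[0,5,3,1,6]),
  (2523,[0,5,3,2,6]),
  (412,[0,5,3,3,0]),
  (1289,[0,5,3,3,1]),
  (3661,[0,5,3,3,6]),
  (1961,[0,5,3,4,0]),
  (3860,[0,5,3,4,4]),
  (852,[0,5,3,5,5])]

/-- part 11 of `kOrb4_0` -/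
noncomputable def kOrb4_0P11 : List (ℕ × List ℕ) := [
  (3678,[0,5,3,6,4]),
  (202,[0,5,5,3,0]),
  (1982,[0,5,5,3,1]),
  (2402,[0,5,5,3,3]),
  (296,[0,5,6,0,4]),
  (1834,[0,5,6,1,4]),
  (3670,[0,5,6,2,2]),
  (595,[0,5,6,2,6]),
  (3019,[0,5,6,4,0]),
  (1495,[0,5,6,4,1]),
  (3874,[0,5,6,4,2]),
  (735,[0,6,1,3,5]),
  (1330,[0,6,1,4,5]),
  (3451,[0,6,2,4,4]),
  (2432,[0,6,3,1,5]),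
  (394,[0,6,3,2,4]),
  (1594,[0,6,3,4,4]),
  (2663,[0,6,3,4,5]),
  (3891,[0,6,3,5,1]),
  (2214,[0,6,4,0,5]),
  (3548,[0,6,4,1,5]),
  (3295,[0,6,4,2,5]),
  (2450,[0,6,4,3,1]),
  (3534,[0,6,4,3,6]),
  (3578,[0,6,4,5,0]),
  (2874,[0,6,4,5,1]),
  (1779,[0,6,4,5,5]),
  (2179,[0,6,4,5,6]),
  (710,[0,6,5,0,0]),
  (619,[0,6,5,0,1]),
  (1101,[0,6,5,0,4]),
  (3527,[0,6,5,0,6]),
  (1511,[0,6,5,1,4]),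
  (1181,[0,6,5,3,1]),
  (2309,[0,6,5,3,2]),
  (2817,[1,2,4,4,5]),
  (1954,[1,2,4,5,3]),
  (2870,[1,2,5,6,2]),
  (3284,[1,2,6,2,5]),
  (1845,[1,2,6,3,5]),
  (1418,[1,2,6,4,5]),
  (625,[1,3,3,4,2]),
  (766,[1,3,3,4,3]),
  (3506,[1,3,3,4,4]),
  (3296,[1,3,4,2,5]),
  (3865,[1,3,4,3,3]),
  (2443,[1,3,4,3,5]),
  (2445,[1,3,4,4,5]),
  (2448,[1,3,4,5,5]),
  (2680,[1,3,5,3,6]),
  (2574,[1,3,5,5,6]),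
  (1026,[1,3,5,6,4]),
  (2267,[1,3,5,6,5]),
  (1459,[1,3,6,3,3]),
  (210,[1,3,6,4,5]),
  (1644,[1,4,2,2,5]),
  (1106,[1,4,2,5,3]),
  (832,[1,4,2,5,6]),
  (3116,[1,4,3,3,5]),
  (991,[1,4,3,4,5]),
  (728,[1,4,3,5,3]),
  (2937,[1,4,4,2,4]),
  (1448,[1,4,4,2,5]),
  (3264,[1,4,4,3,5]),
  (910,[1,4,4,5,3]),
  (1027,[1,4,4,5,5]),
  (1647,[1,4,5,3,3]),
  (236,[1,4,5,3,4]),
  (3363,[1,4,6,5,3]),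
  (3294,[1,4,6,5,5]),
  (1640,[1,4,6,5,6]),
  (1933,[1,5,3,3,6]),
  (2201,[1,5,3,4,2]),
  (1117,[1,5,3,4,4]),
  (1842,[1,5,3,6,4]),
  (1949,[1,5,5,3,3]),
  (936,[1,5,6,2,2]),
  (3870,[1,5,6,4,2]),
  (1523,[1,6,2,5,6]),
  (2292,[1,6,4,2,5]),
  (1645,[1,6,4,3,4]),
  (1086,[1,6,4,3,6]),
  (1592,[1,6,4,5,5]),
  (621,[1,6,4,5,6]),
  (1011,[2,0,2,5,6]),
  (2692,[2,0,4,2,2]),
  (606,[2,0,4,4,5]),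
  (2503,[2,0,5,0,6]),
  (688,[2,0,5,1,6]),
  (108,[2,0,5,6,4]),
  (2693,[2,0,6,3,2]),
  (1150,[2,0,6,3,5]),
  (2089,[2,0,6,5,3]),
  (1122,[2,1,2,4,5]),
  (463,[2,1,2,5,6]),
  (1339,[2,1,4,2,2]),
  (3511,[2,1,4,4,5]),
  (422,[2,1,5,6,4]),
  (3843,[2,1,6,5,3]),
  (3157,[2,2,2,4,3])]

/-- part 12 of `kOrb4_0` -/
noncomputable def kOrb4_0P12 : List (ℕ × List ℕ) := [
  (822,[2,2,2,4,4]),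
  (2553,[2,2,3,4,5]),
  (254,[2,2,4,0,5]),
  (2483,[2,2,4,1,5]),
  (3289,[2,2,4,2,5]),
  (3376,[2,2,4,5,0]),
  (2916,[2,2,4,5,1]),
  (3279,[2,2,4,5,6]),
  (847,[2,2,6,0,5]),
  (2188,[2,2,6,1,2]),
  (2755,[2,2,6,1,5]),
  (2800,[2,2,6,2,2]),
  (3628,[2,2,6,5,0]),
  (3117,[2,2,6,5,1]),
  (2378,[2,3,0,4,5]),
  (2430,[2,3,0,5,6]),
  (1876,[2,3,1,4,5]),
  (3078,[2,3,1,5,6]),
  (1784,[2,3,2,4,2]),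
  (1468,[2,3,3,5,6]),
  (940,[2,3,4,2,0]),
  (3162,[2,3,4,2,1]),
  (1456,[2,3,4,4,5]),
  (1485,[2,3,5,0,4]),
  (3627,[2,3,5,0,6]),
  (2301,[2,3,5,1,4]),
  (3206,[2,3,5,1,6]),
  (3833,[2,3,5,6,3]),
  (3065,[2,3,6,4,5]),
  (1909,[2,3,6,5,5]),
  (3319,[2,4,0,5,6]),
  (3580,[2,4,1,4,5]),
  (2723,[2,4,1,5,6]),
  (1081,[2,4,2,5,3]),
  (2892,[2,4,2,5,6]),
  (3846,[2,4,3,0,5]),
  (2171,[2,4,3,1,5]),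
  (3052,[2,4,3,2,5]),
  (3392,[2,4,3,5,0]),
  (2793,[2,4,3,5,1]),
  (3642,[2,4,3,5,3]),
  (1535,[2,4,5,0,0]),
  (2746,[2,4,5,0,1]),
  (2121,[2,4,5,0,3]),
  (2714,[2,4,5,1,3]),
  (2805,[2,4,5,3,2]),
  (3491,[2,4,5,3,3]),
  (3671,[2,5,0,0,4]),
  (2908,[2,5,0,0,5]),
  (3170,[2,5,0,0,6]),
  (3262,[2,5,0,1,6]),
  (1484,[2,5,0,4,4]),
  (1830,[2,5,0,6,1]),
  (2224,[2,5,0,6,3]),
  (3161,[2,5,1,2,4]),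
  (3586,[2,5,1,3,4]),
  (3583,[2,5,1,4,4]),
  (3112,[2,5,1,6,4]),
  (2602,[2,5,3,0,5]),
  (1221,[2,5,3,0,6]),
  (3878,[2,5,3,1,5]),
  (810,[2,5,3,1,6]),
  (2065,[2,5,3,4,4]),
  (3761,[2,5,6,0,2]),
  (2651,[2,5,6,0,3]),
  (3738,[2,5,6,1,2]),
  (2350,[2,5,6,1,3]),
  (1586,[2,5,6,2,3]),
  (600,[2,5,6,2,6]),
  (2999,[2,5,6,4,0]),
  (409,[2,5,6,4,2]),
  (2921,[2,6,0,4,5]),
  (2875,[2,6,1,4,5]),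
  (3473,[2,6,2,0,5]),
  (3536,[2,6,2,1,5]),
  (2303,[2,6,2,5,6]),
  (1972,[2,6,2,6,1]),
  (192,[2,6,3,3,5]),
  (2704,[2,6,4,2,4]),
  (1294,[2,6,4,2,5]),
  (1807,[2,6,4,5,0]),
  (498,[2,6,4,5,1]),
  (3488,[2,6,4,5,5]),
  (3214,[2,6,4,5,6]),
  (3701,[3,0,3,4,0]),
  (2152,[3,0,4,4,5]),
  (3249,[3,0,5,0,4]),
  (3601,[3,0,5,1,4]),
  (2095,[3,0,5,3,4]),
  (3896,[3,0,5,5,0]),
  (3421,[3,0,5,5,1]),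
  (1238,[3,0,5,6,4]),
  (1126,[3,0,6,3,5]),
  (2184,[3,0,6,4,5]),
  (2079,[3,0,6,5,3]),
  (3871,[3,1,3,4,5]),
  (134,[3,1,3,5,5]),
  (308,[3,1,4,3,6]),
  (599,[3,1,4,4,5]),
  (2317,[3,1,5,3,4])]

/-- part 13 of `kOrb4_0` -/
noncomputable def kOrb4_0P13 : List (ℕ × List ℕ) := [
  (2013,[3,1,5,6,4]),
  (1960,[3,1,6,2,5]),
  (1651,[3,1,6,3,5]),
  (564,[3,1,6,4,5]),
  (432,[3,1,6,5,3]),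
  (698,[3,2,4,0,5]),
  (2306,[3,2,4,2,5]),
  (1179,[3,2,4,5,0]),
  (799,[3,2,4,5,6]),
  (1527,[3,2,6,1,5]),
  (1769,[3,3,1,5,5]),
  (54,[3,3,3,4,5]),
  (540,[3,3,3,5,6]),
  (494,[3,3,4,3,6]),
  (888,[3,3,4,4,5]),
  (2480,[3,3,5,0,4]),
  (293,[3,3,5,0,6]),
  (604,[3,3,5,1,4]),
  (1871,[3,3,5,1,6]),
  (2107,[3,3,5,3,4]),
  (3868,[3,3,5,5,0]),
  (911,[3,3,5,5,1]),
  (1922,[3,3,5,6,3]),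
  (2983,[3,3,5,6,4]),
  (2280,[3,3,6,3,5]),
  (117,[3,3,6,5,3]),
  (2979,[3,4,2,5,0]),
  (2907,[3,4,2,5,1]),
  (1285,[3,4,2,5,6]),
  (2905,[3,4,3,3,5]),
  (674,[3,4,3,5,0]),
  (2609,[3,4,3,5,1]),
  (3247,[3,4,4,5,0]),
  (2002,[3,4,4,5,1]),
  (1862,[3,4,4,5,5]),
  (2386,[3,4,5,3,0]),
  (1887,[3,4,5,3,1]),
  (3582,[3,4,5,3,4]),
  (3066,[3,5,0,3,4]),
  (2294,[3,5,0,4,4]),
  (1105,[3,5,0,6,3]),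
  (1569,[3,5,1,3,4]),
  (2142,[3,5,1,4,4]),
  (2612,[3,5,3,0,4]),
  (617,[3,5,3,0,6]),
  (1182,[3,5,3,1,4]),
  (1469,[3,5,3,1,6]),
  (3352,[3,5,3,3,4]),
  (3533,[3,5,3,4,4]),
  (771,[3,5,3,6,3]),
  (471,[3,5,3,6,4]),
  (2498,[3,5,5,3,0]),
  (2143,[3,5,5,3,1]),
  (1530,[3,5,5,3,6]),
  (703,[3,5,5,6,4]),
  (2479,[3,5,6,5,5]),
  (3519,[3,6,3,5,3]),
  (3493,[4,0,0,5,0]),
  (2603,[4,0,4,2,5]),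
  (3766,[4,0,4,5,3]),
  (3334,[4,0,4,5,5]),
  (1669,[4,0,4,6,3]),
  (1765,[4,0,5,0,0]),
  (3830,[4,0,5,6,2]),
  (53,[4,0,6,5,0]),
  (405,[4,0,6,5,1]),
  (224,[4,1,4,2,5]),
  (2567,[4,1,4,5,3]),
  (3787,[4,1,4,6,3]),
  (3064,[4,1,5,6,2]),
  (1491,[4,1,6,5,5]),
  (1851,[4,2,2,5,6]),
  (75,[4,2,3,0,5]),
  (961,[4,2,4,3,5]),
  (1023,[4,3,3,0,5]),
  (2754,[4,3,3,1,5]),
  (1925,[4,3,3,5,0]),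
  (3737,[4,3,3,5,1]),
  (3613,[4,3,3,5,3]),
  (1921,[4,3,3,5,5]),
  (3758,[4,3,5,3,0]),
  (3156,[4,3,5,3,1]),
  (3174,[4,4,0,3,5]),
  (1693,[4,4,0,5,5]),
  (3440,[4,4,0,5,6]),
  (1729,[4,4,1,3,5]),
  (744,[4,4,1,5,6]),
  (2986,[4,4,2,4,5]),
  (1432,[4,4,2,5,3]),
  (3402,[4,4,3,5,0]),
  (220,[4,4,3,5,1]),
  (898,[4,4,3,5,5]),
  (1883,[4,4,5,3,2]),
  (788,[4,4,5,5,3]),
  (200,[4,5,0,0,1]),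
  (886,[4,5,0,0,2]),
  (1732,[4,5,0,0,5]),
  (3835,[4,5,0,2,2]),
  (3180,[4,5,0,4,2]),
  (416,[4,5,0,6,1])]

/-- part 14 of `kOrb4_0` -/
noncomputable def kOrb4_0P14 : List (ℕ × List ℕ) := [
  (3360,[4,5,1,4,2]),
  (929,[4,5,1,6,2]),
  (1996,[4,5,5,3,4]),
  (3378,[4,5,5,3,6]),
  (1227,[4,5,5,6,0]),
  (1144,[4,5,5,6,1]),
  (1422,[4,5,6,0,3]),
  (2391,[5,0,1,4,5]),
  (1047,[5,0,2,0,6]),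
  (3804,[5,0,4,0,1]),
  (2920,[5,0,4,3,3]),
  (1245,[5,0,4,6,0]),
  (1201,[5,0,4,6,1]),
  (1184,[5,0,4,6,3]),
  (2624,[5,0,6,2,6]),
  (3102,[5,1,2,4,4]),
  (2771,[5,1,4,3,3]),
  (2911,[5,3,3,3,4]),
  (1501,[5,3,6,4,5]),
  (1042,[5,5,0,4,4]),
  (692,[5,5,3,4,4]),
  (3728,[5,5,6,4,0]),
  (1677,[5,5,6,4,1]),
  (1866,[5,6,3,4,4]),
  (291,[0,0,2,5,6,2]),
  (3695,[0,0,4,3,3,5]),
  (3236,[0,1,4,3,3,5]),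
  (694,[0,2,0,6,5,3]),
  (3562,[0,2,2,5,3,4]),
  (1061,[0,2,6,2,5,3]),
  (3211,[0,2,6,4,3,5]),
  (932,[0,3,3,4,4,5]),
  (2169,[0,3,5,0,3,4]),
  (2136,[0,3,6,1,3,5]),
  (1639,[0,4,0,5,6,2]),
  (1088,[0,4,2,2,5,6]),
  (3720,[0,4,4,3,0,5]),
  (246,[0,4,4,3,5,5]),
  (572,[0,5,0,4,6,3]),
  (3657,[2,6,4,2,4,5])]

/-- certificate data -/
noncomputable def kOrb4_0 : List (ℕ × List ℕ) :=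
  [kOrb4_0P0, kOrb4_0P1, kOrb4_0P2, kOrb4_0P3, kOrb4_0P4, kOrb4_0P5, kOrb4_0P6, kOrb4_0P7, kOrb4_0P8, kOrb4_0P9, kOrb4_0P10, kOrb4_0P11, kOrb4_0P12, kOrb4_0P13, kOrb4_0P14].flatten

/-- part 0 of `kOrb4_1` -/
noncomputable def kOrb4_1P0 : List (ℕ × List ℕ) := [
  (0,[]),
  (3518,[0])]

/-- certificate data -/
noncomputable def kOrb4_1 : List (ℕ × List ℕ) :=
  [kOrb4_1P0].flatten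

/-- orbits of state 4 -/
noncomputable def kLevs4 : List (ℕ × List (ℕ × List ℕ)) := [(2, kOrb4_0), (0, kOrb4_1)]


end CfsgLib.LyPres
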