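import Cfsg.Agent.Lib.TwistCoset.Act

/-!
A chain of the group of the first four generators on 3906 points.
-/

set_option autoImplicit false
set_option linter.style.longLine false

namespace CfsgLib.LyPres
open CfsgLib.CosetEnum CfsgLib.TwistCoset
/-- part 0 of `topOrb0` -/
noncomputable def topOrb0P0 : List (ℕ × List ℕ) := [
  (0,[]),
  (2,[1]),
  (10,[1,3]),
  (11,[1,5]),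
  (750,[1,6]),
  (2307,[1,7]),
  (14,[1,3,0]),
  (81,[1,3,1]),
  (19,[1,3,2]),
  (67,[1,3,4]),
  (887,[1,3,6]),
  (1180,[1,3,7]),
  (97,[1,5,1]),
  (80,[1,5,2]),
  (12,[1,5,3]),
  (66,[1,5,4]),
  (208,[1,5,6]),
  (1816,[1,5,7]),
  (1766,[1,6,0]),
  (2814,[1,6,1]),
  (978,[1,6,2]),
  (85,[1,6,3]),
  (3066,[1,6,4]),
  (789,[1,6,6]),
  (3417,[1,6,7]),
  (78,[1,6,8]),
  (489,[1,6,9]),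
  (2853,[1,7,0]),
  (541,[1,7,1]),
  (2649,[1,7,2]),
  (333,[1,7,3]),
  (2895,[1,7,4]),
  (105,[1,7,6]),
  (1258,[1,7,7]),
  (566,[1,7,8]),
  (986,[1,7,9]),
  (114,[1,3,0,1]),
  (70,[1,3,0,2]),
  (132,[1,3,0,3]),
  (542,[1,3,0,5]),
  (1143,[1,3,0,6]),
  (3560,[1,3,0,7]),
  (215,[1,3,0,8]),
  (744,[1,3,0,9]),
  (123,[1,3,1,0]),
  (13,[1,3,1,1]),
  (152,[1,3,1,2]),
  (331,[1,3,1,3]),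
  (100,[1,3,1,4]),
  (528,[1,3,1,5]),
  (1262,[1,3,1,6]),
  (2036,[1,3,1,7]),
  (83,[1,3,1,8]),
  (99,[1,3,1,9]),
  (224,[1,3,2,0]),
  (18,[1,3,2,2]),
  (60,[1,3,2,3]),
  (217,[1,3,2,4]),
  (855,[1,3,2,5]),
  (1354,[1,3,2,6]),
  (2637,[1,3,2,7]),
  (69,[1,3,2,8]),
  (84,[1,3,4,1]),
  (86,[1,3,4,2]),
  (136,[1,3,4,3]),
  (133,[1,3,4,5]),
  (3819,[1,3,4,6]),
  (1716,[1,3,4,7]),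
  (610,[1,3,4,9]),
  (886,[1,3,6,0]),
  (3047,[1,3,6,1]),
  (1702,[1,3,6,2]),
  (115,[1,3,6,3]),
  (593,[1,3,6,4]),
  (846,[1,3,6,6]),
  (3251,[1,3,6,7]),
  (110,[1,3,6,8]),
  (383,[1,3,6,9]),
  (2598,[1,3,7,0]),
  (2058,[1,3,7,1]),
  (1181,[1,3,7,2]),
  (339,[1,3,7,3]),
  (3465,[1,3,7,4]),
  (258,[1,3,7,6]),
  (324,[1,3,7,7]),
  (556,[1,3,7,8]),
  (906,[1,3,7,9]),
  (340,[1,5,1,2]),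
  (356,[1,5,1,3]),
  (728,[1,5,1,5]),
  (829,[1,5,1,6]),
  (1323,[1,5,1,7]),
  (79,[1,5,2,2]),
  (231,[1,5,2,3]),
  (225,[1,5,2,4]),
  (61,[1,5,2,5]),
  (274,[1,5,2,6]),
  (1487,[1,5,2,7]),
  (75,[1,5,2,8]),
  (65,[1,5,3,0])]

/-- part 1 of `topOrb0` -/
noncomputable def topOrb0P1 : List (ℕ × List ℕ) := [
  (96,[1,5,3,2]),
  (880,[1,5,3,6]),
  (2398,[1,5,3,7]),
  (116,[1,5,4,2]),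
  (553,[1,5,4,3]),
  (564,[1,5,4,5]),
  (2554,[1,5,4,6]),
  (3546,[1,5,4,7]),
  (612,[1,5,4,9]),
  (209,[1,5,6,0]),
  (17,[1,5,6,1]),
  (1578,[1,5,6,2]),
  (68,[1,5,6,3]),
  (1514,[1,5,6,4]),
  (642,[1,5,6,6]),
  (1152,[1,5,6,7]),
  (230,[1,5,6,9]),
  (2142,[1,5,7,0]),
  (2094,[1,5,7,1]),
  (2141,[1,5,7,2]),
  (3873,[1,5,7,4]),
  (1294,[1,5,7,7]),
  (135,[1,5,7,8]),
  (1232,[1,5,7,9]),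
  (583,[1,6,0,0]),
  (1950,[1,6,0,1]),
  (3493,[1,6,0,2]),
  (2202,[1,6,0,3]),
  (3221,[1,6,0,5]),
  (1685,[1,6,0,6]),
  (3539,[1,6,0,7]),
  (2686,[1,6,0,8]),
  (1810,[1,6,0,9]),
  (2575,[1,6,1,0]),
  (877,[1,6,1,1]),
  (3070,[1,6,1,2]),
  (2815,[1,6,1,3]),
  (2816,[1,6,1,4]),
  (1168,[1,6,1,5]),
  (1072,[1,6,1,6]),
  (1836,[1,6,1,7]),
  (706,[1,6,1,8]),
  (485,[1,6,1,9]),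
  (2098,[1,6,2,0]),
  (1755,[1,6,2,2]),
  (979,[1,6,2,3]),
  (1957,[1,6,2,4]),
  (749,[1,6,2,5]),
  (2255,[1,6,2,6]),
  (1752,[1,6,2,7]),
  (696,[1,6,2,8]),
  (956,[1,6,2,9]),
  (577,[1,6,3,0]),
  (267,[1,6,3,1]),
  (585,[1,6,3,3]),
  (576,[1,6,3,4]),
  (479,[1,6,3,6]),
  (287,[1,6,3,7]),
  (3101,[1,6,4,1]),
  (3723,[1,6,4,2]),
  (3604,[1,6,4,3]),
  (3682,[1,6,4,5]),
  (2984,[1,6,4,6]),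
  (3658,[1,6,4,7]),
  (3447,[1,6,4,8]),
  (3110,[1,6,4,9]),
  (582,[1,6,6,0]),
  (1064,[1,6,6,1]),
  (1986,[1,6,6,2]),
  (91,[1,6,6,3]),
  (748,[1,6,6,4]),
  (856,[1,6,6,6]),
  (103,[1,6,6,7]),
  (3418,[1,6,7,0]),
  (702,[1,6,7,1]),
  (2004,[1,6,7,2]),
  (907,[1,6,7,3]),
  (1710,[1,6,7,4]),
  (2903,[1,6,7,7]),
  (1904,[1,6,7,8]),
  (204,[1,6,8,0]),
  (704,[1,6,8,1]),
  (693,[1,6,8,2]),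
  (692,[1,6,8,4]),
  (786,[1,6,8,7]),
  (490,[1,6,9,0]),
  (487,[1,6,9,1]),
  (1288,[1,6,9,2]),
  (488,[1,6,9,4]),
  (1655,[1,6,9,7]),
  (1120,[1,7,0,0]),
  (1107,[1,7,0,1]),
  (3079,[1,7,0,2]),
  (2156,[1,7,0,3]),
  (3802,[1,7,0,5]),
  (1574,[1,7,0,6]),
  (1706,[1,7,0,7]),
  (1028,[1,7,0,8]),
  (3683,[1,7,0,9]),
  (557,[1,7,1,0])]

/-- part 2 of `topOrb0` -/
noncomputable def topOrb0P2 : List (ℕ × List ℕ) := [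
  (2023,[1,7,1,1]),
  (550,[1,7,1,2]),
  (1106,[1,7,1,4]),
  (3455,[1,7,1,6]),
  (697,[1,7,1,7]),
  (3055,[1,7,1,9]),
  (2896,[1,7,2,0]),
  (2889,[1,7,2,2]),
  (2650,[1,7,2,3]),
  (2718,[1,7,2,4]),
  (3306,[1,7,2,5]),
  (3876,[1,7,2,6]),
  (2115,[1,7,2,7]),
  (1116,[1,7,2,8]),
  (2850,[1,7,2,9]),
  (305,[1,7,3,0]),
  (298,[1,7,3,1]),
  (639,[1,7,3,2]),
  (1817,[1,7,3,3]),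
  (332,[1,7,3,4]),
  (1115,[1,7,3,7]),
  (896,[1,7,3,9]),
  (1108,[1,7,4,1]),
  (3533,[1,7,4,2]),
  (3804,[1,7,4,3]),
  (1118,[1,7,4,4]),
  (3236,[1,7,4,5]),
  (2236,[1,7,4,6]),
  (3787,[1,7,4,7]),
  (1111,[1,7,4,8]),
  (913,[1,7,4,9]),
  (106,[1,7,6,0]),
  (337,[1,7,6,1]),
  (592,[1,7,6,2]),
  (74,[1,7,6,3]),
  (73,[1,7,6,4]),
  (2843,[1,7,6,6]),
  (120,[1,7,6,8]),
  (214,[1,7,6,9]),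
  (1848,[1,7,7,0]),
  (1862,[1,7,7,1]),
  (640,[1,7,7,2]),
  (216,[1,7,7,3]),
  (1847,[1,7,7,4]),
  (1162,[1,7,7,6]),
  (1857,[1,7,7,8]),
  (2893,[1,7,8,2]),
  (2791,[1,7,8,6]),
  (1189,[1,7,8,9]),
  (2752,[1,7,9,0]),
  (1190,[1,7,9,1]),
  (2849,[1,7,9,2]),
  (2916,[1,7,9,4]),
  (1797,[1,7,9,6]),
  (738,[1,3,0,1,3]),
  (735,[1,3,0,1,5]),
  (533,[1,3,0,1,6]),
  (1009,[1,3,0,1,7]),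
  (155,[1,3,0,1,8]),
  (354,[1,3,0,1,9]),
  (71,[1,3,0,2,0]),
  (124,[1,3,0,2,2]),
  (603,[1,3,0,2,3]),
  (87,[1,3,0,2,4]),
  (3058,[1,3,0,2,6]),
  (426,[1,3,0,2,7]),
  (545,[1,3,0,3,0]),
  (1102,[1,3,0,3,1]),
  (142,[1,3,0,3,2]),
  (1087,[1,3,0,3,4]),
  (3245,[1,3,0,3,6]),
  (1521,[1,3,0,3,7]),
  (1814,[1,3,0,3,8]),
  (1194,[1,3,0,3,9]),
  (1134,[1,3,0,5,0]),
  (2857,[1,3,0,5,1]),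
  (2851,[1,3,0,5,2]),
  (543,[1,3,0,5,3]),
  (1133,[1,3,0,5,4]),
  (555,[1,3,0,5,5]),
  (2725,[1,3,0,5,6]),
  (3651,[1,3,0,5,7]),
  (2024,[1,3,0,5,8]),
  (2143,[1,3,0,5,9]),
  (3827,[1,3,0,6,0]),
  (1307,[1,3,0,6,1]),
  (1161,[1,3,0,6,2]),
  (1124,[1,3,0,6,3]),
  (2412,[1,3,0,6,4]),
  (3117,[1,3,0,6,6]),
  (1675,[1,3,0,6,7]),
  (2506,[1,3,0,6,8]),
  (2536,[1,3,0,6,9]),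
  (1880,[1,3,0,7,0]),
  (779,[1,3,0,7,1]),
  (2949,[1,3,0,7,2]),
  (3313,[1,3,0,7,3]),
  (1924,[1,3,0,7,4]),
  (3265,[1,3,0,7,6]),
  (2990,[1,3,0,7,7])]

/-- part 3 of `topOrb0` -/
noncomputable def topOrb0P3 : List (ℕ × List ℕ) := [
  (1562,[1,3,0,7,8]),
  (1641,[1,3,0,7,9]),
  (297,[1,3,0,8,1]),
  (747,[1,3,0,8,2]),
  (3603,[1,3,0,8,6]),
  (1320,[1,3,0,8,7]),
  (745,[1,3,0,8,9]),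
  (772,[1,3,0,9,1]),
  (104,[1,3,0,9,2]),
  (3484,[1,3,0,9,6]),
  (1490,[1,3,0,9,7]),
  (713,[1,3,1,0,2]),
  (972,[1,3,1,0,3]),
  (969,[1,3,1,0,5]),
  (2336,[1,3,1,0,6]),
  (1337,[1,3,1,0,7]),
  (830,[1,3,1,0,9]),
  (112,[1,3,1,1,2]),
  (242,[1,3,1,2,0]),
  (15,[1,3,1,2,2]),
  (414,[1,3,1,2,3]),
  (47,[1,3,1,2,4]),
  (2251,[1,3,1,2,5]),
  (1365,[1,3,1,2,6]),
  (1410,[1,3,1,2,7]),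
  (82,[1,3,1,2,8]),
  (149,[1,3,1,2,9]),
  (336,[1,3,1,3,0]),
  (72,[1,3,1,3,1]),
  (262,[1,3,1,3,2]),
  (330,[1,3,1,3,4]),
  (385,[1,3,1,3,6]),
  (1160,[1,3,1,3,7]),
  (268,[1,3,1,3,8]),
  (154,[1,3,1,3,9]),
  (608,[1,3,1,4,2]),
  (869,[1,3,1,4,3]),
  (1017,[1,3,1,4,5]),
  (812,[1,3,1,4,6]),
  (1960,[1,3,1,4,7]),
  (108,[1,3,1,4,9]),
  (113,[1,3,1,5,0]),
  (352,[1,3,1,5,2]),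
  (122,[1,3,1,5,4]),
  (727,[1,3,1,5,5]),
  (1271,[1,3,1,5,6]),
  (827,[1,3,1,5,7]),
  (302,[1,3,1,5,8]),
  (2071,[1,3,1,6,0]),
  (1777,[1,3,1,6,1]),
  (2395,[1,3,1,6,2]),
  (144,[1,3,1,6,3]),
  (1968,[1,3,1,6,4]),
  (1277,[1,3,1,6,6]),
  (930,[1,3,1,6,7]),
  (1762,[1,3,1,6,8]),
  (2444,[1,3,1,7,0]),
  (3597,[1,3,1,7,1]),
  (2286,[1,3,1,7,2]),
  (263,[1,3,1,7,3]),
  (2439,[1,3,1,7,4]),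
  (237,[1,3,1,7,7]),
  (825,[1,3,1,7,8]),
  (1362,[1,3,1,7,9]),
  (223,[1,3,1,8,2]),
  (1513,[1,3,1,8,6]),
  (658,[1,3,1,8,7]),
  (156,[1,3,1,9,2]),
  (63,[1,3,1,9,6]),
  (1426,[1,3,1,9,7]),
  (270,[1,3,2,0,1]),
  (226,[1,3,2,0,2]),
  (1052,[1,3,2,0,3]),
  (1050,[1,3,2,0,5]),
  (1209,[1,3,2,0,6]),
  (3670,[1,3,2,0,7]),
  (304,[1,3,2,0,8]),
  (552,[1,3,2,0,9]),
  (161,[1,3,2,2,0]),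
  (201,[1,3,2,2,3]),
  (212,[1,3,2,2,4]),
  (185,[1,3,2,2,5]),
  (2487,[1,3,2,2,6]),
  (1091,[1,3,2,2,7]),
  (466,[1,3,2,3,0]),
  (481,[1,3,2,3,1]),
  (236,[1,3,2,3,2]),
  (471,[1,3,2,3,4]),
  (1001,[1,3,2,3,6]),
  (2298,[1,3,2,3,7]),
  (1754,[1,3,2,4,3]),
  (753,[1,3,2,4,5]),
  (1569,[1,3,2,4,6]),
  (1767,[1,3,2,4,7]),
  (395,[1,3,2,4,9]),
  (205,[1,3,2,5,1]),
  (2352,[1,3,2,5,2]),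
  (467,[1,3,2,5,3]),
  (1930,[1,3,2,5,4]),
  (382,[1,3,2,5,5])]

/-- part 4 of `topOrb0` -/
noncomputable def topOrb0P4 : List (ℕ × List ℕ) := [
  (1558,[1,3,2,5,6]),
  (3643,[1,3,2,5,7]),
  (885,[1,3,2,5,8]),
  (180,[1,3,2,6,0]),
  (162,[1,3,2,6,1]),
  (1273,[1,3,2,6,2]),
  (2344,[1,3,2,6,3]),
  (1358,[1,3,2,6,4]),
  (954,[1,3,2,6,7]),
  (2263,[1,3,2,6,8]),
  (1590,[1,3,2,6,9]),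
  (1436,[1,3,2,7,0]),
  (1511,[1,3,2,7,1]),
  (2636,[1,3,2,7,2]),
  (2656,[1,3,2,7,3]),
  (1509,[1,3,2,7,4]),
  (1872,[1,3,2,7,6]),
  (3421,[1,3,2,7,7]),
  (2648,[1,3,2,7,8]),
  (3644,[1,3,2,7,9]),
  (107,[1,3,2,8,0]),
  (323,[1,3,2,8,6]),
  (734,[1,3,4,1,3]),
  (870,[1,3,4,1,5]),
  (442,[1,3,4,1,6]),
  (2457,[1,3,4,1,7]),
  (52,[1,3,4,1,8]),
  (129,[1,3,4,2,2]),
  (250,[1,3,4,2,3]),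
  (117,[1,3,4,2,4]),
  (900,[1,3,4,2,6]),
  (635,[1,3,4,2,8]),
  (137,[1,3,4,3,0]),
  (522,[1,3,4,3,1]),
  (572,[1,3,4,3,2]),
  (1123,[1,3,4,3,4]),
  (2461,[1,3,4,3,6]),
  (1979,[1,3,4,3,7]),
  (138,[1,3,4,3,9]),
  (1101,[1,3,4,5,2]),
  (134,[1,3,4,5,3]),
  (1841,[1,3,4,5,6]),
  (1579,[1,3,4,5,7]),
  (2634,[1,3,4,6,0]),
  (2517,[1,3,4,6,1]),
  (3645,[1,3,4,6,2]),
  (3317,[1,3,4,6,3]),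
  (3818,[1,3,4,6,4]),
  (3283,[1,3,4,6,7]),
  (3242,[1,3,4,6,8]),
  (3186,[1,3,4,6,9]),
  (1740,[1,3,4,7,0]),
  (691,[1,3,4,7,1]),
  (3434,[1,3,4,7,2]),
  (3365,[1,3,4,7,3]),
  (707,[1,3,4,7,4]),
  (2510,[1,3,4,7,6]),
  (1953,[1,3,4,7,7]),
  (2576,[1,3,4,7,8]),
  (3326,[1,3,4,7,9]),
  (611,[1,3,4,9,4]),
  (3601,[1,3,4,9,6]),
  (1571,[1,3,4,9,7]),
  (1022,[1,3,6,0,1]),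
  (1851,[1,3,6,0,2]),
  (643,[1,3,6,0,5]),
  (2370,[1,3,6,0,6]),
  (3534,[1,3,6,0,7]),
  (879,[1,3,6,0,9]),
  (3091,[1,3,6,1,2]),
  (3048,[1,3,6,1,3]),
  (1901,[1,3,6,1,4]),
  (2163,[1,3,6,1,5]),
  (3858,[1,3,6,1,7]),
  (950,[1,3,6,1,8]),
  (2626,[1,3,6,1,9]),
  (2146,[1,3,6,2,0]),
  (1703,[1,3,6,2,2]),
  (2151,[1,3,6,2,3]),
  (1701,[1,3,6,2,4]),
  (2150,[1,3,6,2,5]),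
  (2571,[1,3,6,2,6]),
  (3621,[1,3,6,2,7]),
  (943,[1,3,6,2,8]),
  (1824,[1,3,6,2,9]),
  (590,[1,3,6,3,1]),
  (206,[1,3,6,3,3]),
  (575,[1,3,6,3,4]),
  (1654,[1,3,6,3,6]),
  (111,[1,3,6,3,8]),
  (1903,[1,3,6,4,1]),
  (601,[1,3,6,4,2]),
  (594,[1,3,6,4,3]),
  (102,[1,3,6,4,5]),
  (1391,[1,3,6,4,7]),
  (2622,[1,3,6,6,0]),
  (3125,[1,3,6,6,1]),
  (2066,[1,3,6,6,2]),
  (3109,[1,3,6,6,4]),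
  (3344,[1,3,6,7,0])]

/-- part 5 of `topOrb0` -/
noncomputable def topOrb0P5 : List (ℕ × List ℕ) := [
  (3053,[1,3,6,7,1]),
  (2694,[1,3,6,7,2]),
  (626,[1,3,6,7,3]),
  (3473,[1,3,6,7,4]),
  (544,[1,3,6,7,6]),
  (1007,[1,3,6,7,8]),
  (1902,[1,3,6,7,9]),
  (703,[1,3,6,8,0]),
  (948,[1,3,6,8,1]),
  (940,[1,3,6,8,2]),
  (939,[1,3,6,8,4]),
  (94,[1,3,6,8,6]),
  (776,[1,3,6,8,7]),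
  (469,[1,3,6,9,0]),
  (483,[1,3,6,9,1]),
  (1293,[1,3,6,9,2]),
  (468,[1,3,6,9,4]),
  (853,[1,3,6,9,7]),
  (2305,[1,3,7,0,0]),
  (2060,[1,3,7,0,1]),
  (2599,[1,3,7,0,2]),
  (3671,[1,3,7,0,3]),
  (1690,[1,3,7,0,5]),
  (2667,[1,3,7,0,6]),
  (2544,[1,3,7,0,7]),
  (465,[1,3,7,0,8]),
  (1429,[1,3,7,0,9]),
  (2533,[1,3,7,1,0]),
  (2261,[1,3,7,1,2]),
  (2059,[1,3,7,1,3]),
  (676,[1,3,7,1,4]),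
  (2323,[1,3,7,1,5]),
  (2046,[1,3,7,1,6]),
  (828,[1,3,7,1,7]),
  (803,[1,3,7,1,9]),
  (3349,[1,3,7,2,0]),
  (1182,[1,3,7,2,2]),
  (232,[1,3,7,2,3]),
  (3551,[1,3,7,2,4]),
  (3364,[1,3,7,2,5]),
  (2773,[1,3,7,2,6]),
  (1962,[1,3,7,2,8]),
  (2312,[1,3,7,2,9]),
  (607,[1,3,7,3,2]),
  (2308,[1,3,7,3,3]),
  (303,[1,3,7,3,4]),
  (2121,[1,3,7,3,6]),
  (2717,[1,3,7,3,7]),
  (1424,[1,3,7,4,1]),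
  (1839,[1,3,7,4,2]),
  (2260,[1,3,7,4,3]),
  (2397,[1,3,7,4,4]),
  (3120,[1,3,7,4,5]),
  (1657,[1,3,7,4,6]),
  (1041,[1,3,7,4,7]),
  (2441,[1,3,7,4,8]),
  (833,[1,3,7,4,9]),
  (308,[1,3,7,6,0]),
  (43,[1,3,7,6,1]),
  (243,[1,3,7,6,2]),
  (90,[1,3,7,6,3]),
  (307,[1,3,7,6,4]),
  (1044,[1,3,7,6,6]),
  (244,[1,3,7,6,8]),
  (254,[1,3,7,6,9]),
  (1854,[1,3,7,7,0]),
  (2282,[1,3,7,7,1]),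
  (2148,[1,3,7,7,2]),
  (2281,[1,3,7,7,4]),
  (2377,[1,3,7,7,6]),
  (1086,[1,3,7,8,0]),
  (1104,[1,3,7,8,1]),
  (1238,[1,3,7,8,2]),
  (1085,[1,3,7,8,4]),
  (2075,[1,3,7,8,6]),
  (1205,[1,3,7,9,0]),
  (2254,[1,3,7,9,1]),
  (1204,[1,3,7,9,4]),
  (2029,[1,3,7,9,6]),
  (145,[1,5,1,2,2]),
  (875,[1,5,1,2,3]),
  (1885,[1,5,1,2,5]),
  (826,[1,5,1,2,6]),
  (1419,[1,5,1,2,7]),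
  (98,[1,5,1,2,8]),
  (729,[1,5,1,3,0]),
  (357,[1,5,1,3,2]),
  (355,[1,5,1,3,4]),
  (1255,[1,5,1,3,6]),
  (430,[1,5,1,3,7]),
  (153,[1,5,1,5,0]),
  (387,[1,5,1,5,1]),
  (660,[1,5,1,5,4]),
  (602,[1,5,1,5,5]),
  (928,[1,5,1,5,6]),
  (2362,[1,5,1,5,7]),
  (77,[1,5,1,6,6]),
  (932,[1,5,1,6,8]),
  (1434,[1,5,1,6,9]),
  (1324,[1,5,1,7,0])]

/-- part 6 of `topOrb0` -/
noncomputable def topOrb0P6 : List (ℕ × List ℕ) := [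
  (1126,[1,5,1,7,1]),
  (2087,[1,5,1,7,2]),
  (269,[1,5,1,7,3]),
  (1329,[1,5,1,7,4]),
  (248,[1,5,1,7,7]),
  (1251,[1,5,1,7,8]),
  (859,[1,5,1,7,9]),
  (218,[1,5,2,2,3]),
  (211,[1,5,2,2,4]),
  (202,[1,5,2,2,5]),
  (1529,[1,5,2,2,6]),
  (2914,[1,5,2,2,7]),
  (1943,[1,5,2,3,1]),
  (447,[1,5,2,3,2]),
  (470,[1,5,2,3,3]),
  (1917,[1,5,2,3,4]),
  (990,[1,5,2,3,6]),
  (2744,[1,5,2,3,7]),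
  (596,[1,5,2,3,8]),
  (1478,[1,5,2,4,3]),
  (1826,[1,5,2,4,5]),
  (791,[1,5,2,4,7]),
  (338,[1,5,2,4,8]),
  (128,[1,5,2,4,9]),
  (435,[1,5,2,5,2]),
  (229,[1,5,2,5,3]),
  (1707,[1,5,2,5,6]),
  (285,[1,5,2,6,0]),
  (26,[1,5,2,6,1]),
  (694,[1,5,2,6,3]),
  (760,[1,5,2,6,4]),
  (947,[1,5,2,6,6]),
  (2968,[1,5,2,6,7]),
  (360,[1,5,2,6,9]),
  (1488,[1,5,2,7,0]),
  (680,[1,5,2,7,1]),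
  (3358,[1,5,2,7,2]),
  (3308,[1,5,2,7,3]),
  (937,[1,5,2,7,4]),
  (2589,[1,5,2,7,6]),
  (2258,[1,5,2,7,7]),
  (2492,[1,5,2,7,8]),
  (2812,[1,5,2,7,9]),
  (2833,[1,5,2,8,6]),
  (3567,[1,5,2,8,7]),
  (554,[1,5,3,0,5]),
  (3491,[1,5,3,0,6]),
  (3266,[1,5,3,0,7]),
  (372,[1,5,3,0,8]),
  (578,[1,5,3,0,9]),
  (127,[1,5,3,2,0]),
  (95,[1,5,3,2,2]),
  (486,[1,5,3,2,3]),
  (3441,[1,5,3,2,6]),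
  (3346,[1,5,3,2,7]),
  (2577,[1,5,3,6,1]),
  (2061,[1,5,3,6,2]),
  (101,[1,5,3,6,3]),
  (3874,[1,5,3,7,0]),
  (2041,[1,5,3,7,1]),
  (2342,[1,5,3,7,2]),
  (141,[1,5,3,7,9]),
  (227,[1,5,4,2,2]),
  (88,[1,5,4,2,9]),
  (567,[1,5,4,3,0]),
  (1146,[1,5,4,3,1]),
  (562,[1,5,4,3,2]),
  (1916,[1,5,4,3,6]),
  (1343,[1,5,4,3,7]),
  (3032,[1,5,4,3,9]),
  (1159,[1,5,4,5,2]),
  (565,[1,5,4,5,3]),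
  (2978,[1,5,4,5,6]),
  (1926,[1,5,4,5,7]),
  (139,[1,5,4,5,9]),
  (2470,[1,5,4,6,0]),
  (2862,[1,5,4,6,2]),
  (3368,[1,5,4,6,3]),
  (1961,[1,5,4,6,4]),
  (1642,[1,5,4,6,6]),
  (2714,[1,5,4,6,7]),
  (1240,[1,5,4,6,8]),
  (2291,[1,5,4,6,9]),
  (3565,[1,5,4,7,0]),
  (1780,[1,5,4,7,1]),
  (3545,[1,5,4,7,2]),
  (2981,[1,5,4,7,3]),
  (783,[1,5,4,7,4]),
  (3092,[1,5,4,7,6]),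
  (3377,[1,5,4,7,7]),
  (3655,[1,5,4,7,8]),
  (3632,[1,5,4,7,9]),
  (579,[1,5,4,9,4]),
  (251,[1,5,4,9,6]),
  (1750,[1,5,4,9,7]),
  (878,[1,5,6,0,0]),
  (186,[1,5,6,0,1]),
  (1764,[1,5,6,0,2]),
  (1771,[1,5,6,0,3]),
  (3716,[1,5,6,0,5])]

/-- part 7 of `topOrb0` -/
noncomputable def topOrb0P7 : List (ℕ × List ℕ) := [
  (3501,[1,5,6,0,8]),
  (2910,[1,5,6,0,9]),
  (184,[1,5,6,1,0]),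
  (191,[1,5,6,1,2]),
  (190,[1,5,6,1,4]),
  (715,[1,5,6,2,2]),
  (1627,[1,5,6,2,3]),
  (3337,[1,5,6,2,4]),
  (3362,[1,5,6,2,5]),
  (2191,[1,5,6,2,6]),
  (255,[1,5,6,2,7]),
  (194,[1,5,6,2,8]),
  (574,[1,5,6,3,0]),
  (151,[1,5,6,3,1]),
  (2801,[1,5,6,3,6]),
  (188,[1,5,6,4,1]),
  (1634,[1,5,6,4,2]),
  (1775,[1,5,6,4,3]),
  (1772,[1,5,6,4,5]),
  (2456,[1,5,6,4,6]),
  (3260,[1,5,6,4,7]),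
  (2501,[1,5,6,4,8]),
  (1638,[1,5,6,4,9]),
  (2825,[1,5,6,6,1]),
  (1530,[1,5,6,6,2]),
  (3103,[1,5,6,6,4]),
  (1153,[1,5,6,7,2]),
  (746,[1,5,6,7,3]),
  (1151,[1,5,6,7,4]),
  (1078,[1,5,6,7,7]),
  (895,[1,5,6,7,8]),
  (1925,[1,5,6,9,2]),
  (480,[1,5,6,9,4]),
  (1060,[1,5,6,9,7]),
  (2022,[1,5,7,0,1]),
  (3875,[1,5,7,0,2]),
  (3278,[1,5,7,0,3]),
  (3815,[1,5,7,0,5]),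
  (2944,[1,5,7,0,6]),
  (2967,[1,5,7,0,8]),
  (2879,[1,5,7,0,9]),
  (2091,[1,5,7,1,0]),
  (3747,[1,5,7,1,2]),
  (3169,[1,5,7,1,3]),
  (2093,[1,5,7,1,4]),
  (495,[1,5,7,1,5]),
  (782,[1,5,7,1,6]),
  (3179,[1,5,7,1,7]),
  (634,[1,5,7,1,9]),
  (3709,[1,5,7,2,0]),
  (3745,[1,5,7,2,2]),
  (3855,[1,5,7,2,4]),
  (2034,[1,5,7,2,5]),
  (1815,[1,5,7,2,6]),
  (1136,[1,5,7,2,8]),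
  (3719,[1,5,7,2,9]),
  (1820,[1,5,7,4,1]),
  (3210,[1,5,7,4,2]),
  (3883,[1,5,7,4,3]),
  (2306,[1,5,7,4,4]),
  (3027,[1,5,7,4,5]),
  (1263,[1,5,7,4,7]),
  (2966,[1,5,7,4,8]),
  (235,[1,5,7,7,0]),
  (1864,[1,5,7,7,4]),
  (2375,[1,5,7,7,6]),
  (1144,[1,5,7,8,1]),
  (1132,[1,5,7,8,2]),
  (1096,[1,5,7,8,4]),
  (2092,[1,5,7,8,6]),
  (3485,[1,5,7,8,9]),
  (1233,[1,5,7,9,0]),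
  (3295,[1,5,7,9,1]),
  (2110,[1,5,7,9,2]),
  (3065,[1,6,0,0,0]),
  (1833,[1,6,0,0,1]),
  (584,[1,6,0,0,3]),
  (2118,[1,6,0,0,7]),
  (1166,[1,6,0,1,0]),
  (980,[1,6,0,1,1]),
  (2095,[1,6,0,1,2]),
  (2928,[1,6,0,1,3]),
  (3321,[1,6,0,1,5]),
  (1227,[1,6,0,1,6]),
  (3432,[1,6,0,1,7]),
  (1686,[1,6,0,1,8]),
  (3403,[1,6,0,1,9]),
  (3648,[1,6,0,2,2]),
  (3608,[1,6,0,2,3]),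
  (3724,[1,6,0,2,4]),
  (2482,[1,6,0,2,5]),
  (2310,[1,6,0,2,6]),
  (3173,[1,6,0,2,7]),
  (2901,[1,6,0,2,8]),
  (1714,[1,6,0,2,9]),
  (3574,[1,6,0,3,0]),
  (1668,[1,6,0,3,1]),
  (3030,[1,6,0,3,2]),
  (1672,[1,6,0,3,4]),
  (3277,[1,6,0,3,6])]

/-- part 8 of `topOrb0` -/
noncomputable def topOrb0P8 : List (ℕ × List ℕ) := [
  (3503,[1,6,0,3,7]),
  (3614,[1,6,0,3,9]),
  (3222,[1,6,0,5,0]),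
  (2447,[1,6,0,5,1]),
  (2868,[1,6,0,5,2]),
  (1586,[1,6,0,5,3]),
  (2596,[1,6,0,5,4]),
  (3685,[1,6,0,5,5]),
  (2129,[1,6,0,5,6]),
  (1617,[1,6,0,5,7]),
  (1420,[1,6,0,5,8]),
  (3598,[1,6,0,5,9]),
  (3255,[1,6,0,6,1]),
  (3199,[1,6,0,6,2]),
  (199,[1,6,0,6,3]),
  (2837,[1,6,0,6,4]),
  (3050,[1,6,0,6,6]),
  (1394,[1,6,0,6,7]),
  (3838,[1,6,0,6,8]),
  (1731,[1,6,0,6,9]),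
  (1891,[1,6,0,7,0]),
  (3596,[1,6,0,7,1]),
  (1580,[1,6,0,7,2]),
  (1667,[1,6,0,7,3]),
  (2676,[1,6,0,7,4]),
  (2160,[1,6,0,7,6]),
  (2958,[1,6,0,7,7]),
  (1568,[1,6,0,7,8]),
  (1936,[1,6,0,7,9]),
  (2961,[1,6,0,8,0]),
  (2947,[1,6,0,8,2]),
  (2762,[1,6,0,8,4]),
  (2164,[1,6,0,8,6]),
  (1717,[1,6,0,8,9]),
  (3312,[1,6,0,9,0]),
  (3625,[1,6,0,9,1]),
  (1713,[1,6,0,9,2]),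
  (3111,[1,6,0,9,4]),
  (3258,[1,6,0,9,7]),
  (2929,[1,6,1,0,5]),
  (3580,[1,6,1,0,6]),
  (2769,[1,6,1,0,9]),
  (2418,[1,6,1,1,6]),
  (3500,[1,6,1,1,7]),
  (689,[1,6,1,1,8]),
  (3071,[1,6,1,2,0]),
  (3387,[1,6,1,2,2]),
  (2086,[1,6,1,2,3]),
  (3197,[1,6,1,2,5]),
  (2171,[1,6,1,2,6]),
  (705,[1,6,1,2,8]),
  (2784,[1,6,1,3,0]),
  (2998,[1,6,1,3,1]),
  (3100,[1,6,1,3,2]),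
  (529,[1,6,1,3,3]),
  (2992,[1,6,1,3,4]),
  (3004,[1,6,1,3,6]),
  (771,[1,6,1,3,9]),
  (3642,[1,6,1,4,2]),
  (1746,[1,6,1,4,3]),
  (2930,[1,6,1,4,5]),
  (3328,[1,6,1,4,7]),
  (2511,[1,6,1,4,9]),
  (1169,[1,6,1,5,0]),
  (3867,[1,6,1,5,1]),
  (3037,[1,6,1,5,2]),
  (3512,[1,6,1,5,3]),
  (130,[1,6,1,5,6]),
  (2854,[1,6,1,5,7]),
  (3889,[1,6,1,5,8]),
  (2731,[1,6,1,5,9]),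
  (1073,[1,6,1,6,0]),
  (1914,[1,6,1,6,2]),
  (1908,[1,6,1,6,3]),
  (1858,[1,6,1,6,6]),
  (3842,[1,6,1,6,7]),
  (621,[1,6,1,6,8]),
  (617,[1,6,1,6,9]),
  (1837,[1,6,1,7,0]),
  (2770,[1,6,1,7,1]),
  (2733,[1,6,1,7,2]),
  (1459,[1,6,1,7,3]),
  (985,[1,6,1,7,6]),
  (2991,[1,6,1,7,8]),
  (3631,[1,6,1,7,9]),
  (3305,[1,6,1,8,2]),
  (3761,[1,6,1,8,6]),
  (3713,[1,6,1,8,7]),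
  (3107,[1,6,1,8,9]),
  (491,[1,6,1,9,2]),
  (1341,[1,6,1,9,6]),
  (1910,[1,6,1,9,7]),
  (1952,[1,6,2,0,1]),
  (2108,[1,6,2,0,2]),
  (2099,[1,6,2,0,3]),
  (292,[1,6,2,0,5]),
  (3695,[1,6,2,0,6]),
  (2235,[1,6,2,0,7]),
  (2109,[1,6,2,0,8]),
  (2002,[1,6,2,0,9])]

/-- part 9 of `topOrb0` -/
noncomputable def topOrb0P9 : List (ℕ × List ℕ) := [
  (3156,[1,6,2,2,0]),
  (2299,[1,6,2,2,3]),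
  (3269,[1,6,2,2,4]),
  (2360,[1,6,2,2,5]),
  (695,[1,6,2,2,8]),
  (496,[1,6,2,2,9]),
  (1395,[1,6,2,3,6]),
  (1949,[1,6,2,4,1]),
  (1958,[1,6,2,4,2]),
  (2124,[1,6,2,4,3]),
  (2100,[1,6,2,4,5]),
  (474,[1,6,2,4,6]),
  (3151,[1,6,2,4,7]),
  (2130,[1,6,2,4,8]),
  (1677,[1,6,2,4,9]),
  (751,[1,6,2,5,4]),
  (2145,[1,6,2,5,6]),
  (2985,[1,6,2,5,7]),
  (189,[1,6,2,5,8]),
  (1878,[1,6,2,6,0]),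
  (3375,[1,6,2,6,1]),
  (2184,[1,6,2,6,2]),
  (499,[1,6,2,6,3]),
  (3458,[1,6,2,6,4]),
  (890,[1,6,2,6,8]),
  (1449,[1,6,2,6,9]),
  (711,[1,6,2,7,0]),
  (1742,[1,6,2,7,1]),
  (3391,[1,6,2,7,2]),
  (1920,[1,6,2,7,3]),
  (3168,[1,6,2,7,6]),
  (3259,[1,6,2,7,8]),
  (2888,[1,6,2,7,9]),
  (834,[1,6,2,8,0]),
  (1723,[1,6,2,8,1]),
  (701,[1,6,2,8,4]),
  (3526,[1,6,2,8,7]),
  (787,[1,6,2,8,9]),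
  (1928,[1,6,2,9,1]),
  (1331,[1,6,2,9,2]),
  (1887,[1,6,2,9,6]),
  (3593,[1,6,2,9,7]),
  (278,[1,6,3,0,1]),
  (3035,[1,6,3,0,3]),
  (1215,[1,6,3,0,5]),
  (1538,[1,6,3,0,7]),
  (952,[1,6,3,0,9]),
  (716,[1,6,3,1,0]),
  (2044,[1,6,3,1,3]),
  (266,[1,6,3,1,4]),
  (2436,[1,6,3,1,5]),
  (2393,[1,6,3,1,6]),
  (2490,[1,6,3,1,7]),
  (586,[1,6,3,3,0]),
  (1834,[1,6,3,3,1]),
  (755,[1,6,3,3,2]),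
  (2414,[1,6,3,3,6]),
  (756,[1,6,3,4,1]),
  (3040,[1,6,3,4,3]),
  (1090,[1,6,3,4,6]),
  (1838,[1,6,3,4,7]),
  (773,[1,6,3,4,9]),
  (1493,[1,6,3,6,2]),
  (712,[1,6,3,6,4]),
  (1626,[1,6,3,6,6]),
  (641,[1,6,3,6,8]),
  (288,[1,6,3,7,0]),
  (33,[1,6,3,7,1]),
  (2508,[1,6,3,7,6]),
  (908,[1,6,3,7,7]),
  (286,[1,6,3,7,8]),
  (309,[1,6,3,7,9]),
  (2400,[1,6,4,1,2]),
  (2790,[1,6,4,1,6]),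
  (1869,[1,6,4,1,7]),
  (1684,[1,6,4,1,8]),
  (3654,[1,6,4,2,2]),
  (3892,[1,6,4,2,3]),
  (3739,[1,6,4,2,6]),
  (2567,[1,6,4,2,7]),
  (3624,[1,6,4,2,8]),
  (699,[1,6,4,2,9]),
  (3861,[1,6,4,3,0]),
  (2386,[1,6,4,3,1]),
  (3841,[1,6,4,3,4]),
  (2933,[1,6,4,3,7]),
  (2096,[1,6,4,3,8]),
  (3392,[1,6,4,3,9]),
  (2128,[1,6,4,5,1]),
  (1691,[1,6,4,5,3]),
  (3630,[1,6,4,5,7]),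
  (1114,[1,6,4,5,8]),
  (1191,[1,6,4,5,9]),
  (3235,[1,6,4,6,1]),
  (2464,[1,6,4,6,2]),
  (3384,[1,6,4,6,3]),
  (2920,[1,6,4,6,4]),
  (2446,[1,6,4,6,6]),
  (1812,[1,6,4,6,7]),
  (3415,[1,6,4,6,8])]

/-- part 10 of `topOrb0` -/
noncomputable def topOrb0P10 : List (ℕ × List ℕ) := [
  (1344,[1,6,4,7,0]),
  (1486,[1,6,4,7,1]),
  (3879,[1,6,4,7,3]),
  (3511,[1,6,4,7,4]),
  (3345,[1,6,4,7,6]),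
  (3786,[1,6,4,7,8]),
  (3737,[1,6,4,7,9]),
  (3272,[1,6,4,8,2]),
  (1921,[1,6,4,8,4]),
  (3504,[1,6,4,8,6]),
  (3435,[1,6,4,8,7]),
  (2767,[1,6,4,8,9]),
  (698,[1,6,4,9,2]),
  (2290,[1,6,4,9,6]),
  (3038,[1,6,6,0,1]),
  (589,[1,6,6,0,2]),
  (1330,[1,6,6,0,6]),
  (1479,[1,6,6,0,7]),
  (1912,[1,6,6,1,0]),
  (2485,[1,6,6,1,2]),
  (2068,[1,6,6,1,7]),
  (3146,[1,6,6,2,0]),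
  (1620,[1,6,6,2,2]),
  (3366,[1,6,6,2,3]),
  (632,[1,6,6,2,4]),
  (1588,[1,6,6,2,5]),
  (2038,[1,6,6,2,6]),
  (1633,[1,6,6,2,7]),
  (2345,[1,6,6,2,8]),
  (1444,[1,6,6,3,6]),
  (1030,[1,6,6,3,7]),
  (293,[1,6,6,4,2]),
  (2359,[1,6,6,4,6]),
  (1945,[1,6,6,6,1]),
  (2420,[1,6,6,6,2]),
  (1915,[1,6,6,6,4]),
  (2192,[1,6,6,6,7]),
  (538,[1,6,6,7,2]),
  (1781,[1,6,6,7,6]),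
  (118,[1,6,6,7,9]),
  (851,[1,6,7,0,1]),
  (3095,[1,6,7,0,2]),
  (1150,[1,6,7,0,5]),
  (1083,[1,6,7,0,6]),
  (2638,[1,6,7,0,7]),
  (3508,[1,6,7,0,8]),
  (3290,[1,6,7,0,9]),
  (938,[1,6,7,1,0]),
  (2665,[1,6,7,1,1]),
  (1831,[1,6,7,1,2]),
  (203,[1,6,7,1,5]),
  (1336,[1,6,7,1,6]),
  (1061,[1,6,7,1,7]),
  (2673,[1,6,7,2,2]),
  (245,[1,6,7,2,3]),
  (1884,[1,6,7,2,4]),
  (2021,[1,6,7,2,5]),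
  (1264,[1,6,7,2,7]),
  (2215,[1,6,7,2,8]),
  (759,[1,6,7,2,9]),
  (300,[1,6,7,3,1]),
  (3489,[1,6,7,3,3]),
  (3707,[1,6,7,4,2]),
  (3452,[1,6,7,4,3]),
  (3605,[1,6,7,4,6]),
  (1576,[1,6,7,4,7]),
  (2318,[1,6,7,4,8]),
  (3275,[1,6,7,4,9]),
  (1739,[1,6,7,7,1]),
  (690,[1,6,7,7,2]),
  (551,[1,6,7,7,3]),
  (1220,[1,6,7,7,4]),
  (989,[1,6,7,7,6]),
  (1800,[1,6,7,7,7]),
  (606,[1,6,7,7,8]),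
  (2153,[1,6,7,8,2]),
  (2919,[1,6,8,0,5]),
  (2748,[1,6,8,0,6]),
  (2627,[1,6,8,0,7]),
  (2924,[1,6,8,1,2]),
  (3425,[1,6,8,1,3]),
  (3172,[1,6,8,1,5]),
  (439,[1,6,8,1,6]),
  (2424,[1,6,8,1,7]),
  (1067,[1,6,8,1,9]),
  (3388,[1,6,8,2,0]),
  (2406,[1,6,8,2,3]),
  (3381,[1,6,8,2,4]),
  (1972,[1,6,8,2,5]),
  (1407,[1,6,8,2,6]),
  (1112,[1,6,8,2,7]),
  (873,[1,6,8,2,8]),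
  (3121,[1,6,8,2,9]),
  (3386,[1,6,8,4,2]),
  (1735,[1,6,8,4,3]),
  (1732,[1,6,8,4,5]),
  (3791,[1,6,8,4,6]),
  (3669,[1,6,8,4,7]),
  (3170,[1,6,8,7,1]),
  (125,[1,6,8,7,3])]

/-- part 11 of `topOrb0` -/
noncomputable def topOrb0P11 : List (ℕ × List ℕ) := [
  (3581,[1,6,8,7,4]),
  (998,[1,6,8,7,7]),
  (1791,[1,6,8,7,8]),
  (898,[1,6,8,7,9]),
  (2741,[1,6,9,0,2]),
  (1757,[1,6,9,0,3]),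
  (1464,[1,6,9,0,5]),
  (3520,[1,6,9,0,6]),
  (1987,[1,6,9,0,7]),
  (1658,[1,6,9,0,9]),
  (1927,[1,6,9,1,2]),
  (2736,[1,6,9,1,5]),
  (2680,[1,6,9,1,6]),
  (3419,[1,6,9,1,7]),
  (1942,[1,6,9,2,0]),
  (1542,[1,6,9,2,3]),
  (2546,[1,6,9,2,4]),
  (3691,[1,6,9,2,7]),
  (2085,[1,6,9,2,8]),
  (1944,[1,6,9,4,2]),
  (2735,[1,6,9,4,3]),
  (2746,[1,6,9,4,5]),
  (3607,[1,6,9,4,7]),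
  (196,[1,6,9,7,1]),
  (1664,[1,6,9,7,2]),
  (1753,[1,6,9,7,4]),
  (1893,[1,6,9,7,6]),
  (1121,[1,7,0,0,0]),
  (2926,[1,7,0,0,2]),
  (1519,[1,7,0,0,7]),
  (1157,[1,7,0,0,9]),
  (2317,[1,7,0,1,1]),
  (1005,[1,7,0,1,2]),
  (3840,[1,7,0,1,5]),
  (3714,[1,7,0,1,6]),
  (2909,[1,7,0,1,7]),
  (1683,[1,7,0,1,8]),
  (3689,[1,7,0,1,9]),
  (3753,[1,7,0,2,0]),
  (3894,[1,7,0,2,2]),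
  (1557,[1,7,0,2,3]),
  (3845,[1,7,0,2,4]),
  (2690,[1,7,0,2,6]),
  (2049,[1,7,0,2,7]),
  (1113,[1,7,0,2,9]),
  (1896,[1,7,0,3,0]),
  (768,[1,7,0,3,1]),
  (2161,[1,7,0,3,2]),
  (294,[1,7,0,3,4]),
  (815,[1,7,0,3,6]),
  (2979,[1,7,0,3,7]),
  (1029,[1,7,0,3,8]),
  (3439,[1,7,0,3,9]),
  (2902,[1,7,0,5,0]),
  (3820,[1,7,0,5,2]),
  (2157,[1,7,0,5,3]),
  (3204,[1,7,0,5,5]),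
  (3031,[1,7,0,5,6]),
  (891,[1,7,0,5,7]),
  (2587,[1,7,0,5,8]),
  (1525,[1,7,0,5,9]),
  (2751,[1,7,0,6,1]),
  (3591,[1,7,0,6,2]),
  (1573,[1,7,0,6,4]),
  (2975,[1,7,0,6,6]),
  (767,[1,7,0,6,7]),
  (1776,[1,7,0,6,8]),
  (1705,[1,7,0,7,0]),
  (2662,[1,7,0,7,1]),
  (2167,[1,7,0,7,3]),
  (2659,[1,7,0,7,4]),
  (1163,[1,7,0,7,6]),
  (2518,[1,7,0,7,7]),
  (2832,[1,7,0,7,9]),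
  (2848,[1,7,0,8,0]),
  (2925,[1,7,0,8,2]),
  (1938,[1,7,0,8,6]),
  (3263,[1,7,0,8,7]),
  (3411,[1,7,0,8,9]),
  (3562,[1,7,0,9,0]),
  (2309,[1,7,0,9,1]),
  (1024,[1,7,0,9,6]),
  (2927,[1,7,1,0,3]),
  (778,[1,7,1,0,6]),
  (2194,[1,7,1,0,7]),
  (3256,[1,7,1,0,9]),
  (2402,[1,7,1,1,2]),
  (644,[1,7,1,1,6]),
  (1218,[1,7,1,1,9]),
  (549,[1,7,1,2,2]),
  (2897,[1,7,1,2,3]),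
  (1171,[1,7,1,2,4]),
  (2520,[1,7,1,2,6]),
  (1593,[1,7,1,2,7]),
  (2986,[1,7,1,2,8]),
  (3008,[1,7,1,2,9]),
  (723,[1,7,1,6,0]),
  (3454,[1,7,1,6,1]),
  (2631,[1,7,1,6,2]),
  (3814,[1,7,1,6,3])]

/-- part 12 of `topOrb0` -/
noncomputable def topOrb0P12 : List (ℕ × List ℕ) := [
  (1918,[1,7,1,6,6]),
  (1446,[1,7,1,6,7]),
  (3468,[1,7,1,6,8]),
  (3884,[1,7,1,6,9]),
  (3155,[1,7,1,7,1]),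
  (1725,[1,7,1,7,2]),
  (2907,[1,7,1,7,3]),
  (3127,[1,7,1,7,4]),
  (2973,[1,7,1,7,7]),
  (3134,[1,7,1,7,8]),
  (3067,[1,7,1,7,9]),
  (3164,[1,7,1,9,0]),
  (3003,[1,7,1,9,1]),
  (3733,[1,7,1,9,4]),
  (2892,[1,7,2,0,1]),
  (1456,[1,7,2,0,5]),
  (3022,[1,7,2,0,6]),
  (2899,[1,7,2,0,9]),
  (2890,[1,7,2,2,0]),
  (3850,[1,7,2,2,2]),
  (1432,[1,7,2,2,3]),
  (3535,[1,7,2,2,4]),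
  (2829,[1,7,2,2,5]),
  (540,[1,7,2,2,6]),
  (864,[1,7,2,2,7]),
  (2132,[1,7,2,3,0]),
  (1477,[1,7,2,3,1]),
  (3274,[1,7,2,3,2]),
  (1768,[1,7,2,3,3]),
  (3886,[1,7,2,3,7]),
  (2279,[1,7,2,3,8]),
  (2699,[1,7,2,3,9]),
  (2894,[1,7,2,4,1]),
  (2719,[1,7,2,4,3]),
  (3131,[1,7,2,4,4]),
  (3205,[1,7,2,4,5]),
  (2697,[1,7,2,4,6]),
  (3446,[1,7,2,4,7]),
  (3564,[1,7,2,4,8]),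
  (3896,[1,7,2,4,9]),
  (1727,[1,7,2,5,1]),
  (1729,[1,7,2,5,2]),
  (2133,[1,7,2,5,3]),
  (3497,[1,7,2,5,5]),
  (3271,[1,7,2,5,6]),
  (1947,[1,7,2,5,8]),
  (2743,[1,7,2,5,9]),
  (1211,[1,7,2,6,0]),
  (3342,[1,7,2,6,1]),
  (3352,[1,7,2,6,2]),
  (3703,[1,7,2,6,3]),
  (424,[1,7,2,6,6]),
  (1997,[1,7,2,6,7]),
  (1242,[1,7,2,6,8]),
  (1013,[1,7,2,6,9]),
  (2116,[1,7,2,7,0]),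
  (2070,[1,7,2,7,1]),
  (2138,[1,7,2,7,3]),
  (3078,[1,7,2,7,4]),
  (3666,[1,7,2,7,7]),
  (2117,[1,7,2,7,8]),
  (1993,[1,7,2,7,9]),
  (2852,[1,7,2,8,1]),
  (624,[1,7,2,8,4]),
  (2739,[1,7,2,8,6]),
  (3280,[1,7,2,8,7]),
  (3007,[1,7,2,8,9]),
  (2847,[1,7,2,9,0]),
  (3248,[1,7,2,9,1]),
  (3001,[1,7,2,9,2]),
  (1110,[1,7,2,9,4]),
  (3074,[1,7,2,9,6]),
  (2555,[1,7,2,9,7]),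
  (35,[1,7,3,0,1]),
  (477,[1,7,3,0,3]),
  (1823,[1,7,3,0,5]),
  (599,[1,7,3,0,6]),
  (51,[1,7,3,1,0]),
  (334,[1,7,3,1,2]),
  (454,[1,7,3,1,3]),
  (42,[1,7,3,1,4]),
  (1305,[1,7,3,1,5]),
  (1193,[1,7,3,1,6]),
  (919,[1,7,3,1,9]),
  (210,[1,7,3,2,2]),
  (3318,[1,7,3,2,3]),
  (2136,[1,7,3,2,5]),
  (3768,[1,7,3,2,7]),
  (131,[1,7,3,2,8]),
  (1818,[1,7,3,3,0]),
  (2611,[1,7,3,3,4]),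
  (1736,[1,7,3,3,7]),
  (1224,[1,7,3,3,9]),
  (41,[1,7,3,4,1]),
  (220,[1,7,3,4,3]),
  (1228,[1,7,3,4,6]),
  (568,[1,7,3,7,2]),
  (1644,[1,7,3,7,3]),
  (3657,[1,7,3,7,6]),
  (1149,[1,7,3,7,7])]

/-- part 13 of `topOrb0` -/
noncomputable def topOrb0P13 : List (ℕ × List ℕ) := [
  (3844,[1,7,3,7,8]),
  (2917,[1,7,3,7,9]),
  (353,[1,7,3,9,1]),
  (3557,[1,7,3,9,6]),
  (2423,[1,7,3,9,7]),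
  (2982,[1,7,4,1,2]),
  (2938,[1,7,4,1,3]),
  (3264,[1,7,4,1,5]),
  (3310,[1,7,4,1,6]),
  (1996,[1,7,4,1,7]),
  (3563,[1,7,4,1,8]),
  (3864,[1,7,4,2,3]),
  (2777,[1,7,4,2,6]),
  (2606,[1,7,4,2,7]),
  (3862,[1,7,4,3,0]),
  (3250,[1,7,4,3,2]),
  (3297,[1,7,4,3,4]),
  (3559,[1,7,4,3,6]),
  (1384,[1,7,4,3,7]),
  (3775,[1,7,4,3,8]),
  (3681,[1,7,4,3,9]),
  (3530,[1,7,4,4,6]),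
  (2578,[1,7,4,4,7]),
  (3174,[1,7,4,5,0]),
  (3229,[1,7,4,5,1]),
  (2465,[1,7,4,5,2]),
  (1457,[1,7,4,5,3]),
  (3232,[1,7,4,5,4]),
  (3663,[1,7,4,5,6]),
  (3660,[1,7,4,5,7]),
  (3478,[1,7,4,5,9]),
  (3461,[1,7,4,6,2]),
  (2779,[1,7,4,6,3]),
  (3790,[1,7,4,7,2]),
  (3788,[1,7,4,7,3]),
  (2970,[1,7,4,7,6]),
  (2502,[1,7,4,7,7]),
  (3296,[1,7,4,7,8]),
  (3049,[1,7,4,7,9]),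
  (2983,[1,7,4,8,4]),
  (2706,[1,7,4,8,6]),
  (2162,[1,7,4,8,7]),
  (3610,[1,7,4,9,4]),
  (2213,[1,7,4,9,6]),
  (301,[1,7,6,0,1]),
  (423,[1,7,6,0,5]),
  (1515,[1,7,6,0,6]),
  (370,[1,7,6,1,0]),
  (683,[1,7,6,1,3]),
  (2169,[1,7,6,1,6]),
  (2333,[1,7,6,1,7]),
  (374,[1,7,6,1,9]),
  (276,[1,7,6,2,0]),
  (2076,[1,7,6,2,3]),
  (119,[1,7,6,2,8]),
  (361,[1,7,6,3,2]),
  (2586,[1,7,6,3,7]),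
  (627,[1,7,6,4,3]),
  (909,[1,7,6,4,5]),
  (2242,[1,7,6,4,7]),
  (2179,[1,7,6,6,1]),
  (3702,[1,7,6,6,2]),
  (1458,[1,7,6,6,4]),
  (2020,[1,7,6,6,8]),
  (884,[1,7,6,8,2]),
  (213,[1,7,6,9,4]),
  (1176,[1,7,6,9,6]),
  (3354,[1,7,6,9,7]),
  (1849,[1,7,7,0,0]),
  (2474,[1,7,7,0,1]),
  (2618,[1,7,7,0,2]),
  (1188,[1,7,7,0,6]),
  (3781,[1,7,7,0,7]),
  (3144,[1,7,7,0,8]),
  (944,[1,7,7,0,9]),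
  (1863,[1,7,7,1,0]),
  (2581,[1,7,7,1,3]),
  (3303,[1,7,7,1,6]),
  (2666,[1,7,7,1,8]),
  (1591,[1,7,7,2,2]),
  (595,[1,7,7,2,5]),
  (3228,[1,7,7,2,6]),
  (1661,[1,7,7,2,7]),
  (475,[1,7,7,3,3]),
  (991,[1,7,7,4,1]),
  (1983,[1,7,7,4,2]),
  (3395,[1,7,7,4,3]),
  (3611,[1,7,7,4,6]),
  (2846,[1,7,7,4,7]),
  (1623,[1,7,7,4,8]),
  (157,[1,7,7,6,1]),
  (284,[1,7,7,6,3]),
  (1037,[1,7,7,6,4]),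
  (764,[1,7,7,6,7]),
  (2301,[1,7,7,6,8]),
  (1450,[1,7,7,6,9]),
  (1971,[1,7,7,8,0]),
  (2885,[1,7,8,2,2]),
  (2997,[1,7,8,2,5]),
  (3448,[1,7,8,2,6])]

/-- part 14 of `topOrb0` -/
noncomputable def topOrb0P14 : List (ℕ × List ℕ) := [
  (1790,[1,7,8,2,7]),
  (2794,[1,7,8,6,1]),
  (2573,[1,7,8,6,2]),
  (2175,[1,7,8,6,4]),
  (629,[1,7,8,6,8]),
  (3227,[1,7,8,9,2]),
  (1808,[1,7,8,9,6]),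
  (2334,[1,7,9,0,3]),
  (3330,[1,7,9,0,6]),
  (1197,[1,7,9,0,7]),
  (2651,[1,7,9,1,2]),
  (1894,[1,7,9,1,7]),
  (1734,[1,7,9,2,4]),
  (3487,[1,7,9,2,7]),
  (1965,[1,7,9,4,3]),
  (2753,[1,7,9,4,5]),
  (1720,[1,7,9,4,6]),
  (2343,[1,7,9,4,7]),
  (2820,[1,7,9,4,8]),
  (3531,[1,7,9,6,0]),
  (3726,[1,7,9,6,1]),
  (1796,[1,7,9,6,2]),
  (228,[1,7,9,6,3]),
  (2001,[1,7,9,6,6]),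
  (1340,[1,7,9,6,8]),
  (739,[1,3,0,1,3,0]),
  (977,[1,3,0,1,3,2]),
  (2489,[1,3,0,1,3,4]),
  (668,[1,3,0,1,3,7]),
  (380,[1,3,0,1,3,8]),
  (176,[1,3,0,1,3,9]),
  (2338,[1,3,0,1,5,2]),
  (736,[1,3,0,1,5,3]),
  (1259,[1,3,0,1,5,4]),
  (871,[1,3,0,1,5,5]),
  (2182,[1,3,0,1,5,6]),
  (1011,[1,3,0,1,5,7]),
  (377,[1,3,0,1,5,8]),
  (455,[1,3,0,1,6,0]),
  (2563,[1,3,0,1,6,1]),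
  (2428,[1,3,0,1,6,2]),
  (1314,[1,3,0,1,6,3]),
  (1430,[1,3,0,1,6,4]),
  (1326,[1,3,0,1,6,6]),
  (397,[1,3,0,1,6,7]),
  (1595,[1,3,0,1,6,9]),
  (1010,[1,3,0,1,7,0]),
  (1428,[1,3,0,1,7,1]),
  (819,[1,3,0,1,7,2]),
  (1008,[1,3,0,1,7,4]),
  (407,[1,3,0,1,7,6]),
  (802,[1,3,0,1,7,7]),
  (2248,[1,3,0,1,7,9]),
  (368,[1,3,0,1,8,2]),
  (428,[1,3,0,1,8,6]),
  (1418,[1,3,0,1,8,7]),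
  (920,[1,3,0,1,9,0]),
  (861,[1,3,0,1,9,6]),
  (432,[1,3,0,1,9,7]),
  (623,[1,3,0,2,0,1]),
  (613,[1,3,0,2,0,3]),
  (758,[1,3,0,2,0,5]),
  (3751,[1,3,0,2,0,6]),
  (591,[1,3,0,2,0,8]),
  (1021,[1,3,0,2,2,3]),
  (449,[1,3,0,2,2,5]),
  (3445,[1,3,0,2,2,6]),
  (2455,[1,3,0,2,2,7]),
  (708,[1,3,0,2,3,0]),
  (609,[1,3,0,2,4,1]),
  (614,[1,3,0,2,4,5]),
  (182,[1,3,0,2,4,7]),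
  (3888,[1,3,0,2,6,0]),
  (2112,[1,3,0,2,6,1]),
  (3433,[1,3,0,2,6,2]),
  (580,[1,3,0,2,6,3]),
  (1682,[1,3,0,2,6,4]),
  (408,[1,3,0,2,7,0]),
  (59,[1,3,0,2,7,1]),
  (604,[1,3,0,2,7,2]),
  (425,[1,3,0,2,7,4]),
  (3710,[1,3,0,2,7,8]),
  (968,[1,3,0,3,0,1]),
  (3424,[1,3,0,3,0,5]),
  (1994,[1,3,0,3,0,6]),
  (2954,[1,3,0,3,0,7]),
  (2293,[1,3,0,3,0,8]),
  (3363,[1,3,0,3,0,9]),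
  (792,[1,3,0,3,1,0]),
  (1250,[1,3,0,3,1,2]),
  (2300,[1,3,0,3,1,5]),
  (1328,[1,3,0,3,1,6]),
  (964,[1,3,0,3,1,7]),
  (1202,[1,3,0,3,1,9]),
  (1235,[1,3,0,3,2,0]),
  (1244,[1,3,0,3,2,3]),
  (1231,[1,3,0,3,2,4]),
  (2574,[1,3,0,3,2,5]),
  (3171,[1,3,0,3,2,6]),
  (3361,[1,3,0,3,2,8])]

/-- part 15 of `topOrb0` -/
noncomputable def topOrb0P15 : List (ℕ × List ℕ) := [
  (1105,[1,3,0,3,4,1]),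
  (2738,[1,3,0,3,4,3]),
  (1507,[1,3,0,3,4,5]),
  (2357,[1,3,0,3,4,9]),
  (3398,[1,3,0,3,6,1]),
  (3401,[1,3,0,3,6,2]),
  (3495,[1,3,0,3,6,4]),
  (3849,[1,3,0,3,6,6]),
  (1850,[1,3,0,3,6,7]),
  (2422,[1,3,0,3,6,8]),
  (3443,[1,3,0,3,6,9]),
  (1518,[1,3,0,3,7,0]),
  (1756,[1,3,0,3,7,1]),
  (1043,[1,3,0,3,7,2]),
  (3766,[1,3,0,3,7,6]),
  (2521,[1,3,0,3,7,7]),
  (2679,[1,3,0,3,7,9]),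
  (1822,[1,3,0,3,8,2]),
  (2600,[1,3,0,3,8,4]),
  (597,[1,3,0,3,8,6]),
  (1639,[1,3,0,3,8,7]),
  (1208,[1,3,0,3,8,9]),
  (1195,[1,3,0,3,9,0]),
  (524,[1,3,0,3,9,1]),
  (2861,[1,3,0,3,9,2]),
  (3582,[1,3,0,3,9,6]),
  (2911,[1,3,0,5,0,1]),
  (2178,[1,3,0,5,0,2]),
  (2995,[1,3,0,5,0,3]),
  (2488,[1,3,0,5,0,6]),
  (2996,[1,3,0,5,0,7]),
  (2845,[1,3,0,5,1,2]),
  (3406,[1,3,0,5,1,3]),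
  (1147,[1,3,0,5,1,4]),
  (3770,[1,3,0,5,1,5]),
  (3656,[1,3,0,5,1,7]),
  (3798,[1,3,0,5,1,9]),
  (2959,[1,3,0,5,2,0]),
  (2204,[1,3,0,5,2,2]),
  (2974,[1,3,0,5,2,3]),
  (2972,[1,3,0,5,2,5]),
  (1645,[1,3,0,5,2,6]),
  (3270,[1,3,0,5,2,7]),
  (2025,[1,3,0,5,2,8]),
  (1287,[1,3,0,5,3,1]),
  (1236,[1,3,0,5,3,2]),
  (3300,[1,3,0,5,3,7]),
  (1196,[1,3,0,5,3,9]),
  (874,[1,3,0,5,4,1]),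
  (1137,[1,3,0,5,4,2]),
  (3114,[1,3,0,5,4,3]),
  (3162,[1,3,0,5,4,5]),
  (3367,[1,3,0,5,4,6]),
  (3612,[1,3,0,5,4,9]),
  (2891,[1,3,0,5,5,2]),
  (3198,[1,3,0,5,5,6]),
  (3062,[1,3,0,5,5,7]),
  (1646,[1,3,0,5,6,2]),
  (1332,[1,3,0,5,6,3]),
  (3142,[1,3,0,5,6,6]),
  (893,[1,3,0,5,7,0]),
  (1873,[1,3,0,5,7,1]),
  (3708,[1,3,0,5,7,2]),
  (3083,[1,3,0,5,7,7]),
  (1047,[1,3,0,5,7,8]),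
  (2556,[1,3,0,5,7,9]),
  (3167,[1,3,0,5,8,0]),
  (2208,[1,3,0,5,8,1]),
  (2548,[1,3,0,5,8,6]),
  (3690,[1,3,0,5,8,7]),
  (1219,[1,3,0,5,8,9]),
  (3833,[1,3,0,5,9,0]),
  (3646,[1,3,0,5,9,1]),
  (1097,[1,3,0,5,9,4]),
  (2873,[1,3,0,5,9,7]),
  (1785,[1,3,0,6,0,0]),
  (2407,[1,3,0,6,0,1]),
  (2705,[1,3,0,6,0,2]),
  (2671,[1,3,0,6,0,3]),
  (2724,[1,3,0,6,0,6]),
  (2900,[1,3,0,6,0,7]),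
  (1223,[1,3,0,6,0,8]),
  (2249,[1,3,0,6,1,0]),
  (1624,[1,3,0,6,1,2]),
  (2408,[1,3,0,6,1,4]),
  (379,[1,3,0,6,1,5]),
  (971,[1,3,0,6,1,8]),
  (732,[1,3,0,6,1,9]),
  (2963,[1,3,0,6,2,3]),
  (2883,[1,3,0,6,2,6]),
  (2875,[1,3,0,6,2,8]),
  (2459,[1,3,0,6,2,9]),
  (1322,[1,3,0,6,3,1]),
  (2529,[1,3,0,6,3,3]),
  (1128,[1,3,0,6,3,4]),
  (2655,[1,3,0,6,3,6]),
  (3527,[1,3,0,6,3,8]),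
  (3350,[1,3,0,6,3,9]),
  (2183,[1,3,0,6,4,1]),
  (2411,[1,3,0,6,4,4])]

/-- part 16 of `topOrb0` -/
noncomputable def topOrb0P16 : List (ℕ × List ℕ) := [
  (3466,[1,3,0,6,4,5]),
  (3376,[1,3,0,6,4,7]),
  (2977,[1,3,0,6,4,9]),
  (1080,[1,3,0,6,6,1]),
  (3118,[1,3,0,6,6,2]),
  (687,[1,3,0,6,6,3]),
  (3116,[1,3,0,6,6,4]),
  (1813,[1,3,0,6,6,7]),
  (2645,[1,3,0,6,6,8]),
  (3635,[1,3,0,6,7,1]),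
  (2952,[1,3,0,6,7,2]),
  (1184,[1,3,0,6,7,3]),
  (1674,[1,3,0,6,7,4]),
  (1084,[1,3,0,6,7,9]),
  (3641,[1,3,0,6,8,2]),
  (2238,[1,3,0,6,8,4]),
  (3813,[1,3,0,6,8,7]),
  (3359,[1,3,0,6,8,9]),
  (2763,[1,3,0,6,9,0]),
  (2534,[1,3,0,6,9,1]),
  (3470,[1,3,0,6,9,4]),
  (3314,[1,3,0,6,9,7]),
  (1881,[1,3,0,7,0,0]),
  (1625,[1,3,0,7,0,1]),
  (3341,[1,3,0,7,0,2]),
  (222,[1,3,0,7,0,5]),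
  (3400,[1,3,0,7,0,8]),
  (2214,[1,3,0,7,1,2]),
  (89,[1,3,0,7,1,3]),
  (795,[1,3,0,7,1,4]),
  (2950,[1,3,0,7,2,0]),
  (3082,[1,3,0,7,2,2]),
  (3634,[1,3,0,7,2,3]),
  (559,[1,3,0,7,2,5]),
  (2957,[1,3,0,7,2,6]),
  (1561,[1,3,0,7,2,8]),
  (3674,[1,3,0,7,2,9]),
  (2765,[1,3,0,7,3,0]),
  (1352,[1,3,0,7,3,1]),
  (1185,[1,3,0,7,3,2]),
  (3521,[1,3,0,7,3,3]),
  (3483,[1,3,0,7,3,6]),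
  (1109,[1,3,0,7,3,7]),
  (448,[1,3,0,7,3,9]),
  (1931,[1,3,0,7,4,2]),
  (3059,[1,3,0,7,4,4]),
  (3835,[1,3,0,7,4,5]),
  (2008,[1,3,0,7,4,6]),
  (2807,[1,3,0,7,4,7]),
  (3620,[1,3,0,7,6,1]),
  (1122,[1,3,0,7,6,3]),
  (2747,[1,3,0,7,6,9]),
  (2989,[1,3,0,7,7,0]),
  (3638,[1,3,0,7,7,1]),
  (2416,[1,3,0,7,7,3]),
  (1065,[1,3,0,7,7,6]),
  (3672,[1,3,0,7,7,7]),
  (3718,[1,3,0,7,7,8]),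
  (2006,[1,3,0,7,7,9]),
  (1508,[1,3,0,7,8,0]),
  (2089,[1,3,0,7,8,1]),
  (3329,[1,3,0,7,8,2]),
  (1543,[1,3,0,7,8,4]),
  (1640,[1,3,0,7,9,4]),
  (2421,[1,3,0,7,9,6]),
  (3609,[1,3,0,7,9,7]),
  (328,[1,3,0,8,1,2]),
  (865,[1,3,0,8,1,3]),
  (1370,[1,3,0,8,1,5]),
  (2450,[1,3,0,8,1,6]),
  (2532,[1,3,0,8,1,7]),
  (921,[1,3,0,8,1,9]),
  (3061,[1,3,0,8,2,3]),
  (2855,[1,3,0,8,2,5]),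
  (126,[1,3,0,8,2,8]),
  (3166,[1,3,0,8,6,0]),
  (1795,[1,3,0,8,6,2]),
  (910,[1,3,0,8,6,7]),
  (3856,[1,3,0,8,6,9]),
  (2373,[1,3,0,8,7,0]),
  (518,[1,3,0,8,7,1]),
  (1075,[1,3,0,8,7,2]),
  (2417,[1,3,0,8,7,3]),
  (2830,[1,3,0,8,7,6]),
  (3870,[1,3,0,8,7,7]),
  (2273,[1,3,0,8,7,8]),
  (1214,[1,3,0,8,7,9]),
  (1187,[1,3,0,8,9,6]),
  (1606,[1,3,0,8,9,7]),
  (923,[1,3,0,9,1,3]),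
  (922,[1,3,0,9,1,5]),
  (1443,[1,3,0,9,1,6]),
  (757,[1,3,0,9,2,3]),
  (987,[1,3,0,9,2,5]),
  (3077,[1,3,0,9,2,6]),
  (3081,[1,3,0,9,2,7]),
  (2430,[1,3,0,9,6,2]),
  (1174,[1,3,0,9,6,3]),
  (3018,[1,3,0,9,6,6]),
  (2329,[1,3,0,9,7,0])]

/-- part 17 of `topOrb0` -/
noncomputable def topOrb0P17 : List (ℕ × List ℕ) := [
  (1346,[1,3,0,9,7,1]),
  (1491,[1,3,0,9,7,2]),
  (1489,[1,3,0,9,7,4]),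
  (2732,[1,3,0,9,7,7]),
  (3316,[1,3,0,9,7,8]),
  (348,[1,3,1,0,2,2]),
  (502,[1,3,1,0,2,6]),
  (2369,[1,3,1,0,2,7]),
  (973,[1,3,1,0,3,0]),
  (1020,[1,3,1,0,3,2]),
  (121,[1,3,1,0,3,7]),
  (931,[1,3,1,0,3,9]),
  (2325,[1,3,1,0,5,0]),
  (1062,[1,3,1,0,5,1]),
  (970,[1,3,1,0,5,3]),
  (1299,[1,3,1,0,5,4]),
  (345,[1,3,1,0,5,7]),
  (1435,[1,3,1,0,5,9]),
  (2326,[1,3,1,0,6,0]),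
  (3423,[1,3,1,0,6,1]),
  (2335,[1,3,1,0,6,4]),
  (1295,[1,3,1,0,6,6]),
  (441,[1,3,1,0,6,7]),
  (2432,[1,3,1,0,6,8]),
  (2227,[1,3,1,0,6,9]),
  (1283,[1,3,1,0,7,1]),
  (2365,[1,3,1,0,7,2]),
  (508,[1,3,1,0,7,4]),
  (2229,[1,3,1,0,7,6]),
  (1315,[1,3,1,0,7,7]),
  (2264,[1,3,1,0,7,8]),
  (2550,[1,3,1,0,7,9]),
  (1356,[1,3,1,0,9,6]),
  (866,[1,3,1,1,2,6]),
  (257,[1,3,1,2,0,2]),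
  (264,[1,3,1,2,0,3]),
  (16,[1,3,1,2,2,3]),
  (150,[1,3,1,2,2,4]),
  (422,[1,3,1,2,2,5]),
  (1373,[1,3,1,2,2,6]),
  (3343,[1,3,1,2,2,7]),
  (400,[1,3,1,2,3,0]),
  (1222,[1,3,1,2,3,1]),
  (415,[1,3,1,2,3,2]),
  (752,[1,3,1,2,3,3]),
  (413,[1,3,1,2,3,4]),
  (457,[1,3,1,2,3,7]),
  (717,[1,3,1,2,3,8]),
  (159,[1,3,1,2,3,9]),
  (54,[1,3,1,2,4,2]),
  (25,[1,3,1,2,4,3]),
  (272,[1,3,1,2,4,5]),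
  (261,[1,3,1,2,4,8]),
  (2409,[1,3,1,2,5,0]),
  (2073,[1,3,1,2,5,1]),
  (519,[1,3,1,2,5,2]),
  (401,[1,3,1,2,5,3]),
  (2250,[1,3,1,2,5,4]),
  (1886,[1,3,1,2,5,5]),
  (326,[1,3,1,2,5,6]),
  (862,[1,3,1,2,5,8]),
  (2275,[1,3,1,2,6,0]),
  (2247,[1,3,1,2,6,2]),
  (170,[1,3,1,2,6,3]),
  (1366,[1,3,1,2,6,4]),
  (143,[1,3,1,2,6,6]),
  (2800,[1,3,1,2,6,8]),
  (2232,[1,3,1,2,6,9]),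
  (1463,[1,3,1,2,7,1]),
  (1411,[1,3,1,2,7,2]),
  (2219,[1,3,1,2,7,4]),
  (657,[1,3,1,2,7,6]),
  (510,[1,3,1,2,8,6]),
  (2246,[1,3,1,2,8,7]),
  (279,[1,3,1,2,9,2]),
  (148,[1,3,1,2,9,4]),
  (515,[1,3,1,2,9,6]),
  (505,[1,3,1,2,9,7]),
  (280,[1,3,1,3,0,2]),
  (1564,[1,3,1,3,0,5]),
  (793,[1,3,1,3,0,7]),
  (265,[1,3,1,3,0,8]),
  (371,[1,3,1,3,1,1]),
  (2125,[1,3,1,3,1,6]),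
  (1882,[1,3,1,3,2,3]),
  (800,[1,3,1,3,2,5]),
  (653,[1,3,1,3,2,6]),
  (797,[1,3,1,3,2,7]),
  (404,[1,3,1,3,4,3]),
  (1440,[1,3,1,3,4,7]),
  (394,[1,3,1,3,4,9]),
  (437,[1,3,1,3,6,0]),
  (1439,[1,3,1,3,6,1]),
  (452,[1,3,1,3,6,2]),
  (440,[1,3,1,3,6,6]),
  (1292,[1,3,1,3,6,8]),
  (682,[1,3,1,3,6,9]),
  (1325,[1,3,1,3,7,0]),
  (1129,[1,3,1,3,7,1]),
  (172,[1,3,1,3,7,4])]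

/-- part 18 of `topOrb0` -/
noncomputable def topOrb0P18 : List (ℕ × List ℕ) := [
  (256,[1,3,1,3,7,7]),
  (2048,[1,3,1,3,7,8]),
  (526,[1,3,1,3,8,6]),
  (2434,[1,3,1,3,8,7]),
  (375,[1,3,1,3,9,0]),
  (1291,[1,3,1,3,9,6]),
  (798,[1,3,1,3,9,7]),
  (392,[1,3,1,4,2,2]),
  (2045,[1,3,1,4,2,6]),
  (743,[1,3,1,4,3,0]),
  (2786,[1,3,1,4,3,1]),
  (876,[1,3,1,4,3,2]),
  (273,[1,3,1,4,3,6]),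
  (1296,[1,3,1,4,3,7]),
  (109,[1,3,1,4,3,9]),
  (2552,[1,3,1,4,5,1]),
  (1018,[1,3,1,4,5,3]),
  (2530,[1,3,1,4,5,4]),
  (92,[1,3,1,4,5,6]),
  (957,[1,3,1,4,5,7]),
  (179,[1,3,1,4,5,9]),
  (813,[1,3,1,4,6,0]),
  (3028,[1,3,1,4,6,1]),
  (2435,[1,3,1,4,6,2]),
  (174,[1,3,1,4,6,3]),
  (1390,[1,3,1,4,6,6]),
  (2296,[1,3,1,4,6,7]),
  (233,[1,3,1,4,7,0]),
  (1404,[1,3,1,4,7,2]),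
  (412,[1,3,1,4,7,4]),
  (514,[1,3,1,4,7,6]),
  (1301,[1,3,1,4,7,7]),
  (1393,[1,3,1,4,7,9]),
  (406,[1,3,1,4,9,7]),
  (721,[1,3,1,5,0,3]),
  (718,[1,3,1,5,0,5]),
  (823,[1,3,1,5,0,6]),
  (49,[1,3,1,5,2,0]),
  (2051,[1,3,1,5,2,3]),
  (2803,[1,3,1,5,2,6]),
  (393,[1,3,1,5,2,9]),
  (963,[1,3,1,5,4,3]),
  (961,[1,3,1,5,4,5]),
  (1969,[1,3,1,5,4,6]),
  (532,[1,3,1,5,4,7]),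
  (358,[1,3,1,5,5,2]),
  (1282,[1,3,1,5,5,6]),
  (93,[1,3,1,5,5,7]),
  (310,[1,3,1,5,6,0]),
  (2220,[1,3,1,5,6,1]),
  (146,[1,3,1,5,6,3]),
  (311,[1,3,1,5,6,4]),
  (445,[1,3,1,5,6,6]),
  (1276,[1,3,1,5,7,1]),
  (517,[1,3,1,5,7,2]),
  (2440,[1,3,1,5,7,4]),
  (260,[1,3,1,5,8,2]),
  (2245,[1,3,1,5,8,6]),
  (1300,[1,3,1,5,8,7]),
  (1103,[1,3,1,6,0,0]),
  (1963,[1,3,1,6,0,1]),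
  (1298,[1,3,1,6,0,2]),
  (1345,[1,3,1,6,0,3]),
  (234,[1,3,1,6,1,0]),
  (1280,[1,3,1,6,1,1]),
  (709,[1,3,1,6,1,4]),
  (3243,[1,3,1,6,1,5]),
  (1074,[1,3,1,6,1,6]),
  (1154,[1,3,1,6,1,9]),
  (366,[1,3,1,6,2,5]),
  (726,[1,3,1,6,2,8]),
  (1260,[1,3,1,6,3,3]),
  (2419,[1,3,1,6,3,6]),
  (313,[1,3,1,6,3,7]),
  (1094,[1,3,1,6,4,1]),
  (2356,[1,3,1,6,4,3]),
  (1290,[1,3,1,6,4,4]),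
  (2269,[1,3,1,6,4,5]),
  (679,[1,3,1,6,4,6]),
  (1447,[1,3,1,6,6,0]),
  (2303,[1,3,1,6,6,1]),
  (809,[1,3,1,6,7,0]),
  (2337,[1,3,1,6,7,1]),
  (341,[1,3,1,6,7,2]),
  (535,[1,3,1,6,7,6]),
  (64,[1,3,1,6,7,8]),
  (1984,[1,3,1,6,7,9]),
  (2270,[1,3,1,6,8,0]),
  (2257,[1,3,1,6,8,4]),
  (322,[1,3,1,6,8,6]),
  (2604,[1,3,1,7,0,1]),
  (2445,[1,3,1,7,0,3]),
  (1267,[1,3,1,7,0,7]),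
  (381,[1,3,1,7,0,8]),
  (1368,[1,3,1,7,0,9]),
  (811,[1,3,1,7,1,1]),
  (2438,[1,3,1,7,1,2]),
  (1809,[1,3,1,7,1,4]),
  (996,[1,3,1,7,1,5]),
  (2783,[1,3,1,7,1,6])]

/-- part 19 of `topOrb0` -/
noncomputable def topOrb0P19 : List (ℕ × List ℕ) := [
  (1977,[1,3,1,7,1,7]),
  (2287,[1,3,1,7,2,2]),
  (2597,[1,3,1,7,2,7]),
  (824,[1,3,1,7,2,8]),
  (821,[1,3,1,7,3,3]),
  (299,[1,3,1,7,3,9]),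
  (3600,[1,3,1,7,4,1]),
  (1398,[1,3,1,7,4,4]),
  (2609,[1,3,1,7,4,5]),
  (598,[1,3,1,7,4,7]),
  (1423,[1,3,1,7,4,8]),
  (8,[1,3,1,7,7,6]),
  (720,[1,3,1,7,7,7]),
  (1014,[1,3,1,7,8,1]),
  (2082,[1,3,1,7,8,9]),
  (1372,[1,3,1,7,9,0]),
  (546,[1,3,1,7,9,1]),
  (1363,[1,3,1,7,9,2]),
  (881,[1,3,1,7,9,4]),
  (925,[1,3,1,7,9,7]),
  (147,[1,3,1,8,2,2]),
  (976,[1,3,1,8,2,3]),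
  (1722,[1,3,1,8,2,6]),
  (1421,[1,3,1,8,2,7]),
  (573,[1,3,1,8,6,3]),
  (525,[1,3,1,8,6,8]),
  (2276,[1,3,1,8,7,1]),
  (659,[1,3,1,8,7,2]),
  (962,[1,3,1,8,7,8]),
  (165,[1,3,1,8,7,9]),
  (2509,[1,3,1,9,2,6]),
  (369,[1,3,1,9,6,3]),
  (523,[1,3,1,9,6,4]),
  (872,[1,3,1,9,6,6]),
  (822,[1,3,1,9,7,0]),
  (50,[1,3,1,9,7,7]),
  (327,[1,3,1,9,7,8]),
  (283,[1,3,2,0,1,2]),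
  (271,[1,3,2,0,1,3]),
  (2394,[1,3,2,0,1,7]),
  (314,[1,3,2,0,2,3]),
  (1057,[1,3,2,0,2,5]),
  (1899,[1,3,2,0,2,6]),
  (1724,[1,3,2,0,2,7]),
  (359,[1,3,2,0,2,8]),
  (1053,[1,3,2,0,3,0]),
  (3577,[1,3,2,0,3,1]),
  (974,[1,3,2,0,3,2]),
  (3502,[1,3,2,0,3,4]),
  (2413,[1,3,2,0,3,6]),
  (1653,[1,3,2,0,3,8]),
  (1279,[1,3,2,0,3,9]),
  (1148,[1,3,2,0,5,0]),
  (1051,[1,3,2,0,5,3]),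
  (1400,[1,3,2,0,5,4]),
  (1892,[1,3,2,0,5,5]),
  (982,[1,3,2,0,5,6]),
  (1897,[1,3,2,0,5,9]),
  (140,[1,3,2,0,6,0]),
  (1859,[1,3,2,0,6,2]),
  (1535,[1,3,2,0,6,3]),
  (2535,[1,3,2,0,6,6]),
  (2155,[1,3,2,0,6,7]),
  (1229,[1,3,2,0,6,8]),
  (3355,[1,3,2,0,6,9]),
  (2835,[1,3,2,0,7,0]),
  (1468,[1,3,2,0,7,1]),
  (1546,[1,3,2,0,7,3]),
  (3042,[1,3,2,0,7,4]),
  (1006,[1,3,2,0,7,6]),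
  (3578,[1,3,2,0,7,7]),
  (2624,[1,3,2,0,7,8]),
  (1241,[1,3,2,0,8,7]),
  (275,[1,3,2,0,9,2]),
  (2494,[1,3,2,0,9,7]),
  (1779,[1,3,2,2,0,5]),
  (1338,[1,3,2,2,4,5]),
  (3542,[1,3,2,2,4,6]),
  (539,[1,3,2,2,4,8]),
  (761,[1,3,2,2,4,9]),
  (1503,[1,3,2,2,5,2]),
  (845,[1,3,2,2,5,3]),
  (1433,[1,3,2,2,5,6]),
  (2756,[1,3,2,2,5,7]),
  (3428,[1,3,2,2,6,0]),
  (1827,[1,3,2,2,6,1]),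
  (2776,[1,3,2,2,6,4]),
  (3139,[1,3,2,2,6,6]),
  (724,[1,3,2,2,6,7]),
  (710,[1,3,2,2,6,8]),
  (2225,[1,3,2,2,7,0]),
  (1092,[1,3,2,2,7,2]),
  (2657,[1,3,2,2,7,3]),
  (2831,[1,3,2,2,7,8]),
  (2623,[1,3,2,3,0,1]),
  (2620,[1,3,2,3,0,3]),
  (1830,[1,3,2,3,0,5]),
  (3623,[1,3,2,3,0,6]),
  (1744,[1,3,2,3,0,7]),
  (1866,[1,3,2,3,0,8])]

/-- part 20 of `topOrb0` -/
noncomputable def topOrb0P20 : List (ℕ × List ℕ) := [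
  (2427,[1,3,2,3,1,0]),
  (2625,[1,3,2,3,1,4]),
  (2382,[1,3,2,3,1,6]),
  (941,[1,3,2,3,2,5]),
  (2158,[1,3,2,3,2,6]),
  (2923,[1,3,2,3,2,7]),
  (221,[1,3,2,3,2,9]),
  (484,[1,3,2,3,4,1]),
  (1226,[1,3,2,3,4,3]),
  (2621,[1,3,2,3,4,5]),
  (999,[1,3,2,3,6,0]),
  (959,[1,3,2,3,6,1]),
  (1318,[1,3,2,3,6,6]),
  (882,[1,3,2,3,7,0]),
  (651,[1,3,2,3,7,1]),
  (1995,[1,3,2,3,7,2]),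
  (667,[1,3,2,3,7,4]),
  (3673,[1,3,2,3,7,7]),
  (1964,[1,3,2,3,7,8]),
  (835,[1,3,2,4,3,1]),
  (847,[1,3,2,4,3,4]),
  (1976,[1,3,2,4,3,6]),
  (2987,[1,3,2,4,3,7]),
  (547,[1,3,2,4,5,0]),
  (754,[1,3,2,4,5,3]),
  (2749,[1,3,2,4,5,4]),
  (3212,[1,3,2,4,5,7]),
  (434,[1,3,2,4,5,9]),
  (794,[1,3,2,4,6,0]),
  (2134,[1,3,2,4,6,1]),
  (1570,[1,3,2,4,6,3]),
  (1375,[1,3,2,4,6,4]),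
  (1492,[1,3,2,4,7,1]),
  (2737,[1,3,2,4,7,6]),
  (2792,[1,3,2,4,7,7]),
  (3086,[1,3,2,4,7,8]),
  (1460,[1,3,2,4,7,9]),
  (3338,[1,3,2,4,9,7]),
  (1741,[1,3,2,5,1,0]),
  (1596,[1,3,2,5,1,2]),
  (1743,[1,3,2,5,1,4]),
  (2353,[1,3,2,5,2,0]),
  (2477,[1,3,2,5,2,4]),
  (347,[1,3,2,5,2,5]),
  (2877,[1,3,2,5,2,7]),
  (3085,[1,3,2,5,2,8]),
  (1517,[1,3,2,5,2,9]),
  (1807,[1,3,2,5,3,1]),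
  (852,[1,3,2,5,3,6]),
  (1933,[1,3,2,5,4,2]),
  (3887,[1,3,2,5,4,3]),
  (960,[1,3,2,5,5,6]),
  (788,[1,3,2,5,5,8]),
  (3717,[1,3,2,5,6,0]),
  (1699,[1,3,2,5,6,3]),
  (1985,[1,3,2,5,6,7]),
  (587,[1,3,2,5,6,8]),
  (3148,[1,3,2,5,6,9]),
  (894,[1,3,2,5,7,1]),
  (2922,[1,3,2,5,7,4]),
  (2226,[1,3,2,5,7,6]),
  (605,[1,3,2,5,7,8]),
  (3801,[1,3,2,5,7,9]),
  (1355,[1,3,2,5,8,2]),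
  (1367,[1,3,2,6,0,0]),
  (936,[1,3,2,6,0,2]),
  (1451,[1,3,2,6,0,3]),
  (3541,[1,3,2,6,0,5]),
  (992,[1,3,2,6,0,6]),
  (163,[1,3,2,6,1,0]),
  (169,[1,3,2,6,1,2]),
  (166,[1,3,2,6,1,3]),
  (1297,[1,3,2,6,1,7]),
  (2228,[1,3,2,6,1,8]),
  (1274,[1,3,2,6,2,3]),
  (1098,[1,3,2,6,2,4]),
  (3234,[1,3,2,6,2,7]),
  (1284,[1,3,2,6,2,8]),
  (2437,[1,3,2,6,2,9]),
  (1998,[1,3,2,6,3,1]),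
  (500,[1,3,2,6,3,7]),
  (2147,[1,3,2,6,3,8]),
  (167,[1,3,2,6,4,1]),
  (1455,[1,3,2,6,4,3]),
  (183,[1,3,2,6,4,4]),
  (1452,[1,3,2,6,4,5]),
  (3247,[1,3,2,6,4,6]),
  (2480,[1,3,2,6,4,8]),
  (3450,[1,3,2,6,4,9]),
  (1582,[1,3,2,6,7,0]),
  (1534,[1,3,2,6,7,2]),
  (1581,[1,3,2,6,7,4]),
  (997,[1,3,2,6,7,7]),
  (1614,[1,3,2,6,7,8]),
  (2827,[1,3,2,6,7,9]),
  (2460,[1,3,2,6,8,0]),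
  (785,[1,3,2,6,8,4]),
  (2874,[1,3,2,6,8,7]),
  (2526,[1,3,2,6,8,9]),
  (742,[1,3,2,6,9,1])]

/-- part 21 of `topOrb0` -/
noncomputable def topOrb0P21 : List (ℕ × List ℕ) := [
  (3467,[1,3,2,7,0,0]),
  (1312,[1,3,2,7,0,2]),
  (1175,[1,3,2,7,0,5]),
  (3397,[1,3,2,7,0,6]),
  (2785,[1,3,2,7,0,8]),
  (1512,[1,3,2,7,1,0]),
  (1567,[1,3,2,7,1,2]),
  (1177,[1,3,2,7,1,3]),
  (3472,[1,3,2,7,1,9]),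
  (1774,[1,3,2,7,2,2]),
  (2808,[1,3,2,7,2,3]),
  (1577,[1,3,2,7,2,4]),
  (3697,[1,3,2,7,2,5]),
  (3453,[1,3,2,7,2,8]),
  (2716,[1,3,2,7,2,9]),
  (2772,[1,3,2,7,3,3]),
  (2774,[1,3,2,7,3,4]),
  (2685,[1,3,2,7,3,6]),
  (2672,[1,3,2,7,3,9]),
  (1510,[1,3,2,7,4,3]),
  (2027,[1,3,2,7,4,9]),
  (2101,[1,3,2,7,6,2]),
  (1871,[1,3,2,7,6,4]),
  (3507,[1,3,2,7,6,8]),
  (1693,[1,3,2,7,7,6]),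
  (3024,[1,3,2,7,8,0]),
  (2641,[1,3,2,7,8,9]),
  (1670,[1,3,2,8,0,6]),
  (2013,[1,3,2,8,0,7]),
  (1678,[1,3,2,8,6,1]),
  (1846,[1,3,2,8,6,4]),
  (2410,[1,3,2,8,6,6]),
  (2941,[1,3,2,8,6,7]),
  (1427,[1,3,2,8,6,9]),
  (350,[1,3,4,1,3,0]),
  (2239,[1,3,4,1,3,1]),
  (376,[1,3,4,1,3,8]),
  (2285,[1,3,4,1,5,2]),
  (654,[1,3,4,1,5,6]),
  (520,[1,3,4,1,5,7]),
  (443,[1,3,4,1,6,2]),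
  (1309,[1,3,4,1,6,3]),
  (2443,[1,3,4,1,6,7]),
  (405,[1,3,4,1,7,3]),
  (534,[1,3,4,1,7,6]),
  (1438,[1,3,4,1,7,9]),
  (1422,[1,3,4,1,8,7]),
  (1692,[1,3,4,2,2,7]),
  (241,[1,3,4,2,3,1]),
  (765,[1,3,4,2,4,3]),
  (762,[1,3,4,2,4,5]),
  (1793,[1,3,4,2,4,6]),
  (1988,[1,3,4,2,4,7]),
  (1946,[1,3,4,2,6,2]),
  (2176,[1,3,4,2,6,6]),
  (1992,[1,3,4,2,6,9]),
  (1165,[1,3,4,3,0,3]),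
  (3571,[1,3,4,3,0,5]),
  (1032,[1,3,4,3,0,6]),
  (3399,[1,3,4,3,0,7]),
  (3369,[1,3,4,3,0,8]),
  (1357,[1,3,4,3,1,2]),
  (436,[1,3,4,3,1,4]),
  (386,[1,3,4,3,1,6]),
  (1198,[1,3,4,3,2,0]),
  (571,[1,3,4,3,2,2]),
  (2707,[1,3,4,3,2,6]),
  (160,[1,3,4,3,4,1]),
  (3094,[1,3,4,3,4,6]),
  (2316,[1,3,4,3,6,0]),
  (1243,[1,3,4,3,6,2]),
  (2256,[1,3,4,3,6,4]),
  (2878,[1,3,4,3,6,6]),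
  (1186,[1,3,4,3,6,8]),
  (2669,[1,3,4,3,7,0]),
  (1978,[1,3,4,3,7,4]),
  (784,[1,3,4,3,7,6]),
  (2633,[1,3,4,3,7,7]),
  (2284,[1,3,4,3,7,8]),
  (2180,[1,3,4,3,7,9]),
  (1173,[1,3,4,3,9,0]),
  (1179,[1,3,4,3,9,4]),
  (1853,[1,3,4,3,9,7]),
  (1100,[1,3,4,5,2,2]),
  (2159,[1,3,4,5,2,6]),
  (2660,[1,3,4,5,2,7]),
  (1119,[1,3,4,5,2,8]),
  (158,[1,3,4,5,3,1]),
  (951,[1,3,4,5,3,6]),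
  (3261,[1,3,4,5,3,7]),
  (349,[1,3,4,5,6,1]),
  (1811,[1,3,4,5,6,4]),
  (2630,[1,3,4,5,6,7]),
  (1532,[1,3,4,5,7,0]),
  (1504,[1,3,4,5,7,1]),
  (3898,[1,3,4,5,7,2]),
  (3528,[1,3,4,5,7,6]),
  (3193,[1,3,4,6,0,1]),
  (3414,[1,3,4,6,0,6]),
  (3348,[1,3,4,6,0,7])]

/-- part 22 of `topOrb0` -/
noncomputable def topOrb0P22 : List (ℕ × List ℕ) := [
  (3905,[1,3,4,6,1,1]),
  (3734,[1,3,4,6,1,2]),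
  (3130,[1,3,4,6,1,4]),
  (2572,[1,3,4,6,1,5]),
  (3219,[1,3,4,6,1,6]),
  (2722,[1,3,4,6,1,8]),
  (1480,[1,3,4,6,1,9]),
  (1778,[1,3,4,6,2,0]),
  (1026,[1,3,4,6,2,5]),
  (3496,[1,3,4,6,2,7]),
  (897,[1,3,4,6,2,8]),
  (1033,[1,3,4,6,2,9]),
  (3555,[1,3,4,6,3,6]),
  (3005,[1,3,4,6,4,1]),
  (3097,[1,3,4,6,4,2]),
  (1068,[1,3,4,6,4,5]),
  (3647,[1,3,4,6,4,7]),
  (1782,[1,3,4,6,4,8]),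
  (631,[1,3,4,6,7,0]),
  (994,[1,3,4,6,7,1]),
  (3720,[1,3,4,6,7,2]),
  (2939,[1,3,4,6,7,4]),
  (3185,[1,3,4,6,7,8]),
  (3553,[1,3,4,6,7,9]),
  (3176,[1,3,4,6,8,0]),
  (3513,[1,3,4,6,8,1]),
  (3241,[1,3,4,6,8,4]),
  (2860,[1,3,4,6,8,6]),
  (1656,[1,3,4,6,9,0]),
  (3192,[1,3,4,6,9,2]),
  (3649,[1,3,4,6,9,7]),
  (2882,[1,3,4,7,0,5]),
  (2376,[1,3,4,7,0,7]),
  (836,[1,3,4,7,1,2]),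
  (2104,[1,3,4,7,2,0]),
  (781,[1,3,4,7,2,2]),
  (3394,[1,3,4,7,2,6]),
  (3640,[1,3,4,7,2,7]),
  (839,[1,3,4,7,2,8]),
  (2564,[1,3,4,7,3,6]),
  (2292,[1,3,4,7,3,9]),
  (688,[1,3,4,7,4,1]),
  (2780,[1,3,4,7,4,2]),
  (1099,[1,3,4,7,4,5]),
  (2781,[1,3,4,7,4,6]),
  (1572,[1,3,4,7,6,4]),
  (3763,[1,3,4,7,7,0]),
  (3659,[1,3,4,7,7,1]),
  (1792,[1,3,4,7,7,2]),
  (1954,[1,3,4,7,7,3]),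
  (3806,[1,3,4,7,7,7]),
  (2201,[1,3,4,7,7,9]),
  (3327,[1,3,4,7,9,0]),
  (3119,[1,3,4,7,9,2]),
  (3108,[1,3,4,7,9,4]),
  (1632,[1,3,4,7,9,7]),
  (2856,[1,3,4,9,4,3]),
  (1206,[1,3,4,9,4,5]),
  (3273,[1,3,4,9,4,7]),
  (2993,[1,3,4,9,6,2]),
  (814,[1,3,4,9,6,3]),
  (1247,[1,3,4,9,6,6]),
  (2039,[1,3,4,9,7,2]),
  (1630,[1,3,4,9,7,6]),
  (1023,[1,3,6,0,1,3]),
  (2640,[1,3,6,0,1,6]),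
  (2876,[1,3,6,0,1,7]),
  (1622,[1,3,6,0,2,2]),
  (1966,[1,3,6,0,2,3]),
  (1553,[1,3,6,0,2,5]),
  (3339,[1,3,6,0,2,7]),
  (3087,[1,3,6,0,2,9]),
  (796,[1,3,6,0,5,2]),
  (1697,[1,3,6,0,5,6]),
  (3068,[1,3,6,0,6,3]),
  (3839,[1,3,6,0,7,1]),
  (2768,[1,3,6,0,7,3]),
  (3891,[1,3,6,0,7,4]),
  (3010,[1,3,6,0,7,9]),
  (2174,[1,3,6,0,9,7]),
  (3099,[1,3,6,1,2,5]),
  (2971,[1,3,6,1,2,7]),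
  (949,[1,3,6,1,2,8]),
  (2670,[1,3,6,1,2,9]),
  (3373,[1,3,6,1,3,1]),
  (3033,[1,3,6,1,3,2]),
  (3488,[1,3,6,1,3,8]),
  (2708,[1,3,6,1,3,9]),
  (3279,[1,3,6,1,4,2]),
  (618,[1,3,6,1,4,7]),
  (2750,[1,3,6,1,5,2]),
  (3036,[1,3,6,1,5,4]),
  (3057,[1,3,6,1,5,8]),
  (3693,[1,3,6,1,7,3]),
  (3568,[1,3,6,1,7,4]),
  (1035,[1,3,6,1,7,9]),
  (1939,[1,3,6,1,9,6]),
  (3360,[1,3,6,1,9,7]),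
  (3868,[1,3,6,2,0,6]),
  (2841,[1,3,6,2,0,7])]

/-- part 23 of `topOrb0` -/
noncomputable def topOrb0P23 : List (ℕ × List ℕ) := [
  (1704,[1,3,6,2,2,0]),
  (2491,[1,3,6,2,2,3]),
  (3088,[1,3,6,2,2,4]),
  (1612,[1,3,6,2,2,5]),
  (2113,[1,3,6,2,2,7]),
  (942,[1,3,6,2,2,8]),
  (2152,[1,3,6,2,3,0]),
  (1386,[1,3,6,2,3,2]),
  (1907,[1,3,6,2,3,4]),
  (2234,[1,3,6,2,3,6]),
  (995,[1,3,6,2,3,7]),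
  (3700,[1,3,6,2,4,1]),
  (2629,[1,3,6,2,4,2]),
  (569,[1,3,6,2,4,8]),
  (3904,[1,3,6,2,5,1]),
  (2165,[1,3,6,2,5,2]),
  (446,[1,3,6,2,5,3]),
  (497,[1,3,6,2,6,3]),
  (2315,[1,3,6,2,6,6]),
  (975,[1,3,6,2,6,9]),
  (3851,[1,3,6,2,7,0]),
  (2823,[1,3,6,2,7,2]),
  (2964,[1,3,6,2,7,7]),
  (1906,[1,3,6,2,7,8]),
  (1709,[1,3,6,2,8,1]),
  (946,[1,3,6,2,8,4]),
  (1610,[1,3,6,2,8,6]),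
  (2652,[1,3,6,2,8,7]),
  (2277,[1,3,6,2,8,9]),
  (2415,[1,3,6,2,9,2]),
  (2497,[1,3,6,2,9,6]),
  (444,[1,3,6,3,1,3]),
  (810,[1,3,6,3,1,5]),
  (3034,[1,3,6,3,1,7]),
  (187,[1,3,6,3,3,1]),
  (983,[1,3,6,3,3,2]),
  (1516,[1,3,6,3,3,4]),
  (2111,[1,3,6,3,3,7]),
  (3041,[1,3,6,3,4,5]),
  (3544,[1,3,6,3,4,7]),
  (3824,[1,3,6,3,6,0]),
  (1621,[1,3,6,3,6,6]),
  (1376,[1,3,6,3,6,8]),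
  (2495,[1,3,6,3,6,9]),
  (3711,[1,3,6,4,1,6]),
  (600,[1,3,6,4,2,2]),
  (3147,[1,3,6,4,2,3]),
  (2797,[1,3,6,4,2,4]),
  (3576,[1,3,6,4,2,5]),
  (193,[1,3,6,4,2,6]),
  (473,[1,3,6,4,2,8]),
  (588,[1,3,6,4,2,9]),
  (3102,[1,3,6,4,3,0]),
  (1549,[1,3,6,4,3,2]),
  (537,[1,3,6,4,3,6]),
  (790,[1,3,6,4,5,3]),
  (3075,[1,3,6,4,5,7]),
  (3796,[1,3,6,4,7,3]),
  (3722,[1,3,6,4,7,6]),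
  (3795,[1,3,6,4,7,7]),
  (2331,[1,3,6,4,7,8]),
  (1680,[1,3,6,6,0,7]),
  (3126,[1,3,6,6,1,0]),
  (3106,[1,3,6,6,1,2]),
  (3566,[1,3,6,6,1,7]),
  (2525,[1,3,6,6,2,0]),
  (2067,[1,3,6,6,2,3]),
  (3128,[1,3,6,6,2,4]),
  (1554,[1,3,6,6,2,6]),
  (1359,[1,3,6,6,2,7]),
  (2887,[1,3,6,6,4,5]),
  (2613,[1,3,6,6,4,6]),
  (1540,[1,3,6,7,0,1]),
  (1879,[1,3,6,7,0,7]),
  (2668,[1,3,6,7,0,8]),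
  (2834,[1,3,6,7,1,1]),
  (3732,[1,3,6,7,1,2]),
  (3262,[1,3,6,7,1,3]),
  (1967,[1,3,6,7,1,4]),
  (3177,[1,3,6,7,1,5]),
  (3756,[1,3,6,7,1,8]),
  (2693,[1,3,6,7,2,0]),
  (3686,[1,3,6,7,2,3]),
  (912,[1,3,6,7,2,5]),
  (3006,[1,3,6,7,2,6]),
  (3740,[1,3,6,7,2,9]),
  (329,[1,3,6,7,3,1]),
  (2863,[1,3,6,7,3,3]),
  (581,[1,3,6,7,3,4]),
  (3704,[1,3,6,7,3,7]),
  (1049,[1,3,6,7,4,6]),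
  (3540,[1,3,6,7,8,0]),
  (3755,[1,3,6,7,8,1]),
  (3752,[1,3,6,7,8,2]),
  (3334,[1,3,6,7,9,1]),
  (3783,[1,3,6,7,9,2]),
  (3749,[1,3,6,8,0,7]),
  (1870,[1,3,6,8,1,2]),
  (854,[1,3,6,8,1,7]),
  (1875,[1,3,6,8,2,0])]

/-- part 24 of `topOrb0` -/
noncomputable def topOrb0P24 : List (ℕ × List ℕ) := [
  (1923,[1,3,6,8,2,3]),
  (1874,[1,3,6,8,2,4]),
  (3045,[1,3,6,8,2,7]),
  (1868,[1,3,6,8,2,8]),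
  (3422,[1,3,6,8,4,3]),
  (2030,[1,3,6,8,7,0]),
  (1339,[1,3,6,8,7,1]),
  (3552,[1,3,6,8,7,2]),
  (2033,[1,3,6,8,7,4]),
  (638,[1,3,6,8,7,7]),
  (616,[1,3,6,8,7,9]),
  (2647,[1,3,6,9,0,5]),
  (3532,[1,3,6,9,0,7]),
  (3020,[1,3,6,9,1,6]),
  (1980,[1,3,6,9,2,4]),
  (1619,[1,3,6,9,2,6]),
  (1225,[1,3,6,9,4,5]),
  (2602,[1,3,6,9,4,7]),
  (3226,[1,3,6,9,7,1]),
  (844,[1,3,6,9,7,2]),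
  (850,[1,3,6,9,7,6]),
  (1000,[1,3,6,9,7,7]),
  (675,[1,3,7,0,0,1]),
  (3762,[1,3,7,0,0,6]),
  (458,[1,3,7,0,1,2]),
  (2486,[1,3,7,0,1,5]),
  (173,[1,3,7,0,1,9]),
  (1999,[1,3,7,0,2,0]),
  (1602,[1,3,7,0,2,6]),
  (1342,[1,3,7,0,2,8]),
  (3554,[1,3,7,0,3,0]),
  (3385,[1,3,7,0,3,2]),
  (903,[1,3,7,0,3,4]),
  (2614,[1,3,7,0,3,8]),
  (1167,[1,3,7,0,5,1]),
  (3805,[1,3,7,0,5,2]),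
  (3115,[1,3,7,0,5,5]),
  (630,[1,3,7,0,5,6]),
  (2822,[1,3,7,0,5,7]),
  (3866,[1,3,7,0,5,8]),
  (2106,[1,3,7,0,6,0]),
  (2691,[1,3,7,0,6,4]),
  (1860,[1,3,7,0,6,8]),
  (2240,[1,3,7,0,7,0]),
  (2543,[1,3,7,0,7,4]),
  (3779,[1,3,7,0,7,6]),
  (1495,[1,3,7,0,7,7]),
  (1842,[1,3,7,0,8,0]),
  (451,[1,3,7,0,8,1]),
  (2528,[1,3,7,0,8,4]),
  (831,[1,3,7,0,9,0]),
  (818,[1,3,7,0,9,1]),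
  (1382,[1,3,7,0,9,4]),
  (3746,[1,3,7,0,9,6]),
  (1609,[1,3,7,0,9,7]),
  (460,[1,3,7,1,0,2]),
  (1405,[1,3,7,1,0,3]),
  (463,[1,3,7,1,0,5]),
  (1496,[1,3,7,1,0,7]),
  (1417,[1,3,7,1,0,8]),
  (459,[1,3,7,1,0,9]),
  (2262,[1,3,7,1,2,2]),
  (1272,[1,3,7,1,2,3]),
  (1253,[1,3,7,1,2,4]),
  (1383,[1,3,7,1,2,5]),
  (805,[1,3,7,1,2,9]),
  (2244,[1,3,7,1,3,2]),
  (808,[1,3,7,1,3,3]),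
  (1221,[1,3,7,1,3,9]),
  (677,[1,3,7,1,4,2]),
  (2570,[1,3,7,1,4,3]),
  (820,[1,3,7,1,4,9]),
  (807,[1,3,7,1,5,0]),
  (2872,[1,3,7,1,5,1]),
  (1316,[1,3,7,1,5,4]),
  (2592,[1,3,7,1,5,7]),
  (2047,[1,3,7,1,6,3]),
  (516,[1,3,7,1,6,6]),
  (57,[1,3,7,1,6,7]),
  (2367,[1,3,7,1,7,1]),
  (2568,[1,3,7,1,7,2]),
  (2052,[1,3,7,1,7,8]),
  (2802,[1,3,7,1,7,9]),
  (804,[1,3,7,1,9,2]),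
  (384,[1,3,7,1,9,4]),
  (2553,[1,3,7,2,0,2]),
  (3523,[1,3,7,2,0,3]),
  (3409,[1,3,7,2,0,6]),
  (763,[1,3,7,2,0,7]),
  (2869,[1,3,7,2,0,8]),
  (2605,[1,3,7,2,0,9]),
  (2259,[1,3,7,2,2,0]),
  (2216,[1,3,7,2,2,6]),
  (2454,[1,3,7,2,2,8]),
  (2608,[1,3,7,2,2,9]),
  (1929,[1,3,7,2,3,1]),
  (1730,[1,3,7,2,3,8]),
  (2200,[1,3,7,2,3,9]),
  (2580,[1,3,7,2,4,2]),
  (774,[1,3,7,2,4,3])]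

/-- part 25 of `topOrb0` -/
noncomputable def topOrb0P25 : List (ℕ × List ℕ) := [
  (1876,[1,3,7,2,4,5]),
  (2931,[1,3,7,2,4,7]),
  (3599,[1,3,7,2,4,9]),
  (678,[1,3,7,2,5,1]),
  (494,[1,3,7,2,5,6]),
  (3494,[1,3,7,2,6,3]),
  (3760,[1,3,7,2,6,6]),
  (1867,[1,3,7,2,6,9]),
  (2612,[1,3,7,2,9,0]),
  (2311,[1,3,7,2,9,2]),
  (3158,[1,3,7,3,2,3]),
  (3154,[1,3,7,3,2,5]),
  (3408,[1,3,7,3,2,6]),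
  (1695,[1,3,7,3,2,7]),
  (1201,[1,3,7,3,3,0]),
  (3662,[1,3,7,3,3,1]),
  (2321,[1,3,7,3,3,2]),
  (1210,[1,3,7,3,3,3]),
  (493,[1,3,7,3,3,7]),
  (2189,[1,3,7,3,4,3]),
  (3823,[1,3,7,3,4,7]),
  (2122,[1,3,7,3,6,3]),
  (3590,[1,3,7,3,6,6]),
  (3661,[1,3,7,3,6,8]),
  (3194,[1,3,7,3,6,9]),
  (3457,[1,3,7,3,7,4]),
  (3380,[1,3,7,3,7,7]),
  (1414,[1,3,7,4,1,6]),
  (1840,[1,3,7,4,2,3]),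
  (3652,[1,3,7,4,2,7]),
  (2483,[1,3,7,4,2,8]),
  (665,[1,3,7,4,3,0]),
  (2043,[1,3,7,4,3,1]),
  (3759,[1,3,7,4,3,2]),
  (1934,[1,3,7,4,3,6]),
  (2378,[1,3,7,4,3,8]),
  (684,[1,3,7,4,3,9]),
  (2764,[1,3,7,4,4,7]),
  (1551,[1,3,7,4,5,0]),
  (2266,[1,3,7,4,5,3]),
  (1454,[1,3,7,4,5,6]),
  (1036,[1,3,7,4,5,8]),
  (3784,[1,3,7,4,6,1]),
  (775,[1,3,7,4,6,6]),
  (1749,[1,3,7,4,6,7]),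
  (3215,[1,3,7,4,6,8]),
  (2168,[1,3,7,4,6,9]),
  (2844,[1,3,7,4,7,0]),
  (2504,[1,3,7,4,7,1]),
  (1042,[1,3,7,4,7,3]),
  (2619,[1,3,7,4,7,7]),
  (411,[1,3,7,4,8,2]),
  (2703,[1,3,7,4,8,6]),
  (3482,[1,3,7,4,8,9]),
  (181,[1,3,7,4,9,4]),
  (44,[1,3,7,6,0,1]),
  (2199,[1,3,7,6,0,3]),
  (2197,[1,3,7,6,0,5]),
  (2140,[1,3,7,6,0,6]),
  (45,[1,3,7,6,1,0]),
  (23,[1,3,7,6,1,2]),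
  (37,[1,3,7,6,1,4]),
  (34,[1,3,7,6,1,6]),
  (22,[1,3,7,6,1,7]),
  (46,[1,3,7,6,1,9]),
  (259,[1,3,7,6,2,0]),
  (289,[1,3,7,6,2,2]),
  (1989,[1,3,7,6,2,3]),
  (252,[1,3,7,6,2,4]),
  (1528,[1,3,7,6,2,7]),
  (296,[1,3,7,6,2,9]),
  (36,[1,3,7,6,4,1]),
  (560,[1,3,7,6,4,5]),
  (3292,[1,3,7,6,6,0]),
  (2905,[1,3,7,6,6,1]),
  (2218,[1,3,7,6,6,2]),
  (1335,[1,3,7,6,6,4]),
  (306,[1,3,7,6,8,4]),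
  (253,[1,3,7,6,9,1]),
  (249,[1,3,7,6,9,2]),
  (3547,[1,3,7,7,0,1]),
  (1249,[1,3,7,7,0,3]),
  (1844,[1,3,7,7,0,7]),
  (3011,[1,3,7,7,0,9]),
  (3698,[1,3,7,7,1,0]),
  (2727,[1,3,7,7,1,6]),
  (3897,[1,3,7,7,1,7]),
  (1856,[1,3,7,7,2,0]),
  (1531,[1,3,7,7,2,9]),
  (1506,[1,3,7,7,4,3]),
  (3498,[1,3,7,7,4,5]),
  (2547,[1,3,7,7,4,6]),
  (2795,[1,3,7,7,4,9]),
  (3834,[1,3,7,7,6,1]),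
  (3639,[1,3,7,7,6,4]),
  (2233,[1,3,7,7,6,8]),
  (3696,[1,3,7,8,0,6]),
  (3281,[1,3,7,8,0,9]),
  (1234,[1,3,7,8,1,2]),
  (888,[1,3,7,8,1,9])]

/-- part 26 of `topOrb0` -/
noncomputable def topOrb0P26 : List (ℕ × List ℕ) := [
  (1239,[1,3,7,8,2,0]),
  (993,[1,3,7,8,2,3]),
  (1237,[1,3,7,8,2,4]),
  (2759,[1,3,7,8,2,5]),
  (3325,[1,3,7,8,2,7]),
  (3828,[1,3,7,8,4,5]),
  (3063,[1,3,7,8,4,8]),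
  (2078,[1,3,7,8,4,9]),
  (1898,[1,3,7,8,6,2]),
  (277,[1,3,7,8,6,3]),
  (1533,[1,3,7,8,6,4]),
  (1629,[1,3,7,9,0,3]),
  (714,[1,3,7,9,0,5]),
  (958,[1,3,7,9,0,6]),
  (1319,[1,3,7,9,0,9]),
  (364,[1,3,7,9,1,5]),
  (1213,[1,3,7,9,4,2]),
  (981,[1,3,7,9,4,3]),
  (1498,[1,3,7,9,4,5]),
  (1748,[1,3,7,9,4,6]),
  (3105,[1,3,7,9,4,7]),
  (1353,[1,3,7,9,4,8]),
  (2080,[1,3,7,9,4,9]),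
  (3735,[1,3,7,9,6,0]),
  (1485,[1,3,7,9,6,1]),
  (527,[1,5,1,2,2,3]),
  (450,[1,5,1,2,3,0]),
  (2274,[1,5,1,2,3,4]),
  (2267,[1,5,1,2,5,2]),
  (1015,[1,5,1,2,5,8]),
  (1467,[1,5,1,2,6,1]),
  (1012,[1,5,1,2,6,4]),
  (1387,[1,5,1,2,6,9]),
  (649,[1,5,1,2,7,7]),
  (2371,[1,5,1,2,8,6]),
  (2810,[1,5,1,3,0,5]),
  (351,[1,5,1,3,0,8]),
  (860,[1,5,1,3,2,2]),
  (2304,[1,5,1,3,2,3]),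
  (656,[1,5,1,3,2,7]),
  (1378,[1,5,1,3,4,3]),
  (1497,[1,5,1,3,4,5]),
  (521,[1,5,1,3,4,6]),
  (2322,[1,5,1,3,4,7]),
  (1409,[1,5,1,3,6,0]),
  (661,[1,5,1,3,6,2]),
  (1266,[1,5,1,3,6,6]),
  (1158,[1,5,1,3,7,1]),
  (431,[1,5,1,3,7,2]),
  (429,[1,5,1,3,7,4]),
  (670,[1,5,1,5,0,7]),
  (669,[1,5,1,5,4,5]),
  (663,[1,5,1,5,4,7]),
  (335,[1,5,1,5,4,9]),
  (1401,[1,5,1,5,5,7]),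
  (929,[1,5,1,5,6,0]),
  (685,[1,5,1,5,6,1]),
  (671,[1,5,1,5,6,2]),
  (927,[1,5,1,5,6,4]),
  (282,[1,5,1,5,7,7]),
  (2366,[1,5,1,5,7,9]),
  (674,[1,5,1,6,6,4]),
  (1347,[1,5,1,6,8,0]),
  (168,[1,5,1,6,8,2]),
  (1019,[1,5,1,6,8,9]),
  (2404,[1,5,1,6,9,0]),
  (741,[1,5,1,6,9,1]),
  (1413,[1,5,1,6,9,4]),
  (799,[1,5,1,7,0,3]),
  (1416,[1,5,1,7,0,5]),
  (464,[1,5,1,7,0,8]),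
  (398,[1,5,1,7,0,9]),
  (1127,[1,5,1,7,1,0]),
  (1402,[1,5,1,7,1,1]),
  (3774,[1,5,1,7,1,2]),
  (2558,[1,5,1,7,1,3]),
  (3810,[1,5,1,7,1,9]),
  (2268,[1,5,1,7,2,0]),
  (1889,[1,5,1,7,2,6]),
  (247,[1,5,1,7,3,0]),
  (645,[1,5,1,7,3,3]),
  (2913,[1,5,1,7,4,1]),
  (2295,[1,5,1,7,4,5]),
  (281,[1,5,1,7,7,4]),
  (2403,[1,5,1,7,7,7]),
  (1286,[1,5,1,7,8,0]),
  (1275,[1,5,1,7,8,2]),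
  (3637,[1,5,1,7,9,1]),
  (889,[1,5,1,7,9,2]),
  (219,[1,5,2,2,3,0]),
  (849,[1,5,2,2,3,1]),
  (1788,[1,5,2,2,4,3]),
  (1798,[1,5,2,2,4,5]),
  (2886,[1,5,2,2,4,6]),
  (1550,[1,5,2,2,6,0]),
  (200,[1,5,2,2,6,1]),
  (1628,[1,5,2,2,6,4]),
  (3706,[1,5,2,2,6,7]),
  (3847,[1,5,2,2,7,0]),
  (2915,[1,5,2,2,7,3])]

/-- part 27 of `topOrb0` -/
noncomputable def topOrb0P27 : List (ℕ × List ℕ) := [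
  (3890,[1,5,2,2,7,4]),
  (2401,[1,5,2,2,7,9]),
  (1048,[1,5,2,3,1,5]),
  (2867,[1,5,2,3,1,6]),
  (420,[1,5,2,3,2,2]),
  (2531,[1,5,2,3,3,6]),
  (2014,[1,5,2,3,4,2]),
  (1955,[1,5,2,3,4,3]),
  (988,[1,5,2,3,6,0]),
  (3475,[1,5,2,3,6,1]),
  (1500,[1,5,2,3,6,2]),
  (2040,[1,5,2,3,6,8]),
  (2503,[1,5,2,3,7,2]),
  (3895,[1,5,2,3,7,6]),
  (2135,[1,5,2,3,7,8]),
  (3123,[1,5,2,3,8,1]),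
  (646,[1,5,2,3,8,2]),
  (2064,[1,5,2,4,3,8]),
  (1056,[1,5,2,4,3,9]),
  (3758,[1,5,2,4,5,4]),
  (2063,[1,5,2,4,5,8]),
  (1784,[1,5,2,4,7,1]),
  (628,[1,5,2,4,7,7]),
  (2688,[1,5,2,4,7,8]),
  (3543,[1,5,2,4,9,7]),
  (1922,[1,5,2,5,2,0]),
  (3584,[1,5,2,5,2,6]),
  (1708,[1,5,2,5,2,9]),
  (3043,[1,5,2,5,6,1]),
  (1058,[1,5,2,5,6,4]),
  (3449,[1,5,2,5,6,7]),
  (2084,[1,5,2,5,6,9]),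
  (2330,[1,5,2,6,0,5]),
  (2077,[1,5,2,6,0,6]),
  (1694,[1,5,2,6,0,7]),
  (316,[1,5,2,6,1,7]),
  (2193,[1,5,2,6,3,0]),
  (2090,[1,5,2,6,4,5]),
  (1069,[1,5,2,6,4,6]),
  (2740,[1,5,2,6,4,7]),
  (2429,[1,5,2,6,6,7]),
  (2969,[1,5,2,6,7,2]),
  (3585,[1,5,2,6,7,3]),
  (2720,[1,5,2,6,7,4]),
  (3903,[1,5,2,6,7,8]),
  (3141,[1,5,2,6,7,9]),
  (3374,[1,5,2,6,9,7]),
  (3336,[1,5,2,7,0,5]),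
  (3853,[1,5,2,7,0,6]),
  (3017,[1,5,2,7,0,7]),
  (664,[1,5,2,7,0,9]),
  (673,[1,5,2,7,1,2]),
  (531,[1,5,2,7,1,3]),
  (2838,[1,5,2,7,2,7]),
  (3223,[1,5,2,7,2,8]),
  (1076,[1,5,2,7,3,0]),
  (636,[1,5,2,7,3,1]),
  (3437,[1,5,2,7,3,2]),
  (1125,[1,5,2,7,3,3]),
  (3729,[1,5,2,7,6,0]),
  (2588,[1,5,2,7,6,2]),
  (1660,[1,5,2,7,6,3]),
  (3420,[1,5,2,7,6,6]),
  (3736,[1,5,2,7,6,9]),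
  (321,[1,5,2,7,7,1]),
  (3224,[1,5,2,7,8,0]),
  (3029,[1,5,2,7,9,4]),
  (2595,[1,5,2,8,7,6]),
  (1473,[1,5,2,8,7,9]),
  (2584,[1,5,3,0,5,7]),
  (1178,[1,5,3,0,5,9]),
  (2185,[1,5,3,0,6,1]),
  (2172,[1,5,3,0,6,2]),
  (3492,[1,5,3,0,6,3]),
  (3619,[1,5,3,0,6,6]),
  (3616,[1,5,3,0,6,7]),
  (1940,[1,5,3,0,7,1]),
  (3267,[1,5,3,0,7,2]),
  (3676,[1,5,3,0,7,7]),
  (2674,[1,5,3,0,8,6]),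
  (3871,[1,5,3,0,9,6]),
  (3587,[1,5,3,2,2,7]),
  (857,[1,5,3,2,3,2]),
  (1608,[1,5,3,2,3,6]),
  (3721,[1,5,3,2,6,0]),
  (1711,[1,5,3,2,6,3]),
  (3589,[1,5,3,2,6,4]),
  (1302,[1,5,3,2,6,8]),
  (3393,[1,5,3,2,7,0]),
  (3778,[1,5,3,2,7,2]),
  (3816,[1,5,3,2,7,4]),
  (3675,[1,5,3,2,7,7]),
  (2721,[1,5,3,2,7,8]),
  (2813,[1,5,3,2,7,9]),
  (700,[1,5,3,6,1,2]),
  (2062,[1,5,3,6,2,3]),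
  (838,[1,5,3,6,2,8]),
  (3728,[1,5,3,7,0,3]),
  (3622,[1,5,3,7,0,5]),
  (1715,[1,5,3,7,0,7])]

/-- part 28 of `topOrb0` -/
noncomputable def topOrb0P28 : List (ℕ × List ℕ) := [
  (2105,[1,5,3,7,0,9]),
  (2190,[1,5,3,7,1,0]),
  (403,[1,5,3,7,1,5]),
  (2265,[1,5,3,7,2,3]),
  (2788,[1,5,3,7,2,4]),
  (3181,[1,5,3,7,2,6]),
  (1089,[1,5,3,7,2,9]),
  (1088,[1,5,3,7,9,2]),
  (1063,[1,5,4,2,2,5]),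
  (1140,[1,5,4,3,0,8]),
  (911,[1,5,4,3,1,2]),
  (3869,[1,5,4,3,1,7]),
  (3789,[1,5,4,3,1,9]),
  (561,[1,5,4,3,2,2]),
  (2678,[1,5,4,3,2,7]),
  (2906,[1,5,4,3,2,8]),
  (3636,[1,5,4,3,6,2]),
  (1688,[1,5,4,3,6,7]),
  (1956,[1,5,4,3,7,4]),
  (3347,[1,5,4,3,7,9]),
  (3161,[1,5,4,3,9,0]),
  (3026,[1,5,4,3,9,6]),
  (1248,[1,5,4,5,2,3]),
  (1245,[1,5,4,5,2,5]),
  (1802,[1,5,4,5,2,6]),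
  (2942,[1,5,4,5,2,7]),
  (2858,[1,5,4,5,3,1]),
  (2965,[1,5,4,5,3,2]),
  (1142,[1,5,4,5,6,2]),
  (3163,[1,5,4,5,6,8]),
  (2745,[1,5,4,5,7,2]),
  (2994,[1,5,4,5,7,8]),
  (1117,[1,5,4,5,9,2]),
  (1990,[1,5,4,5,9,6]),
  (1212,[1,5,4,5,9,7]),
  (2469,[1,5,4,6,0,0]),
  (427,[1,5,4,6,0,1]),
  (438,[1,5,4,6,0,2]),
  (622,[1,5,4,6,0,5]),
  (3196,[1,5,4,6,0,6]),
  (2664,[1,5,4,6,2,5]),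
  (2243,[1,5,4,6,2,6]),
  (1003,[1,5,4,6,2,7]),
  (3748,[1,5,4,6,3,0]),
  (2139,[1,5,4,6,3,6]),
  (2123,[1,5,4,6,3,8]),
  (1066,[1,5,4,6,4,4]),
  (1139,[1,5,4,6,6,3]),
  (1643,[1,5,4,6,6,4]),
  (2131,[1,5,4,6,6,6]),
  (2715,[1,5,4,6,7,3]),
  (934,[1,5,4,6,8,1]),
  (1130,[1,5,4,6,8,6]),
  (3072,[1,5,4,6,8,7]),
  (325,[1,5,4,6,9,1]),
  (1399,[1,5,4,6,9,4]),
  (3826,[1,5,4,6,9,7]),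
  (1071,[1,5,4,7,1,8]),
  (3694,[1,5,4,7,2,5]),
  (3039,[1,5,4,7,2,6]),
  (558,[1,5,4,7,2,7]),
  (3209,[1,5,4,7,2,9]),
  (2711,[1,5,4,7,3,2]),
  (1637,[1,5,4,7,3,3]),
  (2980,[1,5,4,7,3,4]),
  (1733,[1,5,4,7,4,6]),
  (3064,[1,5,4,7,4,7]),
  (3093,[1,5,4,7,6,0]),
  (3653,[1,5,4,7,6,2]),
  (3627,[1,5,4,7,6,6]),
  (2677,[1,5,4,7,6,8]),
  (2349,[1,5,4,7,6,9]),
  (3382,[1,5,4,7,7,0]),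
  (3389,[1,5,4,7,7,1]),
  (3304,[1,5,4,7,7,4]),
  (1199,[1,5,4,7,7,9]),
  (2836,[1,5,4,7,8,1]),
  (3160,[1,5,4,7,8,6]),
  (3213,[1,5,4,7,8,9]),
  (1027,[1,5,4,7,9,0]),
  (3208,[1,5,4,7,9,2]),
  (1216,[1,5,4,9,4,7]),
  (21,[1,5,4,9,6,1]),
  (246,[1,5,4,9,6,4]),
  (1448,[1,5,4,9,6,6]),
  (902,[1,5,4,9,6,7]),
  (2241,[1,5,4,9,7,3]),
  (2297,[1,5,6,0,0,6]),
  (730,[1,5,6,0,1,5]),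
  (3765,[1,5,6,0,1,7]),
  (1636,[1,5,6,0,2,7]),
  (3021,[1,5,6,0,5,0]),
  (2026,[1,5,6,0,5,1]),
  (570,[1,5,6,0,5,9]),
  (3412,[1,5,6,0,8,0]),
  (3285,[1,5,6,0,8,2]),
  (2479,[1,5,6,0,9,0]),
  (2015,[1,5,6,0,9,4]),
  (195,[1,5,6,1,0,2]),
  (1541,[1,5,6,1,0,6])]

/-- part 29 of `topOrb0` -/
noncomputable def topOrb0P29 : List (ℕ × List ℕ) := [
  (1559,[1,5,6,1,2,0]),
  (192,[1,5,6,1,2,2]),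
  (1545,[1,5,6,1,2,4]),
  (207,[1,5,6,1,2,8]),
  (1369,[1,5,6,1,4,2]),
  (3471,[1,5,6,1,4,9]),
  (1406,[1,5,6,2,2,0]),
  (1615,[1,5,6,2,2,2]),
  (1613,[1,5,6,2,2,3]),
  (965,[1,5,6,2,2,6]),
  (1932,[1,5,6,2,2,9]),
  (2010,[1,5,6,2,3,0]),
  (1763,[1,5,6,2,3,4]),
  (1618,[1,5,6,2,3,8]),
  (3817,[1,5,6,2,4,7]),
  (3573,[1,5,6,2,4,8]),
  (1002,[1,5,6,2,5,4]),
  (2658,[1,5,6,2,5,5]),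
  (2009,[1,5,6,2,5,7]),
  (3137,[1,5,6,2,5,8]),
  (1522,[1,5,6,2,6,8]),
  (1825,[1,5,6,2,6,9]),
  (239,[1,5,6,2,7,1]),
  (731,[1,5,6,2,8,1]),
  (2065,[1,5,6,3,0,7]),
  (3136,[1,5,6,3,6,6]),
  (3836,[1,5,6,3,6,7]),
  (3015,[1,5,6,3,6,8]),
  (2806,[1,5,6,3,6,9]),
  (419,[1,5,6,4,1,8]),
  (3206,[1,5,6,4,2,3]),
  (2782,[1,5,6,4,2,5]),
  (1951,[1,5,6,4,2,6]),
  (197,[1,5,6,4,2,9]),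
  (1605,[1,5,6,4,3,2]),
  (1483,[1,5,6,4,3,7]),
  (1252,[1,5,6,4,5,1]),
  (1773,[1,5,6,4,5,3]),
  (3191,[1,5,6,4,5,6]),
  (816,[1,5,6,4,5,9]),
  (2452,[1,5,6,4,6,2]),
  (1520,[1,5,6,4,6,6]),
  (3340,[1,5,6,4,6,7]),
  (2103,[1,5,6,4,7,1]),
  (2493,[1,5,6,4,7,3]),
  (3051,[1,5,6,4,7,8]),
  (1556,[1,5,6,4,7,9]),
  (3712,[1,5,6,4,8,2]),
  (2016,[1,5,6,4,8,4]),
  (3025,[1,5,6,4,8,9]),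
  (2824,[1,5,6,6,1,2]),
  (3429,[1,5,6,6,1,7]),
  (637,[1,5,6,6,2,0]),
  (2347,[1,5,6,6,2,6]),
  (3692,[1,5,6,6,4,6]),
  (3628,[1,5,6,6,4,7]),
  (1948,[1,5,6,6,4,8]),
  (2594,[1,5,6,7,2,6]),
  (1905,[1,5,6,7,2,7]),
  (2593,[1,5,6,7,2,8]),
  (3315,[1,5,6,7,4,2]),
  (2663,[1,5,6,7,4,3]),
  (1465,[1,5,6,7,7,0]),
  (817,[1,5,6,7,8,2]),
  (2012,[1,5,6,9,2,3]),
  (1388,[1,5,6,9,2,6]),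
  (1611,[1,5,6,9,2,8]),
  (3517,[1,5,6,9,4,7]),
  (2137,[1,5,6,9,4,9]),
  (3440,[1,5,6,9,7,1]),
  (2237,[1,5,7,0,1,2]),
  (1721,[1,5,7,0,2,3]),
  (3586,[1,5,7,0,2,4]),
  (916,[1,5,7,0,3,2]),
  (3742,[1,5,7,0,3,6]),
  (3860,[1,5,7,0,3,9]),
  (2864,[1,5,7,0,5,1]),
  (2120,[1,5,7,0,5,5]),
  (3284,[1,5,7,0,5,6]),
  (2210,[1,5,7,0,5,8]),
  (2945,[1,5,7,0,6,0]),
  (843,[1,5,7,0,6,1]),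
  (2698,[1,5,7,0,6,3]),
  (1832,[1,5,7,0,6,4]),
  (1563,[1,5,7,0,6,8]),
  (2211,[1,5,7,0,8,9]),
  (2644,[1,5,7,0,9,4]),
  (2527,[1,5,7,0,9,7]),
  (2540,[1,5,7,1,0,2]),
  (3460,[1,5,7,1,2,0]),
  (1145,[1,5,7,1,2,8]),
  (3253,[1,5,7,1,2,9]),
  (1172,[1,5,7,1,3,1]),
  (1662,[1,5,7,1,3,9]),
  (2701,[1,5,7,1,4,2]),
  (3499,[1,5,7,1,4,3]),
  (2766,[1,5,7,1,5,2]),
  (2379,[1,5,7,1,5,7]),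
  (2921,[1,5,7,1,6,1]),
  (3606,[1,5,7,1,6,7])]

/-- part 30 of `topOrb0` -/
noncomputable def topOrb0P30 : List (ℕ × List ℕ) := [
  (2363,[1,5,7,1,7,1]),
  (3180,[1,5,7,1,7,2]),
  (2272,[1,5,7,1,7,6]),
  (3294,[1,5,7,1,9,0]),
  (633,[1,5,7,1,9,2]),
  (2704,[1,5,7,2,0,1]),
  (1138,[1,5,7,2,2,2]),
  (3588,[1,5,7,2,2,3]),
  (2793,[1,5,7,2,2,6]),
  (1135,[1,5,7,2,2,8]),
  (3793,[1,5,7,2,4,1]),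
  (2114,[1,5,7,2,4,2]),
  (1217,[1,5,7,2,4,6]),
  (1311,[1,5,7,2,4,7]),
  (2635,[1,5,7,2,4,8]),
  (2032,[1,5,7,2,5,0]),
  (2319,[1,5,7,2,5,9]),
  (3132,[1,5,7,2,6,6]),
  (1141,[1,5,7,2,8,4]),
  (3800,[1,5,7,2,9,0]),
  (3333,[1,5,7,2,9,2]),
  (3237,[1,5,7,2,9,7]),
  (3459,[1,5,7,4,1,2]),
  (2074,[1,5,7,4,1,3]),
  (2328,[1,5,7,4,1,5]),
  (777,[1,5,7,4,1,8]),
  (2542,[1,5,7,4,2,4]),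
  (1360,[1,5,7,4,2,7]),
  (2689,[1,5,7,4,4,6]),
  (3515,[1,5,7,4,4,7]),
  (2562,[1,5,7,4,5,8]),
  (2960,[1,5,7,4,7,1]),
  (3187,[1,5,7,4,7,2]),
  (2031,[1,5,7,4,7,4]),
  (1911,[1,5,7,4,7,9]),
  (472,[1,5,7,7,0,2]),
  (1700,[1,5,7,7,0,9]),
  (1004,[1,5,7,7,6,4]),
  (2962,[1,5,7,8,1,2]),
  (1156,[1,5,7,8,1,7]),
  (1131,[1,5,7,8,2,2]),
  (2809,[1,5,7,8,2,6]),
  (3809,[1,5,7,8,2,7]),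
  (3464,[1,5,7,8,4,9]),
  (3456,[1,5,7,8,9,1]),
  (2687,[1,5,7,8,9,4]),
  (858,[1,5,7,9,0,1]),
  (2467,[1,5,7,9,0,7]),
  (3852,[1,5,7,9,0,8]),
  (2811,[1,5,7,9,1,0]),
  (3893,[1,5,7,9,1,3]),
  (1760,[1,5,7,9,2,3]),
  (3044,[1,6,0,0,0,2]),
  (3699,[1,6,0,0,0,5]),
  (3885,[1,6,0,0,0,6]),
  (1666,[1,6,0,0,0,7]),
  (2149,[1,6,0,0,1,6]),
  (1747,[1,6,0,0,1,7]),
  (883,[1,6,0,0,3,2]),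
  (3122,[1,6,0,0,7,1]),
  (3145,[1,6,0,0,7,4]),
  (3200,[1,6,0,0,7,6]),
  (2205,[1,6,0,0,7,9]),
  (3298,[1,6,0,1,1,2]),
  (3124,[1,6,0,1,1,6]),
  (3479,[1,6,0,1,2,5]),
  (1991,[1,6,0,1,2,6]),
  (2758,[1,6,0,1,2,8]),
  (3407,[1,6,0,1,2,9]),
  (2481,[1,6,0,1,3,2]),
  (2615,[1,6,0,1,3,6]),
  (3490,[1,6,0,1,3,8]),
  (3767,[1,6,0,1,3,9]),
  (3324,[1,6,0,1,5,0]),
  (3287,[1,6,0,1,5,1]),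
  (3320,[1,6,0,1,5,2]),
  (915,[1,6,0,1,5,9]),
  (2653,[1,6,0,1,6,7]),
  (2005,[1,6,0,1,7,2]),
  (3561,[1,6,0,1,8,2]),
  (3618,[1,6,0,1,9,4]),
  (3701,[1,6,0,2,2,6]),
  (3579,[1,6,0,2,3,6]),
  (3831,[1,6,0,2,3,7]),
  (3773,[1,6,0,2,3,8]),
  (2946,[1,6,0,2,4,3]),
  (2524,[1,6,0,2,4,8]),
  (1469,[1,6,0,2,5,2]),
  (953,[1,6,0,2,6,0]),
  (3150,[1,6,0,2,6,6]),
  (3293,[1,6,0,2,6,8]),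
  (2840,[1,6,0,2,7,0]),
  (3615,[1,6,0,2,7,1]),
  (1246,[1,6,0,2,7,2]),
  (3046,[1,6,0,2,7,3]),
  (1805,[1,6,0,2,7,6]),
  (3548,[1,6,0,2,7,9]),
  (3727,[1,6,0,3,0,1]),
  (1681,[1,6,0,3,0,5]),
  (2642,[1,6,0,3,0,8])]

/-- part 31 of `topOrb0` -/
noncomputable def topOrb0P31 : List (ℕ × List ℕ) := [
  (1669,[1,6,0,3,1,2]),
  (2478,[1,6,0,3,2,0]),
  (2496,[1,6,0,3,2,5]),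
  (2017,[1,6,0,3,2,8]),
  (3626,[1,6,0,3,4,1]),
  (1673,[1,6,0,3,4,3]),
  (1552,[1,6,0,3,4,5]),
  (1803,[1,6,0,3,4,6]),
  (2144,[1,6,0,3,6,7]),
  (1647,[1,6,0,3,6,9]),
  (2839,[1,6,0,3,7,1]),
  (2819,[1,6,0,3,7,2]),
  (3254,[1,6,0,3,7,6]),
  (1651,[1,6,0,3,7,7]),
  (3231,[1,6,0,3,7,9]),
  (2102,[1,6,0,3,9,2]),
  (2127,[1,6,0,3,9,6]),
  (2462,[1,6,0,5,0,3]),
  (530,[1,6,0,5,0,9]),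
  (2186,[1,6,0,5,1,7]),
  (462,[1,6,0,5,1,9]),
  (2821,[1,6,0,5,2,2]),
  (2610,[1,6,0,5,2,4]),
  (1587,[1,6,0,5,3,0]),
  (3203,[1,6,0,5,4,5]),
  (1164,[1,6,0,5,4,9]),
  (3684,[1,6,0,5,5,4]),
  (3754,[1,6,0,5,5,7]),
  (2948,[1,6,0,5,6,2]),
  (2018,[1,6,0,5,6,4]),
  (3777,[1,6,0,5,6,6]),
  (3319,[1,6,0,5,6,7]),
  (1616,[1,6,0,5,7,4]),
  (1665,[1,6,0,5,7,8]),
  (2775,[1,6,0,5,7,9]),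
  (3529,[1,6,0,6,1,1]),
  (1499,[1,6,0,6,1,4]),
  (1425,[1,6,0,6,1,5]),
  (2351,[1,6,0,6,1,7]),
  (3524,[1,6,0,6,1,8]),
  (3201,[1,6,0,6,2,2]),
  (3505,[1,6,0,6,2,7]),
  (3518,[1,6,0,6,2,8]),
  (1738,[1,6,0,6,2,9]),
  (1045,[1,6,0,6,3,2]),
  (2936,[1,6,0,6,4,2]),
  (1799,[1,6,0,6,4,8]),
  (3857,[1,6,0,6,6,0]),
  (3572,[1,6,0,6,6,1]),
  (3060,[1,6,0,6,6,6]),
  (2682,[1,6,0,6,6,8]),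
  (2559,[1,6,0,6,7,0]),
  (2433,[1,6,0,6,7,2]),
  (3667,[1,6,0,6,7,4]),
  (2231,[1,6,0,6,7,9]),
  (2940,[1,6,0,6,8,2]),
  (3668,[1,6,0,6,8,4]),
  (914,[1,6,0,6,8,9]),
  (1470,[1,6,0,6,9,0]),
  (3822,[1,6,0,6,9,1]),
  (1475,[1,6,0,6,9,2]),
  (409,[1,6,0,6,9,7]),
  (3396,[1,6,0,7,0,2]),
  (3832,[1,6,0,7,1,4]),
  (1524,[1,6,0,7,1,5]),
  (1584,[1,6,0,7,2,2]),
  (2661,[1,6,0,7,4,5]),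
  (1589,[1,6,0,7,4,8]),
  (1046,[1,6,0,7,6,3]),
  (3629,[1,6,0,7,6,8]),
  (2817,[1,6,0,7,6,9]),
  (2217,[1,6,0,7,8,9]),
  (2976,[1,6,0,7,9,0]),
  (984,[1,6,0,7,9,2]),
  (1935,[1,6,0,7,9,4]),
  (1523,[1,6,0,7,9,7]),
  (3184,[1,6,0,8,0,5]),
  (1819,[1,6,0,8,0,6]),
  (3519,[1,6,0,8,0,7]),
  (2385,[1,6,0,8,0,9]),
  (3311,[1,6,0,8,2,4]),
  (2579,[1,6,0,8,2,8]),
  (2726,[1,6,0,8,2,9]),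
  (2545,[1,6,0,8,4,2]),
  (3665,[1,6,0,8,4,5]),
  (3309,[1,6,0,8,4,6]),
  (2028,[1,6,0,8,4,8]),
  (3073,[1,6,0,8,4,9]),
  (3743,[1,6,0,8,6,1]),
  (3451,[1,6,0,8,6,7]),
  (3854,[1,6,0,9,0,3]),
  (3357,[1,6,0,9,0,5]),
  (3152,[1,6,0,9,1,0]),
  (1712,[1,6,0,9,2,4]),
  (3112,[1,6,0,9,4,2]),
  (3378,[1,6,0,9,4,6]),
  (3246,[1,6,0,9,4,7]),
  (3322,[1,6,0,9,7,2]),
  (3282,[1,6,1,0,5,2]),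
  (2866,[1,6,1,0,5,4])]

/-- part 32 of `topOrb0` -/
noncomputable def topOrb0P32 : List (ℕ × List ℕ) := [
  (3002,[1,6,1,0,6,7]),
  (1170,[1,6,1,0,9,6]),
  (652,[1,6,1,1,6,1]),
  (2561,[1,6,1,1,6,7]),
  (3216,[1,6,1,1,7,6]),
  (3016,[1,6,1,1,7,9]),
  (2541,[1,6,1,1,8,6]),
  (3268,[1,6,1,2,0,3]),
  (3725,[1,6,1,2,0,9]),
  (3410,[1,6,1,2,2,3]),
  (2904,[1,6,1,2,2,4]),
  (1769,[1,6,1,2,2,5]),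
  (2425,[1,6,1,2,2,9]),
  (3331,[1,6,1,2,3,3]),
  (615,[1,6,1,2,5,1]),
  (1786,[1,6,1,2,5,4]),
  (3013,[1,6,1,2,5,8]),
  (2252,[1,6,1,2,6,2]),
  (1865,[1,6,1,3,2,3]),
  (3052,[1,6,1,3,2,4]),
  (3878,[1,6,1,3,2,5]),
  (3570,[1,6,1,3,3,7]),
  (3757,[1,6,1,3,4,7]),
  (2761,[1,6,1,3,4,9]),
  (2253,[1,6,1,3,6,3]),
  (3799,[1,6,1,3,6,7]),
  (3056,[1,6,1,3,9,1]),
  (770,[1,6,1,3,9,2]),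
  (2643,[1,6,1,4,3,2]),
  (2203,[1,6,1,4,3,9]),
  (3426,[1,6,1,4,5,1]),
  (3558,[1,6,1,4,5,9]),
  (2372,[1,6,1,4,7,2]),
  (1502,[1,6,1,4,7,9]),
  (1082,[1,6,1,4,9,6]),
  (2565,[1,6,1,5,0,9]),
  (3372,[1,6,1,5,1,9]),
  (3438,[1,6,1,5,2,7]),
  (1806,[1,6,1,5,2,9]),
  (3178,[1,6,1,5,3,2]),
  (3113,[1,6,1,5,3,6]),
  (2195,[1,6,1,5,3,7]),
  (733,[1,6,1,5,6,1]),
  (1034,[1,6,1,5,6,3]),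
  (3217,[1,6,1,5,7,6]),
  (3431,[1,6,1,5,7,9]),
  (3859,[1,6,1,5,8,1]),
  (3829,[1,6,1,5,8,4]),
  (2566,[1,6,1,5,8,9]),
  (1635,[1,6,1,6,0,7]),
  (3244,[1,6,1,6,0,8]),
  (1913,[1,6,1,6,2,2]),
  (1909,[1,6,1,6,3,3]),
  (1389,[1,6,1,6,3,7]),
  (904,[1,6,1,6,6,1]),
  (2628,[1,6,1,6,6,2]),
  (3096,[1,6,1,6,6,6]),
  (3900,[1,6,1,6,7,4]),
  (2209,[1,6,1,6,7,7]),
  (2463,[1,6,1,6,9,4]),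
  (666,[1,6,1,6,9,6]),
  (2789,[1,6,1,7,0,8]),
  (2734,[1,6,1,7,2,2]),
  (3157,[1,6,1,7,2,8]),
  (3214,[1,6,1,7,3,9]),
  (1659,[1,6,1,7,8,7]),
  (2537,[1,6,1,8,2,7]),
  (1718,[1,6,1,8,2,8]),
  (3220,[1,6,1,8,6,3]),
  (3335,[1,6,1,8,6,7]),
  (3899,[1,6,1,8,7,0]),
  (3538,[1,6,1,8,7,8]),
  (1484,[1,6,1,8,7,9]),
  (3583,[1,6,1,8,9,2]),
  (1095,[1,6,1,8,9,7]),
  (492,[1,6,1,9,2,0]),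
  (2742,[1,6,1,9,2,4]),
  (1039,[1,6,1,9,6,0]),
  (1804,[1,6,1,9,6,2]),
  (2384,[1,6,1,9,6,4]),
  (1789,[1,6,1,9,7,1]),
  (2871,[1,6,2,0,1,3]),
  (2107,[1,6,2,0,2,2]),
  (2399,[1,6,2,0,2,3]),
  (2943,[1,6,2,0,2,7]),
  (1829,[1,6,2,0,2,9]),
  (2097,[1,6,2,0,3,7]),
  (28,[1,6,2,0,5,1]),
  (291,[1,6,2,0,5,4]),
  (2884,[1,6,2,0,7,7]),
  (1474,[1,6,2,0,9,0]),
  (2771,[1,6,2,0,9,1]),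
  (1828,[1,6,2,0,9,2]),
  (650,[1,6,2,2,3,1]),
  (2368,[1,6,2,2,3,8]),
  (1649,[1,6,2,2,4,2]),
  (841,[1,6,2,2,4,5]),
  (2730,[1,6,2,2,4,8]),
  (2684,[1,6,2,2,5,2]),
  (955,[1,6,2,2,5,9])]

/-- part 33 of `topOrb0` -/
noncomputable def topOrb0P33 : List (ℕ × List ℕ) := [
  (2760,[1,6,2,2,9,7]),
  (2912,[1,6,2,3,6,7]),
  (2458,[1,6,2,3,6,9]),
  (3462,[1,6,2,4,2,6]),
  (3825,[1,6,2,4,3,0]),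
  (2646,[1,6,2,4,3,2]),
  (2126,[1,6,2,4,3,4]),
  (1040,[1,6,2,4,3,7]),
  (2003,[1,6,2,4,5,9]),
  (1981,[1,6,2,4,6,2]),
  (3522,[1,6,2,4,6,7]),
  (1982,[1,6,2,4,6,9]),
  (3153,[1,6,2,4,7,1]),
  (842,[1,6,2,4,7,4]),
  (2472,[1,6,2,4,7,7]),
  (2154,[1,6,2,5,6,1]),
  (476,[1,6,2,5,6,9]),
  (1544,[1,6,2,5,8,2]),
  (3257,[1,6,2,5,8,7]),
  (3463,[1,6,2,6,0,1]),
  (1883,[1,6,2,6,0,2]),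
  (1566,[1,6,2,6,0,6]),
  (3881,[1,6,2,6,1,0]),
  (2538,[1,6,2,6,1,1]),
  (1482,[1,6,2,6,1,6]),
  (1745,[1,6,2,6,2,7]),
  (2230,[1,6,2,6,2,8]),
  (1975,[1,6,2,6,2,9]),
  (498,[1,6,2,6,3,2]),
  (2072,[1,6,2,6,4,2]),
  (1055,[1,6,2,6,4,8]),
  (1696,[1,6,2,6,8,0]),
  (2539,[1,6,2,6,9,0]),
  (2859,[1,6,2,6,9,4]),
  (3351,[1,6,2,7,1,2]),
  (3602,[1,6,2,7,1,6]),
  (2796,[1,6,2,7,1,7]),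
  (1603,[1,6,2,7,1,9]),
  (1941,[1,6,2,7,3,4]),
  (3159,[1,6,2,7,9,2]),
  (3370,[1,6,2,8,0,2]),
  (1652,[1,6,2,8,0,5]),
  (686,[1,6,2,8,0,6]),
  (3510,[1,6,2,8,4,5]),
  (2513,[1,6,2,9,6,0]),
  (655,[1,6,3,0,1,5]),
  (373,[1,6,3,0,1,9]),
  (3054,[1,6,3,0,3,2]),
  (1765,[1,6,3,0,5,7]),
  (1539,[1,6,3,0,7,2]),
  (3514,[1,6,3,0,7,3]),
  (1537,[1,6,3,0,7,4]),
  (1759,[1,6,3,0,7,8]),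
  (3872,[1,6,3,0,9,7]),
  (501,[1,6,3,1,0,5]),
  (312,[1,6,3,1,0,7]),
  (2042,[1,6,3,1,4,3]),
  (416,[1,6,3,1,5,5]),
  (390,[1,6,3,1,5,6]),
  (1959,[1,6,3,1,6,2]),
  (2364,[1,6,3,1,7,3]),
  (1594,[1,6,3,1,7,4]),
  (1835,[1,6,3,3,1,2]),
  (2166,[1,6,3,3,6,6]),
  (503,[1,6,3,4,1,3]),
  (3772,[1,6,3,4,3,1]),
  (2692,[1,6,3,4,3,9]),
  (967,[1,6,3,4,6,1]),
  (3803,[1,6,3,4,6,6]),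
  (2632,[1,6,3,4,7,2]),
  (2937,[1,6,3,4,9,7]),
  (3664,[1,6,3,6,2,4]),
  (1597,[1,6,3,6,2,6]),
  (2500,[1,6,3,6,6,4]),
  (2374,[1,6,3,6,6,6]),
  (3012,[1,6,3,6,6,7]),
  (2224,[1,6,3,6,8,2]),
  (3792,[1,6,3,6,8,7]),
  (27,[1,6,3,7,0,1]),
  (2383,[1,6,3,7,0,7]),
  (38,[1,6,3,7,1,0]),
  (29,[1,6,3,7,1,3]),
  (31,[1,6,3,7,1,5]),
  (4,[1,6,3,7,1,7]),
  (2549,[1,6,3,7,6,0]),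
  (3705,[1,6,4,1,2,3]),
  (2519,[1,6,4,1,2,6]),
  (2514,[1,6,4,1,6,6]),
  (3843,[1,6,4,2,2,5]),
  (3769,[1,6,4,2,2,6]),
  (3239,[1,6,4,2,3,4]),
  (3404,[1,6,4,2,3,9]),
  (2951,[1,6,4,2,6,1]),
  (3240,[1,6,4,2,6,3]),
  (3133,[1,6,4,2,6,6]),
  (899,[1,6,4,2,7,3]),
  (3383,[1,6,4,2,8,6]),
  (3427,[1,6,4,3,0,8]),
  (3550,[1,6,4,3,0,9]),
  (1787,[1,6,4,3,1,3])]

/-- part 34 of `topOrb0` -/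
noncomputable def topOrb0P34 : List (ℕ × List ℕ) := [
  (3811,[1,6,4,3,1,7]),
  (2723,[1,6,4,3,1,8]),
  (3469,[1,6,4,3,7,0]),
  (625,[1,6,4,3,7,2]),
  (3249,[1,6,4,3,7,4]),
  (2881,[1,6,4,3,8,9]),
  (2468,[1,6,4,3,9,7]),
  (1476,[1,6,4,5,1,6]),
  (1481,[1,6,4,6,2,8]),
  (3846,[1,6,4,6,3,0]),
  (3286,[1,6,4,6,4,6]),
  (2728,[1,6,4,6,6,6]),
  (1462,[1,6,4,6,7,9]),
  (3413,[1,6,4,6,8,0]),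
  (3080,[1,6,4,6,8,6]),
  (3183,[1,6,4,7,1,7]),
  (3688,[1,6,4,7,3,9]),
  (2880,[1,6,4,7,6,7]),
  (2516,[1,6,4,7,6,8]),
  (2988,[1,6,4,8,2,6]),
  (1081,[1,6,4,8,4,5]),
  (1737,[1,6,4,8,4,7]),
  (3776,[1,6,4,8,6,3]),
  (3202,[1,6,4,8,6,4]),
  (3436,[1,6,4,8,7,3]),
  (3402,[1,6,4,9,2,3]),
  (3149,[1,6,4,9,2,5]),
  (737,[1,6,4,9,6,1]),
  (3140,[1,6,6,0,6,7]),
  (1381,[1,6,6,0,7,1]),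
  (1631,[1,6,6,0,7,7]),
  (3371,[1,6,6,1,0,7]),
  (3837,[1,6,6,1,2,3]),
  (3276,[1,6,6,1,2,4]),
  (2426,[1,6,6,1,2,8]),
  (3880,[1,6,6,1,2,9]),
  (1059,[1,6,6,1,7,8]),
  (3301,[1,6,6,2,0,6]),
  (945,[1,6,6,2,0,9]),
  (1604,[1,6,6,2,3,8]),
  (3556,[1,6,6,2,4,5]),
  (1687,[1,6,6,2,4,7]),
  (2177,[1,6,6,2,5,1]),
  (1598,[1,6,6,2,5,2]),
  (2451,[1,6,6,2,7,1]),
  (482,[1,6,6,2,8,1]),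
  (178,[1,6,6,3,6,1]),
  (1698,[1,6,6,3,6,3]),
  (1093,[1,6,6,3,6,8]),
  (3780,[1,6,6,3,7,4]),
  (2755,[1,6,6,4,6,4]),
  (2507,[1,6,6,6,1,2]),
  (2804,[1,6,6,6,7,2]),
  (1900,[1,6,6,7,2,5]),
  (3715,[1,6,6,7,6,0]),
  (3744,[1,6,6,7,6,2]),
  (3143,[1,6,7,0,1,7]),
  (2695,[1,6,7,0,2,2]),
  (1327,[1,6,7,0,5,1]),
  (3536,[1,6,7,0,5,8]),
  (2289,[1,6,7,0,5,9]),
  (198,[1,6,7,0,6,2]),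
  (2173,[1,6,7,0,6,8]),
  (2713,[1,6,7,0,7,4]),
  (3750,[1,6,7,0,7,9]),
  (620,[1,6,7,1,1,6]),
  (2654,[1,6,7,1,1,7]),
  (2222,[1,6,7,1,6,3]),
  (769,[1,6,7,1,7,0]),
  (933,[1,6,7,1,7,1]),
  (1592,[1,6,7,1,7,2]),
  (1350,[1,6,7,1,7,6]),
  (2348,[1,6,7,2,2,2]),
  (20,[1,6,7,2,3,1]),
  (1547,[1,6,7,2,5,1]),
  (2011,[1,6,7,2,5,7]),
  (2207,[1,6,7,2,5,8]),
  (3019,[1,6,7,2,7,1]),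
  (2119,[1,6,7,2,7,4]),
  (421,[1,6,7,3,1,3]),
  (504,[1,6,7,3,1,5]),
  (2582,[1,6,7,4,2,2]),
  (3009,[1,6,7,4,2,3]),
  (1600,[1,6,7,7,1,6]),
  (2798,[1,6,7,7,1,9]),
  (3390,[1,6,7,7,2,5]),
  (1079,[1,6,7,7,3,3]),
  (2505,[1,6,7,7,4,1]),
  (2842,[1,6,7,7,4,4]),
  (2380,[1,6,7,7,7,4]),
  (3730,[1,6,8,0,5,2]),
  (2709,[1,6,8,0,6,8]),
  (2476,[1,6,8,0,7,0]),
  (619,[1,6,8,0,7,7]),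
  (2278,[1,6,8,0,7,9]),
  (3104,[1,6,8,1,2,0]),
  (1689,[1,6,8,1,2,9]),
  (410,[1,6,8,1,6,0]),
  (1861,[1,6,8,1,6,6]),
  (840,[1,6,8,1,6,7])]

/-- part 35 of `topOrb0` -/
noncomputable def topOrb0P35 : List (ℕ × List ℕ) := [
  (3442,[1,6,8,2,3,0]),
  (2294,[1,6,8,2,4,5]),
  (2710,[1,6,8,2,4,9]),
  (1973,[1,6,8,2,5,0]),
  (3379,[1,6,8,2,5,4]),
  (2083,[1,6,8,2,5,6]),
  (3189,[1,6,8,2,5,7]),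
  (2799,[1,6,8,2,5,8]),
  (1379,[1,6,8,2,6,6]),
  (1466,[1,6,8,2,6,7]),
  (1919,[1,6,8,2,7,6]),
  (1650,[1,6,8,4,6,4]),
  (3863,[1,6,8,4,7,3]),
  (3175,[1,6,8,4,7,4]),
  (1031,[1,6,8,7,3,3]),
  (1801,[1,6,8,7,4,7]),
  (3190,[1,6,8,7,9,4]),
  (2754,[1,6,9,0,2,3]),
  (2818,[1,6,9,0,2,8]),
  (2471,[1,6,9,0,3,0]),
  (1758,[1,6,9,0,3,2]),
  (1679,[1,6,9,0,3,4]),
  (1794,[1,6,9,0,6,2]),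
  (3677,[1,6,9,0,6,8]),
  (3764,[1,6,9,1,2,6]),
  (3291,[1,6,9,1,2,7]),
  (2681,[1,6,9,1,6,2]),
  (3480,[1,6,9,1,6,7]),
  (1726,[1,6,9,2,0,5]),
  (3332,[1,6,9,2,3,1]),
  (2396,[1,6,9,2,3,6]),
  (2583,[1,6,9,2,4,3]),
  (3877,[1,6,9,2,7,0]),
  (3782,[1,6,9,2,7,4]),
  (2603,[1,6,9,4,2,3]),
  (3549,[1,6,9,4,3,6]),
  (1648,[1,6,9,4,3,7]),
  (2332,[1,6,9,4,7,1]),
  (548,[1,6,9,7,1,6]),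
  (1671,[1,6,9,7,2,4]),
  (1351,[1,6,9,7,2,8]),
  (3299,[1,7,0,0,0,5]),
  (3444,[1,7,0,0,2,7]),
  (2918,[1,7,0,1,2,0]),
  (3741,[1,7,0,1,2,5]),
  (3486,[1,7,0,1,6,3]),
  (2523,[1,7,0,1,6,6]),
  (1054,[1,7,0,2,3,4]),
  (2700,[1,7,0,2,3,6]),
  (1845,[1,7,0,2,3,7]),
  (3195,[1,7,0,3,2,5]),
  (806,[1,7,0,3,6,1]),
  (3509,[1,7,0,3,8,2]),
  (1077,[1,7,0,5,0,5]),
  (2757,[1,7,0,5,2,7]),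
  (3575,[1,7,0,5,2,9]),
  (3785,[1,7,0,5,3,9]),
  (3238,[1,7,0,5,5,0]),
  (3135,[1,7,0,5,5,7]),
  (3679,[1,7,0,5,5,9]),
  (1526,[1,7,0,5,9,2]),
  (1461,[1,7,0,6,1,3]),
  (3613,[1,7,0,6,2,3]),
  (1505,[1,7,0,6,2,9]),
  (3014,[1,7,0,7,1,4]),
  (2181,[1,7,0,7,1,9]),
  (2702,[1,7,0,7,7,2]),
  (3848,[1,7,0,7,7,4]),
  (2898,[1,7,0,8,9,2]),
  (1585,[1,7,0,9,1,5]),
  (1025,[1,7,0,9,6,0]),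
  (2484,[1,7,0,9,6,1]),
  (3902,[1,7,1,0,7,1]),
  (2499,[1,7,1,1,6,7]),
  (1852,[1,7,1,2,6,1]),
  (2196,[1,7,1,2,8,7]),
  (3023,[1,7,1,6,1,4]),
  (3738,[1,7,1,6,6,2]),
  (453,[1,7,1,6,7,1]),
  (1445,[1,7,1,6,7,4]),
  (2198,[1,7,1,6,8,6]),
  (2908,[1,7,1,7,3,2]),
  (3307,[1,7,1,7,3,7]),
  (1560,[1,7,1,7,4,3]),
  (2551,[1,7,1,7,4,5]),
  (2935,[1,7,1,7,4,7]),
  (3165,[1,7,1,7,7,9]),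
  (3901,[1,7,1,7,8,6]),
  (2999,[1,7,1,9,1,7]),
  (1453,[1,7,2,0,5,0]),
  (832,[1,7,2,0,9,6]),
  (175,[1,7,2,2,3,1]),
  (536,[1,7,2,2,5,3]),
  (2223,[1,7,2,2,6,3]),
  (1308,[1,7,2,2,7,6]),
  (740,[1,7,2,3,2,7]),
  (3218,[1,7,2,3,3,4]),
  (1607,[1,7,2,3,9,7]),
  (2932,[1,7,2,4,4,6]),
  (2953,[1,7,2,4,7,1])]

/-- part 36 of `topOrb0` -/
noncomputable def topOrb0P36 : List (ℕ × List ℕ) := [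
  (2639,[1,7,2,4,7,3]),
  (3687,[1,7,2,4,8,9]),
  (3000,[1,7,2,4,9,2]),
  (3288,[1,7,2,4,9,6]),
  (1728,[1,7,2,5,1,2]),
  (3225,[1,7,2,5,1,3]),
  (1555,[1,7,2,5,5,9]),
  (780,[1,7,2,5,6,1]),
  (837,[1,7,2,5,6,4]),
  (2339,[1,7,2,6,0,1]),
  (2358,[1,7,2,6,1,5]),
  (1403,[1,7,2,6,1,7]),
  (2560,[1,7,2,6,2,0]),
  (2585,[1,7,2,6,2,4]),
  (3090,[1,7,2,6,3,0]),
  (2283,[1,7,2,6,3,4]),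
  (2828,[1,7,2,6,9,4]),
  (2069,[1,7,2,7,1,4]),
  (1471,[1,7,2,7,1,8]),
  (2557,[1,7,2,7,7,7]),
  (2000,[1,7,2,8,1,7]),
  (3650,[1,7,2,8,6,7]),
  (1583,[1,7,2,9,4,3]),
  (3595,[1,7,2,9,4,5]),
  (2522,[1,7,2,9,7,1]),
  (346,[1,7,3,0,3,2]),
  (1877,[1,7,3,0,5,0]),
  (1855,[1,7,3,0,5,2]),
  (1333,[1,7,3,1,2,5]),
  (672,[1,7,3,1,3,6]),
  (461,[1,7,3,1,3,7]),
  (344,[1,7,3,1,4,7]),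
  (2405,[1,7,3,1,5,0]),
  (1278,[1,7,3,1,5,2]),
  (1306,[1,7,3,1,5,3]),
  (378,[1,7,3,1,5,5]),
  (315,[1,7,3,1,6,4]),
  (2055,[1,7,3,1,6,6]),
  (1575,[1,7,3,1,9,6]),
  (3323,[1,7,3,2,3,4]),
  (318,[1,7,3,2,5,1]),
  (2271,[1,7,3,2,5,4]),
  (1843,[1,7,3,2,5,7]),
  (3830,[1,7,3,3,0,6]),
  (3069,[1,7,3,7,9,7]),
  (2729,[1,7,3,9,7,1]),
  (2617,[1,7,4,1,7,3]),
  (2778,[1,7,4,2,6,3]),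
  (2607,[1,7,4,2,7,2]),
  (3797,[1,7,4,3,0,8]),
  (3405,[1,7,4,3,0,9]),
  (917,[1,7,4,3,7,4]),
  (2019,[1,7,4,4,6,9]),
  (3474,[1,7,4,5,0,9]),
  (2007,[1,7,4,5,2,0]),
  (3771,[1,7,4,5,3,9]),
  (3233,[1,7,4,5,4,2]),
  (3416,[1,7,4,7,3,0]),
  (3882,[1,7,4,8,7,3]),
  (563,[1,7,6,0,1,9]),
  (417,[1,7,6,1,0,5]),
  (1890,[1,7,6,1,6,0]),
  (1313,[1,7,6,1,6,8]),
  (1548,[1,7,6,6,1,9]),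
  (3098,[1,7,6,9,7,1]),
  (3537,[1,7,7,0,7,8]),
  (478,[1,7,7,2,2,8]),
  (2431,[1,7,7,2,6,0]),
  (3230,[1,7,7,2,6,2]),
  (2346,[1,7,7,2,6,9]),
  (2870,[1,7,7,4,1,5]),
  (3138,[1,7,7,4,6,6]),
  (3476,[1,7,7,6,7,1]),
  (2341,[1,7,7,6,8,2]),
  (1200,[1,7,8,2,5,6]),
  (3569,[1,7,8,2,7,2]),
  (918,[1,7,8,6,4,5]),
  (2212,[1,7,8,6,4,9]),
  (2473,[1,7,8,9,2,6]),
  (2350,[1,7,9,0,3,0]),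
  (2466,[1,7,9,0,7,9]),
  (1472,[1,7,9,1,7,8]),
  (2590,[1,7,9,4,3,1]),
  (1761,[1,7,9,4,5,7]),
  (2206,[1,7,9,4,6,1]),
  (905,[1,7,9,4,6,4]),
  (1070,[1,7,9,6,0,0]),
  (3252,[1,7,9,6,1,0]),
  (3594,[1,7,9,6,1,3]),
  (1155,[1,7,9,6,2,4]),
  (868,[1,7,9,6,3,1]),
  (1408,[1,3,0,1,3,0,6]),
  (1269,[1,3,0,1,3,2,6]),
  (9,[1,3,0,1,3,2,7]),
  (1285,[1,3,0,1,3,2,9]),
  (2512,[1,3,0,1,3,4,1]),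
  (2354,[1,3,0,1,3,4,2]),
  (418,[1,3,0,1,3,7,3]),
  (1377,[1,3,0,1,3,8,6]),
  (1268,[1,3,0,1,3,9,2])]

/-- part 37 of `topOrb0` -/
noncomputable def topOrb0P37 : List (ℕ × List ℕ) := [
  (2057,[1,3,0,1,3,9,7]),
  (2390,[1,3,0,1,5,4,2]),
  (317,[1,3,0,1,5,7,6]),
  (1203,[1,3,0,1,5,8,2]),
  (1317,[1,3,0,1,6,0,9]),
  (3129,[1,3,0,1,6,1,5]),
  (1261,[1,3,0,1,6,2,2]),
  (924,[1,3,0,1,6,2,3]),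
  (2591,[1,3,0,1,6,3,7]),
  (1371,[1,3,0,1,6,3,9]),
  (2302,[1,3,0,1,6,4,7]),
  (648,[1,3,0,1,6,6,3]),
  (56,[1,3,0,1,6,7,0]),
  (58,[1,3,0,1,6,7,4]),
  (1392,[1,3,0,1,6,7,7]),
  (1310,[1,3,0,1,6,7,8]),
  (1254,[1,3,0,1,6,9,4]),
  (2035,[1,3,0,1,7,2,5]),
  (433,[1,3,0,1,7,4,3]),
  (801,[1,3,0,1,7,7,4]),
  (2188,[1,3,0,1,7,7,6]),
  (719,[1,3,0,1,7,9,4]),
  (1895,[1,3,0,1,8,2,3]),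
  (402,[1,3,0,1,8,2,5]),
  (1361,[1,3,0,1,9,0,3]),
  (1970,[1,3,0,1,9,0,7]),
  (722,[1,3,0,1,9,6,2]),
  (363,[1,3,0,1,9,6,6]),
  (2081,[1,3,0,1,9,7,7]),
  (2453,[1,3,0,2,0,1,5]),
  (1038,[1,3,0,2,0,3,6]),
  (2381,[1,3,0,2,0,5,1]),
  (3506,[1,3,0,2,0,5,8]),
  (1751,[1,3,0,2,2,6,4]),
  (2934,[1,3,0,2,3,0,6]),
  (456,[1,3,0,2,7,1,3]),
  (55,[1,3,0,2,7,1,4]),
  (2955,[1,3,0,3,0,7,2]),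
  (2340,[1,3,0,3,1,0,5]),
  (2324,[1,3,0,3,1,2,7]),
  (647,[1,3,0,3,1,5,7]),
  (1412,[1,3,0,3,1,6,4]),
  (935,[1,3,0,3,1,6,8]),
  (1380,[1,3,0,3,1,7,2]),
  (3182,[1,3,0,3,4,3,7]),
  (3076,[1,3,0,3,6,8,9]),
  (1719,[1,3,0,3,7,1,5]),
  (1770,[1,3,0,3,7,2,9]),
  (1676,[1,3,0,3,7,9,2]),
  (1821,[1,3,0,3,8,2,2]),
  (2601,[1,3,0,3,8,4,2]),
  (2280,[1,3,0,3,8,4,6]),
  (2683,[1,3,0,3,8,6,7]),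
  (1207,[1,3,0,3,8,9,4]),
  (1289,[1,3,0,3,9,1,2]),
  (2314,[1,3,0,3,9,1,6]),
  (848,[1,3,0,5,2,3,6]),
  (766,[1,3,0,5,2,7,1]),
  (2616,[1,3,0,5,2,7,9]),
  (391,[1,3,0,5,3,1,7]),
  (3821,[1,3,0,5,6,6,7]),
  (2712,[1,3,0,5,7,9,0]),
  (2320,[1,3,0,5,8,0,9]),
  (867,[1,3,0,5,8,9,7]),
  (2170,[1,3,0,6,0,1,3]),
  (2355,[1,3,0,6,0,1,5]),
  (2221,[1,3,0,6,0,1,9]),
  (1599,[1,3,0,6,0,7,6]),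
  (1016,[1,3,0,6,1,0,7]),
  (1256,[1,3,0,6,1,2,8]),
  (1415,[1,3,0,6,1,4,2]),
  (1257,[1,3,0,6,1,5,9]),
  (3481,[1,3,0,6,2,9,6]),
  (2050,[1,3,0,6,3,1,3]),
  (2361,[1,3,0,6,3,1,5]),
  (1265,[1,3,0,6,3,1,6]),
  (1396,[1,3,0,6,3,9,1]),
  (1501,[1,3,0,6,4,7,7]),
  (3516,[1,3,0,6,6,7,0]),
  (3525,[1,3,0,6,6,7,4]),
  (2865,[1,3,0,6,8,2,8]),
  (926,[1,3,0,6,8,9,1]),
  (3302,[1,3,0,6,9,7,4]),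
  (2498,[1,3,0,7,1,2,0]),
  (2088,[1,3,0,7,2,0,1]),
  (3633,[1,3,0,7,2,6,8]),
  (2826,[1,3,0,7,2,9,7]),
  (3678,[1,3,0,7,3,3,1]),
  (1601,[1,3,0,7,3,6,7]),
  (1494,[1,3,0,7,3,9,7]),
  (1565,[1,3,0,7,4,2,6]),
  (2956,[1,3,0,7,7,0,9]),
  (2313,[1,3,0,8,1,2,5]),
  (2449,[1,3,0,8,1,7,8]),
  (3794,[1,3,0,8,6,2,2]),
  (62,[1,3,0,8,7,1,3]),
  (1334,[1,3,0,8,7,1,5]),
  (1183,[1,3,0,8,7,3,9]),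
  (2079,[1,3,0,8,7,8,1]),
  (1431,[1,3,0,9,1,5,6])]

/-- part 38 of `topOrb0` -/
noncomputable def topOrb0P38 : List (ℕ × List ℕ) := [
  (177,[1,3,0,9,1,6,3]),
  (2288,[1,3,0,9,1,6,7]),
  (2187,[1,3,0,9,1,6,8]),
  (1349,[1,3,0,9,1,6,9]),
  (901,[1,3,0,9,2,6,6]),
  (3430,[1,3,0,9,2,7,1]),
  (3356,[1,3,0,9,2,7,6]),
  (3617,[1,3,0,9,2,7,9]),
  (1230,[1,3,0,9,7,7,3]),
  (507,[1,3,1,0,2,6,1]),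
  (662,[1,3,1,0,2,7,1]),
  (509,[1,3,1,0,5,0,3]),
  (863,[1,3,1,0,5,0,5]),
  (681,[1,3,1,0,5,4,3]),
  (343,[1,3,1,0,5,7,0]),
  (725,[1,3,1,0,5,7,7]),
  (1441,[1,3,1,0,6,6,4]),
  (2389,[1,3,1,0,6,6,7]),
  (1303,[1,3,1,0,6,7,7]),
  (1281,[1,3,1,0,7,1,0]),
  (1348,[1,3,1,0,7,1,2]),
  (2448,[1,3,1,0,7,2,0]),
  (2442,[1,3,1,0,7,2,4]),
  (512,[1,3,1,0,7,4,1]),
  (2327,[1,3,1,0,7,4,6]),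
  (1364,[1,3,1,0,7,4,9]),
  (40,[1,3,1,0,7,9,6]),
  (2392,[1,3,1,1,2,6,0]),
  (2805,[1,3,1,1,2,6,4]),
  (319,[1,3,1,2,2,4,7]),
  (1888,[1,3,1,2,2,7,3]),
  (2391,[1,3,1,2,3,0,6]),
  (2569,[1,3,1,2,3,7,8]),
  (396,[1,3,1,2,5,0,8]),
  (2053,[1,3,1,2,5,2,3]),
  (399,[1,3,1,2,5,6,9]),
  (1321,[1,3,1,2,5,8,0]),
  (171,[1,3,1,2,6,3,2]),
  (2387,[1,3,1,2,7,2,4]),
  (76,[1,3,1,2,7,4,8]),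
  (511,[1,3,1,2,8,6,2]),
  (1437,[1,3,1,2,8,7,9]),
  (506,[1,3,1,2,9,7,0]),
  (290,[1,3,1,3,1,6,3]),
  (2037,[1,3,1,3,2,3,0]),
  (320,[1,3,1,3,4,7,6]),
  (1442,[1,3,1,3,6,2,5]),
  (164,[1,3,1,3,6,2,9]),
  (53,[1,3,1,3,7,7,6]),
  (1397,[1,3,1,4,2,6,4]),
  (3731,[1,3,1,4,6,1,2]),
  (39,[1,3,1,5,6,0,5]),
  (1192,[1,3,1,5,6,3,7]),
  (342,[1,3,1,5,6,4,9]),
  (2388,[1,3,1,5,7,1,2]),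
  (388,[1,3,1,5,7,2,6]),
  (1270,[1,3,1,6,0,0,3]),
  (1374,[1,3,1,6,0,3,6]),
  (3084,[1,3,1,6,1,4,7]),
  (367,[1,3,1,6,2,5,0]),
  (1385,[1,3,1,6,2,5,2]),
  (48,[1,3,1,6,7,2,5]),
  (389,[1,3,1,6,8,4,7]),
  (295,[1,3,1,7,2,8,0]),
  (1,[1,3,1,7,7,6,1]),
  (3289,[1,3,1,7,8,1,3]),
  (365,[1,3,1,8,2,6,6]),
  (362,[1,3,1,9,7,7,0]),
  (3807,[1,3,2,0,3,0,2]),
  (3592,[1,3,2,0,3,4,9]),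
  (1536,[1,3,2,0,3,8,1]),
  (1663,[1,3,2,0,3,8,2]),
  (1527,[1,3,2,0,7,3,4]),
  (2675,[1,3,2,0,7,8,6]),
  (1783,[1,3,2,3,7,7,8]),
  (3089,[1,3,2,5,2,8,4]),
  (2475,[1,3,2,5,6,8,7]),
  (3211,[1,3,2,6,0,2,5]),
  (2787,[1,3,2,6,2,9,2]),
  (1974,[1,3,2,6,2,9,6]),
  (3812,[1,3,2,6,4,5,1]),
  (966,[1,3,2,7,0,8,6]),
  (892,[1,3,2,7,1,3,3]),
  (2696,[1,3,2,7,6,4,2]),
  (3353,[1,3,4,6,4,5,4]),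
  (2515,[1,3,4,6,7,0,8]),
  (1937,[1,3,4,7,9,4,7]),
  (3865,[1,3,6,2,0,6,0]),
  (3188,[1,3,6,2,2,8,6]),
  (3207,[1,3,6,7,1,5,8]),
  (3680,[1,3,6,7,2,5,4]),
  (3808,[1,3,7,0,6,8,6]),
  (1304,[1,3,7,1,7,1,2]),
  (6,[1,3,7,6,0,1,5]),
  (3,[1,3,7,6,0,1,6]),
  (238,[1,3,7,6,1,2,4]),
  (7,[1,3,7,6,1,2,6]),
  (32,[1,3,7,6,1,6,8]),
  (24,[1,3,7,6,1,7,4]),
  (240,[1,3,7,6,1,7,7])]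

/-- part 39 of `topOrb0` -/
noncomputable def topOrb0P39 : List (ℕ × List ℕ) := [
  (5,[1,3,7,6,9,1,6]),
  (513,[1,5,1,2,8,6,2]),
  (2054,[1,5,1,5,6,0,6]),
  (3477,[1,5,3,0,5,7,7]),
  (2056,[1,6,3,1,5,6,2]),
  (30,[1,7,3,1,4,7,7])]

/-- certificate data -/
noncomputable def topOrb0 : List (ℕ × List ℕ) :=
  [topOrb0P0, topOrb0P1, topOrb0P2, topOrb0P3, topOrb0P4, topOrb0P5, topOrb0P6, topOrb0P7, topOrb0P8, topOrb0P9, topOrb0P10, topOrb0P11, topOrb0P12, topOrb0P13, topOrb0P14, topOrb0P15, topOrb0P16, topOrb0P17, topOrb0P18, topOrb0P19, topOrb0P20, topOrb0P21, topOrb0P22, topOrb0P23, topOrb0P24, topOrb0P25, topOrb0P26, topOrb0P27, topOrb0P28, topOrb0P29, topOrb0P30, topOrb0P31, topOrb0P32, topOrb0P33, topOrb0P34, topOrb0P35, topOrb0P36,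 topOrb0P37, topOrb0P38, topOrb0P39].flatten

/-- a level -/
noncomputable def topLev0 : CLev := ⟨0, [[0],
  [6],
  [2],
  [4],
  [1],
  [5,0,0],
  [4,0,2,0,3,3,0,5],
  [4,3,0,2,0,2,2,1,5],
  [0,3,0,2,0,2,2,1],
  [0,3,0,2,2,1]], topOrb0⟩

/-- part 0 of `topOrb1` -/
noncomputable def topOrb1P0 : List (ℕ × List ℕ) := [
  (13,[]),
  (112,[0]),
  (2,[1]),
  (65,[2]),
  (111,[0,0]),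
  (711,[0,1]),
  (127,[0,2]),
  (470,[0,3]),
  (866,[0,4]),
  (3685,[0,5]),
  (91,[0,6]),
  (10,[1,1]),
  (11,[1,3]),
  (750,[1,4]),
  (2307,[1,5]),
  (103,[2,0]),
  (541,[2,1]),
  (12,[2,2]),
  (554,[2,3]),
  (3491,[2,4]),
  (3266,[2,5]),
  (372,[2,6]),
  (578,[2,7]),
  (115,[0,0,0]),
  (187,[0,0,1]),
  (210,[0,0,2]),
  (702,[0,0,3]),
  (2148,[0,0,4]),
  (2785,[0,0,5]),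
  (960,[0,1,0]),
  (956,[0,1,1]),
  (1752,[0,1,2]),
  (80,[0,1,3]),
  (2064,[0,1,4]),
  (622,[0,1,5]),
  (643,[0,1,6]),
  (128,[0,2,0]),
  (1049,[0,2,1]),
  (96,[0,2,2]),
  (1724,[0,2,3]),
  (1331,[0,2,4]),
  (3551,[0,2,5]),
  (276,[0,2,6]),
  (226,[0,2,7]),
  (1857,[0,3,0]),
  (479,[0,3,1]),
  (469,[0,3,2]),
  (229,[0,3,3]),
  (2531,[0,3,4]),
  (3604,[0,3,5]),
  (640,[0,3,6]),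
  (2911,[0,4,0]),
  (867,[0,4,1]),
  (2805,[0,4,2]),
  (2147,[0,4,4]),
  (3516,[0,4,5]),
  (3594,[0,4,6]),
  (3340,[0,4,7]),
  (3484,[0,5,0]),
  (3259,[0,5,1]),
  (3684,[0,5,2]),
  (3864,[0,5,4]),
  (3754,[0,5,5]),
  (2920,[0,5,6]),
  (3733,[0,5,7]),
  (120,[0,6,2]),
  (1444,[0,6,4]),
  (1030,[0,6,5]),
  (19,[1,1,0]),
  (67,[1,1,2]),
  (887,[1,1,4]),
  (1180,[1,1,5]),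
  (66,[1,3,2]),
  (208,[1,3,4]),
  (1816,[1,3,5]),
  (978,[1,4,0]),
  (85,[1,4,1]),
  (3066,[1,4,2]),
  (789,[1,4,4]),
  (3417,[1,4,5]),
  (78,[1,4,6]),
  (489,[1,4,7]),
  (2649,[1,5,0]),
  (333,[1,5,1]),
  (2895,[1,5,2]),
  (105,[1,5,4]),
  (1258,[1,5,5]),
  (566,[1,5,6]),
  (986,[1,5,7]),
  (538,[2,0,0]),
  (71,[2,0,2]),
  (244,[2,0,3]),
  (1781,[2,0,4]),
  (2791,[2,0,5]),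
  (387,[2,0,6]),
  (118,[2,0,7]),
  (550,[2,1,0]),
  (542,[2,1,1]),
  (1106,[2,1,2]),
  (3455,[2,1,4])]

/-- part 1 of `topOrb1` -/
noncomputable def topOrb1P1 : List (ℕ × List ℕ) := [
  (697,[2,1,5]),
  (2023,[2,1,6]),
  (3055,[2,1,7]),
  (14,[2,2,2]),
  (880,[2,2,4]),
  (2398,[2,2,5]),
  (1196,[2,3,0]),
  (555,[2,3,1]),
  (529,[2,3,2]),
  (565,[2,3,3]),
  (3707,[2,3,4]),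
  (2584,[2,3,5]),
  (1210,[2,3,6]),
  (1178,[2,3,7]),
  (2172,[2,4,0]),
  (3492,[2,4,1]),
  (1815,[2,4,2]),
  (3619,[2,4,4]),
  (3616,[2,4,5]),
  (3470,[2,4,6]),
  (2553,[2,4,7]),
  (3267,[2,5,0]),
  (3533,[2,5,1]),
  (2645,[2,5,2]),
  (2694,[2,5,4]),
  (3676,[2,5,5]),
  (2575,[2,5,6]),
  (690,[2,5,7]),
  (581,[2,6,0]),
  (216,[2,6,2]),
  (2674,[2,6,4]),
  (3033,[2,6,5]),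
  (579,[2,6,7]),
  (117,[2,7,0]),
  (745,[2,7,2]),
  (3871,[2,7,4]),
  (1099,[2,7,5]),
  (206,[0,0,0,1]),
  (575,[0,0,0,2]),
  (748,[0,0,0,3]),
  (1654,[0,0,0,4]),
  (1514,[0,0,0,5]),
  (955,[0,0,1,0]),
  (696,[0,0,1,1]),
  (186,[0,0,1,2]),
  (79,[0,0,1,3]),
  (1509,[0,0,1,4]),
  (2431,[0,0,1,5]),
  (773,[0,0,2,0]),
  (1778,[0,0,2,1]),
  (95,[0,0,2,2]),
  (1789,[0,0,2,3]),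
  (1910,[0,0,2,4]),
  (758,[0,0,2,5]),
  (130,[0,0,2,6]),
  (591,[0,0,2,7]),
  (1831,[0,0,3,0]),
  (189,[0,0,3,1]),
  (703,[0,0,3,2]),
  (203,[0,0,3,3]),
  (1336,[0,0,3,4]),
  (1061,[0,0,3,5]),
  (3400,[0,0,4,1]),
  (2832,[0,0,4,2]),
  (1179,[0,0,4,4]),
  (3126,[0,0,4,5]),
  (1531,[0,0,4,7]),
  (1436,[0,0,5,0]),
  (2495,[0,0,5,1]),
  (794,[0,0,5,2]),
  (966,[0,0,5,4]),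
  (3218,[0,0,5,5]),
  (1375,[0,0,5,7]),
  (959,[0,1,0,0]),
  (346,[0,1,0,1]),
  (2353,[0,1,0,2]),
  (990,[0,1,0,3]),
  (2189,[0,1,0,4]),
  (1590,[0,1,0,5]),
  (2827,[0,1,0,6]),
  (954,[0,1,0,7]),
  (382,[0,1,1,1]),
  (1916,[0,1,1,2]),
  (1887,[0,1,1,4]),
  (3593,[0,1,1,5]),
  (787,[0,1,1,6]),
  (3391,[0,1,2,0]),
  (1920,[0,1,2,1]),
  (855,[0,1,2,2]),
  (2985,[0,1,2,3]),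
  (3168,[0,1,2,4]),
  (2762,[0,1,2,5]),
  (2888,[0,1,2,7]),
  (231,[0,1,3,1]),
  (225,[0,1,3,2]),
  (61,[0,1,3,3]),
  (274,[0,1,3,4]),
  (1487,[0,1,3,5]),
  (75,[0,1,3,6]),
  (2316,[0,1,4,0])]

/-- part 2 of `topOrb1` -/
noncomputable def topOrb1P2 : List (ℕ × List ℕ) := [
  (837,[0,1,4,1]),
  (1805,[0,1,4,2]),
  (890,[0,1,4,4]),
  (2953,[0,1,4,5]),
  (1478,[0,1,4,6]),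
  (1318,[0,1,4,7]),
  (621,[0,1,5,0]),
  (1220,[0,1,5,1]),
  (1473,[0,1,5,2]),
  (1668,[0,1,5,4]),
  (2855,[0,1,5,5]),
  (1914,[0,1,5,6]),
  (1786,[0,1,5,7]),
  (796,[0,1,6,0]),
  (1742,[0,1,6,2]),
  (1697,[0,1,6,4]),
  (3008,[0,1,6,5]),
  (284,[0,2,0,0]),
  (1056,[0,2,0,1]),
  (227,[0,2,0,2]),
  (1542,[0,2,0,3]),
  (2376,[0,2,0,4]),
  (3543,[0,2,0,5]),
  (275,[0,2,0,6]),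
  (338,[0,2,0,7]),
  (1055,[0,2,1,0]),
  (1050,[0,2,1,1]),
  (547,[0,2,1,2]),
  (3147,[0,2,1,4]),
  (3530,[0,2,1,5]),
  (2072,[0,2,1,6]),
  (314,[0,2,1,7]),
  (486,[0,2,2,1]),
  (224,[0,2,2,2]),
  (3441,[0,2,2,4]),
  (3346,[0,2,2,5]),
  (102,[0,2,2,6]),
  (3495,[0,2,3,0]),
  (1892,[0,2,3,1]),
  (1723,[0,2,3,2]),
  (1273,[0,2,3,3]),
  (294,[0,2,3,4]),
  (1876,[0,2,3,5]),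
  (1057,[0,2,3,7]),
  (496,[0,2,4,0]),
  (2538,[0,2,4,1]),
  (2574,[0,2,4,2]),
  (2230,[0,2,4,4]),
  (2184,[0,2,4,5]),
  (3121,[0,2,4,6]),
  (693,[0,2,4,7]),
  (2580,[0,2,5,0]),
  (774,[0,2,5,1]),
  (3317,[0,2,5,2]),
  (903,[0,2,5,4]),
  (2931,[0,2,5,5]),
  (546,[0,2,5,6]),
  (3599,[0,2,5,7]),
  (592,[0,2,6,2]),
  (1618,[0,2,6,4]),
  (1407,[0,2,6,5]),
  (359,[0,2,6,7]),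
  (360,[0,2,7,0]),
  (1899,[0,2,7,4]),
  (1864,[0,3,0,0]),
  (332,[0,3,0,1]),
  (1858,[0,3,0,2]),
  (324,[0,3,0,3]),
  (2068,[0,3,0,4]),
  (556,[0,3,0,5]),
  (1294,[0,3,0,7]),
  (1493,[0,3,1,0]),
  (712,[0,3,1,2]),
  (60,[0,3,1,3]),
  (1626,[0,3,1,4]),
  (2634,[0,3,1,5]),
  (641,[0,3,1,6]),
  (1720,[0,3,2,1]),
  (383,[0,3,2,2]),
  (2647,[0,3,2,3]),
  (991,[0,3,2,4]),
  (3532,[0,3,2,5]),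
  (2773,[0,3,2,6]),
  (851,[0,3,2,7]),
  (499,[0,3,3,0]),
  (230,[0,3,3,1]),
  (232,[0,3,3,2]),
  (1386,[0,3,3,4]),
  (1766,[0,3,3,5]),
  (595,[0,3,3,6]),
  (981,[0,3,4,0]),
  (1534,[0,3,4,1]),
  (3520,[0,3,4,2]),
  (2804,[0,3,4,4]),
  (3119,[0,3,4,5]),
  (3230,[0,3,4,7]),
  (3867,[0,3,5,0]),
  (1675,[0,3,5,1]),
  (3841,[0,3,5,2]),
  (3079,[0,3,5,4])]

/-- part 3 of `topOrb1` -/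
noncomputable def topOrb1P3 : List (ℕ × List ℕ) := [
  (2933,[0,3,5,5]),
  (2096,[0,3,5,6]),
  (3392,[0,3,5,7]),
  (1591,[0,3,6,0]),
  (582,[0,3,6,2]),
  (3228,[0,3,6,4]),
  (1661,[0,3,6,5]),
  (1274,[0,4,0,0]),
  (3344,[0,4,0,1]),
  (1144,[0,4,0,2]),
  (1163,[0,4,0,3]),
  (3038,[0,4,0,5]),
  (2234,[0,4,0,6]),
  (2433,[0,4,0,7]),
  (1518,[0,4,1,0]),
  (1229,[0,4,1,1]),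
  (1599,[0,4,1,2]),
  (2999,[0,4,1,3]),
  (864,[0,4,1,4]),
  (3353,[0,4,1,5]),
  (2315,[0,4,1,6]),
  (1355,[0,4,1,7]),
  (2069,[0,4,2,0]),
  (3188,[0,4,2,1]),
  (1607,[0,4,2,2]),
  (1932,[0,4,2,3]),
  (2032,[0,4,2,4]),
  (2696,[0,4,2,5]),
  (965,[0,4,2,6]),
  (1609,[0,4,2,7]),
  (1611,[0,4,4,1]),
  (1704,[0,4,4,2]),
  (1394,[0,4,4,4]),
  (3355,[0,4,4,5]),
  (2344,[0,4,4,6]),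
  (478,[0,4,4,7]),
  (3517,[0,4,5,0]),
  (1680,[0,4,5,1]),
  (1813,[0,4,5,2]),
  (2958,[0,4,5,4]),
  (2690,[0,4,5,5]),
  (3680,[0,4,5,6]),
  (3410,[0,4,5,7]),
  (3319,[0,4,6,0]),
  (1081,[0,4,6,2]),
  (1923,[0,4,6,4]),
  (1288,[0,4,6,5]),
  (3638,[0,4,6,7]),
  (3675,[0,4,7,2]),
  (584,[0,4,7,4]),
  (3708,[0,4,7,5]),
  (2430,[0,5,0,0]),
  (1174,[0,5,0,1]),
  (3850,[0,5,0,2]),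
  (3018,[0,5,0,4]),
  (1157,[0,5,0,6]),
  (1120,[0,5,0,7]),
  (3260,[0,5,1,0]),
  (980,[0,5,1,1]),
  (1587,[0,5,1,2]),
  (3610,[0,5,1,3]),
  (1830,[0,5,1,4]),
  (3824,[0,5,1,7]),
  (2848,[0,5,2,0]),
  (3677,[0,5,2,1]),
  (3562,[0,5,2,2]),
  (3778,[0,5,2,3]),
  (619,[0,5,2,4]),
  (3746,[0,5,2,5]),
  (3890,[0,5,2,6]),
  (1005,[0,5,2,7]),
  (3699,[0,5,4,0]),
  (1539,[0,5,4,1]),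
  (3250,[0,5,4,2]),
  (2016,[0,5,4,4]),
  (2930,[0,5,4,6]),
  (3384,[0,5,4,7]),
  (2157,[0,5,5,0]),
  (3727,[0,5,5,1]),
  (3041,[0,5,5,2]),
  (2877,[0,5,5,4]),
  (3195,[0,5,5,5]),
  (3514,[0,5,5,6]),
  (3853,[0,5,5,7]),
  (2921,[0,5,6,0]),
  (2919,[0,5,6,2]),
  (3286,[0,5,6,4]),
  (790,[0,5,6,5]),
  (1100,[0,5,6,7]),
  (1119,[0,5,7,0]),
  (2074,[0,5,7,4]),
  (884,[0,6,2,0]),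
  (88,[0,6,2,1]),
  (603,[0,6,2,3]),
  (1800,[0,6,2,4]),
  (2022,[0,6,2,5]),
  (70,[0,6,2,7]),
  (1698,[0,6,4,1]),
  (2527,[0,6,4,2]),
  (1664,[0,6,4,4])]

/-- part 4 of `topOrb1` -/
noncomputable def topOrb1P4 : List (ℕ × List ℕ) := [
  (586,[0,6,4,5]),
  (1093,[0,6,4,6]),
  (1367,[0,6,4,7]),
  (1029,[0,6,5,0]),
  (3780,[0,6,5,2]),
  (2989,[0,6,5,4]),
  (1568,[0,6,5,5]),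
  (2161,[0,6,5,6]),
  (3053,[0,6,5,7]),
  (18,[1,1,0,0]),
  (217,[1,1,0,2]),
  (1354,[1,1,0,4]),
  (2637,[1,1,0,5]),
  (69,[1,1,0,6]),
  (86,[1,1,2,0]),
  (136,[1,1,2,1]),
  (133,[1,1,2,3]),
  (3819,[1,1,2,4]),
  (1716,[1,1,2,5]),
  (610,[1,1,2,7]),
  (1702,[1,1,4,0]),
  (593,[1,1,4,2]),
  (846,[1,1,4,4]),
  (3251,[1,1,4,5]),
  (110,[1,1,4,6]),
  (1181,[1,1,5,0]),
  (339,[1,1,5,1]),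
  (3465,[1,1,5,2]),
  (258,[1,1,5,4]),
  (906,[1,1,5,7]),
  (116,[1,3,2,0]),
  (553,[1,3,2,1]),
  (564,[1,3,2,3]),
  (2554,[1,3,2,4]),
  (3546,[1,3,2,5]),
  (612,[1,3,2,7]),
  (1578,[1,3,4,0]),
  (68,[1,3,4,1]),
  (642,[1,3,4,4]),
  (1152,[1,3,4,5]),
  (17,[1,3,4,6]),
  (2141,[1,3,5,0]),
  (215,[1,3,5,1]),
  (3873,[1,3,5,2]),
  (135,[1,3,5,6]),
  (1232,[1,3,5,7]),
  (1755,[1,4,0,0]),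
  (979,[1,4,0,1]),
  (1957,[1,4,0,2]),
  (749,[1,4,0,3]),
  (2255,[1,4,0,4]),
  (585,[1,4,1,1]),
  (576,[1,4,1,2]),
  (583,[1,4,1,3]),
  (287,[1,4,1,5]),
  (3723,[1,4,2,0]),
  (3682,[1,4,2,3]),
  (2984,[1,4,2,4]),
  (3658,[1,4,2,5]),
  (3447,[1,4,2,6]),
  (3110,[1,4,2,7]),
  (1986,[1,4,4,0]),
  (856,[1,4,4,4]),
  (2004,[1,4,5,0]),
  (907,[1,4,5,1]),
  (1710,[1,4,5,2]),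
  (2903,[1,4,5,5]),
  (1904,[1,4,5,6]),
  (1064,[1,4,5,7]),
  (692,[1,4,6,2]),
  (786,[1,4,6,5]),
  (488,[1,4,7,2]),
  (1655,[1,4,7,5]),
  (2889,[1,5,0,0]),
  (2650,[1,5,0,1]),
  (2718,[1,5,0,2]),
  (3306,[1,5,0,3]),
  (3876,[1,5,0,4]),
  (2115,[1,5,0,5]),
  (1116,[1,5,0,6]),
  (2850,[1,5,0,7]),
  (639,[1,5,1,0]),
  (1817,[1,5,1,1]),
  (1115,[1,5,1,5]),
  (896,[1,5,1,7]),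
  (3804,[1,5,2,1]),
  (1118,[1,5,2,2]),
  (3236,[1,5,2,3]),
  (2236,[1,5,2,4]),
  (3787,[1,5,2,5]),
  (1111,[1,5,2,6]),
  (913,[1,5,2,7]),
  (74,[1,5,4,1]),
  (73,[1,5,4,2]),
  (2843,[1,5,4,4]),
  (214,[1,5,4,7]),
  (1847,[1,5,5,2]),
  (1162,[1,5,5,4]),
  (2893,[1,5,6,0]),
  (1107,[1,5,6,2])]

/-- part 5 of `topOrb1` -/
noncomputable def topOrb1P5 : List (ℕ × List ℕ) := [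
  (1189,[1,5,6,7]),
  (2849,[1,5,7,0]),
  (2916,[1,5,7,2]),
  (1797,[1,5,7,4]),
  (539,[2,0,0,0]),
  (1903,[2,0,0,1]),
  (552,[2,0,0,2]),
  (1900,[2,0,0,3]),
  (3424,[2,0,0,4]),
  (708,[2,0,0,6]),
  (574,[2,0,0,7]),
  (72,[2,0,2,0]),
  (613,[2,0,2,1]),
  (3751,[2,0,2,4]),
  (699,[2,0,2,5]),
  (245,[2,0,3,0]),
  (306,[2,0,3,2]),
  (1791,[2,0,3,4]),
  (2092,[2,0,3,5]),
  (250,[2,0,3,7]),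
  (3744,[2,0,4,0]),
  (3795,[2,0,4,2]),
  (629,[2,0,4,4]),
  (776,[2,0,4,6]),
  (2465,[2,0,4,7]),
  (2573,[2,0,5,0]),
  (760,[2,0,5,1]),
  (2175,[2,0,5,2]),
  (1893,[2,0,5,5]),
  (606,[2,0,5,7]),
  (1078,[2,0,6,4]),
  (90,[2,0,6,7]),
  (277,[2,0,7,0]),
  (106,[2,0,7,2]),
  (1902,[2,0,7,5]),
  (549,[2,1,0,0]),
  (2897,[2,1,0,1]),
  (1171,[2,1,0,2]),
  (3581,[2,1,0,3]),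
  (2520,[2,1,0,4]),
  (1593,[2,1,0,5]),
  (2986,[2,1,0,6]),
  (2851,[2,1,1,0]),
  (543,[2,1,1,1]),
  (1133,[2,1,1,2]),
  (2725,[2,1,1,4]),
  (3651,[2,1,1,5]),
  (2024,[2,1,1,6]),
  (2143,[2,1,1,7]),
  (1950,[2,1,2,3]),
  (3435,[2,1,2,4]),
  (3172,[2,1,2,5]),
  (3415,[2,1,2,7]),
  (2631,[2,1,4,0]),
  (3814,[2,1,4,1]),
  (3454,[2,1,4,2]),
  (1918,[2,1,4,4]),
  (1446,[2,1,4,5]),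
  (3468,[2,1,4,6]),
  (3884,[2,1,4,7]),
  (1725,[2,1,5,0]),
  (2907,[2,1,5,1]),
  (3127,[2,1,5,2]),
  (2973,[2,1,5,5]),
  (3134,[2,1,5,6]),
  (3067,[2,1,5,7]),
  (2402,[2,1,6,0]),
  (1121,[2,1,6,2]),
  (644,[2,1,6,4]),
  (1136,[2,1,6,5]),
  (1218,[2,1,6,7]),
  (2914,[2,1,7,0]),
  (2002,[2,1,7,4]),
  (2733,[2,1,7,5]),
  (132,[2,2,2,1]),
  (1143,[2,2,2,4]),
  (3560,[2,2,2,5]),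
  (744,[2,2,2,7]),
  (2061,[2,2,4,0]),
  (101,[2,2,4,1]),
  (900,[2,2,4,2]),
  (205,[2,2,4,4]),
  (3058,[2,2,4,5]),
  (94,[2,2,4,6]),
  (2342,[2,2,5,0]),
  (544,[2,2,5,6]),
  (141,[2,2,5,7]),
  (1399,[2,3,0,0]),
  (1176,[2,3,0,1]),
  (1195,[2,3,0,2]),
  (3032,[2,3,0,3]),
  (140,[2,3,0,6]),
  (2397,[2,3,0,7]),
  (2891,[2,3,1,0]),
  (557,[2,3,1,2]),
  (3198,[2,3,1,4]),
  (3062,[2,3,1,5]),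
  (1190,[2,3,1,7]),
  (1961,[2,3,2,0]),
  (2213,[2,3,2,1])]

/-- part 6 of `topOrb1` -/
noncomputable def topOrb1P6 : List (ℕ × List ℕ) := [
  (3512,[2,3,2,3]),
  (3674,[2,3,2,4]),
  (3570,[2,3,2,5]),
  (1488,[2,3,2,6]),
  (1464,[2,3,2,7]),
  (2965,[2,3,3,0]),
  (567,[2,3,3,2]),
  (3577,[2,3,3,4]),
  (1682,[2,3,3,5]),
  (2306,[2,3,3,6]),
  (1188,[2,3,3,7]),
  (2582,[2,3,4,0]),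
  (3009,[2,3,4,1]),
  (2153,[2,3,4,2]),
  (3144,[2,3,4,4]),
  (3580,[2,3,4,5]),
  (1647,[2,3,4,6]),
  (3277,[2,3,4,7]),
  (2583,[2,3,5,0]),
  (1031,[2,3,5,2]),
  (912,[2,3,5,4]),
  (3477,[2,3,5,5]),
  (2929,[2,3,5,6]),
  (3390,[2,3,5,7]),
  (1211,[2,3,6,0]),
  (3874,[2,3,6,2]),
  (3193,[2,3,6,4]),
  (3740,[2,3,6,5]),
  (1222,[2,3,6,7]),
  (3357,[2,3,7,0]),
  (1177,[2,3,7,2]),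
  (3600,[2,3,7,4]),
  (548,[2,3,7,5]),
  (1014,[2,4,0,0]),
  (1872,[2,4,0,1]),
  (1042,[2,4,0,2]),
  (3427,[2,4,0,3]),
  (3521,[2,4,0,4]),
  (2738,[2,4,0,5]),
  (3637,[2,4,0,6]),
  (2862,[2,4,0,7]),
  (3722,[2,4,1,1]),
  (3849,[2,4,1,2]),
  (3352,[2,4,1,4]),
  (1561,[2,4,1,5]),
  (2926,[2,4,1,7]),
  (3527,[2,4,2,0]),
  (1818,[2,4,2,2]),
  (3132,[2,4,2,4]),
  (1448,[2,4,2,5]),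
  (134,[2,4,2,6]),
  (1158,[2,4,2,7]),
  (2798,[2,4,4,0]),
  (2852,[2,4,4,1]),
  (894,[2,4,4,2]),
  (480,[2,4,4,4]),
  (3395,[2,4,4,6]),
  (597,[2,4,4,7]),
  (1939,[2,4,5,0]),
  (3891,[2,4,5,1]),
  (2829,[2,4,5,2]),
  (1458,[2,4,5,4]),
  (3130,[2,4,5,5]),
  (1474,[2,4,5,6]),
  (2780,[2,4,5,7]),
  (2290,[2,4,6,0]),
  (1954,[2,4,6,2]),
  (707,[2,4,6,4]),
  (3423,[2,4,6,7]),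
  (2368,[2,4,7,2]),
  (2720,[2,4,7,4]),
  (3247,[2,4,7,5]),
  (3142,[2,5,0,1]),
  (3268,[2,5,0,2]),
  (3312,[2,5,0,3]),
  (3703,[2,5,0,4]),
  (3331,[2,5,0,5]),
  (3534,[2,5,1,0]),
  (1997,[2,5,1,2]),
  (1686,[2,5,1,3]),
  (2777,[2,5,1,4]),
  (2606,[2,5,1,5]),
  (2421,[2,5,2,0]),
  (1238,[2,5,2,1]),
  (2129,[2,5,2,2]),
  (3856,[2,5,2,3]),
  (3511,[2,5,2,5]),
  (3117,[2,5,2,6]),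
  (2688,[2,5,2,7]),
  (1657,[2,5,4,0]),
  (3686,[2,5,4,1]),
  (1808,[2,5,4,2]),
  (3006,[2,5,4,4]),
  (3851,[2,5,4,5]),
  (3219,[2,5,4,6]),
  (3161,[2,5,5,0]),
  (2983,[2,5,5,1]),
  (2114,[2,5,5,2]),
  (2159,[2,5,5,5]),
  (2543,[2,5,5,6])]

/-- part 7 of `topOrb1` -/
noncomputable def topOrb1P7 : List (ℕ × List ℕ) := [
  (2178,[2,5,5,7]),
  (3724,[2,5,6,0]),
  (2814,[2,5,6,2]),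
  (1814,[2,5,6,5]),
  (2769,[2,5,6,7]),
  (1836,[2,5,7,0]),
  (689,[2,5,7,2]),
  (3459,[2,5,7,4]),
  (212,[2,6,0,0]),
  (665,[2,6,0,1]),
  (580,[2,6,0,2]),
  (3159,[2,6,0,3]),
  (3211,[2,6,0,4]),
  (2441,[2,6,0,5]),
  (540,[2,6,0,6]),
  (89,[2,6,0,7]),
  (475,[2,6,2,1]),
  (1849,[2,6,2,3]),
  (3100,[2,6,2,5]),
  (305,[2,6,2,7]),
  (2774,[2,6,4,0]),
  (3002,[2,6,4,1]),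
  (3011,[2,6,4,2]),
  (3076,[2,6,4,4]),
  (2463,[2,6,4,5]),
  (944,[2,6,4,6]),
  (1848,[2,6,4,7]),
  (3296,[2,6,5,0]),
  (3681,[2,6,5,2]),
  (2348,[2,6,5,5]),
  (3790,[2,6,5,6]),
  (3882,[2,6,5,7]),
  (1092,[2,6,7,4]),
  (1216,[2,6,7,5]),
  (765,[2,7,0,1]),
  (762,[2,7,0,3]),
  (1793,[2,7,0,4]),
  (1988,[2,7,0,5]),
  (761,[2,7,0,6]),
  (746,[2,7,2,0]),
  (1208,[2,7,2,1]),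
  (1219,[2,7,2,3]),
  (1187,[2,7,2,4]),
  (1606,[2,7,2,5]),
  (3663,[2,7,4,0]),
  (835,[2,7,4,4]),
  (1025,[2,7,5,0]),
  (2664,[2,7,5,2]),
  (2770,[2,7,5,4]),
  (3254,[2,7,5,5]),
  (983,[0,0,0,1,0]),
  (1516,[0,0,0,1,2]),
  (2111,[0,0,0,1,5]),
  (1084,[0,0,0,2,4]),
  (3544,[0,0,0,2,5]),
  (626,[0,0,0,2,6]),
  (213,[0,0,0,2,7]),
  (293,[0,0,0,3,0]),
  (886,[0,0,0,3,2]),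
  (2359,[0,0,0,3,4]),
  (1772,[0,0,0,3,5]),
  (3341,[0,0,0,4,1]),
  (3702,[0,0,0,4,2]),
  (1621,[0,0,0,4,4]),
  (2345,[0,0,0,4,5]),
  (1376,[0,0,0,4,6]),
  (1634,[0,0,0,5,0]),
  (1775,[0,0,0,5,1]),
  (2456,[0,0,0,5,4]),
  (2501,[0,0,0,5,6]),
  (1638,[0,0,0,5,7]),
  (1504,[0,0,1,0,2]),
  (2571,[0,0,1,0,3]),
  (1613,[0,0,1,0,4]),
  (492,[0,0,1,0,5]),
  (731,[0,0,1,0,6]),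
  (795,[0,0,1,0,7]),
  (691,[0,0,1,1,1]),
  (701,[0,0,1,1,2]),
  (594,[0,0,1,1,4]),
  (3526,[0,0,1,1,5]),
  (714,[0,0,1,2,0]),
  (1529,[0,0,1,2,1]),
  (185,[0,0,1,2,2]),
  (730,[0,0,1,2,3]),
  (3765,[0,0,1,2,5]),
  (218,[0,0,1,3,1]),
  (211,[0,0,1,3,2]),
  (202,[0,0,1,3,3]),
  (1577,[0,0,1,4,0]),
  (1510,[0,0,1,4,1]),
  (1512,[0,0,1,4,2]),
  (1569,[0,0,1,4,6]),
  (2027,[0,0,1,4,7]),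
  (781,[0,0,1,5,1]),
  (3863,[0,0,1,5,4]),
  (3414,[0,0,1,5,6]),
  (1794,[0,0,1,5,7]),
  (635,[0,0,2,0,0]),
  (2692,[0,0,2,0,1])]

/-- part 8 of `topOrb1` -/
noncomputable def topOrb1P8 : List (ℕ × List ℕ) := [
  (2626,[0,0,2,0,3]),
  (3773,[0,0,2,0,4]),
  (2937,[0,0,2,0,5]),
  (129,[0,0,2,0,6]),
  (1787,[0,0,2,1,0]),
  (1779,[0,0,2,1,1]),
  (3645,[0,0,2,1,2]),
  (2979,[0,0,2,1,4]),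
  (2818,[0,0,2,1,5]),
  (1034,[0,0,2,1,6]),
  (1913,[0,0,2,1,7]),
  (161,[0,0,2,2,2]),
  (3587,[0,0,2,2,5]),
  (996,[0,0,2,3,0]),
  (1790,[0,0,2,3,1]),
  (3715,[0,0,2,3,2]),
  (1799,[0,0,2,3,3]),
  (228,[0,0,2,3,4]),
  (988,[0,0,2,3,5]),
  (1032,[0,0,2,3,6]),
  (3506,[0,0,2,3,7]),
  (2840,[0,0,2,4,0]),
  (2836,[0,0,2,4,1]),
  (2008,[0,0,2,4,2]),
  (1705,[0,0,2,4,4]),
  (1341,[0,0,2,4,6]),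
  (1006,[0,0,2,5,0]),
  (897,[0,0,2,5,1]),
  (3199,[0,0,2,5,2]),
  (3107,[0,0,2,5,4]),
  (3829,[0,0,2,5,5]),
  (131,[0,0,2,6,0]),
  (949,[0,0,2,6,4]),
  (2481,[0,0,2,6,5]),
  (2837,[0,0,2,7,5]),
  (1880,[0,0,3,0,1]),
  (1875,[0,0,3,0,2]),
  (958,[0,0,3,0,3]),
  (3547,[0,0,3,0,5]),
  (3122,[0,0,3,0,7]),
  (1544,[0,0,3,1,0]),
  (188,[0,0,3,1,2]),
  (201,[0,0,3,1,3]),
  (3257,[0,0,3,1,5]),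
  (2947,[0,0,3,2,1]),
  (3071,[0,0,3,2,3]),
  (3749,[0,0,3,2,5]),
  (1866,[0,0,3,2,7]),
  (219,[0,0,3,3,2]),
  (3292,[0,0,3,3,4]),
  (2026,[0,0,3,4,0]),
  (2222,[0,0,3,4,1]),
  (3588,[0,0,3,4,2]),
  (3114,[0,0,3,4,5]),
  (2049,[0,0,3,4,7]),
  (1592,[0,0,3,5,0]),
  (419,[0,0,3,5,1]),
  (2506,[0,0,3,5,2]),
  (1350,[0,0,3,5,4]),
  (2750,[0,0,3,5,5]),
  (1175,[0,0,3,5,6]),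
  (2468,[0,0,3,5,7]),
  (3085,[0,0,4,1,0]),
  (3261,[0,0,4,1,2]),
  (1855,[0,0,4,1,3]),
  (1279,[0,0,4,1,4]),
  (607,[0,0,4,1,5]),
  (1532,[0,0,4,1,7]),
  (2799,[0,0,4,2,1]),
  (1868,[0,0,4,2,2]),
  (3068,[0,0,4,2,3]),
  (2151,[0,0,4,2,4]),
  (577,[0,0,4,2,5]),
  (1319,[0,0,4,4,0]),
  (207,[0,0,4,4,1]),
  (1492,[0,0,4,4,4]),
  (2547,[0,0,4,4,5]),
  (1572,[0,0,4,4,6]),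
  (2418,[0,0,4,4,7]),
  (3403,[0,0,4,5,0]),
  (3832,[0,0,4,5,1]),
  (3125,[0,0,4,5,2]),
  (1774,[0,0,4,5,4]),
  (1543,[0,0,4,5,5]),
  (3386,[0,0,4,5,6]),
  (2086,[0,0,4,5,7]),
  (2654,[0,0,4,7,2]),
  (1167,[0,0,4,7,5]),
  (1312,[0,0,5,0,0]),
  (3397,[0,0,5,0,4]),
  (877,[0,0,5,0,5]),
  (2535,[0,0,5,0,7]),
  (3596,[0,0,5,1,0]),
  (1503,[0,0,5,1,1]),
  (2494,[0,0,5,1,2]),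
  (2500,[0,0,5,1,3]),
  (3812,[0,0,5,1,5]),
  (1264,[0,0,5,2,0]),
  (844,[0,0,5,2,3]),
  (2330,[0,0,5,2,5])]

/-- part 9 of `topOrb1` -/
noncomputable def topOrb1P9 : List (ℕ × List ℕ) := [
  (1389,[0,0,5,4,0]),
  (2372,[0,0,5,4,1]),
  (1845,[0,0,5,4,2]),
  (3757,[0,0,5,4,4]),
  (1499,[0,0,5,4,7]),
  (1741,[0,0,5,5,0]),
  (3885,[0,0,5,5,2]),
  (1428,[0,0,5,5,4]),
  (2488,[0,0,5,5,5]),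
  (2775,[0,0,5,5,6]),
  (1617,[0,0,5,5,7]),
  (1897,[0,0,5,7,4]),
  (2360,[0,1,0,0,0]),
  (1879,[0,1,0,0,1]),
  (1881,[0,1,0,0,2]),
  (1052,[0,1,0,0,4]),
  (3862,[0,1,0,0,5]),
  (1054,[0,1,0,0,7]),
  (947,[0,1,0,1,0]),
  (347,[0,1,0,1,1]),
  (3730,[0,1,0,1,5]),
  (3087,[0,1,0,1,6]),
  (1851,[0,1,0,1,7]),
  (2587,[0,1,0,2,0]),
  (3583,[0,1,0,2,1]),
  (2352,[0,1,0,2,2]),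
  (2628,[0,1,0,2,3]),
  (1122,[0,1,0,2,4]),
  (2589,[0,1,0,2,5]),
  (3820,[0,1,0,2,6]),
  (3898,[0,1,0,2,7]),
  (1500,[0,1,0,3,0]),
  (942,[0,1,0,3,1]),
  (757,[0,1,0,3,2]),
  (3148,[0,1,0,3,5]),
  (2040,[0,1,0,3,6]),
  (1985,[0,1,0,3,7]),
  (2191,[0,1,0,4,0]),
  (1877,[0,1,0,4,2]),
  (447,[0,1,0,4,4]),
  (3176,[0,1,0,4,5]),
  (477,[0,1,0,4,6]),
  (1963,[0,1,0,5,0]),
  (3028,[0,1,0,5,5]),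
  (2526,[0,1,0,5,6]),
  (2263,[0,1,0,5,7]),
  (234,[0,1,0,6,4]),
  (2350,[0,1,0,6,5]),
  (1614,[0,1,0,6,7]),
  (1581,[0,1,0,7,2]),
  (997,[0,1,0,7,5]),
  (487,[0,1,1,1,2]),
  (3827,[0,1,1,1,5]),
  (788,[0,1,1,1,6]),
  (3636,[0,1,1,2,0]),
  (1822,[0,1,1,2,1]),
  (1224,[0,1,1,2,4]),
  (1688,[0,1,1,2,5]),
  (3487,[0,1,1,2,7]),
  (1284,[0,1,1,4,0]),
  (2105,[0,1,1,4,2]),
  (2084,[0,1,1,4,4]),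
  (2122,[0,1,1,4,5]),
  (882,[0,1,1,4,6]),
  (3326,[0,1,1,5,1]),
  (3376,[0,1,1,5,2]),
  (2599,[0,1,1,5,4]),
  (2384,[0,1,1,5,5]),
  (1640,[0,1,1,5,6]),
  (3573,[0,1,1,5,7]),
  (2085,[0,1,1,6,0]),
  (2622,[0,1,1,6,2]),
  (1051,[0,1,1,6,4]),
  (2687,[0,1,1,6,5]),
  (2021,[0,1,2,0,0]),
  (1934,[0,1,2,0,2]),
  (1734,[0,1,2,0,3]),
  (2328,[0,1,2,0,4]),
  (2927,[0,1,2,0,7]),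
  (2900,[0,1,2,1,0]),
  (1153,[0,1,2,1,1]),
  (1941,[0,1,2,1,2]),
  (1063,[0,1,2,1,4]),
  (3186,[0,1,2,1,5]),
  (1740,[0,1,2,1,7]),
  (467,[0,1,2,2,1]),
  (1930,[0,1,2,2,2]),
  (1558,[0,1,2,2,4]),
  (3643,[0,1,2,2,5]),
  (885,[0,1,2,2,6]),
  (624,[0,1,2,3,0]),
  (1479,[0,1,2,3,3]),
  (2823,[0,1,2,3,4]),
  (3665,[0,1,2,3,5]),
  (3655,[0,1,2,4,0]),
  (2424,[0,1,2,4,1]),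
  (3545,[0,1,2,4,6]),
  (1486,[0,1,2,4,7]),
  (2545,[0,1,2,5,0]),
  (1080,[0,1,2,5,1])]

/-- part 10 of `topOrb1` -/
noncomputable def topOrb1P10 : List (ℕ × List ℕ) := [
  (3309,[0,1,2,5,4]),
  (2028,[0,1,2,5,6]),
  (3073,[0,1,2,5,7]),
  (3601,[0,1,2,7,2]),
  (2968,[0,1,2,7,4]),
  (1917,[0,1,3,1,2]),
  (2744,[0,1,3,1,5]),
  (596,[0,1,3,1,6]),
  (395,[0,1,3,2,0]),
  (1826,[0,1,3,2,3]),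
  (791,[0,1,3,2,5]),
  (435,[0,1,3,3,0]),
  (490,[0,1,3,3,2]),
  (1707,[0,1,3,3,4]),
  (1962,[0,1,3,3,5]),
  (694,[0,1,3,4,1]),
  (3358,[0,1,3,5,0]),
  (3308,[0,1,3,5,1]),
  (937,[0,1,3,5,2]),
  (2258,[0,1,3,5,5]),
  (2492,[0,1,3,5,6]),
  (2812,[0,1,3,5,7]),
  (2833,[0,1,3,6,4]),
  (3567,[0,1,3,6,5]),
  (1209,[0,1,4,0,0]),
  (2461,[0,1,4,0,2]),
  (2080,[0,1,4,0,4]),
  (2357,[0,1,4,0,5]),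
  (183,[0,1,4,0,6]),
  (1445,[0,1,4,0,7]),
  (838,[0,1,4,1,0]),
  (1883,[0,1,4,1,1]),
  (3394,[0,1,4,1,2]),
  (2083,[0,1,4,1,5]),
  (2066,[0,1,4,1,7]),
  (1812,[0,1,4,2,0]),
  (1806,[0,1,4,2,1]),
  (2073,[0,1,4,2,2]),
  (3798,[0,1,4,2,4]),
  (1462,[0,1,4,2,5]),
  (439,[0,1,4,2,6]),
  (2863,[0,1,4,2,7]),
  (2811,[0,1,4,4,0]),
  (891,[0,1,4,4,1]),
  (599,[0,1,4,4,2]),
  (1302,[0,1,4,4,4]),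
  (2417,[0,1,4,4,5]),
  (2370,[0,1,4,4,7]),
  (3330,[0,1,4,5,0]),
  (3649,[0,1,4,5,1]),
  (2224,[0,1,4,5,2]),
  (2896,[0,1,4,5,4]),
  (3420,[0,1,4,5,5]),
  (3039,[0,1,4,5,6]),
  (1526,[0,1,4,5,7]),
  (667,[0,1,4,6,0]),
  (1148,[0,1,4,6,2]),
  (497,[0,1,4,6,4]),
  (3128,[0,1,4,6,5]),
  (1433,[0,1,4,7,0]),
  (2429,[0,1,4,7,2]),
  (3692,[0,1,4,7,5]),
  (1344,[0,1,5,0,0]),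
  (1338,[0,1,5,0,1]),
  (771,[0,1,5,0,2]),
  (1033,[0,1,5,0,4]),
  (1072,[0,1,5,0,6]),
  (2379,[0,1,5,0,7]),
  (3246,[0,1,5,1,0]),
  (1089,[0,1,5,1,1]),
  (2842,[0,1,5,1,2]),
  (3242,[0,1,5,1,3]),
  (814,[0,1,5,1,4]),
  (2277,[0,1,5,1,5]),
  (3171,[0,1,5,2,0]),
  (1623,[0,1,5,2,3]),
  (309,[0,1,5,2,5]),
  (3005,[0,1,5,2,7]),
  (1669,[0,1,5,4,0]),
  (1199,[0,1,5,4,1]),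
  (1667,[0,1,5,4,2]),
  (3272,[0,1,5,4,4]),
  (3262,[0,1,5,4,7]),
  (3060,[0,1,5,5,1]),
  (2297,[0,1,5,5,2]),
  (1683,[0,1,5,5,4]),
  (2841,[0,1,5,5,6]),
  (777,[0,1,5,5,7]),
  (3347,[0,1,5,6,2]),
  (2412,[0,1,5,6,4]),
  (770,[0,1,5,6,7]),
  (3212,[0,1,5,7,2]),
  (1391,[0,1,5,7,4]),
  (3089,[0,1,6,0,1]),
  (2499,[0,1,6,0,2]),
  (2996,[0,1,6,0,4]),
  (2684,[0,1,6,0,6]),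
  (982,[0,1,6,0,7]),
  (3351,[0,1,6,2,0]),
  (3334,[0,1,6,2,3])]

/-- part 11 of `topOrb1` -/
noncomputable def topOrb1P11 : List (ℕ × List ℕ) := [
  (3602,[0,1,6,2,4]),
  (2796,[0,1,6,2,5]),
  (1603,[0,1,6,2,7]),
  (220,[0,1,6,4,0]),
  (1501,[0,1,6,4,4]),
  (1645,[0,1,6,4,5]),
  (476,[0,1,6,4,6]),
  (2145,[0,1,6,4,7]),
  (3155,[0,1,6,5,1]),
  (2923,[0,1,6,5,2]),
  (1045,[0,1,6,5,5]),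
  (1456,[0,1,6,5,6]),
  (361,[0,2,0,0,2]),
  (2373,[0,2,0,0,3]),
  (2195,[0,2,0,0,4]),
  (1062,[0,2,0,1,0]),
  (3731,[0,2,0,1,2]),
  (904,[0,2,0,1,5]),
  (1214,[0,2,0,2,4]),
  (2076,[0,2,0,2,5]),
  (2437,[0,2,0,3,1]),
  (2097,[0,2,0,3,2]),
  (2396,[0,2,0,3,4]),
  (1978,[0,2,0,3,5]),
  (1406,[0,2,0,3,6]),
  (2063,[0,2,0,3,7]),
  (3294,[0,2,0,4,0]),
  (2552,[0,2,0,4,1]),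
  (3137,[0,2,0,4,2]),
  (3480,[0,2,0,4,4]),
  (3881,[0,2,0,4,5]),
  (2150,[0,2,0,4,6]),
  (1147,[0,2,0,4,7]),
  (1908,[0,2,0,5,0]),
  (2226,[0,2,0,5,1]),
  (2133,[0,2,0,5,4]),
  (3220,[0,2,0,5,6]),
  (3620,[0,2,0,6,5]),
  (303,[0,2,0,7,0]),
  (1530,[0,2,0,7,4]),
  (1311,[0,2,1,0,1]),
  (1079,[0,2,1,0,2]),
  (2890,[0,2,1,0,5]),
  (3458,[0,2,1,0,6]),
  (2299,[0,2,1,1,0]),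
  (1400,[0,2,1,1,2]),
  (2859,[0,2,1,2,0]),
  (2873,[0,2,1,2,1]),
  (753,[0,2,1,2,2]),
  (2869,[0,2,1,2,3]),
  (2334,[0,2,1,2,4]),
  (2514,[0,2,1,2,5]),
  (1469,[0,2,1,2,7]),
  (2661,[0,2,1,4,0]),
  (914,[0,2,1,4,2]),
  (975,[0,2,1,4,4]),
  (536,[0,2,1,4,5]),
  (1308,[0,2,1,4,7]),
  (1801,[0,2,1,5,0]),
  (1212,[0,2,1,5,1]),
  (3515,[0,2,1,5,2]),
  (3557,[0,2,1,5,6]),
  (2019,[0,2,1,5,7]),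
  (2233,[0,2,1,6,2]),
  (184,[0,2,1,6,4]),
  (943,[0,2,1,7,4]),
  (3879,[0,2,1,7,5]),
  (857,[0,2,2,1,0]),
  (485,[0,2,2,1,2]),
  (1608,[0,2,2,1,4]),
  (3221,[0,2,2,1,5]),
  (3670,[0,2,2,2,5]),
  (304,[0,2,2,2,6]),
  (2676,[0,2,2,4,0]),
  (1711,[0,2,2,4,1]),
  (3589,[0,2,2,4,2]),
  (3816,[0,2,2,5,2]),
  (1840,[0,2,2,5,4]),
  (2721,[0,2,2,5,6]),
  (2813,[0,2,2,5,7]),
  (107,[0,2,2,6,2]),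
  (3075,[0,2,2,6,5]),
  (1439,[0,2,3,0,1]),
  (3622,[0,2,3,0,2]),
  (1927,[0,2,3,0,5]),
  (836,[0,2,3,0,6]),
  (2420,[0,2,3,0,7]),
  (1335,[0,2,3,1,0]),
  (1894,[0,2,3,1,2]),
  (1754,[0,2,3,1,3]),
  (2551,[0,2,3,1,5]),
  (1058,[0,2,3,1,7]),
  (704,[0,2,3,2,0]),
  (3632,[0,2,3,2,1]),
  (850,[0,2,3,2,2]),
  (3631,[0,2,3,2,3]),
  (1846,[0,2,3,2,4]),
  (1951,[0,2,3,2,6]),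
  (3123,[0,2,3,2,7]),
  (1098,[0,2,3,3,2])]

/-- part 12 of `topOrb1` -/
noncomputable def topOrb1P12 : List (ℕ × List ℕ) := [
  (589,[0,2,3,3,4]),
  (3234,[0,2,3,3,5]),
  (2160,[0,2,3,4,2]),
  (723,[0,2,3,4,4]),
  (2167,[0,2,3,4,6]),
  (1972,[0,2,3,4,7]),
  (3630,[0,2,3,5,0]),
  (1472,[0,2,3,5,1]),
  (1137,[0,2,3,5,4]),
  (2459,[0,2,3,5,5]),
  (2476,[0,2,3,5,6]),
  (1983,[0,2,3,5,7]),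
  (2238,[0,2,4,0,1]),
  (2503,[0,2,4,0,2]),
  (195,[0,2,4,0,4]),
  (2760,[0,2,4,0,5]),
  (695,[0,2,4,0,7]),
  (2231,[0,2,4,1,2]),
  (568,[0,2,4,1,5]),
  (3136,[0,2,4,1,6]),
  (2406,[0,2,4,1,7]),
  (3101,[0,2,4,2,0]),
  (2018,[0,2,4,2,1]),
  (2644,[0,2,4,2,3]),
  (3311,[0,2,4,2,6]),
  (3646,[0,2,4,4,2]),
  (1213,[0,2,4,4,5]),
  (1696,[0,2,4,4,7]),
  (1745,[0,2,4,5,5]),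
  (1975,[0,2,4,5,7]),
  (3124,[0,2,4,6,2]),
  (1620,[0,2,4,6,4]),
  (2415,[0,2,4,6,5]),
  (873,[0,2,4,6,7]),
  (3381,[0,2,4,7,2]),
  (1112,[0,2,4,7,5]),
  (1066,[0,2,5,0,0]),
  (3443,[0,2,5,0,1]),
  (1633,[0,2,5,0,2]),
  (3332,[0,2,5,0,3]),
  (2870,[0,2,5,0,6]),
  (3224,[0,2,5,0,7]),
  (775,[0,2,5,1,1]),
  (2964,[0,2,5,1,2]),
  (3349,[0,2,5,1,3]),
  (3833,[0,2,5,1,4]),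
  (987,[0,2,5,1,5]),
  (3639,[0,2,5,1,7]),
  (3316,[0,2,5,2,2]),
  (1953,[0,2,5,2,3]),
  (3555,[0,2,5,2,4]),
  (3844,[0,2,5,2,5]),
  (1777,[0,2,5,2,6]),
  (902,[0,2,5,4,0]),
  (2237,[0,2,5,4,1]),
  (3669,[0,2,5,4,2]),
  (3154,[0,2,5,4,4]),
  (3232,[0,2,5,4,6]),
  (1796,[0,2,5,4,7]),
  (3503,[0,2,5,5,0]),
  (2932,[0,2,5,5,1]),
  (1651,[0,2,5,5,2]),
  (3618,[0,2,5,5,4]),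
  (3556,[0,2,5,5,6]),
  (1687,[0,2,5,5,7]),
  (1230,[0,2,5,6,0]),
  (2329,[0,2,5,6,2]),
  (999,[0,2,5,6,4]),
  (1653,[0,2,5,6,5]),
  (1466,[0,2,5,6,7]),
  (3810,[0,2,5,7,0]),
  (3598,[0,2,5,7,2]),
  (1145,[0,2,5,7,4]),
  (1820,[0,2,6,2,3]),
  (286,[0,2,6,2,5]),
  (119,[0,2,6,2,6]),
  (747,[0,2,6,2,7]),
  (1627,[0,2,6,4,0]),
  (1619,[0,2,6,4,1]),
  (3019,[0,2,6,4,2]),
  (3426,[0,2,6,4,5]),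
  (2377,[0,2,6,5,1]),
  (2378,[0,2,6,5,2]),
  (1379,[0,2,6,5,4]),
  (2088,[0,2,6,7,4]),
  (879,[0,2,7,0,4]),
  (3374,[0,2,7,0,5]),
  (3362,[0,2,7,4,1]),
  (3187,[0,2,7,4,4]),
  (1076,[0,2,7,4,5]),
  (941,[0,3,0,0,2]),
  (854,[0,3,0,0,3]),
  (1384,[0,3,0,0,4]),
  (3721,[0,3,0,0,5]),
  (1706,[0,3,0,0,7]),
  (236,[0,3,0,1,3]),
  (1228,[0,3,0,1,4]),
  (3648,[0,3,0,1,5]),
  (3737,[0,3,0,2,1]),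
  (1293,[0,3,0,2,2])]

/-- part 13 of `topOrb1` -/
noncomputable def topOrb1P13 : List (ℕ × List ℕ) := [
  (3096,[0,3,0,2,4]),
  (2386,[0,3,0,2,5]),
  (2655,[0,3,0,2,6]),
  (2629,[0,3,0,2,7]),
  (2281,[0,3,0,3,2]),
  (2491,[0,3,0,4,0]),
  (1629,[0,3,0,4,2]),
  (1060,[0,3,0,4,4]),
  (898,[0,3,0,4,5]),
  (1059,[0,3,0,4,6]),
  (1085,[0,3,0,5,2]),
  (2075,[0,3,0,5,4]),
  (572,[0,3,0,5,7]),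
  (2375,[0,3,0,7,4]),
  (2458,[0,3,1,0,0]),
  (3664,[0,3,1,0,2]),
  (1541,[0,3,1,0,3]),
  (1597,[0,3,1,0,4]),
  (984,[0,3,1,0,5]),
  (1749,[0,3,1,0,6]),
  (1553,[0,3,1,0,7]),
  (1732,[0,3,1,2,0]),
  (1128,[0,3,1,2,1]),
  (2685,[0,3,1,2,3]),
  (1023,[0,3,1,2,4]),
  (1186,[0,3,1,2,5]),
  (2882,[0,3,1,2,7]),
  (471,[0,3,1,3,2]),
  (1001,[0,3,1,3,4]),
  (2298,[0,3,1,3,5]),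
  (1388,[0,3,1,4,0]),
  (2374,[0,3,1,4,4]),
  (3012,[0,3,1,4,5]),
  (3354,[0,3,1,5,0]),
  (1067,[0,3,1,5,1]),
  (3348,[0,3,1,5,5]),
  (2737,[0,3,1,5,6]),
  (1165,[0,3,1,5,7]),
  (3792,[0,3,1,6,5]),
  (1721,[0,3,2,1,0]),
  (1225,[0,3,2,1,1]),
  (905,[0,3,2,1,2]),
  (1912,[0,3,2,1,4]),
  (3494,[0,3,2,1,6]),
  (1952,[0,3,2,1,7]),
  (468,[0,3,2,2,2]),
  (853,[0,3,2,2,5]),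
  (3109,[0,3,2,3,0]),
  (842,[0,3,2,3,1]),
  (3072,[0,3,2,3,2]),
  (604,[0,3,2,3,3]),
  (1728,[0,3,2,3,5]),
  (494,[0,3,2,3,6]),
  (2638,[0,3,2,4,0]),
  (992,[0,3,2,4,1]),
  (1860,[0,3,2,4,2]),
  (3552,[0,3,2,4,5]),
  (3145,[0,3,2,4,6]),
  (3095,[0,3,2,4,7]),
  (3695,[0,3,2,5,0]),
  (2101,[0,3,2,5,2]),
  (3673,[0,3,2,5,4]),
  (2698,[0,3,2,5,7]),
  (1468,[0,3,2,6,0]),
  (2672,[0,3,2,6,2]),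
  (3760,[0,3,2,6,4]),
  (3070,[0,3,2,6,5]),
  (1867,[0,3,2,6,7]),
  (1701,[0,3,2,7,0]),
  (3143,[0,3,2,7,5]),
  (498,[0,3,3,0,0]),
  (1896,[0,3,3,0,1]),
  (1028,[0,3,3,0,5]),
  (1925,[0,3,3,1,0]),
  (1938,[0,3,3,2,0]),
  (3350,[0,3,3,2,3]),
  (614,[0,3,3,2,4]),
  (2225,[0,3,3,2,5]),
  (1730,[0,3,3,2,6]),
  (2200,[0,3,3,2,7]),
  (1554,[0,3,3,4,1]),
  (2880,[0,3,3,4,2]),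
  (2826,[0,3,3,4,4]),
  (2639,[0,3,3,4,5]),
  (1205,[0,3,3,4,6]),
  (2341,[0,3,3,4,7]),
  (3493,[0,3,3,5,0]),
  (2202,[0,3,3,5,1]),
  (1685,[0,3,3,5,4]),
  (3539,[0,3,3,5,5]),
  (2686,[0,3,3,5,6]),
  (1810,[0,3,3,5,7]),
  (1604,[0,3,3,6,4]),
  (3252,[0,3,4,0,2]),
  (3476,[0,3,4,0,7]),
  (1600,[0,3,4,1,2]),
  (1598,[0,3,4,1,4]),
  (3857,[0,3,4,2,1]),
  (3519,[0,3,4,2,2]),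
  (3847,[0,3,4,2,3])]

/-- part 14 of `topOrb1` -/
noncomputable def topOrb1P14 : List (ℕ × List ℕ) := [
  (3451,[0,3,4,2,4]),
  (3899,[0,3,4,2,5]),
  (2460,[0,3,4,4,2]),
  (3120,[0,3,4,5,0]),
  (3118,[0,3,4,5,2]),
  (3050,[0,3,4,5,5]),
  (2727,[0,3,4,5,6]),
  (700,[0,3,4,5,7]),
  (2011,[0,3,4,7,0]),
  (3237,[0,3,4,7,2]),
  (2193,[0,3,4,7,5]),
  (3768,[0,3,5,0,0]),
  (2598,[0,3,5,0,1]),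
  (2273,[0,3,5,0,3]),
  (3640,[0,3,5,0,4]),
  (1736,[0,3,5,0,6]),
  (3372,[0,3,5,0,7]),
  (2952,[0,3,5,1,0]),
  (1184,[0,3,5,1,1]),
  (1674,[0,3,5,1,2]),
  (1691,[0,3,5,1,3]),
  (3004,[0,3,5,1,5]),
  (1168,[0,3,5,2,0]),
  (2630,[0,3,5,2,4]),
  (646,[0,3,5,2,5]),
  (3704,[0,3,5,2,7]),
  (3894,[0,3,5,4,0]),
  (1557,[0,3,5,4,1]),
  (3845,[0,3,5,4,2]),
  (1113,[0,3,5,4,7]),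
  (625,[0,3,5,5,0]),
  (3626,[0,3,5,5,1]),
  (3249,[0,3,5,5,2]),
  (2317,[0,3,5,5,4]),
  (1556,[0,3,5,5,6]),
  (2928,[0,3,5,6,0]),
  (3817,[0,3,5,6,2]),
  (1605,[0,3,5,6,4]),
  (2881,[0,3,5,6,7]),
  (2209,[0,3,5,7,0]),
  (2093,[0,3,5,7,4]),
  (192,[0,3,6,0,1]),
  (3146,[0,3,6,0,2]),
  (1330,[0,3,6,2,4]),
  (620,[0,3,6,4,2]),
  (1082,[0,3,6,4,5]),
  (953,[0,3,6,4,6]),
  (2346,[0,3,6,4,7]),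
  (2761,[0,3,6,5,0]),
  (3635,[0,3,6,5,1]),
  (3786,[0,3,6,5,2]),
  (3774,[0,3,6,5,4]),
  (1665,[0,3,6,5,5]),
  (3177,[0,3,6,5,7]),
  (1450,[0,4,0,0,3]),
  (874,[0,4,0,1,3]),
  (2165,[0,4,0,1,4]),
  (2668,[0,4,0,1,6]),
  (2158,[0,4,0,1,7]),
  (2962,[0,4,0,2,0]),
  (1714,[0,4,0,2,1]),
  (3093,[0,4,0,2,4]),
  (1156,[0,4,0,2,5]),
  (3662,[0,4,0,2,6]),
  (1164,[0,4,0,3,2]),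
  (3040,[0,4,0,3,5]),
  (1094,[0,4,0,3,6]),
  (3094,[0,4,0,5,0]),
  (1007,[0,4,0,5,1]),
  (1022,[0,4,0,5,2]),
  (3802,[0,4,0,5,4]),
  (1672,[0,4,0,5,5]),
  (948,[0,4,0,5,6]),
  (1807,[0,4,0,5,7]),
  (2539,[0,4,0,6,2]),
  (3734,[0,4,0,6,5]),
  (3135,[0,4,0,6,7]),
  (2541,[0,4,0,7,0]),
  (1878,[0,4,0,7,2]),
  (1521,[0,4,1,0,2]),
  (600,[0,4,1,0,3]),
  (1919,[0,4,1,0,5]),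
  (2498,[0,4,1,1,1]),
  (1491,[0,4,1,1,2]),
  (1138,[0,4,1,1,5]),
  (2675,[0,4,1,2,1]),
  (193,[0,4,1,2,2]),
  (1475,[0,4,1,2,3]),
  (3205,[0,4,1,2,4]),
  (3565,[0,4,1,2,5]),
  (3823,[0,4,1,2,7]),
  (1353,[0,4,1,3,1]),
  (2392,[0,4,1,3,2]),
  (2951,[0,4,1,3,3]),
  (1967,[0,4,1,3,4]),
  (3398,[0,4,1,3,5]),
  (1630,[0,4,1,3,6]),
  (2537,[0,4,1,3,7]),
  (1498,[0,4,1,4,0]),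
  (709,[0,4,1,4,1])]

/-- part 15 of `topOrb1` -/
noncomputable def topOrb1P15 : List (ℕ × List ℕ) := [
  (3442,[0,4,1,4,2]),
  (3621,[0,4,1,5,0]),
  (3315,[0,4,1,5,1]),
  (2566,[0,4,1,5,2]),
  (3742,[0,4,1,5,6]),
  (3870,[0,4,1,5,7]),
  (2343,[0,4,1,6,4]),
  (1751,[0,4,1,6,7]),
  (3592,[0,4,1,7,2]),
  (2556,[0,4,1,7,5]),
  (1610,[0,4,2,2,2]),
  (2561,[0,4,2,2,4]),
  (249,[0,4,2,2,5]),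
  (1976,[0,4,2,2,6]),
  (740,[0,4,2,3,1]),
  (3356,[0,4,2,3,3]),
  (1763,[0,4,2,3,4]),
  (1795,[0,4,2,3,5]),
  (1596,[0,4,2,3,6]),
  (2033,[0,4,2,4,1]),
  (2034,[0,4,2,4,2]),
  (473,[0,4,2,4,4]),
  (2010,[0,4,2,4,7]),
  (1709,[0,4,2,5,0]),
  (2936,[0,4,2,5,1]),
  (2349,[0,4,2,5,2]),
  (104,[0,4,2,5,4]),
  (3387,[0,4,2,5,5]),
  (3090,[0,4,2,5,6]),
  (3279,[0,4,2,5,7]),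
  (1038,[0,4,2,6,2]),
  (1494,[0,4,2,6,4]),
  (1159,[0,4,2,6,5]),
  (3576,[0,4,2,7,4]),
  (1612,[0,4,4,1,1]),
  (1748,[0,4,4,1,2]),
  (588,[0,4,4,1,3]),
  (1615,[0,4,4,1,7]),
  (1703,[0,4,4,2,2]),
  (1197,[0,4,4,2,3]),
  (1852,[0,4,4,2,7]),
  (1395,[0,4,4,4,1]),
  (3667,[0,4,4,4,2]),
  (858,[0,4,4,4,6]),
  (1183,[0,4,4,5,2]),
  (2067,[0,4,4,5,4]),
  (3540,[0,4,4,5,5]),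
  (500,[0,4,4,6,5]),
  (1699,[0,4,4,7,2]),
  (2099,[0,4,4,7,5]),
  (3822,[0,4,5,0,0]),
  (3256,[0,4,5,0,1]),
  (2565,[0,4,5,0,3]),
  (2722,[0,4,5,0,4]),
  (2585,[0,4,5,0,5]),
  (1681,[0,4,5,1,0]),
  (2149,[0,4,5,1,1]),
  (3263,[0,4,5,1,2]),
  (3202,[0,4,5,1,3]),
  (2724,[0,4,5,1,5]),
  (1547,[0,4,5,1,7]),
  (3525,[0,4,5,2,2]),
  (3821,[0,4,5,2,3]),
  (1758,[0,4,5,2,4]),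
  (3488,[0,4,5,2,5]),
  (3371,[0,4,5,2,6]),
  (2959,[0,4,5,4,0]),
  (2957,[0,4,5,4,2]),
  (3320,[0,4,5,4,4]),
  (3166,[0,4,5,4,6]),
  (562,[0,4,5,4,7]),
  (1898,[0,4,5,5,1]),
  (1768,[0,4,5,5,2]),
  (2136,[0,4,5,5,4]),
  (3284,[0,4,5,6,0]),
  (3679,[0,4,5,6,2]),
  (3886,[0,4,5,6,4]),
  (2935,[0,4,5,6,7]),
  (2557,[0,4,5,7,0]),
  (1246,[0,4,5,7,2]),
  (1141,[0,4,5,7,4]),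
  (2624,[0,4,5,7,5]),
  (3158,[0,4,6,0,2]),
  (2858,[0,4,6,2,0]),
  (3481,[0,4,6,2,1]),
  (3152,[0,4,6,2,3]),
  (3705,[0,4,6,2,5]),
  (2864,[0,4,6,2,6]),
  (3460,[0,4,6,2,7]),
  (1924,[0,4,6,4,1]),
  (3456,[0,4,6,4,2]),
  (3366,[0,4,6,4,4]),
  (3828,[0,4,6,4,5]),
  (2546,[0,4,6,5,2]),
  (3691,[0,4,6,5,5]),
  (1455,[0,4,6,7,5]),
  (3586,[0,4,7,2,5]),
  (3793,[0,4,7,2,6]),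
  (1631,[0,4,7,2,7]),
  (883,[0,4,7,4,0])]

/-- part 16 of `topOrb1` -/
noncomputable def topOrb1P16 : List (ℕ × List ℕ) := [
  (2454,[0,4,7,4,5]),
  (3425,[0,4,7,5,4]),
  (3574,[0,4,7,5,5]),
  (2713,[0,4,7,5,6]),
  (3411,[0,5,0,0,2]),
  (2560,[0,5,0,0,3]),
  (2627,[0,5,0,0,4]),
  (3413,[0,5,0,0,6]),
  (1844,[0,5,0,1,0]),
  (3485,[0,5,0,1,1]),
  (1173,[0,5,0,1,2]),
  (1870,[0,5,0,1,4]),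
  (3116,[0,5,0,2,3]),
  (1944,[0,5,0,2,4]),
  (3553,[0,5,0,2,5]),
  (2885,[0,5,0,2,6]),
  (2755,[0,5,0,4,0]),
  (2608,[0,5,0,4,1]),
  (3017,[0,5,0,4,2]),
  (570,[0,5,0,4,6]),
  (3716,[0,5,0,4,7]),
  (2752,[0,5,0,6,2]),
  (2853,[0,5,0,7,2]),
  (1519,[0,5,0,7,5]),
  (628,[0,5,1,0,0]),
  (2493,[0,5,1,0,1]),
  (1936,[0,5,1,0,3]),
  (2949,[0,5,1,0,4]),
  (3051,[0,5,1,0,6]),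
  (3298,[0,5,1,1,0]),
  (2593,[0,5,1,1,1]),
  (1839,[0,5,1,1,5]),
  (1545,[0,5,1,2,0]),
  (1533,[0,5,1,2,1]),
  (1586,[0,5,1,2,2]),
  (3743,[0,5,1,2,3]),
  (1646,[0,5,1,2,4]),
  (423,[0,5,1,2,5]),
  (2751,[0,5,1,2,7]),
  (2595,[0,5,1,3,3]),
  (2134,[0,5,1,3,4]),
  (3164,[0,5,1,3,7]),
  (1660,[0,5,1,4,0]),
  (2632,[0,5,1,4,1]),
  (1829,[0,5,1,4,2]),
  (3794,[0,5,1,4,5]),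
  (3725,[0,5,1,4,6]),
  (1670,[0,5,1,7,0]),
  (3078,[0,5,2,0,1]),
  (3092,[0,5,2,0,3]),
  (2109,[0,5,2,0,5]),
  (3753,[0,5,2,0,6]),
  (2884,[0,5,2,0,7]),
  (1470,[0,5,2,1,0]),
  (1525,[0,5,2,1,1]),
  (2217,[0,5,2,1,4]),
  (3683,[0,5,2,2,2]),
  (3672,[0,5,2,2,4]),
  (3510,[0,5,2,2,5]),
  (3836,[0,5,2,3,0]),
  (3775,[0,5,2,3,2]),
  (1559,[0,5,2,3,3]),
  (1981,[0,5,2,3,5]),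
  (1802,[0,5,2,3,6]),
  (3741,[0,5,2,3,7]),
  (2272,[0,5,2,4,0]),
  (2452,[0,5,2,4,4]),
  (601,[0,5,2,4,5]),
  (2253,[0,5,2,4,6]),
  (1432,[0,5,2,4,7]),
  (1671,[0,5,2,5,0]),
  (3505,[0,5,2,5,1]),
  (3304,[0,5,2,5,4]),
  (684,[0,5,2,5,5]),
  (1601,[0,5,2,5,6]),
  (1506,[0,5,2,5,7]),
  (2278,[0,5,2,6,4]),
  (1535,[0,5,2,6,5]),
  (2782,[0,5,2,7,0]),
  (1780,[0,5,2,7,4]),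
  (1649,[0,5,2,7,5]),
  (3865,[0,5,4,0,2]),
  (3529,[0,5,4,1,1]),
  (3490,[0,5,4,1,3]),
  (3653,[0,5,4,1,4]),
  (3264,[0,5,4,1,6]),
  (1933,[0,5,4,1,7]),
  (3889,[0,5,4,2,0]),
  (3888,[0,5,4,2,2]),
  (2913,[0,5,4,2,3]),
  (1982,[0,5,4,2,4]),
  (2879,[0,5,4,2,5]),
  (3037,[0,5,4,2,6]),
  (2017,[0,5,4,4,1]),
  (1773,[0,5,4,4,2]),
  (2642,[0,5,4,4,7]),
  (3608,[0,5,4,6,0]),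
  (3265,[0,5,4,6,2]),
  (3396,[0,5,4,6,5]),
  (3558,[0,5,4,6,7])]

/-- part 17 of `topOrb1` -/
noncomputable def topOrb1P17 : List (ℕ × List ℕ) := [
  (3859,[0,5,4,7,2]),
  (1717,[0,5,4,7,4]),
  (2581,[0,5,4,7,5]),
  (3803,[0,5,5,0,3]),
  (2901,[0,5,5,0,5]),
  (2588,[0,5,5,0,6]),
  (3785,[0,5,5,0,7]),
  (1659,[0,5,5,1,0]),
  (3285,[0,5,5,1,1]),
  (3036,[0,5,5,1,3]),
  (571,[0,5,5,1,4]),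
  (1966,[0,5,5,1,5]),
  (2496,[0,5,5,1,7]),
  (3777,[0,5,5,2,0]),
  (2868,[0,5,5,2,1]),
  (3048,[0,5,5,2,3]),
  (833,[0,5,5,2,5]),
  (2693,[0,5,5,2,7]),
  (3174,[0,5,5,4,2]),
  (1035,[0,5,5,5,0]),
  (3194,[0,5,5,5,2]),
  (3207,[0,5,5,5,7]),
  (768,[0,5,5,6,0]),
  (2735,[0,5,5,6,4]),
  (1420,[0,5,5,6,5]),
  (3057,[0,5,5,7,0]),
  (3781,[0,5,5,7,2]),
  (1536,[0,5,6,0,1]),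
  (2847,[0,5,6,0,2]),
  (2763,[0,5,6,0,3]),
  (3500,[0,5,6,0,4]),
  (1110,[0,5,6,0,7]),
  (3293,[0,5,6,2,1]),
  (1827,[0,5,6,2,4]),
  (2309,[0,5,6,2,6]),
  (1108,[0,5,6,2,7]),
  (1759,[0,5,6,4,1]),
  (2511,[0,5,6,4,4]),
  (892,[0,5,6,5,0]),
  (3102,[0,5,6,5,2]),
  (1109,[0,5,6,7,0]),
  (2886,[0,5,6,7,2]),
  (1131,[0,5,6,7,4]),
  (3010,[0,5,7,0,1]),
  (3248,[0,5,7,0,2]),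
  (3064,[0,5,7,0,3]),
  (1635,[0,5,7,0,4]),
  (1101,[0,5,7,0,6]),
  (993,[0,5,7,4,0]),
  (2077,[0,5,7,4,2]),
  (291,[0,5,7,4,4]),
  (778,[0,5,7,4,6]),
  (3233,[0,6,2,0,1]),
  (1027,[0,6,2,0,3]),
  (3759,[0,6,2,0,5]),
  (125,[0,6,2,0,7]),
  (1792,[0,6,2,1,5]),
  (952,[0,6,2,3,2]),
  (1340,[0,6,2,3,4]),
  (2380,[0,6,2,4,2]),
  (1000,[0,6,2,4,4]),
  (2029,[0,6,2,4,6]),
  (998,[0,6,2,5,7]),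
  (124,[0,6,2,7,0]),
  (87,[0,6,2,7,2]),
  (426,[0,6,2,7,5]),
  (1891,[0,6,4,1,1]),
  (1517,[0,6,4,1,6]),
  (2528,[0,6,4,2,0]),
  (484,[0,6,4,2,1]),
  (3021,[0,6,4,2,3]),
  (3591,[0,6,4,2,4]),
  (2120,[0,6,4,2,6]),
  (2469,[0,6,4,2,7]),
  (3572,[0,6,4,4,0]),
  (1482,[0,6,4,4,5]),
  (1351,[0,6,4,4,6]),
  (1929,[0,6,4,5,0]),
  (3054,[0,6,4,5,5]),
  (180,[0,6,4,7,2]),
  (3678,[0,6,4,7,5]),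
  (3509,[0,6,5,0,0]),
  (3173,[0,6,5,0,1]),
  (3409,[0,6,5,0,5]),
  (2156,[0,6,5,0,6]),
  (3784,[0,6,5,0,7]),
  (3848,[0,6,5,2,1]),
  (3165,[0,6,5,2,2]),
  (2683,[0,6,5,2,3]),
  (1170,[0,6,5,2,5]),
  (1452,[0,6,5,2,6]),
  (1550,[0,6,5,4,1]),
  (2990,[0,6,5,4,2]),
  (2956,[0,6,5,4,7]),
  (751,[0,6,5,5,0]),
  (3499,[0,6,5,5,2]),
  (3438,[0,6,5,6,0]),
  (3756,[0,6,5,6,7]),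
  (3732,[0,6,5,7,0]),
  (2487,[1,1,0,0,4])]

/-- part 18 of `topOrb1` -/
noncomputable def topOrb1P18 : List (ℕ × List ℕ) := [
  (1091,[1,1,0,0,5]),
  (1767,[1,1,0,2,5]),
  (1358,[1,1,0,4,2]),
  (2636,[1,1,0,5,0]),
  (2656,[1,1,0,5,1]),
  (3421,[1,1,0,5,5]),
  (2648,[1,1,0,5,6]),
  (3644,[1,1,0,5,7]),
  (323,[1,1,0,6,4]),
  (1123,[1,1,2,1,2]),
  (1979,[1,1,2,1,5]),
  (138,[1,1,2,1,7]),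
  (1841,[1,1,2,3,4]),
  (1579,[1,1,2,3,5]),
  (3818,[1,1,2,4,2]),
  (3283,[1,1,2,4,5]),
  (3434,[1,1,2,5,0]),
  (3365,[1,1,2,5,1]),
  (2510,[1,1,2,5,4]),
  (2576,[1,1,2,5,6]),
  (611,[1,1,2,7,2]),
  (1571,[1,1,2,7,5]),
  (1824,[1,1,4,0,7]),
  (3473,[1,1,4,5,2]),
  (940,[1,1,4,6,0]),
  (939,[1,1,4,6,2]),
  (1182,[1,1,5,0,0]),
  (3364,[1,1,5,0,3]),
  (2312,[1,1,5,0,7]),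
  (2308,[1,1,5,1,1]),
  (2305,[1,1,5,1,3]),
  (2121,[1,1,5,1,4]),
  (2717,[1,1,5,1,5]),
  (2260,[1,1,5,2,1]),
  (1041,[1,1,5,2,5]),
  (243,[1,1,5,4,0]),
  (307,[1,1,5,4,2]),
  (1044,[1,1,5,4,4]),
  (254,[1,1,5,4,7]),
  (1204,[1,1,5,7,2]),
  (1134,[1,3,2,1,2]),
  (1343,[1,3,2,1,5]),
  (1086,[1,3,2,3,2]),
  (2978,[1,3,2,3,4]),
  (1926,[1,3,2,3,5]),
  (139,[1,3,2,3,7]),
  (3368,[1,3,2,4,1]),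
  (1642,[1,3,2,4,4]),
  (2714,[1,3,2,4,5]),
  (1240,[1,3,2,4,6]),
  (2291,[1,3,2,4,7]),
  (2981,[1,3,2,5,1]),
  (783,[1,3,2,5,2]),
  (3377,[1,3,2,5,5]),
  (251,[1,3,2,7,4]),
  (1750,[1,3,2,7,5]),
  (715,[1,3,4,0,0]),
  (3337,[1,3,4,0,2]),
  (255,[1,3,4,0,5]),
  (194,[1,3,4,0,6]),
  (878,[1,3,4,1,3]),
  (2801,[1,3,4,1,4]),
  (3103,[1,3,4,4,2]),
  (1151,[1,3,4,5,2]),
  (895,[1,3,4,5,6]),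
  (191,[1,3,4,6,0]),
  (190,[1,3,4,6,2]),
  (3745,[1,3,5,0,0]),
  (2142,[1,3,5,0,1]),
  (3855,[1,3,5,0,2]),
  (3719,[1,3,5,0,7]),
  (3603,[1,3,5,1,4]),
  (1320,[1,3,5,1,5]),
  (3210,[1,3,5,2,0]),
  (3883,[1,3,5,2,1]),
  (3027,[1,3,5,2,3]),
  (1263,[1,3,5,2,5]),
  (2966,[1,3,5,2,6]),
  (1132,[1,3,5,6,0]),
  (1096,[1,3,5,6,2]),
  (2110,[1,3,5,7,0]),
  (3269,[1,4,0,0,2]),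
  (1958,[1,4,0,2,0]),
  (2124,[1,4,0,2,1]),
  (2100,[1,4,0,2,3]),
  (474,[1,4,0,2,4]),
  (3151,[1,4,0,2,5]),
  (2130,[1,4,0,2,6]),
  (1677,[1,4,0,2,7]),
  (3111,[1,4,0,4,5]),
  (1449,[1,4,0,4,7]),
  (755,[1,4,1,1,0]),
  (2098,[1,4,1,1,2]),
  (2414,[1,4,1,1,4]),
  (3047,[1,4,1,2,3]),
  (1090,[1,4,1,2,4]),
  (1838,[1,4,1,2,5]),
  (2118,[1,4,1,3,5]),
  (288,[1,4,1,5,0]),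
  (292,[1,4,1,5,2])]

/-- part 19 of `topOrb1` -/
noncomputable def topOrb1P19 : List (ℕ × List ℕ) := [
  (2508,[1,4,1,5,4]),
  (908,[1,4,1,5,5]),
  (3654,[1,4,2,0,0]),
  (3892,[1,4,2,0,1]),
  (3642,[1,4,2,0,2]),
  (3842,[1,4,2,0,3]),
  (3739,[1,4,2,0,4]),
  (2567,[1,4,2,0,5]),
  (3624,[1,4,2,0,6]),
  (1114,[1,4,2,3,6]),
  (1191,[1,4,2,3,7]),
  (2464,[1,4,2,4,0]),
  (2446,[1,4,2,4,4]),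
  (3345,[1,4,2,5,4]),
  (1921,[1,4,2,6,2]),
  (3504,[1,4,2,6,4]),
  (2767,[1,4,2,6,7]),
  (698,[1,4,2,7,0]),
  (632,[1,4,4,0,2]),
  (1588,[1,4,4,0,3]),
  (2038,[1,4,4,0,4]),
  (1915,[1,4,4,4,2]),
  (2192,[1,4,4,4,5]),
  (2673,[1,4,5,0,0]),
  (1884,[1,4,5,0,2]),
  (2215,[1,4,5,0,6]),
  (759,[1,4,5,0,7]),
  (3489,[1,4,5,1,1]),
  (950,[1,4,5,1,3]),
  (3452,[1,4,5,2,1]),
  (3605,[1,4,5,2,4]),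
  (1576,[1,4,5,2,5]),
  (2318,[1,4,5,2,6]),
  (3275,[1,4,5,2,7]),
  (551,[1,4,5,5,1]),
  (989,[1,4,5,5,4]),
  (481,[1,4,5,6,7]),
  (2485,[1,4,5,7,0]),
  (1735,[1,4,6,2,1]),
  (3791,[1,4,6,2,4]),
  (2746,[1,4,7,2,3]),
  (3607,[1,4,7,2,5]),
  (1753,[1,4,7,5,2]),
  (779,[1,4,7,5,5]),
  (3535,[1,5,0,0,2]),
  (3274,[1,5,0,1,0]),
  (2279,[1,5,0,1,6]),
  (2699,[1,5,0,1,7]),
  (2719,[1,5,0,2,1]),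
  (3131,[1,5,0,2,2]),
  (2697,[1,5,0,2,4]),
  (3446,[1,5,0,2,5]),
  (3564,[1,5,0,2,6]),
  (3896,[1,5,0,2,7]),
  (1729,[1,5,0,3,0]),
  (3305,[1,5,0,3,2]),
  (3497,[1,5,0,3,3]),
  (3271,[1,5,0,3,4]),
  (1947,[1,5,0,3,6]),
  (2743,[1,5,0,3,7]),
  (424,[1,5,0,4,4]),
  (1242,[1,5,0,4,6]),
  (1013,[1,5,0,4,7]),
  (2138,[1,5,0,5,1]),
  (3666,[1,5,0,5,5]),
  (2117,[1,5,0,5,6]),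
  (1993,[1,5,0,5,7]),
  (2739,[1,5,0,6,4]),
  (3280,[1,5,0,6,5]),
  (3007,[1,5,0,6,7]),
  (3001,[1,5,0,7,0]),
  (3074,[1,5,0,7,4]),
  (2555,[1,5,0,7,5]),
  (3318,[1,5,1,0,1]),
  (2611,[1,5,1,1,2]),
  (1644,[1,5,1,5,1]),
  (3657,[1,5,1,5,4]),
  (1149,[1,5,1,5,5]),
  (2917,[1,5,1,5,7]),
  (2423,[1,5,1,7,5]),
  (3297,[1,5,2,1,2]),
  (3559,[1,5,2,1,4]),
  (2578,[1,5,2,2,5]),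
  (3003,[1,5,2,2,7]),
  (1457,[1,5,2,3,1]),
  (3660,[1,5,2,3,5]),
  (3478,[1,5,2,3,7]),
  (3461,[1,5,2,4,0]),
  (2779,[1,5,2,4,1]),
  (2091,[1,5,2,4,2]),
  (2857,[1,5,2,4,6]),
  (3295,[1,5,2,4,7]),
  (3788,[1,5,2,5,1]),
  (2970,[1,5,2,5,4]),
  (2502,[1,5,2,5,5]),
  (3049,[1,5,2,5,7]),
  (2518,[1,5,2,6,0]),
  (2706,[1,5,2,6,4]),
  (2162,[1,5,2,6,5]),
  (3235,[1,5,2,6,7])]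

/-- part 20 of `topOrb1` -/
noncomputable def topOrb1P20 : List (ℕ × List ℕ) := [
  (2586,[1,5,4,1,5]),
  (627,[1,5,4,2,1]),
  (909,[1,5,4,2,3]),
  (2116,[1,5,4,2,4]),
  (2242,[1,5,4,2,5]),
  (2020,[1,5,4,4,6]),
  (2899,[1,5,5,2,3]),
  (3611,[1,5,5,2,4]),
  (2846,[1,5,5,2,5]),
  (2146,[1,5,5,2,7]),
  (1037,[1,5,5,4,2]),
  (764,[1,5,5,4,5]),
  (2301,[1,5,5,4,6]),
  (2892,[1,5,6,0,2]),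
  (2997,[1,5,6,0,3]),
  (3448,[1,5,6,0,4]),
  (782,[1,5,6,0,7]),
  (3840,[1,5,6,2,3]),
  (3714,[1,5,6,2,4]),
  (2909,[1,5,6,2,5]),
  (3689,[1,5,6,2,7]),
  (3227,[1,5,6,7,0]),
  (1965,[1,5,7,2,1]),
  (2753,[1,5,7,2,3]),
  (2820,[1,5,7,2,6]),
  (2651,[1,5,7,2,7]),
  (2001,[1,5,7,4,4]),
  (246,[2,0,0,0,5]),
  (2835,[2,0,0,1,0]),
  (449,[2,0,0,1,1]),
  (3711,[2,0,0,1,4]),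
  (483,[2,0,0,1,6]),
  (1901,[2,0,0,3,1]),
  (411,[2,0,0,3,3]),
  (1548,[2,0,0,3,4]),
  (1065,[2,0,0,4,0]),
  (1995,[2,0,0,4,5]),
  (3650,[2,0,0,4,6]),
  (2140,[2,0,0,4,7]),
  (2934,[2,0,0,6,4]),
  (3815,[2,0,0,6,5]),
  (2065,[2,0,0,7,5]),
  (285,[2,0,2,0,0]),
  (2125,[2,0,2,0,4]),
  (3763,[2,0,2,4,1]),
  (1757,[2,0,2,4,6]),
  (3571,[2,0,2,4,7]),
  (3404,[2,0,2,5,1]),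
  (3769,[2,0,2,5,5]),
  (495,[2,0,2,5,6]),
  (893,[2,0,3,0,3]),
  (2734,[2,0,3,0,4]),
  (2196,[2,0,3,2,1]),
  (290,[2,0,3,2,7]),
  (408,[2,0,3,4,4]),
  (2311,[2,0,3,5,2]),
  (638,[2,0,3,5,7]),
  (3548,[2,0,4,0,0]),
  (3597,[2,0,4,0,1]),
  (3615,[2,0,4,0,2]),
  (1906,[2,0,4,0,5]),
  (3474,[2,0,4,2,0]),
  (3108,[2,0,4,2,1]),
  (1339,[2,0,4,2,2]),
  (2205,[2,0,4,2,4]),
  (2960,[2,0,4,2,7]),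
  (2525,[2,0,4,4,0]),
  (2915,[2,0,4,4,2]),
  (616,[2,0,4,6,7]),
  (3518,[2,0,4,7,2]),
  (1244,[2,0,5,0,3]),
  (1842,[2,0,5,0,4]),
  (3157,[2,0,5,0,7]),
  (2090,[2,0,5,1,3]),
  (1069,[2,0,5,1,4]),
  (2740,[2,0,5,1,5]),
  (296,[2,0,5,2,1]),
  (918,[2,0,5,2,3]),
  (2212,[2,0,5,2,7]),
  (2519,[2,0,5,5,2]),
  (3156,[2,0,5,7,0]),
  (2220,[2,0,6,4,2]),
  (2382,[2,0,6,7,5]),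
  (1819,[2,0,7,0,1]),
  (3229,[2,0,7,0,4]),
  (3486,[2,0,7,0,5]),
  (1515,[2,0,7,2,4]),
  (3783,[2,0,7,5,0]),
  (2702,[2,1,0,0,2]),
  (1907,[2,1,0,0,3]),
  (3449,[2,1,0,0,4]),
  (1850,[2,1,0,1,1]),
  (3106,[2,1,0,1,2]),
  (1835,[2,1,0,1,4]),
  (2809,[2,1,0,2,1]),
  (1074,[2,1,0,2,3]),
  (3482,[2,1,0,2,4]),
  (3453,[2,1,0,2,5]),
  (3839,[2,1,0,2,6]),
  (899,[2,1,0,3,0])]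

/-- part 21 of `topOrb1` -/
noncomputable def topOrb1P21 : List (ℕ × List ℕ) := [
  (1071,[2,1,0,3,2]),
  (3758,[2,1,0,3,4]),
  (2623,[2,1,0,4,0]),
  (2766,[2,1,0,4,1]),
  (3750,[2,1,0,4,2]),
  (2095,[2,1,0,4,5]),
  (3276,[2,1,0,4,6]),
  (3613,[2,1,0,4,7]),
  (491,[2,1,0,5,1]),
  (817,[2,1,0,5,6]),
  (1342,[2,1,0,5,7]),
  (3406,[2,1,0,6,4]),
  (2204,[2,1,1,0,0]),
  (2974,[2,1,1,0,1]),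
  (2967,[2,1,1,0,2]),
  (2972,[2,1,1,0,3]),
  (3270,[2,1,1,0,5]),
  (2025,[2,1,1,0,6]),
  (3875,[2,1,1,0,7]),
  (1236,[2,1,1,1,0]),
  (545,[2,1,1,1,2]),
  (2536,[2,1,1,1,4]),
  (3300,[2,1,1,1,5]),
  (3162,[2,1,1,2,3]),
  (3367,[2,1,1,2,4]),
  (1943,[2,1,1,2,5]),
  (3612,[2,1,1,2,7]),
  (1332,[2,1,1,4,1]),
  (2293,[2,1,1,5,1]),
  (2815,[2,1,1,5,4]),
  (3083,[2,1,1,5,5]),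
  (1047,[2,1,1,5,6]),
  (2548,[2,1,1,6,4]),
  (3690,[2,1,1,6,5]),
  (1097,[2,1,1,7,2]),
  (3321,[2,1,2,3,3]),
  (1227,[2,1,2,3,4]),
  (3432,[2,1,2,3,5]),
  (3436,[2,1,2,4,1]),
  (3025,[2,1,2,4,2]),
  (1172,[2,1,2,4,5]),
  (3513,[2,1,2,5,2]),
  (3169,[2,1,2,5,5]),
  (3656,[2,1,2,5,6]),
  (3080,[2,1,2,7,4]),
  (3022,[2,1,4,0,2]),
  (3200,[2,1,4,0,5]),
  (3466,[2,1,4,0,6]),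
  (3024,[2,1,4,0,7]),
  (2211,[2,1,4,1,1]),
  (1053,[2,1,4,1,5]),
  (3023,[2,1,4,2,2]),
  (3568,[2,1,4,2,5]),
  (1567,[2,1,4,2,6]),
  (1695,[2,1,4,2,7]),
  (3738,[2,1,4,4,0]),
  (2980,[2,1,4,4,1]),
  (2173,[2,1,4,4,4]),
  (2416,[2,1,4,5,0]),
  (2210,[2,1,4,5,1]),
  (2289,[2,1,4,5,4]),
  (3627,[2,1,4,5,5]),
  (2198,[2,1,4,6,4]),
  (3082,[2,1,4,6,5]),
  (3590,[2,1,4,6,7]),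
  (2716,[2,1,4,7,0]),
  (2009,[2,1,4,7,2]),
  (1206,[2,1,4,7,4]),
  (3163,[2,1,4,7,5]),
  (1726,[2,1,5,0,0]),
  (2710,[2,1,5,0,2]),
  (2908,[2,1,5,1,0]),
  (1928,[2,1,5,1,1]),
  (2906,[2,1,5,1,2]),
  (1712,[2,1,5,1,3]),
  (3307,[2,1,5,1,5]),
  (2904,[2,1,5,2,0]),
  (1560,[2,1,5,2,1]),
  (2982,[2,1,5,2,4]),
  (1739,[2,1,5,2,6]),
  (1973,[2,1,5,5,6]),
  (3625,[2,1,5,6,0]),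
  (3901,[2,1,5,6,4]),
  (1004,[2,1,5,6,7]),
  (2401,[2,1,6,0,0]),
  (2104,[2,1,6,0,1]),
  (2887,[2,1,6,0,2]),
  (1248,[2,1,6,0,4]),
  (3255,[2,1,6,0,5]),
  (3299,[2,1,6,2,3]),
  (2241,[2,1,6,2,4]),
  (3160,[2,1,6,4,0]),
  (3333,[2,1,6,4,1]),
  (2625,[2,1,6,4,4]),
  (1150,[2,1,6,7,4]),
  (3222,[2,1,7,0,3]),
  (3671,[2,1,7,0,4]),
  (2128,[2,1,7,0,6]),
  (1828,[2,1,7,4,0]),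
  (3042,[2,1,7,4,5])]

/-- part 22 of `topOrb1` -/
noncomputable def topOrb1P22 : List (ℕ × List ℕ) := [
  (1130,[2,1,7,4,6]),
  (2732,[2,1,7,5,2]),
  (142,[2,2,2,1,0]),
  (1087,[2,2,2,1,2]),
  (3245,[2,2,2,1,4]),
  (1194,[2,2,2,1,7]),
  (1161,[2,2,2,4,0]),
  (1124,[2,2,2,4,1]),
  (3313,[2,2,2,5,1]),
  (1562,[2,2,2,5,6]),
  (1641,[2,2,2,5,7]),
  (1490,[2,2,2,7,5]),
  (2062,[2,2,4,0,1]),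
  (1570,[2,2,4,0,7]),
  (446,[2,2,4,1,4]),
  (3887,[2,2,4,1,5]),
  (1946,[2,2,4,2,0]),
  (2176,[2,2,4,2,4]),
  (1992,[2,2,4,2,7]),
  (1743,[2,2,4,4,2]),
  (3433,[2,2,4,5,0]),
  (2331,[2,2,5,0,0]),
  (2265,[2,2,5,0,1]),
  (2788,[2,2,5,0,2]),
  (3401,[2,2,5,0,3]),
  (3181,[2,2,5,0,4]),
  (1088,[2,2,5,7,0]),
  (1226,[2,2,5,7,2]),
  (816,[2,3,0,0,1]),
  (3026,[2,3,0,0,3]),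
  (3361,[2,3,0,1,0]),
  (3710,[2,3,0,1,4]),
  (3523,[2,3,0,2,3]),
  (2874,[2,3,0,2,6]),
  (3167,[2,3,0,3,0]),
  (2856,[2,3,0,3,6]),
  (2764,[2,3,0,7,5]),
  (1905,[2,3,1,0,0]),
  (767,[2,3,1,0,2]),
  (3838,[2,3,1,2,3]),
  (2194,[2,3,1,2,5]),
  (1154,[2,3,1,4,1]),
  (3197,[2,3,1,4,2]),
  (3561,[2,3,1,4,4]),
  (3063,[2,3,1,5,1]),
  (2819,[2,3,1,5,2]),
  (3805,[2,3,1,5,5]),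
  (3668,[2,3,1,5,6]),
  (2473,[2,3,1,5,7]),
  (448,[2,3,2,0,0]),
  (3359,[2,3,2,0,3]),
  (2910,[2,3,2,0,4]),
  (1239,[2,3,2,1,4]),
  (2516,[2,3,2,1,7]),
  (3178,[2,3,2,3,0]),
  (2784,[2,3,2,3,2]),
  (3113,[2,3,2,3,4]),
  (3336,[2,3,2,3,6]),
  (1782,[2,3,2,3,7]),
  (1765,[2,3,2,4,0]),
  (3324,[2,3,2,5,1]),
  (784,[2,3,2,5,2]),
  (3328,[2,3,2,5,6]),
  (2039,[2,3,2,5,7]),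
  (1489,[2,3,2,6,0]),
  (664,[2,3,2,6,7]),
  (1463,[2,3,2,7,2]),
  (2078,[2,3,2,7,5]),
  (3383,[2,3,3,0,3]),
  (1484,[2,3,3,0,4]),
  (1200,[2,3,3,0,7]),
  (1994,[2,3,3,2,0]),
  (2991,[2,3,3,2,1]),
  (687,[2,3,3,2,4]),
  (1460,[2,3,3,2,5]),
  (1140,[2,3,3,2,6]),
  (3904,[2,3,3,2,7]),
  (3578,[2,3,3,4,2]),
  (3244,[2,3,3,4,4]),
  (196,[2,3,3,4,6]),
  (3880,[2,3,3,5,5]),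
  (1169,[2,3,3,5,6]),
  (1733,[2,3,3,5,7]),
  (3748,[2,3,3,6,0]),
  (1201,[2,3,3,6,2]),
  (2689,[2,3,3,6,4]),
  (3614,[2,3,3,7,4]),
  (2137,[2,3,3,7,5]),
  (3310,[2,3,4,0,1]),
  (636,[2,3,4,0,3]),
  (3706,[2,3,4,0,6]),
  (2126,[2,3,4,0,7]),
  (3428,[2,3,4,1,1]),
  (3687,[2,3,4,1,2]),
  (2792,[2,3,4,1,4]),
  (3700,[2,3,4,2,2]),
  (1237,[2,3,4,2,3]),
  (3015,[2,3,4,2,5]),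
  (1940,[2,3,4,4,4]),
  (3241,[2,3,4,5,6])]

/-- part 23 of `topOrb1` -/
noncomputable def topOrb1P23 : List (ℕ × List ℕ) := [
  (630,[2,3,4,6,2]),
  (2474,[2,3,4,6,7]),
  (2131,[2,3,4,7,2]),
  (2144,[2,3,4,7,5]),
  (2700,[2,3,5,0,1]),
  (763,[2,3,5,0,2]),
  (1942,[2,3,5,0,3]),
  (3182,[2,3,5,0,4]),
  (2383,[2,3,5,0,6]),
  (1040,[2,3,5,2,0]),
  (3088,[2,3,5,2,4]),
  (1788,[2,3,5,2,6]),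
  (3231,[2,3,5,5,5]),
  (3175,[2,3,5,5,7]),
  (3282,[2,3,5,6,0]),
  (2866,[2,3,5,6,2]),
  (2786,[2,3,6,0,1]),
  (2201,[2,3,6,0,3]),
  (1511,[2,3,6,0,5]),
  (3728,[2,3,6,2,1]),
  (3659,[2,3,6,2,4]),
  (1715,[2,3,6,2,5]),
  (3098,[2,3,6,4,0]),
  (3206,[2,3,6,4,2]),
  (2480,[2,3,6,4,5]),
  (3056,[2,3,6,4,6]),
  (1073,[2,3,6,4,7]),
  (1771,[2,3,6,7,0]),
  (3140,[2,3,7,0,1]),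
  (3360,[2,3,7,0,2]),
  (3213,[2,3,7,0,5]),
  (2031,[2,3,7,2,5]),
  (2605,[2,3,7,4,2]),
  (2601,[2,3,7,4,4]),
  (3440,[2,3,7,5,5]),
  (3289,[2,4,0,0,1]),
  (832,[2,4,0,0,2]),
  (831,[2,4,0,0,3]),
  (1871,[2,4,0,1,2]),
  (2070,[2,4,0,1,4]),
  (3507,[2,4,0,1,6]),
  (785,[2,4,0,2,0]),
  (1043,[2,4,0,2,1]),
  (1465,[2,4,0,2,2]),
  (1731,[2,4,0,2,4]),
  (3629,[2,4,0,2,5]),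
  (2670,[2,4,0,3,1]),
  (3878,[2,4,0,3,2]),
  (946,[2,4,0,3,3]),
  (3861,[2,4,0,3,6]),
  (3522,[2,4,0,4,0]),
  (3569,[2,4,0,4,5]),
  (2938,[2,4,0,5,2]),
  (2197,[2,4,0,6,4]),
  (1235,[2,4,0,6,7]),
  (2876,[2,4,0,7,0]),
  (1127,[2,4,0,7,2]),
  (2243,[2,4,0,7,4]),
  (1003,[2,4,0,7,5]),
  (2860,[2,4,1,1,0]),
  (2776,[2,4,1,1,1]),
  (3634,[2,4,1,1,2]),
  (1540,[2,4,1,1,5]),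
  (1764,[2,4,1,4,1]),
  (1241,[2,4,1,4,6]),
  (1769,[2,4,1,5,1]),
  (1068,[2,4,1,5,4]),
  (2199,[2,4,1,5,5]),
  (1459,[2,4,1,7,4]),
  (3444,[2,4,1,7,5]),
  (815,[2,4,2,0,0]),
  (3528,[2,4,2,0,1]),
  (2612,[2,4,2,0,2]),
  (769,[2,4,2,0,3]),
  (3369,[2,4,2,0,4]),
  (1095,[2,4,2,0,7]),
  (3830,[2,4,2,2,4]),
  (3133,[2,4,2,4,1]),
  (2865,[2,4,2,4,5]),
  (137,[2,4,2,6,2]),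
  (951,[2,4,2,6,4]),
  (3418,[2,4,2,7,4]),
  (3641,[2,4,2,7,5]),
  (2756,[2,4,4,0,0]),
  (3437,[2,4,4,0,2]),
  (3869,[2,4,4,1,4]),
  (2000,[2,4,4,1,5]),
  (1719,[2,4,4,2,0]),
  (1989,[2,4,4,2,3]),
  (2522,[2,4,4,2,5]),
  (2206,[2,4,4,2,6]),
  (2679,[2,4,4,4,0]),
  (3339,[2,4,4,6,2]),
  (2572,[2,4,4,6,5]),
  (3044,[2,4,5,0,6]),
  (1453,[2,4,5,1,0]),
  (2517,[2,4,5,1,5]),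
  (2781,[2,4,5,1,7]),
  (2902,[2,4,5,2,4]),
  (1616,[2,4,5,4,0])]

/-- part 24 of `topOrb1` -/
noncomputable def topOrb1P24 : List (ℕ × List ℕ) := [
  (1639,[2,4,5,4,6]),
  (3585,[2,4,5,6,0]),
  (2422,[2,4,5,6,5]),
  (3061,[2,4,5,7,2]),
  (2112,[2,4,6,0,1]),
  (3800,[2,4,6,0,3]),
  (3905,[2,4,6,2,3]),
  (936,[2,4,6,2,6]),
  (706,[2,4,6,4,2]),
  (3582,[2,4,6,4,6]),
  (3065,[2,4,6,4,7]),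
  (3422,[2,4,6,7,2]),
  (3226,[2,4,6,7,4]),
  (3633,[2,4,7,4,2]),
  (2754,[2,4,7,4,4]),
  (3628,[2,5,0,1,0]),
  (3431,[2,5,0,1,2]),
  (2831,[2,5,0,2,1]),
  (2948,[2,5,0,2,2]),
  (3069,[2,5,0,2,6]),
  (3854,[2,5,0,3,1]),
  (2283,[2,5,0,4,2]),
  (3661,[2,5,0,4,5]),
  (3464,[2,5,0,5,1]),
  (3149,[2,5,0,5,5]),
  (3430,[2,5,0,5,6]),
  (2768,[2,5,1,0,1]),
  (2171,[2,5,1,0,5]),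
  (1998,[2,5,1,2,1]),
  (3563,[2,5,1,2,2]),
  (2240,[2,5,1,2,3]),
  (2472,[2,5,1,2,4]),
  (2559,[2,5,1,2,5]),
  (2759,[2,5,1,3,2]),
  (199,[2,5,1,3,3]),
  (2778,[2,5,1,4,1]),
  (2607,[2,5,1,5,0]),
  (3223,[2,5,1,5,2]),
  (3770,[2,5,1,5,5]),
  (2252,[2,5,2,0,1]),
  (2411,[2,5,2,0,3]),
  (2347,[2,5,2,0,5]),
  (3325,[2,5,2,1,5]),
  (2816,[2,5,2,2,6]),
  (688,[2,5,2,2,7]),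
  (1247,[2,5,2,3,3]),
  (2662,[2,5,2,3,5]),
  (2912,[2,5,2,5,1]),
  (3192,[2,5,2,5,2]),
  (3077,[2,5,2,7,2]),
  (3501,[2,5,2,7,4]),
  (3755,[2,5,4,0,0]),
  (2564,[2,5,4,0,2]),
  (1454,[2,5,4,0,3]),
  (3215,[2,5,4,0,6]),
  (2168,[2,5,4,0,7]),
  (2918,[2,5,4,1,0]),
  (2817,[2,5,4,1,3]),
  (3877,[2,5,4,2,0]),
  (2203,[2,5,4,5,5]),
  (2127,[2,5,4,6,5]),
  (3647,[2,5,5,0,0]),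
  (3183,[2,5,5,0,4]),
  (2542,[2,5,5,0,6]),
  (3834,[2,5,5,1,3]),
  (2102,[2,5,5,2,3]),
  (2174,[2,5,5,2,6]),
  (1991,[2,5,5,2,7]),
  (3811,[2,5,5,5,0]),
  (1746,[2,5,5,6,5]),
  (3402,[2,5,5,7,0]),
  (1537,[2,5,5,7,4]),
  (2946,[2,5,6,0,1]),
  (2524,[2,5,6,0,6]),
  (2600,[2,5,6,5,2]),
  (1713,[2,5,7,0,2]),
  (2854,[2,5,7,0,3]),
  (985,[2,5,7,0,4]),
  (3542,[2,6,0,0,4]),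
  (666,[2,6,0,1,0]),
  (2704,[2,6,0,1,4]),
  (2223,[2,6,0,1,6]),
  (410,[2,6,0,1,7]),
  (2665,[2,6,0,2,1]),
  (1002,[2,6,0,3,3]),
  (1036,[2,6,0,3,5]),
  (1798,[2,6,0,4,0]),
  (2470,[2,6,0,4,1]),
  (2320,[2,6,0,4,5]),
  (2529,[2,6,0,4,7]),
  (2703,[2,6,0,5,4]),
  (1823,[2,6,2,1,1]),
  (1832,[2,6,2,1,5]),
  (1427,[2,6,2,3,3]),
  (1865,[2,6,2,5,1]),
  (3052,[2,6,2,5,2]),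
  (2941,[2,6,2,5,4]),
  (200,[2,6,2,5,5]),
  (1874,[2,6,4,0,0]),
  (2579,[2,6,4,0,1])]

/-- part 25 of `topOrb1` -/
noncomputable def topOrb1P25 : List (ℕ × List ℕ) := [
  (466,[2,6,4,0,7]),
  (1481,[2,6,4,1,2]),
  (2660,[2,6,4,1,3]),
  (2425,[2,6,4,2,3]),
  (3203,[2,6,4,4,4]),
  (3450,[2,6,4,5,5]),
  (1480,[2,6,4,5,6]),
  (2618,[2,6,4,7,0]),
  (3717,[2,6,5,0,5]),
  (3693,[2,6,5,0,7]),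
  (3688,[2,6,5,2,0]),
  (3046,[2,6,5,2,2]),
  (1024,[2,6,5,2,5]),
  (3872,[2,6,5,2,6]),
  (482,[2,6,5,5,2]),
  (3766,[2,6,5,6,7]),
  (2747,[2,6,5,7,0]),
  (3238,[2,6,5,7,4]),
  (1217,[2,6,7,5,2]),
  (995,[2,7,0,1,0]),
  (1026,[2,7,0,1,6]),
  (615,[2,7,0,3,3]),
  (3698,[2,7,0,4,5]),
  (2007,[2,7,0,5,1]),
  (1977,[2,7,0,5,2]),
  (2745,[2,7,0,5,4]),
  (3825,[2,7,0,5,6]),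
  (2695,[2,7,0,5,7]),
  (2730,[2,7,0,6,5]),
  (2834,[2,7,2,0,1]),
  (1207,[2,7,2,1,2]),
  (1233,[2,7,2,3,2]),
  (3000,[2,7,2,4,5]),
  (1628,[2,7,2,5,5]),
  (2163,[2,7,4,0,4]),
  (1718,[2,7,4,4,0]),
  (2351,[2,7,5,0,3]),
  (1948,[2,7,5,0,5]),
  (3772,[2,7,5,0,7]),
  (1563,[2,7,5,2,5]),
  (3550,[2,7,5,2,6]),
  (2822,[2,7,5,5,1]),
  (2521,[2,7,5,5,7]),
  (1974,[0,0,0,1,0,3]),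
  (1663,[0,0,0,1,0,4]),
  (1821,[0,0,0,1,2,1]),
  (425,[0,0,0,1,5,5]),
  (1083,[0,0,0,2,4,0]),
  (1382,[0,0,0,2,4,5]),
  (3378,[0,0,0,2,5,0]),
  (1185,[0,0,0,2,6,4]),
  (2259,[0,0,0,3,5,2]),
  (3191,[0,0,0,3,5,4]),
  (2604,[0,0,0,4,2,3]),
  (3388,[0,0,0,4,2,4]),
  (197,[0,0,0,5,0,7]),
  (3412,[0,0,0,5,1,2]),
  (209,[0,0,0,5,1,3]),
  (1483,[0,0,0,5,1,5]),
  (3445,[0,0,0,5,4,1]),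
  (1520,[0,0,0,5,4,4]),
  (3712,[0,0,0,5,6,0]),
  (1505,[0,0,1,0,2,0]),
  (1666,[0,0,1,0,2,6]),
  (493,[0,0,1,0,5,0]),
  (2621,[0,0,1,0,5,5]),
  (3153,[0,0,1,0,5,6]),
  (1863,[0,0,1,0,7,5]),
  (839,[0,0,1,1,2,0]),
  (1243,[0,0,1,1,2,1]),
  (1549,[0,0,1,1,4,0]),
  (537,[0,0,1,1,4,4]),
  (2614,[0,0,1,1,5,0]),
  (3385,[0,0,1,1,5,6]),
  (845,[0,0,1,2,2,1]),
  (3467,[0,0,1,2,3,2]),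
  (3767,[0,0,1,2,5,0]),
  (1935,[0,0,1,2,5,1]),
  (3752,[0,0,1,2,5,5]),
  (3393,[0,0,1,2,5,6]),
  (834,[0,0,1,3,1,2]),
  (3801,[0,0,1,3,1,5]),
  (710,[0,0,1,3,3,0]),
  (204,[0,0,1,3,3,2]),
  (3139,[0,0,1,4,0,1]),
  (2319,[0,0,1,4,0,2]),
  (3584,[0,0,1,4,1,0]),
  (2772,[0,0,1,4,2,3]),
  (3020,[0,0,1,4,7,2]),
  (3382,[0,0,1,4,7,5]),
  (848,[0,0,1,5,1,0]),
  (780,[0,0,1,5,1,2]),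
  (2180,[0,0,1,5,1,4]),
  (1527,[0,0,1,5,4,4]),
  (3846,[0,0,1,5,4,6]),
  (2617,[0,0,1,5,7,2]),
  (3776,[0,0,2,0,1,2]),
  (1803,[0,0,2,0,1,5]),
  (2667,[0,0,2,0,3,0]),
  (2708,[0,0,2,0,3,1])]

/-- part 26 of `topOrb1` -/
noncomputable def topOrb1P26 : List (ℕ × List ℕ) := [
  (2427,[0,0,2,0,3,2]),
  (3694,[0,0,2,0,4,2]),
  (1692,[0,0,2,0,6,5]),
  (2549,[0,0,2,1,0,5]),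
  (1785,[0,0,2,1,1,4]),
  (1070,[0,0,2,1,1,6]),
  (3496,[0,0,2,1,2,5]),
  (3141,[0,0,2,1,4,0]),
  (2544,[0,0,2,1,4,6]),
  (2825,[0,0,2,1,5,0]),
  (1507,[0,0,2,1,5,5]),
  (2741,[0,0,2,1,5,6]),
  (617,[0,0,2,1,6,0]),
  (3209,[0,0,2,1,6,2]),
  (911,[0,0,2,1,7,4]),
  (2218,[0,0,2,2,5,5]),
  (2680,[0,0,2,3,0,5]),
  (3475,[0,0,2,3,2,0]),
  (741,[0,0,2,3,2,5]),
  (1039,[0,0,2,3,2,6]),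
  (3184,[0,0,2,3,2,7]),
  (3179,[0,0,2,3,3,7]),
  (3554,[0,0,2,3,5,0]),
  (3416,[0,0,2,3,5,5]),
  (2030,[0,0,2,3,6,2]),
  (2663,[0,0,2,3,6,4]),
  (634,[0,0,2,3,6,5]),
  (2839,[0,0,2,4,0,0]),
  (1650,[0,0,2,4,0,6]),
  (994,[0,0,2,4,0,7]),
  (1909,[0,0,2,4,1,3]),
  (2381,[0,0,2,4,1,4]),
  (2012,[0,0,2,4,2,0]),
  (252,[0,0,2,4,2,3]),
  (1565,[0,0,2,4,2,7]),
  (569,[0,0,2,4,4,0]),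
  (1125,[0,0,2,4,4,4]),
  (3091,[0,0,2,4,4,5]),
  (1804,[0,0,2,4,6,0]),
  (2742,[0,0,2,4,6,4]),
  (1249,[0,0,2,5,0,4]),
  (3201,[0,0,2,5,2,0]),
  (1738,[0,0,2,5,2,7]),
  (3239,[0,0,2,5,5,1]),
  (3789,[0,0,2,5,5,5]),
  (3761,[0,0,2,6,4,7]),
  (3900,[0,0,2,6,5,0]),
  (3538,[0,0,2,6,5,4]),
  (2094,[0,0,2,6,5,5]),
  (1126,[0,0,2,7,5,4]),
  (222,[0,0,3,0,1,3]),
  (3575,[0,0,3,0,2,1]),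
  (2282,[0,0,3,0,3,5]),
  (1508,[0,0,3,0,5,5]),
  (1648,[0,0,3,0,5,7]),
  (1573,[0,0,3,1,0,1]),
  (1523,[0,0,3,1,0,6]),
  (3258,[0,0,3,1,0,7]),
  (2108,[0,0,3,1,2,5]),
  (938,[0,0,3,1,3,2]),
  (3419,[0,0,3,2,1,1]),
  (3029,[0,0,3,2,1,5]),
  (2726,[0,0,3,2,1,7]),
  (2657,[0,0,3,2,7,2]),
  (2462,[0,0,3,3,2,6]),
  (3322,[0,0,3,3,4,1]),
  (2207,[0,0,3,4,0,5]),
  (3399,[0,0,3,4,1,2]),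
  (3826,[0,0,3,4,2,1]),
  (2872,[0,0,3,4,2,4]),
  (3606,[0,0,3,4,5,1]),
  (2577,[0,0,3,4,5,7]),
  (1833,[0,0,3,4,7,5]),
  (420,[0,0,3,5,1,1]),
  (3813,[0,0,3,5,2,5]),
  (2658,[0,0,3,5,4,0]),
  (3253,[0,0,3,5,4,2]),
  (3736,[0,0,3,5,5,0]),
  (3463,[0,0,3,5,5,4]),
  (587,[0,0,4,1,0,1]),
  (2256,[0,0,4,1,0,3]),
  (2845,[0,0,4,1,2,4]),
  (1856,[0,0,4,1,3,2]),
  (472,[0,0,4,1,3,7]),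
  (434,[0,0,4,1,4,1]),
  (3408,[0,0,4,1,5,4]),
  (1369,[0,0,4,1,7,4]),
  (235,[0,0,4,2,2,4]),
  (1215,[0,0,4,2,3,5]),
  (3035,[0,0,4,2,5,1]),
  (1538,[0,0,4,2,5,5]),
  (1937,[0,0,4,4,0,1]),
  (3541,[0,0,4,4,0,5]),
  (1756,[0,0,4,4,1,2]),
  (974,[0,0,4,4,1,4]),
  (1931,[0,0,4,4,1,7]),
  (1495,[0,0,4,4,4,2]),
  (2681,[0,0,4,4,5,1]),
  (3129,[0,0,4,4,5,7]),
  (915,[0,0,4,5,0,3])]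

/-- part 27 of `topOrb1` -/
noncomputable def topOrb1P27 : List (ℕ × List ℕ) := [
  (2682,[0,0,4,5,1,0]),
  (2294,[0,0,4,5,1,4]),
  (3170,[0,0,4,5,2,3]),
  (3566,[0,0,4,5,2,5]),
  (1502,[0,0,4,5,5,1]),
  (1837,[0,0,4,5,6,2]),
  (3429,[0,0,4,5,6,7]),
  (2758,[0,0,4,5,7,0]),
  (2671,[0,0,4,7,2,0]),
  (1231,[0,0,4,7,2,1]),
  (1980,[0,0,4,7,2,6]),
  (2659,[0,0,4,7,2,7]),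
  (3902,[0,0,4,7,5,5]),
  (2806,[0,0,5,0,0,6]),
  (1589,[0,0,5,0,4,0]),
  (1747,[0,0,5,0,4,6]),
  (2152,[0,0,5,0,7,5]),
  (3897,[0,0,5,1,0,1]),
  (1524,[0,0,5,1,0,3]),
  (3030,[0,0,5,1,2,1]),
  (2795,[0,0,5,1,2,5]),
  (3549,[0,0,5,1,3,5]),
  (3807,[0,0,5,1,5,1]),
  (2119,[0,0,5,2,0,2]),
  (3363,[0,0,5,2,5,0]),
  (1770,[0,0,5,2,5,1]),
  (2132,[0,0,5,2,5,4]),
  (2643,[0,0,5,2,5,5]),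
  (1911,[0,0,5,4,0,1]),
  (2678,[0,0,5,4,7,4]),
  (1744,[0,0,5,5,0,0]),
  (2971,[0,0,5,5,0,7]),
  (1552,[0,0,5,5,2,0]),
  (2216,[0,0,5,5,2,2]),
  (2455,[0,0,5,5,5,2]),
  (1117,[0,0,5,5,5,7]),
  (2954,[0,0,5,5,6,0]),
  (1602,[0,0,5,5,7,0]),
  (2239,[0,0,5,7,4,0]),
  (3472,[0,1,0,0,0,3]),
  (2736,[0,1,0,0,0,5]),
  (3288,[0,1,0,0,1,5]),
  (2942,[0,1,0,0,2,0]),
  (1869,[0,1,0,0,2,3]),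
  (2709,[0,1,0,0,2,4]),
  (2603,[0,1,0,0,2,5]),
  (1679,[0,1,0,0,2,7]),
  (3502,[0,1,0,0,4,2]),
  (2413,[0,1,0,0,4,4]),
  (3797,[0,1,0,0,5,6]),
  (3405,[0,1,0,0,5,7]),
  (1360,[0,1,0,1,1,2]),
  (3457,[0,1,0,1,5,5]),
  (945,[0,1,0,1,6,2]),
  (1622,[0,1,0,1,7,0]),
  (1632,[0,1,0,1,7,4]),
  (3335,[0,1,0,2,1,2]),
  (2748,[0,1,0,2,1,5]),
  (2477,[0,1,0,2,2,2]),
  (2619,[0,1,0,2,3,2]),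
  (1476,[0,1,0,2,3,6]),
  (2280,[0,1,0,2,3,7]),
  (1964,[0,1,0,2,4,7]),
  (2757,[0,1,0,2,6,5]),
  (2107,[0,1,0,3,2,5]),
  (3471,[0,1,0,3,5,0]),
  (2749,[0,1,0,3,6,5]),
  (2410,[0,1,0,3,6,7]),
  (1522,[0,1,0,4,0,6]),
  (1825,[0,1,0,4,0,7]),
  (1551,[0,1,0,4,4,6]),
  (2998,[0,1,0,4,5,6]),
  (2963,[0,1,0,5,5,5]),
  (2828,[0,1,0,5,5,6]),
  (724,[0,1,0,5,6,4]),
  (1859,[0,1,0,6,4,7]),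
  (1853,[0,1,0,6,5,1]),
  (181,[0,1,0,6,5,5]),
  (3701,[0,1,0,6,5,6]),
  (2596,[0,1,0,7,2,4]),
  (917,[0,1,0,7,5,0]),
  (2705,[0,1,1,1,5,0]),
  (1223,[0,1,1,1,5,6]),
  (3379,[0,1,1,2,0,3]),
  (1999,[0,1,1,2,1,1]),
  (2235,[0,1,1,2,5,0]),
  (3291,[0,1,1,2,5,6]),
  (3301,[0,1,1,2,7,5]),
  (3104,[0,1,1,4,2,3]),
  (3595,[0,1,1,4,2,6]),
  (3835,[0,1,1,4,4,0]),
  (705,[0,1,1,4,4,5]),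
  (3799,[0,1,1,4,5,2]),
  (2292,[0,1,1,5,1,1]),
  (910,[0,1,1,5,1,4]),
  (126,[0,1,1,5,2,4]),
  (1637,[0,1,1,5,2,7]),
  (2385,[0,1,1,5,5,1]),
  (3302,[0,1,1,5,5,4]),
  (3180,[0,1,1,5,5,7])]

/-- part 28 of `topOrb1` -/
noncomputable def topOrb1P28 : List (ℕ × List ℕ) := [
  (3469,[0,1,1,5,6,0]),
  (2179,[0,1,1,5,6,2]),
  (852,[0,1,1,6,4,6]),
  (1783,[0,1,1,6,5,5]),
  (2988,[0,1,1,6,5,7]),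
  (3498,[0,1,2,0,0,2]),
  (2940,[0,1,2,0,2,1]),
  (2089,[0,1,2,0,3,4]),
  (3281,[0,1,2,0,4,0]),
  (2995,[0,1,2,0,4,4]),
  (2641,[0,1,2,1,0,3]),
  (1429,[0,1,2,1,1,0]),
  (2594,[0,1,2,1,1,4]),
  (2924,[0,1,2,2,2,4]),
  (2922,[0,1,2,2,5,2]),
  (605,[0,1,2,2,5,6]),
  (2994,[0,1,2,4,0,3]),
  (2789,[0,1,2,4,1,0]),
  (558,[0,1,2,4,6,5]),
  (1485,[0,1,2,4,7,0]),
  (3858,[0,1,2,4,7,2]),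
  (1809,[0,1,2,4,7,4]),
  (2961,[0,1,2,5,1,3]),
  (3327,[0,1,2,5,1,7]),
  (2790,[0,1,2,5,4,1]),
  (637,[0,1,2,5,6,0]),
  (3868,[0,1,2,5,6,5]),
  (561,[0,1,2,5,7,4]),
  (2993,[0,1,2,7,2,0]),
  (2969,[0,1,2,7,4,0]),
  (3903,[0,1,2,7,4,6]),
  (2014,[0,1,3,1,2,0]),
  (1955,[0,1,3,1,2,1]),
  (3895,[0,1,3,1,5,4]),
  (2135,[0,1,3,1,5,6]),
  (221,[0,1,3,1,6,4]),
  (3338,[0,1,3,2,0,5]),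
  (754,[0,1,3,2,3,3]),
  (1708,[0,1,3,3,0,7]),
  (1987,[0,1,3,3,2,5]),
  (1658,[0,1,3,3,2,7]),
  (1129,[0,1,3,3,5,7]),
  (2838,[0,1,3,5,0,5]),
  (3697,[0,1,3,5,1,5]),
  (685,[0,1,3,5,2,2]),
  (2266,[0,1,3,5,5,2]),
  (2155,[0,1,4,0,0,5]),
  (2878,[0,1,4,0,2,4]),
  (2787,[0,1,4,0,4,6]),
  (1585,[0,1,4,0,5,4]),
  (182,[0,1,4,0,6,2]),
  (2562,[0,1,4,0,7,2]),
  (3081,[0,1,4,0,7,4]),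
  (843,[0,1,4,1,0,2]),
  (2504,[0,1,4,1,2,7]),
  (1359,[0,1,4,1,7,5]),
  (1811,[0,1,4,2,0,0]),
  (1956,[0,1,4,2,2,5]),
  (3623,[0,1,4,2,4,1]),
  (2507,[0,1,4,2,4,5]),
  (2602,[0,1,4,2,5,0]),
  (1861,[0,1,4,2,6,4]),
  (840,[0,1,4,2,6,5]),
  (1689,[0,1,4,4,1,2]),
  (3764,[0,1,4,5,0,3]),
  (3483,[0,1,4,5,5,0]),
  (3086,[0,1,4,5,5,5]),
  (2977,[0,1,4,5,5,6]),
  (2615,[0,1,4,6,5,0]),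
  (2271,[0,1,4,7,2,6]),
  (1477,[0,1,5,0,4,5]),
  (3214,[0,1,5,0,7,2]),
  (2844,[0,1,5,1,2,2]),
  (3138,[0,1,5,2,0,5]),
  (3013,[0,1,5,2,7,0]),
  (2783,[0,1,5,2,7,2]),
  (3059,[0,1,5,4,0,0]),
  (3796,[0,1,5,4,1,5]),
  (2164,[0,1,5,4,2,1]),
  (1656,[0,1,5,4,2,4]),
  (1574,[0,1,5,4,2,7]),
  (3273,[0,1,5,4,4,0]),
  (1949,[0,1,5,4,4,1]),
  (2563,[0,1,5,5,1,5]),
  (1684,[0,1,5,5,4,1]),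
  (2399,[0,1,5,5,6,4]),
  (2482,[0,1,5,5,7,0]),
  (2794,[0,1,6,0,2,3]),
  (3287,[0,1,6,2,0,7]),
  (3479,[0,1,6,2,5,0]),
  (3524,[0,1,6,2,5,4]),
  (2691,[0,1,6,2,5,5]),
  (2106,[0,1,6,2,7,5]),
  (3508,[0,1,6,4,5,0]),
  (3720,[0,1,6,4,7,5]),
  (3014,[0,1,6,5,5,4]),
  (2640,[0,2,0,1,2,1]),
  (1693,[0,2,0,1,2,5]),
  (2666,[0,2,0,1,5,2]),
  (2712,[0,2,0,1,5,7])]

/-- part 29 of `topOrb1` -/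
noncomputable def topOrb1P29 : List (ℕ × List ℕ) := [
  (686,[0,2,0,2,4,6]),
  (2438,[0,2,0,3,1,2]),
  (2181,[0,2,0,3,5,6]),
  (2497,[0,2,0,3,6,0]),
  (2861,[0,2,0,4,2,5]),
  (3375,[0,2,0,4,5,2]),
  (2466,[0,2,0,4,5,5]),
  (1146,[0,2,0,4,7,2]),
  (3735,[0,2,0,5,0,2]),
  (3314,[0,2,0,5,6,4]),
  (3373,[0,2,0,6,5,0]),
  (1077,[0,2,0,6,5,5]),
  (2540,[0,2,1,0,1,2]),
  (2883,[0,2,1,0,5,6]),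
  (2208,[0,2,1,2,0,0]),
  (3779,[0,2,1,2,0,1]),
  (631,[0,2,1,2,1,2]),
  (2475,[0,2,1,2,3,1]),
  (2337,[0,2,1,2,3,2]),
  (2515,[0,2,1,2,5,1]),
  (2523,[0,2,1,2,5,2]),
  (2363,[0,2,1,4,0,0]),
  (2652,[0,2,1,7,4,5]),
  (3099,[0,2,1,7,5,2]),
  (1922,[0,2,2,1,0,2]),
  (2707,[0,2,2,1,0,5]),
  (2731,[0,2,2,1,2,3]),
  (1546,[0,2,2,2,5,1]),
  (2955,[0,2,2,5,6,4]),
  (2013,[0,2,2,6,2,5]),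
  (3782,[0,2,3,0,2,4]),
  (2113,[0,2,3,0,6,2]),
  (1135,[0,2,3,1,0,5]),
  (633,[0,2,3,1,2,7]),
  (847,[0,2,3,1,3,2]),
  (2987,[0,2,3,1,3,5]),
  (1166,[0,2,3,2,0,6]),
  (3208,[0,2,3,2,1,0]),
  (849,[0,2,3,2,2,2]),
  (2479,[0,2,3,2,6,4]),
  (1945,[0,2,3,2,6,7]),
  (1700,[0,2,3,3,4,6]),
  (3762,[0,2,3,4,2,0]),
  (1046,[0,2,3,4,2,1]),
  (3189,[0,2,3,4,7,5]),
  (1971,[0,2,3,5,0,7]),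
  (1471,[0,2,3,5,1,2]),
  (3696,[0,2,3,5,4,0]),
  (3043,[0,2,3,5,4,6]),
  (2512,[0,2,3,5,5,0]),
  (2875,[0,2,3,5,5,7]),
  (1555,[0,2,4,0,4,2]),
  (1582,[0,2,4,0,7,5]),
  (1652,[0,2,4,1,5,0]),
  (2400,[0,2,4,2,0,0]),
  (2945,[0,2,4,2,1,5]),
  (2807,[0,2,5,0,0,6]),
  (3105,[0,2,5,0,1,2]),
  (1625,[0,2,5,0,2,1]),
  (2513,[0,2,5,0,2,2]),
  (1583,[0,2,5,0,3,6]),
  (2871,[0,2,5,0,6,2]),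
  (3225,[0,2,5,0,7,0]),
  (1198,[0,2,5,1,3,3]),
  (3097,[0,2,5,1,7,4]),
  (3806,[0,2,5,2,3,5]),
  (3243,[0,2,5,2,3,6]),
  (2177,[0,2,5,4,0,6]),
  (2426,[0,2,5,4,1,1]),
  (3407,[0,2,5,4,4,0]),
  (1155,[0,2,5,4,7,2]),
  (3747,[0,2,5,5,4,1]),
  (3045,[0,2,5,5,4,4]),
  (1467,[0,2,5,6,7,2]),
  (3726,[0,2,6,4,0,4]),
  (3016,[0,2,6,4,2,6]),
  (465,[0,2,6,5,2,3]),
  (2729,[0,2,6,5,2,5]),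
  (2610,[0,2,6,5,2,7]),
  (1727,[0,3,0,0,3,2]),
  (2276,[0,3,0,0,4,5]),
  (2015,[0,3,0,0,5,6]),
  (2975,[0,3,0,0,5,7]),
  (2723,[0,3,0,2,5,6]),
  (1873,[0,3,0,3,2,6]),
  (1761,[0,3,0,4,2,0]),
  (3190,[0,3,0,4,5,2]),
  (1528,[0,3,0,5,2,1]),
  (2005,[0,3,1,0,0,5]),
  (3808,[0,3,1,0,2,6]),
  (1990,[0,3,1,2,0,0]),
  (2139,[0,3,1,2,0,2]),
  (1425,[0,3,1,2,1,0]),
  (259,[0,3,1,4,0,3]),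
  (3112,[0,3,1,4,5,1]),
  (3196,[0,3,1,4,5,6]),
  (2728,[0,3,1,5,1,5]),
  (2793,[0,3,2,1,1,5]),
  (2505,[0,3,2,1,2,7]),
  (2154,[0,3,2,1,4,0])]

/-- part 30 of `topOrb1` -/
noncomputable def topOrb1P30 : List (ℕ × List ℕ) := [
  (2613,[0,3,2,3,0,4]),
  (1075,[0,3,2,3,0,5]),
  (841,[0,3,2,3,1,2]),
  (2620,[0,3,2,3,1,3]),
  (2771,[0,3,2,3,1,6]),
  (3831,[0,3,2,3,2,1]),
  (3303,[0,3,2,3,5,0]),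
  (2103,[0,3,2,4,1,4]),
  (3860,[0,3,2,5,0,2]),
  (2925,[0,3,3,0,5,0]),
  (3809,[0,3,3,2,0,4]),
  (3217,[0,3,3,2,7,5]),
  (2711,[0,3,3,4,2,3]),
  (2310,[0,3,3,5,0,4]),
  (1580,[0,3,3,5,5,0]),
  (3579,[0,3,4,2,3,1]),
  (3713,[0,3,4,2,5,2]),
  (3204,[0,3,4,7,2,0]),
  (1834,[0,3,4,7,2,5]),
  (1843,[0,3,5,0,0,3]),
  (1690,[0,3,5,0,1,3]),
  (3323,[0,3,5,0,6,5]),
  (198,[0,3,5,1,0,7]),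
  (2633,[0,3,5,2,7,4]),
  (3843,[0,3,5,4,0,7]),
  (3216,[0,3,5,4,7,0]),
  (1678,[0,3,5,4,7,5]),
  (289,[0,3,5,5,0,1]),
  (3852,[0,3,5,5,2,1]),
  (2484,[0,3,5,5,2,4]),
  (2701,[0,3,5,7,4,0]),
  (3609,[0,3,6,0,2,3]),
  (2830,[0,3,6,4,2,7]),
  (1461,[0,3,6,4,5,5]),
  (3240,[0,3,6,5,7,0]),
  (2166,[0,4,0,1,6,7]),
  (2669,[0,4,0,5,0,7]),
  (3031,[0,4,0,5,4,4]),
  (1673,[0,4,0,5,5,1]),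
  (1139,[0,4,0,5,5,5]),
  (1776,[0,4,0,5,5,7]),
  (1854,[0,4,0,6,2,5]),
  (901,[0,4,0,6,2,7]),
  (2950,[0,4,0,6,5,4]),
  (2992,[0,4,0,7,0,5]),
  (1566,[0,4,0,7,2,4]),
  (2635,[0,4,0,7,2,5]),
  (2214,[0,4,1,1,1,2]),
  (3439,[0,4,1,1,1,5]),
  (2003,[0,4,1,1,5,1]),
  (559,[0,4,1,1,5,5]),
  (3771,[0,4,1,2,1,4]),
  (2824,[0,4,1,2,4,5]),
  (560,[0,4,1,3,3,2]),
  (2006,[0,4,1,3,3,5]),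
  (3370,[0,4,1,3,5,2]),
  (3084,[0,4,1,4,1,5]),
  (3866,[0,4,1,5,7,0]),
  (438,[0,4,1,7,5,1]),
  (3617,[0,4,2,2,4,1]),
  (1676,[0,4,2,2,5,1]),
  (1245,[0,4,2,3,6,5]),
  (3290,[0,4,2,4,2,3]),
  (2677,[0,4,2,5,2,7]),
  (2646,[0,4,2,5,6,7]),
  (916,[0,4,2,5,7,2]),
  (1760,[0,4,4,1,7,2]),
  (3837,[0,4,4,4,2,3]),
  (2478,[0,4,5,1,2,2]),
  (2558,[0,4,5,1,5,2]),
  (3652,[0,4,5,2,3,4]),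
  (2905,[0,4,5,4,0,7]),
  (1694,[0,4,5,4,4,1]),
  (3329,[0,4,5,5,1,3]),
  (409,[0,4,5,6,7,4]),
  (1862,[0,4,5,7,0,1]),
  (3185,[0,4,5,7,2,0]),
  (2976,[0,4,5,7,4,1]),
  (1142,[0,4,5,7,4,2]),
  (1784,[0,4,6,2,3,7]),
  (3729,[0,4,7,4,5,4]),
  (2898,[0,5,0,0,2,0]),
  (2797,[0,5,0,0,4,6]),
  (1996,[0,5,0,1,4,2]),
  (1451,[0,5,0,7,5,0]),
  (2483,[0,5,1,1,5,6]),
  (3893,[0,5,2,3,7,0]),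
  (2467,[0,5,2,4,4,0]),
  (2943,[0,5,2,5,1,7]),
  (1737,[0,5,2,5,4,7]),
  (3115,[0,5,2,5,7,4]),
  (2894,[0,5,2,7,0,6]),
  (766,[0,5,4,1,1,0]),
  (2867,[0,5,4,1,1,6]),
  (2123,[0,5,4,2,3,5]),
  (1636,[0,5,4,4,1,1]),
  (2821,[0,5,5,2,1,0]),
  (618,[0,5,5,5,0,0]),
  (1662,[0,5,5,5,0,6]),
  (3380,[0,5,5,5,2,6])]

/-- part 31 of `topOrb1` -/
noncomputable def topOrb1P31 : List (ℕ × List ℕ) := [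
  (3537,[0,5,5,7,2,6]),
  (2765,[0,5,6,0,3,0]),
  (1021,[0,6,2,7,0,1]),
  (2808,[0,6,4,2,6,7]),
  (2471,[0,6,5,4,1,0]),
  (3718,[0,6,5,4,2,6]),
  (1643,[0,6,5,5,0,7]),
  (2284,[1,1,2,1,5,6]),
  (2939,[1,1,2,4,5,2]),
  (2321,[1,1,5,1,1,0]),
  (308,[1,1,5,4,0,6]),
  (2715,[1,3,2,4,5,1]),
  (1048,[1,3,2,5,2,2]),
  (3278,[1,3,5,0,1,1]),
  (2944,[1,3,5,0,1,4]),
  (3462,[1,4,0,2,0,4]),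
  (3531,[1,4,2,6,4,4]),
  (3150,[1,5,0,5,5,0]),
  (3389,[1,5,0,5,5,6]),
  (3709,[2,0,0,6,5,2]),
  (2616,[2,0,4,2,7,2]),
  (2653,[2,1,2,3,4,5]),
  (3536,[2,1,4,5,4,7]),
  (530,[2,1,6,0,0,3]),
  (1584,[2,5,0,1,2,3])]

/-- certificate data -/
noncomputable def topOrb1 : List (ℕ × List ℕ) :=
  [topOrb1P0, topOrb1P1, topOrb1P2, topOrb1P3, topOrb1P4, topOrb1P5, topOrb1P6, topOrb1P7, topOrb1P8, topOrb1P9, topOrb1P10, topOrb1P11, topOrb1P12, topOrb1P13, topOrb1P14, topOrb1P15, topOrb1P16, topOrb1P17, topOrb1P18, topOrb1P19, topOrb1P20, topOrb1P21, topOrb1P22, topOrb1P23, topOrb1P24, topOrb1P25, topOrb1P26, topOrb1P27, topOrb1P28, topOrb1P29, topOrb1P30, topOrb1P31].flatten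

/-- a level -/
noncomputable def topLev1 : CLev := ⟨13, [[2],
  [4],
  [1],
  [5,0,0],
  [4,0,2,0,3,3,0,5],
  [4,3,0,2,0,2,2,1,5],
  [0,3,0,2,0,2,2,1],
  [0,3,0,2,2,1]], topOrb1⟩

/-- part 0 of `topOrb2` -/
noncomputable def topOrb2P0 : List (ℕ × List ℕ) := [
  (2,[]),
  (11,[0]),
  (750,[1]),
  (2307,[2]),
  (12,[0,0]),
  (208,[0,1]),
  (1816,[0,2]),
  (789,[1,1]),
  (3417,[1,2]),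
  (78,[1,3]),
  (489,[1,4]),
  (105,[2,1]),
  (1258,[2,2]),
  (566,[2,3]),
  (986,[2,4]),
  (10,[0,0,0]),
  (880,[0,0,1]),
  (2398,[0,0,2]),
  (642,[0,1,1]),
  (1152,[0,1,2]),
  (17,[0,1,3]),
  (230,[0,1,4]),
  (116,[0,2,1]),
  (1294,[0,2,2]),
  (135,[0,2,3]),
  (1232,[0,2,4]),
  (856,[1,1,1]),
  (103,[1,1,2]),
  (383,[1,1,3]),
  (887,[1,1,4]),
  (556,[1,2,1]),
  (2903,[1,2,2]),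
  (1904,[1,2,3]),
  (1064,[1,2,4]),
  (110,[1,3,1]),
  (786,[1,3,2]),
  (1655,[1,4,2]),
  (2843,[2,1,1]),
  (120,[2,1,3]),
  (214,[2,1,4]),
  (1162,[2,2,1]),
  (1857,[2,2,3]),
  (324,[2,2,4]),
  (2791,[2,3,1]),
  (1189,[2,3,4]),
  (1797,[2,4,1]),
  (1180,[0,0,0,2]),
  (205,[0,0,1,1]),
  (3058,[0,0,1,2]),
  (94,[0,0,1,3]),
  (387,[0,0,2,1]),
  (544,[0,0,2,3]),
  (141,[0,0,2,4]),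
  (244,[0,1,1,2]),
  (1078,[0,1,2,2]),
  (895,[0,1,2,3]),
  (426,[0,1,2,4]),
  (2029,[0,1,3,2]),
  (1060,[0,1,4,2]),
  (603,[0,2,1,3]),
  (88,[0,2,1,4]),
  (2375,[0,2,2,1]),
  (2092,[0,2,3,1]),
  (3485,[0,2,3,4]),
  (776,[0,2,4,1]),
  (2192,[1,1,1,2]),
  (846,[1,1,1,3]),
  (1781,[1,1,2,1]),
  (118,[1,1,2,4]),
  (853,[1,1,3,2]),
  (3251,[1,1,4,2]),
  (2075,[1,2,1,1]),
  (572,[1,2,1,4]),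
  (989,[1,2,2,1]),
  (1800,[1,2,2,2]),
  (606,[1,2,2,3]),
  (481,[1,2,3,4]),
  (2068,[1,2,4,2]),
  (998,[1,3,2,2]),
  (1791,[1,3,2,3]),
  (898,[1,3,2,4]),
  (1893,[1,4,2,1]),
  (779,[1,4,2,2]),
  (2020,[2,1,1,3]),
  (2022,[2,1,3,2]),
  (70,[2,1,3,4]),
  (1176,[2,1,4,1]),
  (3354,[2,1,4,2]),
  (764,[2,2,1,2]),
  (2301,[2,2,1,3]),
  (1450,[2,2,1,4]),
  (2377,[2,2,4,1]),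
  (250,[2,3,1,1]),
  (629,[2,3,1,3]),
  (1808,[2,3,4,1]),
  (2001,[2,4,1,1]),
  (1340,[2,4,1,3]),
  (258,[0,0,0,2,1]),
  (906,[0,0,0,2,4]),
  (1044,[0,0,1,2,2])]

/-- part 1 of `topOrb2` -/
noncomputable def topOrb2P1 : List (ℕ × List ℕ) := [
  (2586,[0,0,1,2,4]),
  (90,[0,0,2,1,4]),
  (638,[0,1,2,2,3]),
  (3710,[0,1,2,3,4]),
  (1274,[0,1,4,2,1]),
  (74,[0,2,1,3,4]),
  (1792,[0,2,1,4,2]),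
  (616,[0,2,2,1,2]),
  (857,[0,2,2,1,3]),
  (850,[0,2,2,1,4]),
  (408,[0,2,3,1,3]),
  (1007,[0,2,4,1,1]),
  (2465,[1,1,2,1,4]),
  (1902,[1,1,2,4,2]),
  (1000,[1,1,3,2,2]),
  (2707,[1,2,1,4,1]),
  (2382,[1,2,3,4,1]),
  (1059,[1,2,4,2,3]),
  (2233,[2,2,4,1,3]),
  (254,[2,3,1,1,3])]

/-- certificate data -/
noncomputable def topOrb2 : List (ℕ × List ℕ) :=
  [topOrb2P0, topOrb2P1].flatten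

/-- a level -/
noncomputable def topLev2 : CLev := ⟨2, [[5,0,0],
  [4,0,2,0,3,3,0,5],
  [4,3,0,2,0,2,2,1,5],
  [0,3,0,2,0,2,2,1],
  [0,3,0,2,2,1]], topOrb2⟩

/-- part 0 of `topOrb3` -/
noncomputable def topOrb3P0 : List (ℕ × List ℕ) := [
  (65,[]),
  (372,[0]),
  (578,[1]),
  (579,[0,1])]

/-- certificate data -/
noncomputable def topOrb3 : List (ℕ × List ℕ) :=
  [topOrb3P0].flatten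

/-- a level -/
noncomputable def topLev3 : CLev := ⟨65, [[0,3,0,2,0,2,2,1],
  [0,3,0,2,2,1]], topOrb3⟩

/-- chain of the whole group -/
noncomputable def topChain : List CLev := [topLev0, topLev1, topLev2, topLev3]

end CfsgLib.LyPres
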