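import Cfsg.Agent.Lib.TwistCoset.Closure
import Cfsg.Agent.Lib.LyPres.DataA

/-!
The certified double cosets.
-/

set_option autoImplicit false
set_option linter.style.longLine false

namespace CfsgLib.LyPres
open CfsgLib.CosetEnum CfsgLib.TwistCoset
/-- part 0 of `twFacts` -/
noncomputable def twFactsP0 : List (Fact) := [
  .stab 0 [0],
  .stab 0 [2],
  .stab 0 [4],
  .stab 0 [6],
  .edge 0 [] 1 [],
  .edge 1 [] 0 [0,0],
  .stab 1 [2,4,2,5,3,4,3,5],
  .stab 1 [3,3,0,4,1,2,4,2],
  .stab 1 [0,3,0,5,1,2,1],
  .stab 1 [3,1,2,4,3,0,2],
  .stab 1 [0,6,6],
  .stab 1 [1,1,2,1,3],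
  .stab 1 [0,2,2,0,3,3,1],
  .edge 1 [2] 1 [0,3,3,0,2,2,1],
  .edge 1 [0,3,3,0,2,2,1] 1 [0,0,2]]

/-- part 1 of `twFacts` -/
noncomputable def twFactsP1 : List (Fact) := [
  .edge 1 [2,7] 2 [],
  .edge 2 [] 1 [0,0,2,6],
  .stab 2 [0,0,0],
  .stab 2 [2,1,3],
  .edge 1 [4,6,4,2,0,3,6,4,6] 1 [6,5,3,5,3,3,0,6,5,1,4,6,4,3,3],
  .edge 1 [6,5,3,5,3,3,0,6,5,1,4,6,4,3,3] 1 [4,6,4,2,1,3,7,4,4,6],
  .edge 1 [7] 3 [],
  .edge 3 [] 1 [0,0,6],
  .stab 3 [0,3,3,1,2,1],
  .stab 3 [2,0,2,2,0,2],
  .edge 1 [5,2,1,3,6,4,3,6] 4 [],
  .edge 4 [] 1 [5,2,0,3,6,4,4,3,6],
  .stab 4 [3,0,4,2,1,3,3,5,3],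
  .stab 4 [2,4,4,0,5,0,4,3],
  .stab 4 [3,0,2,4,3,1,4,2]]

/-- part 2 of `twFacts` -/
noncomputable def twFactsP2 : List (Fact) := [
  .stab 4 [3,3,0,5,2,5,0,5,0],
  .edge 2 [4,6,4,2,0,3,6,4,6] 2 [2,4,2,6,4,1,2,4,6,2,5,5,3,3,0],
  .edge 2 [2,4,2,6,4,1,2,4,6,2,5,5,3,3,0] 2 [4,6,4,2,1,3,7,4,4,6],
  .edge 3 [2] 2 [0,3,3,0,2,2,1],
  .edge 2 [0,3,3,0,2,2,1] 3 [0,0,2],
  .edge 3 [2,5,5,1,3,7,4,1,2,4,6,4,4] 2 [2,4,4,3,6,5,1,2,5,6,2,4,0],
  .edge 2 [2,4,4,3,6,5,1,2,5,6,2,4,0] 3 [2,5,5,1,3,6,5,0,2,4,4,6,4],
  .edge 4 [3,1,5,1,6,5,3,0,5,6,2,1,5,3,0] 1 [4,2,5,1,5,3,0,4,7,1,4,6,4,1],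
  .edge 1 [4,2,5,1,5,3,0,4,7,1,4,6,4,1] 4 [3,1,5,1,7,4,3,0,4,6,2,1,4,3,1],
  .edge 3 [2,2,0,3,5,3,7] 2 [2,4,2,1,6,4,3,6,4,2,1,3,4,2],
  .edge 2 [2,4,2,1,6,4,3,6,4,2,1,3,4,2] 3 [2,2,1,3,5,5,3,7],
  .edge 4 [3,6,5,1,2,5,7,4,2] 1 [4,3,3,5,1,4,3,5,5,7,5,6,3],
  .edge 1 [4,3,3,5,1,4,3,5,5,7,5,6,3] 4 [3,6,5,1,2,5,7,4,2,0,0],
  .edge 4 [0,3,4,2,1,4,7] 4 [3,5,5,6,5,1,2,5,6,0,3,5,6,3,3],
  .edge 4 [3,5,5,6,5,1,2,5,6,0,3,5,6,3,3] 4 [0,3,4,2,0,5,5,6]]

/-- part 3 of `twFacts` -/
noncomputable def twFactsP3 : List (Fact) := [
  .edge 4 [1,6,4,1,2,4,6] 3 [5,2,0,5,0,6,5,6,4,6,5,6,5,5,2,0],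
  .edge 3 [5,2,0,5,0,6,5,6,4,6,5,6,5,5,2,0] 4 [1,6,4,0,2,5,5,7],
  .edge 3 [0,3,5,1,2,5,2,7] 4 [3,5,0,6,5,0,2,4,6,4,2,1,4,0],
  .edge 4 [3,5,0,6,5,0,2,4,6,4,2,1,4,0] 3 [0,3,5,0,2,4,4,2,6],
  .edge 2 [2,4,0,4,6,4,3,3,4,6,3,4,4,6,0] 2 [0,2,5,6,4,1,2,4,7,2,4,0,4,3,3],
  .edge 2 [0,2,5,6,4,1,2,4,7,2,4,0,4,3,3] 2 [2,4,0,4,7,5,3,3,5,6,3,5,5,6,1],
  .edge 2 [4,3,5,1,3,3,5,7] 2 [2,1,5,3,3,0,5,6,4,2,2,1,5,2],
  .edge 2 [2,1,5,3,3,0,5,6,4,2,2,1,5,2] 2 [4,3,5,0,3,3,4,4,6],
  .edge 2 [2,4,4,0,4,3,7] 2 [0,2,5,5,2,4,1,7,5,6,4,0,2,0],
  .edge 2 [0,2,5,5,2,4,1,7,5,6,4,0,2,0] 2 [2,4,4,1,4,4,3,7],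
  .edge 4 [0,5,6,4,1,2,4,2,7,5,1,5,3,1] 2 [5,5,2,4,7,4,3,0,4,6,2,5,3,5,3],
  .edge 2 [5,5,2,4,7,4,3,0,4,6,2,5,3,5,3] 4 [0,5,6,4,1,2,4,2,7,5,1,5,3,0],
  .stab 3 [0,5,2,0,3,6,5,2,6,1,3,4,0],
  .edge 3 [2,7] 3 [1,3,5,0,6,5,1,2,5,6,5,1,4,3,5],
  .edge 3 [1,3,5,0,6,5,1,2,5,6,5,1,4,3,5] 3 [0,0,2,6]]

/-- part 4 of `twFacts` -/
noncomputable def twFactsP4 : List (Fact) := [
  .stab 4 [4,6,4,3,0,2,4,2,4,6,2,0,3,5],
  .edge 4 [2,0] 4 [3,0,5,3,3,0,4,1,5],
  .edge 4 [3,0,5,3,3,0,4,1,5] 4 [0,0,2,0],
  .edge 4 [2,7] 2 [3,6,5,1,2,5,6,5,3,4,0,2,4,6],
  .edge 2 [3,6,5,1,2,5,6,5,3,4,0,2,4,6] 4 [0,0,2,6],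
  .edge 4 [5,5,1,4,1,5,7] 2 [3,5,5,2,6,4,7,4,1,2,5,6,4,2],
  .edge 2 [3,5,5,2,6,4,7,4,1,2,5,6,4,2] 4 [5,5,1,4,0,4,4,6],
  .edge 4 [3,6,5,1,2,5,7,5,2,2,0,3,3] 4 [1,5,5,3,5,2,4,7,5,6,0,5,2,2,0],
  .edge 4 [1,5,5,3,5,2,4,7,5,6,0,5,2,2,0] 4 [3,6,5,1,2,5,6,4,2,2,1,3,3],
  .stab 4 [3,5,6,4,3,1,4,4,6,3,4,0,2,4],
  .edge 4 [3,4,2,0,5,3,6,4,0,2,5,5,6,4] 2 [1,2,6,5,2,5,7,4,1,5,5,6,2,4,0],
  .edge 2 [1,2,6,5,2,5,7,4,1,5,5,6,2,4,0] 4 [0,3,1,5,1,5,7,4,4,0,2,4,6],
  .stab 2 [6,5,3,4,2,4,4,7,5,3,4,2,4,4,1],
  .edge 4 [5,5,0,4,0,4,7] 4 [2,2,1,4,3,1,2,6,5,6,5,1,2,4],
  .edge 4 [2,2,1,4,3,1,2,6,5,6,5,1,2,4] 4 [5,5,0,4,1,4,4,7]]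

/-- part 5 of `twFacts` -/
noncomputable def twFactsP5 : List (Fact) := [
  .edge 4 [6,5,2,2,5,1,5,7,5,1,5,0] 3 [1,3,5,2,4,4,3,7,5,1,2,5,0,3],
  .edge 3 [1,3,5,2,4,4,3,7,5,1,2,5,0,3] 4 [6,5,2,2,5,1,5,6,4,1,4,1],
  .edge 4 [4,2,0,3,6,4,3,6] 3 [3,1,2,2,5,0,6,5,7,2,0,2,2,4],
  .edge 3 [3,1,2,2,5,0,6,5,7,2,0,2,2,4] 4 [4,2,1,3,6,5,5,3,7],
  .edge 2 [2,0,3,6,4,6,5,1,5,0,4,2,5,3] 4 [0,3,4,0,3,0,2,7,4,2,4],
  .edge 4 [0,3,4,0,3,0,2,7,4,2,4] 2 [2,0,3,6,4,3,0,6,4,1,3,4,2,2],
  .edge 2 [4,0,4,1,5,0,5,7] 4 [2,0,5,2,4,2,2,6,5,3,5,6,0,3],
  .edge 4 [2,0,5,2,4,2,2,6,5,3,5,6,0,3] 2 [4,0,4,1,5,1,5,5,7],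
  .edge 2 [1,3,4,2,4,3,5,6,5,0,2,5,2] 2 [4,1,4,2,7,4,3,0,4,6,5,2,0,4],
  .edge 2 [4,1,4,2,7,4,3,0,4,6,5,2,0,4] 2 [1,3,4,2,4,3,5,7,4,1,2,4,4,2],
  .edge 2 [0,4,1,4,0,6,5,2,2,1,3] 2 [3,4,0,2,1,5,3,7,5,0,2,2,4,6],
  .edge 2 [3,4,0,2,1,5,3,7,5,0,2,2,4,6] 2 [0,4,1,4,0,6,5,2,2,0,3],
  .edge 2 [2,5,3,4,3,3,5,0,6,5,3,5,5,2] 2 [3,6,4,4,0,4,6,5,0,5,6,2,5,6,5],
  .edge 2 [3,6,4,4,0,4,6,5,0,5,6,2,5,6,5] 2 [2,5,3,4,3,3,5,1,6,4,4,3,5,2],
  .edge 2 [3,4,3,0,3,4,3,7] 2 [4,0,4,6,4,6,4,7,4,0,5,2,5,0,2]]

/-- part 6 of `twFacts` -/
noncomputable def twFactsP6 : List (Fact) := [
  .edge 2 [4,0,4,6,4,6,4,7,4,0,5,2,5,0,2] 2 [3,4,3,1,3,4,4,3,7],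
  .edge 2 [4,1,6,5,5,6,5,2,4,3,4,0,0] 2 [4,2,4,0,0,3,6,4,6,5,6,4,0,3,3],
  .edge 2 [4,2,4,0,0,3,6,4,6,5,6,4,0,3,3] 2 [4,1,6,5,5,7,4,2,5,3,5],
  .edge 2 [3,4,3,0,3,4,3,7,5,2] 2 [4,2,6,4,6,4,1,5,7,5,3,5,6,2,0],
  .edge 2 [4,2,6,4,6,4,1,5,7,5,3,5,6,2,0] 2 [3,4,3,0,3,4,3,7,5,2,0,0],
  .edge 2 [1,3,3,4,0,3,1,5,7,1,5,2,1,3] 4 [2,4,0,4,0,6,4,2,0,3,3,0,5,6,2,0],
  .edge 4 [2,4,0,4,0,6,4,2,0,3,3,0,5,6,2,0] 2 [5,3,6,5,2,0,2,7,5,2,2,4,6],
  .edge 2 [6,5,2,6,4,4,2,6,5,5,6,3,4,1,4] 2 [6,4,6,5,2,1,4,1,7,2,2,0,5,0],
  .edge 2 [6,4,6,5,2,1,4,1,7,2,2,0,5,0] 2 [2,5,2,5,7,4,1,4,2,4,6,5,6,5,3],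
  .edge 2 [3,5,0,2,2,6,4,0,3,0,5,5] 2 [2,0,5,0,4,6,4,3,7,1,4,2,5,0],
  .edge 2 [2,0,5,0,4,6,4,3,7,1,4,2,5,0] 2 [3,5,0,2,2,7,5,1,3,0,5],
  .edge 2 [0,5,1,4,1,5,7,5,3,4,2] 2 [3,6,4,3,3,5,7,4,3,4,6,2,5,1,3],
  .edge 2 [3,6,4,3,3,5,7,4,3,4,6,2,5,1,3] 2 [0,5,1,4,1,5,7,5,3,4,2,0,0],
  .edge 2 [2,4,4,3,5,1,6] 2 [3,5,5,1,5,6,5,5,7,3,3,0,4,2],
  .edge 2 [3,5,5,1,5,6,5,5,7,3,3,0,4,2] 2 [2,4,4,3,5,0,7]]

/-- part 7 of `twFacts` -/
noncomputable def twFactsP7 : List (Fact) := [
  .edge 2 [1,3,4,6,5,2,2,7,4,3,4,3] 4 [6,4,0,3,1,5,2,7,4,1,4,4,3,4],
  .edge 4 [6,4,0,3,1,5,2,7,4,1,4,4,3,4] 2 [3,1,2,5,2,0,3,4,7,3,4,6,4],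
  .edge 2 [4,3,6,5,2,4,3,6,4,2] 2 [6,4,0,3,1,7,5,3,4,3,1,5,6,4,6],
  .edge 2 [6,4,0,3,1,7,5,3,4,3,1,5,6,4,6] 2 [4,3,6,5,2,4,3,6,4,2,0,0],
  .edge 2 [4,0,5,2,4,2,1,3,6,5,3] 3 [4,1,4,3,5,6,5,3,6,0,4,0,2],
  .edge 3 [4,1,4,3,5,6,5,3,6,0,4,0,2] 2 [4,0,5,2,4,2,0,3,7,4,4,3],
  .edge 3 [2,1,4,3,5,3,0,3,5,6,5,3,3,0] 3 [0,3,4,4,2,4,3,7,5,3,4,2,0,2,0],
  .edge 3 [0,3,4,4,2,4,3,7,5,3,4,2,0,2,0] 3 [2,1,4,3,5,3,0,3,5,7,4,3,3,1],
  .edge 3 [5,0,4,0,4,0,6,5,0,5] 3 [1,3,4,0,3,3,6,5,2,5,6,4,6,0],
  .edge 3 [1,3,4,0,3,3,6,5,2,5,6,4,6,0] 3 [5,0,4,0,4,0,7,4,1,4,4],
  .edge 4 [3,5,0,2,2,6,5,3,5] 4 [0,3,4,7,4,4,2,0,5,3,0,5,2,1],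
  .edge 4 [0,3,4,7,4,4,2,0,5,3,0,5,2,1] 4 [3,5,0,2,2,6,5,3,5,0,0],
  .edge 4 [1,4,0,6,4,1,3,6,4,0,4,1,3] 4 [3,5,2,4,3,6,5,3,0,2,4,6,0,4,0],
  .edge 4 [3,5,2,4,3,6,5,3,0,2,4,6,0,4,0] 4 [1,4,0,6,4,1,3,6,4,0,4,0,3]]

/-- certificate data -/
noncomputable def twFacts : List (Fact) :=
  [twFactsP0, twFactsP1, twFactsP2, twFactsP3, twFactsP4, twFactsP5, twFactsP6, twFactsP7].flatten

/-- part 0 of `twJust` -/
noncomputable def twJustP0 : List (Just) := [
  .base,
  .base,
  .base,
  .base,
  .def',
  .rev 4,
  .ubase [(0,false)],
  .ubase [(1,false)],
  .ubase [(2,false)],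
  .ubase [(3,false)]]

/-- part 1 of `twJust` -/
noncomputable def twJustP1 : List (Just) := [
  .ubase [(5,false)],
  .ubase [(6,false)],
  .ubase [(7,false)],
  .path 0 [⟨5,[],[(5,false),(6,false),(7,true)]⟩,⟨4,[(1,false)],[]⟩],
  .rev 13,
  .def',
  .rev 15,
  .lift 1 [1,2,4,3,0,4,2,0,6] ⟨15,[(11,false),(6,false)],[]⟩ ⟨15,[(9,false),(8,false),(9,false),(8,false),(9,false)],[(5,true)]⟩,
  .lift 1 [1,3,5,0,3,5,3,3,7,0,2] ⟨15,[(11,false),(12,false),(8,false),(10,false),(8,false),(6,false),(6,false)],[]⟩ ⟨15,[(7,false),(9,false),(9,false),(6,false),(11,false),(10,false),(6,false)],[(5,false),(5,false),(6,false)]⟩,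
  .path 1 [⟨5,[],[(7,false),(5,false),(3,true),(6,true),(2,true)]⟩,⟨4,[(0,false),(2,false),(0,false),(3,false),(2,false),(2,false),(0,false),(1,false),(2,false),(3,false)],[(0,false),(7,false),(3,true),(5,true),(2,false),(7,false)]⟩]]

/-- part 2 of `twJust` -/
noncomputable def twJustP2 : List (Just) := [
  .rev 19,
  .def',
  .rev 21,
  .lift 1 [3,5,5,3,1,2,5,1,7] ⟨21,[(9,false),(12,false),(7,false),(7,false),(11,false),(7,false)],[]⟩ ⟨21,[(6,false),(10,false),(8,false),(9,false),(8,false),(6,false),(6,false)],[(5,false),(7,true),(6,true)]⟩,
  .lift 1 [3,3,4,3,5,0,3,5,6,3] ⟨21,[(9,false),(9,false),(12,false),(7,false),(8,false),(6,false)],[]⟩ ⟨21,[(10,false),(6,false),(7,false),(11,false),(12,false),(7,false)],[(6,false),(7,true),(6,true),(5,true)]⟩,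
  .def',
  .rev 25,
  .lift 1 [1,4,0,5,2,4,1,3,7,0,4,6,3] ⟨25,[(6,false),(11,false),(10,false),(7,false),(11,false)],[]⟩ ⟨25,[(10,false),(12,false),(6,false),(11,false),(9,false),(12,false)],[(6,false),(2,false),(5,false),(7,false),(0,false),(6,false)]⟩,
  .lift 1 [0,0,5,2,4,4,3,7,4,6,3] ⟨25,[(12,false),(8,false),(12,false),(11,false),(9,false),(7,false)],[]⟩ ⟨25,[(7,false),(8,false),(10,false),(12,false),(8,false),(8,false)],[(6,false),(3,false),(6,false),(0,true),(1,false)]⟩,
  .lift 1 [2,5,2,1,3,4,0,3,7,4,6,3] ⟨25,[(8,false),(9,false),(12,false),(8,false),(7,false)],[]⟩ ⟨25,[(6,false),(12,false),(7,false),(7,false),(7,false),(6,false),(7,false)],[(1,false),(1,false),(3,false)]⟩]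

/-- part 3 of `twJust` -/
noncomputable def twJustP3 : List (Just) := [
  .lift 1 [5,3,0,3,4,1,4,3,6,3,4,6,3] ⟨25,[(8,false),(10,false),(7,false),(8,false),(7,false)],[]⟩ ⟨25,[(10,false),(7,false),(10,false),(9,false),(10,false)],[(4,false),(7,false),(2,true),(3,true),(6,false),(5,false)]⟩,
  .path 1 [⟨16,[],[(7,false),(5,false),(3,true),(6,true),(2,true)]⟩,⟨15,[(11,false),(12,false),(11,false),(7,false)],[(0,false),(6,true),(7,true),(2,false),(3,false),(5,false)]⟩],
  .rev 31,
  .path 0 [⟨22,[],[(5,false),(6,false),(7,true)]⟩,⟨15,[],[]⟩],
  .rev 33,
  .path 2 [⟨22,[],[(5,true),(6,true),(5,true),(2,true),(6,true),(1,false)]⟩,⟨15,[(10,false),(12,false),(6,false)],[(0,true),(7,false),(6,false),(5,true),(3,false),(6,false),(7,false)]⟩],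
  .rev 35,
  .path 3 [⟨26,[],[(5,false),(7,true),(3,true),(5,true)]⟩,⟨19,[(9,false),(7,false),(7,false),(7,false)],[(4,false),(5,false),(2,false),(6,false),(5,false),(0,false)]⟩],
  .rev 37,
  .path 8 [⟨22,[],[(7,false),(3,true),(5,false),(5,false)]⟩,⟨19,[(11,false)],[(4,false),(7,true),(6,true),(5,true),(3,true),(5,true)]⟩,⟨15,[(6,false),(7,false),(12,false),(10,false),(8,false)],[(3,false),(4,false),(6,false),(5,false),(2,false),(5,false)]⟩]]

/-- part 4 of `twJust` -/
noncomputable def twJustP4 : List (Just) := [
  .rev 39,
  .path 3 [⟨37,[(27,false),(27,false)],[(1,false),(4,false),(7,false),(1,true),(1,true)]⟩,⟨19,[(8,false),(8,false),(7,false),(7,false)],[(1,false),(7,false),(0,false),(6,false),(2,true),(7,false)]⟩],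
  .rev 41,
  .path 7 [⟨26,[],[(5,false),(2,false),(1,false),(5,false)]⟩,⟨19,[(10,false),(10,false),(7,false),(7,false)],[(1,false),(3,false),(5,false),(7,false),(0,true),(7,false)]⟩,⟨25,[(9,false),(8,false),(10,false),(11,false)],[(2,false),(0,false),(1,false)]⟩],
  .rev 43,
  .path 2 [⟨26,[],[(0,false),(0,false)]⟩,⟨21,[(7,false),(10,false),(6,false),(8,false)],[(5,false),(7,true),(3,false),(5,false)]⟩],
  .rev 45,
  .path 7 [⟨22,[],[(1,false),(4,false),(6,true),(2,true),(7,true)]⟩,⟨19,[(11,false),(9,false),(8,false)],[(0,false),(5,false),(5,false),(3,false),(0,false)]⟩,⟨25,[(11,false),(8,false),(6,false),(8,false)],[(0,false),(5,false),(7,false),(3,false),(7,false),(3,false)]⟩],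
  .rev 47,
  .path 0 [⟨36,[(17,false),(18,false)],[(3,false),(6,false),(7,false),(5,false),(0,true),(6,false),(5,true)]⟩,⟨35,[(24,false),(24,false),(24,false),(23,false),(23,false),(23,false)],[(2,false),(6,true),(5,true),(3,false),(6,false)]⟩]]

/-- part 5 of `twJust` -/
noncomputable def twJustP5 : List (Just) := [
  .rev 49,
  .path 5 [⟨16,[],[(5,true),(1,true),(6,true),(3,false),(7,true),(3,true)]⟩,⟨19,[(10,false),(10,false),(8,false),(7,false)],[(0,false),(7,true),(0,false),(2,true),(3,true)]⟩,⟨15,[(12,false),(6,false),(11,false),(9,false),(10,false)],[(6,true),(1,false),(7,false),(5,false),(2,true),(6,false)]⟩],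
  .rev 51,
  .path 7 [⟨16,[],[(5,false),(3,true),(5,false),(2,false),(6,false)]⟩,⟨21,[(11,false),(9,false),(9,false)],[(1,true),(1,true),(0,true),(3,true)]⟩,⟨39,[(23,false),(24,false),(24,false),(23,false),(24,false)],[(5,true),(5,true),(6,true)]⟩],
  .rev 53,
  .path 3 [⟨26,[],[(0,false),(1,false),(6,false),(0,false),(5,false),(6,false),(7,false)]⟩,⟨15,[(8,false),(11,false),(10,false),(12,false),(11,false),(9,false)],[(6,false),(1,false),(5,false),(7,false),(6,true),(2,true),(5,false)]⟩],
  .rev 55,
  .loop 1 [] [⟨22,[],[(5,true),(5,true)]⟩,⟨5,[],[(5,false),(5,false)]⟩,⟨4,[(2,false),(1,false),(0,false),(2,false),(2,false),(0,false),(3,false),(2,false),(3,false),(0,false),(1,false)],[(5,false),(6,false),(5,false),(3,true),(6,false),(3,true)]⟩,⟨21,[(10,false),(7,false),(7,false),(8,false),(6,false)],[(5,false),(6,false),(5,true)]⟩],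
  .path 0 [⟨46,[(57,false)],[(1,false),(5,false),(5,false),(0,false),(3,false),(5,false)]⟩,⟨45,[(29,false),(27,false),(27,false)],[(0,false),(7,false),(3,true),(7,true)]⟩],
  .rev 58]

/-- part 6 of `twJust` -/
noncomputable def twJustP6 : List (Just) := [
  .lift 3 [0,2,4,2,4,2,2,4,6,0,5,0,5,3] ⟨46,[(23,false),(24,false),(57,false),(24,false),(57,false),(23,false)],[]⟩ ⟨46,[(24,false),(23,false),(24,false),(57,false),(24,false),(23,false),(57,false),(23,false)],[(3,true),(5,false),(7,false),(6,true),(5,true),(3,false)]⟩,
  .path 0 [⟨26,[],[(5,false),(6,false),(5,false),(7,true)]⟩,⟨25,[(11,false),(9,false),(11,false),(8,false),(7,false)],[(6,false),(1,false),(7,false),(3,true),(5,false),(6,false)]⟩],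
  .rev 61,
  .path 7 [⟨61,[],[(5,false)]⟩,⟨26,[(29,false),(27,false),(60,false)],[(7,false),(6,false),(3,false),(7,false)]⟩,⟨15,[(12,false),(11,false),(9,false),(10,false),(6,false)],[(7,false),(1,false),(6,false),(4,false),(5,false),(2,true)]⟩],
  .rev 63,
  .path 7 [⟨26,[],[(1,false),(4,true),(4,true)]⟩,⟨21,[(12,false),(9,false),(11,false),(7,false)],[(4,false),(6,true),(3,false),(6,true),(7,true),(6,true)]⟩,⟨35,[(24,false),(24,false),(57,false),(24,false),(57,false),(23,false),(57,false),(24,false),(23,false),(23,false)],[(2,false),(6,true),(5,true),(1,false),(2,false),(7,false)]⟩],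
  .rev 65,
  .path 2 [⟨48,[(60,false),(29,false),(30,false),(27,false)],[(3,true),(4,true),(5,true),(6,true),(3,true),(7,true)]⟩,⟨46,[(57,false)],[(6,true),(7,true),(6,true),(1,false),(6,true),(1,true)]⟩],
  .rev 67,
  .loop 0 [4,3,6,4,1,2,4,6] [⟨37,[],[(5,true),(6,true),(1,true),(6,true),(2,true),(6,true)]⟩,⟨25,[(7,false),(7,false),(6,false),(7,false)],[(6,false),(1,true),(3,true),(5,true),(2,false),(7,false)]⟩,⟨61,[(30,false),(27,false)],[(0,false),(5,false),(5,false),(5,false),(4,false),(6,false),(3,true)]⟩]]

/-- part 7 of `twJust` -/
noncomputable def twJustP7 : List (Just) := [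
  .path 0 [⟨48,[(69,false),(28,false),(30,false),(60,false),(27,false),(69,false)],[(0,false),(4,true),(7,true),(6,true),(3,false),(5,false)]⟩,⟨35,[(24,false),(23,false),(23,false),(24,false),(57,false),(24,false)],[(0,false),(5,true),(4,false),(6,true),(3,true),(7,true)]⟩],
  .rev 70,
  .lift 4 [5,3,5,6,4,1,2,1,4,6,5,2,2,4,1,2] ⟨65,[(60,false),(60,false),(29,false),(30,false),(69,false),(29,false)],[]⟩ ⟨65,[(27,false),(30,false),(69,false),(69,false),(27,false),(60,false)],[(5,false),(2,false),(5,false),(6,false),(1,true),(6,false)]⟩,
  .path 1 [⟨65,[(69,false),(30,false),(30,false),(30,false),(28,false)],[(6,false),(7,false),(0,false),(6,false),(5,true),(3,false)]⟩,⟨71,[(17,false),(72,false),(18,false),(17,false),(17,false)],[(6,true),(2,false),(5,false),(6,true),(7,true),(3,false)]⟩],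
  .rev 73,
  .path 6 [⟨63,[(29,false),(30,false),(27,false),(60,false)],[(1,false),(6,true),(2,false),(1,true),(5,false),(7,true),(6,true)]⟩,⟨49,[(17,false),(72,false),(18,false),(17,false),(72,false),(17,false),(18,false),(17,false)],[(2,false),(5,false),(7,false),(2,true),(6,false),(2,true),(5,true)]⟩,⟨36,[(18,false),(17,false),(72,false),(18,false),(17,false),(72,false),(17,false),(72,false)],[(5,false),(6,true),(3,false),(5,false),(7,false),(6,false),(2,true)]⟩],
  .rev 75,
  .path 9 [⟨70,[(60,false),(28,false),(27,false),(27,false),(69,false)],[(3,false),(5,false),(2,false),(7,false),(5,true)]⟩,⟨36,[(18,false),(17,false),(18,false),(17,false),(72,false),(18,false),(17,false)],[(3,false),(5,false),(1,true),(6,false),(7,true),(2,false)]⟩,⟨58,[(23,false)],[(0,false),(7,true),(2,true),(4,true),(5,true),(6,true)]⟩],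
  .rev 77,
  .path 3 [⟨36,[(18,false),(17,false),(72,false),(17,false)],[(0,false),(6,false),(7,true),(0,false),(6,false),(3,true),(5,true)]⟩,⟨78,[(24,false),(23,false),(23,false),(57,false),(24,false),(23,false),(23,false),(24,false)],[(2,false),(2,false),(7,false),(2,true),(5,true),(6,true),(5,true)]⟩]]

/-- part 8 of `twJust` -/
noncomputable def twJustP8 : List (Just) := [
  .rev 79,
  .path 7 [⟨16,[],[(5,false),(5,false),(5,false),(4,false)]⟩,⟨25,[(10,false),(7,false),(11,false),(6,false),(7,false)],[(0,false),(0,false),(7,true),(0,true),(3,false),(5,true)]⟩,⟨73,[(69,false),(60,false),(29,false),(30,false),(30,false)],[(5,false),(7,false),(6,false),(3,true),(5,false),(3,true),(7,false)]⟩],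
  .rev 81,
  .path 0 [⟨49,[(17,false),(72,false),(17,false),(17,false),(72,false),(18,false)],[(0,false),(6,true),(2,true),(4,true),(7,true),(3,true)]⟩,⟨49,[(18,false),(17,false),(17,false),(17,false),(17,false),(17,false)],[(3,false),(0,true),(5,true),(6,true),(7,true),(0,false)]⟩],
  .rev 83,
  .path 2 [⟨81,[(72,false),(18,false),(72,false),(17,false),(72,false),(17,false),(17,false)],[(7,false),(3,true),(5,false),(6,true),(1,true),(7,false),(5,false)]⟩,⟨70,[(28,false),(69,false),(69,false),(60,false),(60,false),(29,false)],[(3,false),(5,false),(3,false),(4,false),(6,false)]⟩],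
  .rev 85,
  .path 2 [⟨50,[(17,false),(72,false),(18,false),(17,false),(72,false),(18,false)],[(7,false),(0,false),(6,true),(2,false),(5,false),(7,false)]⟩,⟨86,[(17,false),(17,false),(17,false),(17,false),(72,false),(17,false),(17,false),(17,false)],[(1,false),(7,true),(2,true),(4,true),(5,false)]⟩],
  .rev 87,
  .path 0 [⟨66,[(18,false),(72,false),(18,false),(17,false),(18,false),(72,false),(18,false)],[(5,true),(5,true),(1,false),(2,false)]⟩,⟨65,[(29,false),(60,false),(28,false),(69,false),(29,false)],[(0,false),(0,false),(3,false),(2,true),(5,true)]⟩]]

/-- part 9 of `twJust` -/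
noncomputable def twJustP9 : List (Just) := [
  .rev 89,
  .path 4 [⟨36,[(17,false),(18,false),(72,false),(18,false),(72,false),(17,false)],[(1,false),(5,false),(6,false),(7,true),(0,true),(6,false),(0,false)]⟩,⟨35,[(57,false),(23,false),(57,false),(24,false),(23,false),(23,false),(57,false),(24,false),(57,false),(23,false)],[(7,true),(3,true),(5,true),(6,true),(1,false),(5,true)]⟩,⟨49,[(72,false),(18,false),(72,false),(17,false),(17,false),(72,false),(17,false)],[(1,false),(1,false),(6,false),(7,false),(6,false),(0,true),(7,false)]⟩],
  .rev 91,
  .path 0 [⟨89,[],[(5,false),(1,true),(6,false),(7,true)]⟩,⟨89,[(18,false),(17,false),(72,false),(17,false),(72,false),(18,false),(17,false)],[(2,false),(6,false),(2,false),(0,true),(7,false),(6,false)]⟩],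
  .rev 93,
  .path 1 [⟨89,[(72,false),(17,false),(17,false),(17,false),(72,false),(17,false),(18,false)],[(6,false),(3,true),(7,false),(3,true)]⟩,⟨66,[(17,false),(72,false),(17,false),(17,false),(72,false),(17,false)],[(4,false),(6,true),(3,true),(5,false),(7,false),(6,false),(5,true)]⟩],
  .rev 95,
  .path 0 [⟨87,[(18,false),(17,false),(18,false),(17,false)],[(3,true),(6,false),(0,true),(3,false),(7,false)]⟩,⟨88,[(18,false),(17,false),(17,false),(17,false)],[(0,false),(5,false),(6,true),(1,true),(7,true),(3,false)]⟩],
  .rev 97,
  .path 0 [⟨79,[(17,false),(17,false),(72,false),(18,false),(72,false),(17,false),(17,false)],[(5,true),(6,true),(3,true),(0,true),(2,false)]⟩,⟨63,[(69,false),(28,false),(60,false),(27,false)],[(2,false),(6,false),(5,false),(2,false),(5,false),(5,false)]⟩]]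

/-- part 10 of `twJust` -/
noncomputable def twJustP10 : List (Just) := [
  .rev 99,
  .path 2 [⟨86,[(17,false),(18,false),(17,false),(18,false),(72,false)],[(4,false),(6,false),(7,false),(0,false),(5,false),(0,true)]⟩,⟨49,[(72,false),(18,false),(72,false),(18,false),(17,false),(18,false),(72,false),(18,false),(17,false)],[(3,false),(5,false),(6,true),(2,true),(7,false),(5,true)]⟩],
  .rev 101,
  .path 0 [⟨102,[(17,false),(18,false),(17,false),(72,false),(18,false),(17,false),(17,false),(17,false)],[(6,true),(1,false),(3,false),(0,true),(5,true)]⟩,⟨85,[(72,false),(17,false),(72,false),(17,false),(17,false),(72,false)],[(2,true),(7,true),(0,false),(1,true),(7,true)]⟩],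
  .rev 103,
  .path 6 [⟨102,[(17,false),(17,false),(17,false),(72,false),(18,false),(17,false),(72,false),(17,false)],[(1,false),(5,false),(6,true),(3,false),(6,true)]⟩,⟨50,[(17,false),(72,false),(18,false),(17,false),(17,false),(17,false),(17,false),(17,false)],[(5,false),(6,false),(4,false),(3,true),(5,false),(6,false)]⟩,⟨95,[(17,false),(18,false),(72,false),(17,false),(72,false),(17,false)],[(2,false),(7,false),(4,false),(6,true),(1,false)]⟩],
  .rev 105,
  .path 0 [⟨95,[(72,false),(18,false),(72,false),(17,false),(18,false),(17,false)],[(7,false),(6,false),(2,true),(1,true),(7,true)]⟩,⟨96,[(28,false),(27,false),(27,false),(60,false),(30,false)],[(3,false),(7,false),(3,false),(6,false),(3,true),(0,false)]⟩],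
  .rev 107,
  .path 1 [⟨83,[(18,false),(72,false),(17,false),(72,false),(17,false),(72,false)],[(2,true),(7,false),(1,true),(2,true),(6,false)]⟩,⟨36,[(17,false),(72,false),(18,false),(17,false),(72,false),(17,false),(17,false),(17,false),(17,false)],[(1,false),(6,false),(7,true),(1,true),(6,true),(3,true),(5,true)]⟩]]

/-- part 11 of `twJust` -/
noncomputable def twJustP11 : List (Just) := [
  .rev 109,
  .path 0 [⟨76,[(57,false),(23,false),(57,false),(23,false),(23,false),(57,false)],[(3,false),(7,false),(5,false),(6,true),(3,false),(7,false)]⟩,⟨75,[(60,false),(30,false),(69,false),(69,false),(30,false),(28,false)],[(5,false),(2,true),(1,false),(6,false),(7,false)]⟩],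
  .rev 111,
  .path 0 [⟨110,[(57,false),(57,false),(24,false),(57,false),(24,false),(57,false)],[(0,false),(7,false),(2,false),(6,false),(5,false),(0,true)]⟩,⟨109,[(17,false),(72,false),(17,false),(17,false),(17,false),(72,false),(18,false),(72,false),(17,false)],[(7,false),(2,false),(6,true),(1,true),(0,false)]⟩],
  .rev 113,
  .path 0 [⟨63,[(27,false),(69,false),(69,false),(29,false),(60,false),(30,false)],[(1,false),(3,false),(5,false),(7,false),(6,true),(3,true),(5,false)]⟩,⟨79,[(17,false),(17,false),(72,false),(18,false),(17,false),(18,false)],[(7,false),(6,true),(5,true),(2,true),(7,true),(1,true)]⟩],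
  .rev 115,
  .path 0 [⟨106,[(30,false),(69,false),(30,false),(60,false),(27,false),(27,false)],[(7,false),(6,false),(5,true),(2,false),(7,true),(1,true)]⟩,⟨105,[(72,false),(17,false),(72,false),(17,false),(18,false),(17,false),(72,false)],[(1,false),(0,false),(6,true),(2,false),(7,false),(6,false)]⟩],
  .rev 117]

/-- certificate data -/
noncomputable def twJust : List (Just) :=
  [twJustP0, twJustP1, twJustP2, twJustP3, twJustP4, twJustP5, twJustP6, twJustP7, twJustP8, twJustP9, twJustP10, twJustP11].flatten

/-- part 0 of `twRoots0` -/
noncomputable def twRoots0P0 : List (TRoot) := [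
  ⟨[],
    [⟨4,[],[]⟩,⟨4,[(1,false)],[]⟩,⟨4,[(0,false),(1,false)],[(5,false),(6,false),(7,false)]⟩,⟨4,[(1,false),(0,false),(1,false)],[(5,false),(6,false),(7,false)]⟩,⟨4,[(1,false),(1,false),(0,false),(1,false)],[(5,false),(6,false),(7,false)]⟩]⟩]

/-- certificate data -/
noncomputable def twRoots0 : List (TRoot) :=
  [twRoots0P0].flatten

/-- part 0 of `twTree0` -/
noncomputable def twTree0P0 : List (Leaf) := [
  .root 0,
  .child 3 false 0,
  .child 2 false 2,
  .child 2 true 2,
  .child 0 false 13,
  .child 1 false 13,
  .child 2 false 13,
  .child 3 false 13,
  .child 0 true 13,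
  .child 1 true 13,
  .child 3 true 13,
  .child 0 false 10,
  .child 1 false 10,
  .child 0 true 10,
  .child 1 true 10,
  .child 2 true 10,
  .child 1 false 65,
  .child 2 false 65,
  .child 3 false 65,
  .child 1 true 65,
  .child 2 true 65,
  .child 3 true 65,
  .child 0 false 91,
  .child 1 false 91,
  .child 2 false 91,
  .child 3 false 91,
  .child 0 true 91,
  .child 2 true 91,
  .child 3 true 91,
  .child 1 false 12,
  .child 3 false 12,
  .child 1 true 12,
  .child 3 true 12,
  .child 0 false 81,
  .child 2 false 81,
  .child 1 true 81,
  .child 2 true 81,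
  .child 1 false 66,
  .child 2 false 66,
  .child 3 false 66,
  .child 1 true 66,
  .child 2 true 66,
  .child 0 false 112,
  .child 2 false 112,
  .child 0 true 112,
  .child 1 true 112,
  .child 2 true 112,
  .child 3 true 112,
  .child 2 false 83,
  .child 2 true 83,
  .child 1 false 67,
  .child 2 false 67,
  .child 1 true 67,
  .child 2 true 67,
  .child 0 false 69,
  .child 1 false 69,
  .child 2 false 69,
  .child 0 true 69,
  .child 2 true 69,
  .child 1 false 14,
  .child 2 false 14,
  .child 1 true 14,
  .child 2 true 14,
  .child 0 false 19,
  .child 2 false 19,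
  .child 0 true 19,
  .child 1 true 19,
  .child 2 true 19,
  .child 1 false 11,
  .child 1 true 11,
  .child 0 false 540,
  .child 1 false 540,
  .child 2 false 540,
  .child 3 false 540,
  .child 2 true 540,
  .child 3 true 540,
  .child 0 false 544,
  .child 1 false 544,
  .child 2 false 544,
  .child 3 false 544,
  .child 0 true 544,
  .child 1 true 544,
  .child 3 true 544,
  .child 2 false 84,
  .child 1 true 84,
  .child 2 true 84,
  .child 0 false 103,
  .child 2 false 103,
  .child 0 true 103,
  .child 1 true 103,
  .child 2 true 103,
  .child 3 true 103,
  .child 0 false 541,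
  .child 1 false 541,
  .child 3 false 541,
  .child 0 true 541,
  .child 1 true 541,
  .child 2 true 541,
  .child 3 true 541,
  .child 2 false 123]

/-- part 1 of `twTree0` -/
noncomputable def twTree0P1 : List (Leaf) := [
  .child 2 true 123,
  .child 1 false 120,
  .child 2 false 120,
  .child 3 false 120,
  .child 1 true 120,
  .child 2 true 120,
  .child 3 true 120,
  .child 0 false 115,
  .child 2 false 115,
  .child 3 false 115,
  .child 0 true 115,
  .child 2 true 115,
  .child 3 true 115,
  .child 0 false 789,
  .child 1 false 789,
  .child 2 false 789,
  .child 3 false 789,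
  .child 0 true 789,
  .child 1 true 789,
  .child 3 true 789,
  .child 2 false 122,
  .child 2 true 122,
  .child 1 false 90,
  .child 2 false 90,
  .child 1 true 90,
  .child 0 false 643,
  .child 1 false 643,
  .child 3 false 643,
  .child 0 true 643,
  .child 1 true 643,
  .child 2 true 643,
  .child 3 true 643,
  .child 2 false 82,
  .child 2 true 82,
  .child 1 false 102,
  .child 2 false 102,
  .child 3 false 102,
  .child 2 true 102,
  .child 3 true 102,
  .child 2 false 97,
  .child 1 true 97,
  .child 2 true 97,
  .child 2 false 96,
  .child 1 true 96,
  .child 2 true 96,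
  .child 3 true 96,
  .child 2 false 99,
  .child 2 true 99,
  .child 1 false 100,
  .child 2 false 100,
  .child 2 true 100,
  .child 1 false 280,
  .child 2 false 280,
  .child 1 true 280,
  .child 0 false 152,
  .child 2 false 152,
  .child 0 true 152,
  .child 1 true 152,
  .child 2 true 152,
  .child 0 false 331,
  .child 1 false 331,
  .child 3 false 331,
  .child 1 true 331,
  .child 3 true 331,
  .child 1 false 551,
  .child 2 false 551,
  .child 3 false 551,
  .child 2 true 551,
  .child 0 false 556,
  .child 1 false 556,
  .child 2 false 556,
  .child 3 false 556,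
  .child 0 true 556,
  .child 1 true 556,
  .child 3 true 556,
  .child 2 false 114,
  .child 2 true 114,
  .child 2 false 116,
  .child 0 true 116,
  .child 1 true 116,
  .child 0 false 553,
  .child 1 false 553,
  .child 3 false 553,
  .child 0 true 553,
  .child 1 true 553,
  .child 2 true 553,
  .child 3 true 553,
  .child 1 false 127,
  .child 2 false 127,
  .child 3 false 127,
  .child 1 true 127,
  .child 2 true 127,
  .child 0 false 383,
  .child 1 false 383,
  .child 2 false 383,
  .child 3 false 383,
  .child 0 true 383,
  .child 1 true 383,
  .child 3 true 383,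
  .child 1 false 225]

/-- part 2 of `twTree0` -/
noncomputable def twTree0P2 : List (Leaf) := [
  .child 2 false 225,
  .child 3 false 225,
  .child 1 true 225,
  .child 2 true 225,
  .child 0 false 111,
  .child 2 false 111,
  .child 0 true 111,
  .child 2 true 111,
  .child 3 true 111,
  .child 0 false 711,
  .child 1 false 711,
  .child 3 false 711,
  .child 0 true 711,
  .child 1 true 711,
  .child 2 true 711,
  .child 3 true 711,
  .child 2 false 223,
  .child 2 true 223,
  .child 0 false 371,
  .child 1 false 371,
  .child 0 true 371,
  .child 1 true 371,
  .child 1 true 268,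
  .child 2 true 268,
  .child 1 false 131,
  .child 2 false 131,
  .child 2 true 131,
  .child 0 false 566,
  .child 1 false 566,
  .child 2 false 566,
  .child 0 true 566,
  .child 1 true 566,
  .child 0 true 86,
  .child 1 true 86,
  .child 2 true 86,
  .child 0 false 136,
  .child 1 false 136,
  .child 0 true 136,
  .child 1 true 136,
  .child 2 true 136,
  .child 1 false 74,
  .child 1 true 74,
  .child 2 true 74,
  .child 0 false 68,
  .child 2 false 68,
  .child 0 true 68,
  .child 0 false 205,
  .child 1 false 205,
  .child 2 false 205,
  .child 0 true 205,
  .child 1 true 205,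
  .child 1 false 107,
  .child 1 true 107,
  .child 2 true 107,
  .child 0 false 593,
  .child 1 false 593,
  .child 1 true 593,
  .child 2 true 593,
  .child 2 false 126,
  .child 2 true 126,
  .child 0 false 135,
  .child 1 false 135,
  .child 2 false 135,
  .child 0 true 135,
  .child 1 true 135,
  .child 1 true 70,
  .child 2 true 70,
  .child 0 false 132,
  .child 1 false 132,
  .child 0 true 132,
  .child 1 true 132,
  .child 2 true 132,
  .child 1 false 217,
  .child 2 false 217,
  .child 1 true 217,
  .child 2 true 217,
  .child 0 false 230,
  .child 1 false 230,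
  .child 2 false 230,
  .child 0 true 230,
  .child 1 true 230,
  .child 1 false 224,
  .child 2 false 224,
  .child 1 true 224,
  .child 2 true 224,
  .child 0 false 18,
  .child 2 false 18,
  .child 0 true 18,
  .child 2 true 18,
  .child 0 false 60,
  .child 1 false 60,
  .child 0 true 60,
  .child 1 true 60,
  .child 2 true 60,
  .child 1 false 75,
  .child 2 false 75,
  .child 2 true 75,
  .child 2 false 80,
  .child 1 true 80,
  .child 2 true 80]

/-- part 3 of `twTree0` -/
noncomputable def twTree0P3 : List (Leaf) := [
  .child 2 false 125,
  .child 3 false 125,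
  .child 2 true 125,
  .child 3 true 125,
  .child 2 false 539,
  .child 3 false 539,
  .child 2 true 539,
  .child 3 true 539,
  .child 0 false 2843,
  .child 1 false 2843,
  .child 2 false 2843,
  .child 3 false 2843,
  .child 0 true 2843,
  .child 1 true 2843,
  .child 3 true 2843,
  .child 2 false 394,
  .child 2 true 394,
  .child 0 false 2223,
  .child 1 false 2223,
  .child 3 false 2223,
  .child 0 true 2223,
  .child 1 true 2223,
  .child 2 true 2223,
  .child 3 true 2223,
  .child 2 false 573,
  .child 2 true 573,
  .child 1 false 1122,
  .child 2 false 1122,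
  .child 3 false 1122,
  .child 1 true 1122,
  .child 2 true 1122,
  .child 3 true 1122,
  .child 0 false 1332,
  .child 1 false 1332,
  .child 2 false 1332,
  .child 3 false 1332,
  .child 0 true 1332,
  .child 3 true 1332,
  .child 1 false 543,
  .child 3 false 543,
  .child 1 true 543,
  .child 3 true 543,
  .child 0 false 522,
  .child 2 false 522,
  .child 1 true 522,
  .child 2 true 522,
  .child 1 false 529,
  .child 2 false 529,
  .child 3 false 529,
  .child 1 true 529,
  .child 2 true 529,
  .child 0 false 1194,
  .child 2 false 1194,
  .child 0 true 1194,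
  .child 1 true 1194,
  .child 2 true 1194,
  .child 3 true 1194,
  .child 2 false 159,
  .child 2 true 159,
  .child 0 false 737,
  .child 1 false 737,
  .child 2 false 737,
  .child 3 false 737,
  .child 0 true 737,
  .child 1 true 737,
  .child 3 true 737,
  .child 0 false 727,
  .child 1 true 727,
  .child 0 false 734,
  .child 1 false 734,
  .child 3 false 734,
  .child 0 true 734,
  .child 1 true 734,
  .child 2 true 734,
  .child 3 true 734,
  .child 1 false 71,
  .child 2 false 71,
  .child 2 true 71,
  .child 0 false 254,
  .child 1 false 254,
  .child 3 false 254,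
  .child 0 true 254,
  .child 1 true 254,
  .child 3 true 254,
  .child 2 false 104,
  .child 3 false 104,
  .child 2 true 104,
  .child 2 false 538,
  .child 3 true 538,
  .child 3 false 105,
  .child 1 true 105,
  .child 3 true 105,
  .child 1 false 1106,
  .child 2 false 1106,
  .child 3 false 1106,
  .child 1 true 1106,
  .child 2 true 1106,
  .child 3 true 1106,
  .child 0 false 2847,
  .child 1 false 2847]

/-- part 4 of `twTree0` -/
noncomputable def twTree0P4 : List (Leaf) := [
  .child 2 false 2847,
  .child 3 false 2847,
  .child 0 true 2847,
  .child 2 true 2847,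
  .child 3 true 2847,
  .child 0 false 2307,
  .child 2 false 2307,
  .child 1 true 2307,
  .child 2 true 2307,
  .child 1 false 557,
  .child 2 false 557,
  .child 3 false 557,
  .child 1 true 557,
  .child 2 true 557,
  .child 0 false 550,
  .child 2 false 550,
  .child 0 true 550,
  .child 1 true 550,
  .child 2 true 550,
  .child 3 true 550,
  .child 1 false 542,
  .child 3 false 542,
  .child 1 true 542,
  .child 3 true 542,
  .child 2 false 2023,
  .child 2 true 2023,
  .child 0 false 1019,
  .child 1 false 1019,
  .child 2 false 1019,
  .child 0 true 1019,
  .child 1 true 1019,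
  .child 0 false 972,
  .child 1 false 972,
  .child 0 true 972,
  .child 1 true 972,
  .child 2 true 972,
  .child 1 false 119,
  .child 2 false 119,
  .child 2 true 119,
  .child 0 false 387,
  .child 1 false 387,
  .child 0 true 387,
  .child 1 true 602,
  .child 0 false 884,
  .child 2 false 884,
  .child 0 true 884,
  .child 1 true 884,
  .child 2 true 884,
  .child 3 true 884,
  .child 1 true 88,
  .child 2 false 575,
  .child 3 false 575,
  .child 1 true 575,
  .child 2 true 575,
  .child 3 true 575,
  .child 1 false 887,
  .child 2 false 887,
  .child 3 false 887,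
  .child 0 true 887,
  .child 1 true 887,
  .child 3 true 887,
  .child 0 false 151,
  .child 2 false 151,
  .child 2 true 151,
  .child 1 false 576,
  .child 2 false 576,
  .child 3 false 576,
  .child 2 true 576,
  .child 0 false 206,
  .child 1 false 206,
  .child 0 true 206,
  .child 1 true 206,
  .child 2 true 206,
  .child 2 false 590,
  .child 2 true 590,
  .child 1 false 748,
  .child 2 false 748,
  .child 3 false 748,
  .child 1 true 748,
  .child 2 true 748,
  .child 0 false 323,
  .child 1 false 323,
  .child 3 false 323,
  .child 0 true 323,
  .child 2 true 323,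
  .child 3 true 323,
  .child 0 false 788,
  .child 1 false 788,
  .child 3 false 788,
  .child 0 true 788,
  .child 1 true 788,
  .child 3 true 788,
  .child 1 true 1903,
  .child 2 true 1903,
  .child 1 false 582,
  .child 0 true 582,
  .child 1 true 582,
  .child 2 true 582,
  .child 0 false 1986,
  .child 2 false 1986]

/-- part 5 of `twTree0` -/
noncomputable def twTree0P5 : List (Leaf) := [
  .child 0 true 1986,
  .child 1 true 1986,
  .child 2 true 1986,
  .child 3 true 1986,
  .child 2 false 1064,
  .child 0 false 535,
  .child 1 false 535,
  .child 2 false 535,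
  .child 3 false 535,
  .child 0 true 535,
  .child 1 true 535,
  .child 3 true 535,
  .child 0 false 963,
  .child 1 false 963,
  .child 0 true 963,
  .child 1 true 963,
  .child 2 true 963,
  .child 1 false 89,
  .child 2 false 89,
  .child 2 true 89,
  .child 1 false 258,
  .child 3 false 258,
  .child 1 true 258,
  .child 3 true 258,
  .child 2 false 761,
  .child 0 true 761,
  .child 1 true 761,
  .child 2 true 761,
  .child 1 false 1742,
  .child 2 false 1742,
  .child 1 true 1742,
  .child 2 true 1742,
  .child 0 false 2827,
  .child 1 false 2827,
  .child 2 false 2827,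
  .child 3 false 2827,
  .child 0 true 2827,
  .child 2 true 2827,
  .child 3 true 2827,
  .child 2 false 479,
  .child 1 true 479,
  .child 1 false 644,
  .child 2 false 644,
  .child 1 true 644,
  .child 2 true 644,
  .child 0 false 796,
  .child 2 false 796,
  .child 0 true 796,
  .child 1 true 796,
  .child 2 true 796,
  .child 3 true 796,
  .child 0 false 787,
  .child 1 false 787,
  .child 3 false 787,
  .child 0 true 787,
  .child 1 true 787,
  .child 3 true 787,
  .child 2 true 855,
  .child 0 false 720,
  .child 1 false 720,
  .child 2 false 720,
  .child 0 true 720,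
  .child 1 true 720,
  .child 0 false 717,
  .child 1 false 717,
  .child 0 true 717,
  .child 1 true 717,
  .child 2 true 717,
  .child 2 false 101,
  .child 3 false 101,
  .child 2 true 101,
  .child 3 true 101,
  .child 0 false 846,
  .child 1 false 846,
  .child 3 false 846,
  .child 3 true 846,
  .child 2 false 113,
  .child 2 true 113,
  .child 0 false 790,
  .child 1 false 790,
  .child 3 false 790,
  .child 1 true 790,
  .child 3 true 790,
  .child 2 false 98,
  .child 2 true 98,
  .child 0 false 683,
  .child 1 false 683,
  .child 1 true 683,
  .child 2 false 340,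
  .child 2 true 340,
  .child 1 true 356,
  .child 0 false 856,
  .child 1 false 856,
  .child 3 false 856,
  .child 0 true 856,
  .child 1 true 856,
  .child 3 true 856,
  .child 2 false 95,
  .child 2 true 95,
  .child 0 false 486]

/-- part 6 of `twTree0` -/
noncomputable def twTree0P6 : List (Leaf) := [
  .child 1 false 486,
  .child 3 false 486,
  .child 1 true 486,
  .child 3 true 486,
  .child 2 false 156,
  .child 2 true 156,
  .child 1 true 608,
  .child 0 false 154,
  .child 1 false 154,
  .child 1 true 154,
  .child 2 false 143,
  .child 0 false 872,
  .child 1 false 872,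
  .child 2 false 872,
  .child 3 false 872,
  .child 0 true 872,
  .child 1 true 872,
  .child 3 true 872,
  .child 0 false 869,
  .child 3 false 869,
  .child 1 true 869,
  .child 2 true 869,
  .child 3 true 869,
  .child 1 false 336,
  .child 2 false 336,
  .child 2 true 336,
  .child 1 true 374,
  .child 0 false 281,
  .child 2 false 281,
  .child 0 true 281,
  .child 1 true 281,
  .child 2 true 281,
  .child 1 false 47,
  .child 2 false 47,
  .child 1 true 47,
  .child 2 true 47,
  .child 0 false 1300,
  .child 2 false 1300,
  .child 3 false 1300,
  .child 0 true 1300,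
  .child 1 true 1300,
  .child 3 true 1300,
  .child 1 false 242,
  .child 1 true 242,
  .child 2 true 242,
  .child 0 false 15,
  .child 2 false 15,
  .child 0 true 15,
  .child 2 true 15,
  .child 0 false 414,
  .child 1 false 414,
  .child 3 false 414,
  .child 0 true 414,
  .child 1 true 414,
  .child 2 true 414,
  .child 3 true 414,
  .child 1 false 330,
  .child 2 false 330,
  .child 2 true 330,
  .child 1 false 355,
  .child 2 false 355,
  .child 2 true 355,
  .child 1 true 118,
  .child 0 false 262,
  .child 2 false 262,
  .child 0 true 262,
  .child 2 true 262,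
  .child 2 false 228,
  .child 2 true 228,
  .child 0 false 2903,
  .child 1 false 2903,
  .child 2 false 2903,
  .child 3 false 2903,
  .child 0 true 2903,
  .child 1 true 2903,
  .child 3 true 2903,
  .child 2 true 563,
  .child 0 false 1079,
  .child 1 false 1079,
  .child 3 false 1079,
  .child 0 true 1079,
  .child 1 true 1079,
  .child 2 true 1079,
  .child 3 true 1079,
  .child 1 false 1085,
  .child 2 false 1085,
  .child 3 false 1085,
  .child 2 true 1085,
  .child 3 true 1085,
  .child 0 false 1962,
  .child 1 false 1962,
  .child 3 false 1962,
  .child 0 true 1962,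
  .child 2 true 1962,
  .child 3 true 1962,
  .child 1 false 555,
  .child 3 false 555,
  .child 1 true 555,
  .child 3 true 555,
  .child 0 false 1102]

/-- part 7 of `twTree0` -/
noncomputable def twTree0P7 : List (Leaf) := [
  .child 2 false 1102,
  .child 1 true 1102,
  .child 1 false 1086,
  .child 2 false 1086,
  .child 3 false 1086,
  .child 1 true 1086,
  .child 2 true 1086,
  .child 0 false 1238,
  .child 2 false 1238,
  .child 0 true 1238,
  .child 1 true 1238,
  .child 2 true 1238,
  .child 3 true 1238,
  .child 2 true 1104,
  .child 0 false 971,
  .child 2 false 971,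
  .child 1 true 971,
  .child 0 false 738,
  .child 1 false 738,
  .child 0 true 738,
  .child 1 true 738,
  .child 2 true 738,
  .child 0 false 214,
  .child 1 true 214,
  .child 1 false 117,
  .child 2 false 117,
  .child 2 true 117,
  .child 2 false 227,
  .child 2 true 227,
  .child 1 false 1134,
  .child 2 false 1134,
  .child 3 false 1134,
  .child 1 true 1134,
  .child 2 true 1134,
  .child 3 true 1134,
  .child 0 false 2715,
  .child 2 false 2715,
  .child 3 false 2715,
  .child 0 true 2715,
  .child 2 true 2715,
  .child 0 false 1144,
  .child 2 false 1144,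
  .child 1 true 1144,
  .child 2 true 1144,
  .child 1 false 567,
  .child 3 false 567,
  .child 1 true 567,
  .child 2 true 567,
  .child 0 false 562,
  .child 2 false 562,
  .child 1 true 562,
  .child 2 true 562,
  .child 3 true 562,
  .child 1 false 554,
  .child 3 false 554,
  .child 1 true 554,
  .child 3 true 554,
  .child 2 false 1146,
  .child 2 true 1146,
  .child 0 false 332,
  .child 1 false 332,
  .child 2 false 332,
  .child 3 false 332,
  .child 2 true 332,
  .child 0 false 850,
  .child 1 false 850,
  .child 2 false 850,
  .child 3 false 850,
  .child 0 true 850,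
  .child 1 true 850,
  .child 3 true 850,
  .child 1 true 237,
  .child 2 false 128,
  .child 1 true 128,
  .child 2 true 128,
  .child 0 false 1049,
  .child 3 false 1049,
  .child 0 true 1049,
  .child 2 true 1049,
  .child 1 false 468,
  .child 2 false 468,
  .child 3 false 468,
  .child 1 true 468,
  .child 2 true 468,
  .child 3 true 468,
  .child 0 false 2345,
  .child 1 false 2345,
  .child 2 false 2345,
  .child 3 false 2345,
  .child 0 true 2345,
  .child 2 true 2345,
  .child 3 true 2345,
  .child 1 false 382,
  .child 0 true 382,
  .child 0 false 481,
  .child 2 false 481,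
  .child 1 true 481,
  .child 1 false 469,
  .child 2 false 469,
  .child 3 false 469]

/-- part 8 of `twTree0` -/
noncomputable def twTree0P8 : List (Leaf) := [
  .child 1 true 469,
  .child 2 true 469,
  .child 1 true 1293,
  .child 2 true 1293,
  .child 3 true 1293,
  .child 2 true 483,
  .child 1 false 305,
  .child 3 false 305,
  .child 2 true 305,
  .child 0 false 1893,
  .child 2 false 1893,
  .child 3 false 1893,
  .child 0 true 1893,
  .child 1 true 1893,
  .child 3 true 1893,
  .child 1 true 270,
  .child 2 false 395,
  .child 2 true 395,
  .child 0 false 1478,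
  .child 1 false 1478,
  .child 0 true 1478,
  .child 1 true 1478,
  .child 2 true 1478,
  .child 1 false 210,
  .child 2 false 210,
  .child 3 false 210,
  .child 2 true 210,
  .child 0 false 110,
  .child 1 false 110,
  .child 2 false 110,
  .child 3 false 110,
  .child 0 true 110,
  .child 1 true 110,
  .child 3 true 110,
  .child 1 false 211,
  .child 2 false 211,
  .child 3 false 211,
  .child 2 true 211,
  .child 0 false 187,
  .child 1 false 187,
  .child 0 true 187,
  .child 1 true 187,
  .child 2 true 187,
  .child 2 false 147,
  .child 2 true 147,
  .child 1 false 1752,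
  .child 2 false 1752,
  .child 1 true 1752,
  .child 2 true 1752,
  .child 0 false 2684,
  .child 1 false 2684,
  .child 2 false 2684,
  .child 3 false 2684,
  .child 0 true 2684,
  .child 2 true 2684,
  .child 3 true 2684,
  .child 1 true 885,
  .child 1 false 712,
  .child 2 false 712,
  .child 1 true 712,
  .child 2 true 712,
  .child 0 false 960,
  .child 2 false 960,
  .child 0 true 960,
  .child 1 true 960,
  .child 2 true 960,
  .child 3 true 960,
  .child 3 false 956,
  .child 0 true 956,
  .child 1 true 956,
  .child 3 true 956,
  .child 0 false 430,
  .child 1 false 430,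
  .child 2 false 430,
  .child 0 true 430,
  .child 1 true 430,
  .child 0 false 976,
  .child 0 true 976,
  .child 1 true 976,
  .child 2 true 976,
  .child 1 false 370,
  .child 2 false 370,
  .child 2 true 370,
  .child 1 false 623,
  .child 2 false 623,
  .child 2 true 623,
  .child 1 false 301,
  .child 2 false 301,
  .child 2 true 301,
  .child 2 false 265,
  .child 2 true 265,
  .child 0 false 269,
  .child 2 false 269,
  .child 0 true 269,
  .child 1 true 269,
  .child 2 true 269,
  .child 1 true 728,
  .child 2 false 130,
  .child 2 true 130,
  .child 0 false 1078]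

/-- part 9 of `twTree0` -/
noncomputable def twTree0P9 : List (Leaf) := [
  .child 1 false 1078,
  .child 2 false 1078,
  .child 0 true 1078,
  .child 1 true 1078,
  .child 0 false 1045,
  .child 1 false 1045,
  .child 0 true 1045,
  .child 1 true 1045,
  .child 2 true 1045,
  .child 1 false 1107,
  .child 2 false 1107,
  .child 1 true 1107,
  .child 2 true 1107,
  .child 0 false 1116,
  .child 1 false 1116,
  .child 2 false 1116,
  .child 0 true 1116,
  .child 2 true 1116,
  .child 1 false 565,
  .child 1 true 565,
  .child 1 false 1108,
  .child 2 false 1108,
  .child 1 true 1108,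
  .child 2 true 1108,
  .child 0 false 2893,
  .child 2 false 2893,
  .child 0 true 2893,
  .child 1 true 2893,
  .child 2 true 2893,
  .child 2 false 87,
  .child 2 true 87,
  .child 2 true 129,
  .child 1 true 250,
  .child 1 false 1123,
  .child 2 false 1123,
  .child 1 true 1123,
  .child 2 true 1123,
  .child 0 false 1129,
  .child 2 true 1129,
  .child 1 false 137,
  .child 2 false 137,
  .child 1 true 137,
  .child 2 true 137,
  .child 0 false 572,
  .child 2 false 572,
  .child 0 true 572,
  .child 1 true 572,
  .child 1 false 564,
  .child 1 true 564,
  .child 1 false 73,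
  .child 2 false 73,
  .child 2 true 73,
  .child 2 false 361,
  .child 1 true 361,
  .child 2 true 361,
  .child 2 false 577,
  .child 2 true 577,
  .child 0 false 208,
  .child 1 false 208,
  .child 2 false 208,
  .child 0 true 208,
  .child 1 true 208,
  .child 2 false 574,
  .child 1 false 1743,
  .child 2 false 1743,
  .child 1 true 1743,
  .child 2 true 1743,
  .child 0 false 1611,
  .child 1 false 1611,
  .child 2 false 1611,
  .child 2 true 1611,
  .child 0 false 595,
  .child 1 false 595,
  .child 1 false 1741,
  .child 2 false 1741,
  .child 1 true 1741,
  .child 2 true 1741,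
  .child 0 false 1596,
  .child 0 true 1596,
  .child 1 true 1596,
  .child 2 true 1596,
  .child 1 false 106,
  .child 2 false 106,
  .child 2 true 106,
  .child 2 false 591,
  .child 1 true 591,
  .child 2 true 591,
  .child 1 true 244,
  .child 1 false 879,
  .child 2 false 879,
  .child 1 true 879,
  .child 0 false 1849,
  .child 1 false 1849,
  .child 2 false 1849,
  .child 0 true 1849,
  .child 0 false 601,
  .child 2 false 601,
  .child 0 true 601,
  .child 1 true 601,
  .child 2 true 601]

/-- part 10 of `twTree0` -/
noncomputable def twTree0P10 : List (Leaf) := [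
  .child 0 false 594,
  .child 1 false 594,
  .child 1 true 594,
  .child 0 false 1044,
  .child 1 false 1044,
  .child 2 false 1044,
  .child 0 true 1044,
  .child 1 false 1041,
  .child 0 true 1041,
  .child 1 true 1041,
  .child 2 true 1041,
  .child 1 false 1096,
  .child 2 false 1096,
  .child 2 true 1096,
  .child 0 false 1136,
  .child 2 false 1136,
  .child 0 true 1136,
  .child 2 true 1136,
  .child 1 false 134,
  .child 1 true 134,
  .child 1 false 1133,
  .child 2 false 1133,
  .child 1 true 1133,
  .child 0 false 1132,
  .child 2 false 1132,
  .child 1 true 1132,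
  .child 2 true 1132,
  .child 2 false 124,
  .child 2 true 124,
  .child 1 false 1087,
  .child 2 false 1087,
  .child 2 true 1087,
  .child 0 false 1089,
  .child 1 false 1089,
  .child 0 true 1089,
  .child 1 false 545,
  .child 2 false 545,
  .child 1 true 545,
  .child 2 true 545,
  .child 0 false 142,
  .child 2 false 142,
  .child 0 true 142,
  .child 1 true 142,
  .child 2 true 142,
  .child 1 false 133,
  .child 1 true 133,
  .child 1 false 216,
  .child 2 false 216,
  .child 2 true 216,
  .child 0 false 1274,
  .child 2 false 1274,
  .child 0 true 1274,
  .child 2 false 552,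
  .child 2 true 552,
  .child 0 false 1754,
  .child 1 false 1754,
  .child 0 true 1754,
  .child 1 true 1754,
  .child 2 true 1754,
  .child 1 false 480,
  .child 2 false 480,
  .child 1 true 480,
  .child 2 true 480,
  .child 0 false 1932,
  .child 1 false 1932,
  .child 2 false 1932,
  .child 0 true 1932,
  .child 2 true 1932,
  .child 0 false 229,
  .child 1 true 229,
  .child 1 false 1930,
  .child 1 true 1930,
  .child 2 true 1930,
  .child 0 false 1925,
  .child 0 true 1925,
  .child 1 true 1925,
  .child 2 true 1925,
  .child 1 false 303,
  .child 1 false 1450,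
  .child 2 false 1450,
  .child 0 true 1450,
  .child 1 true 1450,
  .child 2 true 226,
  .child 0 false 1052,
  .child 0 true 1052,
  .child 1 true 1052,
  .child 2 true 1052,
  .child 1 false 212,
  .child 2 false 212,
  .child 2 true 212,
  .child 0 false 17,
  .child 1 false 17,
  .child 2 false 17,
  .child 0 true 17,
  .child 1 true 17,
  .child 1 false 161,
  .child 2 false 161,
  .child 2 true 161,
  .child 0 false 201,
  .child 1 false 201]

/-- part 11 of `twTree0` -/
noncomputable def twTree0P11 : List (Leaf) := [
  .child 0 true 201,
  .child 1 true 201,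
  .child 2 true 201,
  .child 1 false 471,
  .child 2 false 471,
  .child 1 true 471,
  .child 2 true 471,
  .child 1 false 473,
  .child 2 false 473,
  .child 0 true 473,
  .child 2 true 473,
  .child 1 false 466,
  .child 2 false 466,
  .child 1 true 466,
  .child 2 true 466,
  .child 1 true 236,
  .child 1 false 61,
  .child 1 true 61,
  .child 2 false 85,
  .child 1 true 642,
  .child 1 false 596,
  .child 1 false 489,
  .child 2 false 79,
  .child 2 true 79,
  .child 1 true 231,
  .child 0 false 786,
  .child 1 false 786,
  .child 2 false 786,
  .child 3 false 786,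
  .child 1 true 786,
  .child 3 true 786,
  .child 2 false 868,
  .child 2 true 868,
  .child 0 false 1031,
  .child 3 false 1031,
  .child 0 true 1031,
  .child 1 true 1031,
  .child 2 true 1031,
  .child 3 true 1031,
  .child 2 false 860,
  .child 2 true 860,
  .child 0 false 2029,
  .child 1 false 2029,
  .child 2 false 2029,
  .child 3 false 2029,
  .child 0 true 2029,
  .child 3 true 2029,
  .child 2 false 733,
  .child 2 true 733,
  .child 0 false 1910,
  .child 1 false 1910,
  .child 3 false 1910,
  .child 0 true 1910,
  .child 1 true 1910,
  .child 2 true 1910,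
  .child 3 true 1910,
  .child 2 false 393,
  .child 2 true 393,
  .child 1 false 1458,
  .child 2 false 1458,
  .child 3 false 1458,
  .child 1 true 1458,
  .child 3 true 1458,
  .child 0 false 1539,
  .child 1 false 1539,
  .child 2 false 1539,
  .child 3 false 1539,
  .child 3 true 1539,
  .child 1 false 2842,
  .child 3 false 2842,
  .child 1 true 2842,
  .child 3 true 2842,
  .child 0 false 1679,
  .child 1 true 1679,
  .child 2 true 1679,
  .child 1 false 3802,
  .child 2 false 3802,
  .child 3 false 3802,
  .child 1 true 3802,
  .child 2 true 3802,
  .child 0 false 3702,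
  .child 2 false 3702,
  .child 0 true 3702,
  .child 1 true 3702,
  .child 2 true 3702,
  .child 3 true 3702,
  .child 2 false 2179,
  .child 0 false 2082,
  .child 1 false 2082,
  .child 2 false 2082,
  .child 3 false 2082,
  .child 3 true 2082,
  .child 0 false 1256,
  .child 1 false 1256,
  .child 3 false 1256,
  .child 2 true 1256,
  .child 3 true 1256,
  .child 1 false 2172,
  .child 2 false 2172,
  .child 3 false 2172]

/-- part 12 of `twTree0` -/
noncomputable def twTree0P12 : List (Leaf) := [
  .child 1 true 2172,
  .child 2 true 2172,
  .child 3 true 2172,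
  .child 0 false 2225,
  .child 3 false 2225,
  .child 0 true 2225,
  .child 2 true 2225,
  .child 3 true 2225,
  .child 0 false 311,
  .child 2 false 311,
  .child 1 true 311,
  .child 1 false 2226,
  .child 2 false 2226,
  .child 3 false 2226,
  .child 1 true 2226,
  .child 2 true 2226,
  .child 0 false 2460,
  .child 0 true 2460,
  .child 2 true 2460,
  .child 3 true 2460,
  .child 1 false 2841,
  .child 3 false 2841,
  .child 1 true 2841,
  .child 3 true 2841,
  .child 2 true 312,
  .child 0 false 1513,
  .child 1 false 1513,
  .child 2 false 1513,
  .child 0 true 1513,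
  .child 0 false 2257,
  .child 2 true 2257,
  .child 0 false 1432,
  .child 1 false 1432,
  .child 2 false 1432,
  .child 3 false 1432,
  .child 0 true 1432,
  .child 2 true 1432,
  .child 3 true 1432,
  .child 0 false 3265,
  .child 1 false 3265,
  .child 2 false 3265,
  .child 3 false 3265,
  .child 1 true 3265,
  .child 3 true 3265,
  .child 2 false 160,
  .child 1 true 160,
  .child 0 false 1125,
  .child 0 true 1125,
  .child 1 true 1125,
  .child 2 true 1125,
  .child 3 true 1125,
  .child 1 false 1833,
  .child 0 true 1833,
  .child 1 true 1833,
  .child 2 true 1833,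
  .child 2 true 407,
  .child 1 false 1479,
  .child 2 false 1479,
  .child 3 false 1479,
  .child 1 true 1479,
  .child 3 true 1479,
  .child 2 false 1391,
  .child 2 true 1391,
  .child 0 false 2725,
  .child 1 false 2725,
  .child 2 false 2725,
  .child 3 false 2725,
  .child 0 true 2725,
  .child 1 true 2725,
  .child 3 true 2725,
  .child 0 false 1380,
  .child 2 true 1380,
  .child 1 false 1420,
  .child 2 false 1420,
  .child 3 false 1420,
  .child 1 true 1420,
  .child 2 false 1160,
  .child 1 false 1777,
  .child 3 false 1777,
  .child 2 true 1777,
  .child 3 true 1777,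
  .child 2 false 2395,
  .child 2 true 2395,
  .child 2 false 1236,
  .child 2 true 1236,
  .child 2 false 1287,
  .child 1 true 436,
  .child 2 true 436,
  .child 0 false 163,
  .child 1 false 163,
  .child 3 false 163,
  .child 1 true 163,
  .child 3 true 163,
  .child 0 false 1357,
  .child 2 false 1357,
  .child 0 true 1357,
  .child 2 true 1357,
  .child 2 true 145,
  .child 2 false 536,
  .child 0 true 536]

/-- part 13 of `twTree0` -/
noncomputable def twTree0P13 : List (Leaf) := [
  .child 2 true 536,
  .child 2 false 2815,
  .child 1 true 2815,
  .child 3 true 2815,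
  .child 2 false 63,
  .child 1 true 63,
  .child 2 false 1961,
  .child 0 true 1961,
  .child 1 true 1961,
  .child 0 false 2213,
  .child 1 false 2213,
  .child 3 false 2213,
  .child 0 true 2213,
  .child 1 true 2213,
  .child 2 true 2213,
  .child 3 true 2213,
  .child 1 false 1161,
  .child 2 false 1161,
  .child 3 false 1161,
  .child 1 true 1161,
  .child 2 false 744,
  .child 3 false 744,
  .child 3 true 744,
  .child 2 false 1195,
  .child 3 false 1195,
  .child 1 true 1195,
  .child 2 true 1195,
  .child 0 false 2861,
  .child 2 false 2861,
  .child 0 true 2861,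
  .child 2 true 2861,
  .child 0 false 3484,
  .child 1 false 3484,
  .child 3 false 3484,
  .child 0 true 3484,
  .child 1 true 3484,
  .child 3 true 3484,
  .child 2 true 524,
  .child 2 false 149,
  .child 0 false 167,
  .child 1 false 167,
  .child 1 true 167,
  .child 1 false 653,
  .child 2 false 653,
  .child 3 false 653,
  .child 2 true 653,
  .child 3 true 653,
  .child 0 false 2287,
  .child 2 false 2287,
  .child 3 false 2287,
  .child 0 true 2287,
  .child 2 true 2287,
  .child 3 true 2287,
  .child 1 false 736,
  .child 3 false 736,
  .child 1 true 736,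
  .child 3 true 736,
  .child 0 false 2290,
  .child 2 false 2290,
  .child 1 true 2290,
  .child 2 true 2290,
  .child 1 false 326,
  .child 3 false 326,
  .child 2 false 325,
  .child 0 true 325,
  .child 1 true 325,
  .child 2 false 2294,
  .child 2 true 2294,
  .child 2 false 729,
  .child 2 true 729,
  .child 2 false 358,
  .child 2 true 358,
  .child 1 false 2325,
  .child 3 false 2325,
  .child 1 true 2325,
  .child 2 true 2325,
  .child 3 true 2325,
  .child 0 false 2045,
  .child 1 false 2045,
  .child 2 false 2045,
  .child 3 false 2045,
  .child 3 true 2045,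
  .child 0 false 2787,
  .child 2 false 2787,
  .child 1 true 2787,
  .child 1 false 350,
  .child 2 false 350,
  .child 3 false 350,
  .child 1 true 350,
  .child 1 true 743,
  .child 2 true 743,
  .child 3 true 743,
  .child 1 false 735,
  .child 3 false 735,
  .child 1 true 735,
  .child 3 true 735,
  .child 2 true 2239,
  .child 2 false 610,
  .child 2 true 610,
  .child 0 false 616]

/-- part 14 of `twTree0` -/
noncomputable def twTree0P14 : List (Leaf) := [
  .child 1 false 616,
  .child 2 false 616,
  .child 0 true 616,
  .child 1 true 616,
  .child 0 false 613,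
  .child 1 false 613,
  .child 3 false 613,
  .child 0 true 613,
  .child 1 true 613,
  .child 2 true 613,
  .child 3 true 613,
  .child 1 false 308,
  .child 2 false 308,
  .child 3 false 308,
  .child 2 true 308,
  .child 3 true 308,
  .child 1 false 307,
  .child 2 false 307,
  .child 3 false 307,
  .child 2 true 307,
  .child 3 true 307,
  .child 1 true 241,
  .child 1 false 306,
  .child 2 false 306,
  .child 2 true 306,
  .child 0 false 249,
  .child 2 false 249,
  .child 0 true 249,
  .child 1 true 249,
  .child 2 true 249,
  .child 3 true 249,
  .child 0 false 898,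
  .child 2 false 898,
  .child 3 false 898,
  .child 0 true 898,
  .child 3 true 898,
  .child 2 false 609,
  .child 2 true 609,
  .child 1 false 757,
  .child 0 true 757,
  .child 1 true 757,
  .child 2 true 757,
  .child 0 false 2586,
  .child 1 false 2586,
  .child 2 false 2586,
  .child 3 false 2586,
  .child 0 true 2586,
  .child 1 true 2586,
  .child 2 false 348,
  .child 1 true 302,
  .child 2 false 592,
  .child 2 true 592,
  .child 3 true 592,
  .child 1 false 2896,
  .child 2 false 2896,
  .child 0 true 2896,
  .child 1 false 2575,
  .child 2 false 2575,
  .child 3 false 2575,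
  .child 1 true 2575,
  .child 3 true 2575,
  .child 2 false 2317,
  .child 1 true 2317,
  .child 0 false 1111,
  .child 2 false 1111,
  .child 0 true 1111,
  .child 1 true 1111,
  .child 2 true 1111,
  .child 3 true 1111,
  .child 1 false 2930,
  .child 3 false 2930,
  .child 1 true 2930,
  .child 2 true 2930,
  .child 3 true 2930,
  .child 2 true 2853,
  .child 2 false 2850,
  .child 3 false 2850,
  .child 1 true 2850,
  .child 2 true 2850,
  .child 3 true 2850,
  .child 2 false 2846,
  .child 0 true 2846,
  .child 3 true 2846,
  .child 1 false 2474,
  .child 2 false 2474,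
  .child 0 true 2474,
  .child 1 true 2474,
  .child 0 false 2852,
  .child 2 false 2852,
  .child 2 true 2852,
  .child 3 false 2921,
  .child 2 true 2921,
  .child 0 false 3738,
  .child 1 false 3738,
  .child 3 false 3738,
  .child 2 true 3738,
  .child 3 true 3738,
  .child 2 false 2986,
  .child 2 true 2986,
  .child 2 false 2895]

/-- part 15 of `twTree0` -/
noncomputable def twTree0P15 : List (Leaf) := [
  .child 1 true 2895,
  .child 2 true 2895,
  .child 0 false 2306,
  .child 1 false 2306,
  .child 2 false 2306,
  .child 3 false 2306,
  .child 0 true 2306,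
  .child 1 true 2306,
  .child 3 true 2306,
  .child 2 false 2649,
  .child 2 true 2649,
  .child 2 true 333,
  .child 1 false 2887,
  .child 2 false 2887,
  .child 2 true 2887,
  .child 0 false 2929,
  .child 1 false 2929,
  .child 2 false 2929,
  .child 3 false 2929,
  .child 1 true 2929,
  .child 3 true 2929,
  .child 2 false 1121,
  .child 1 true 1121,
  .child 2 false 1028,
  .child 0 true 1028,
  .child 1 true 1028,
  .child 2 true 1028,
  .child 0 false 2927,
  .child 1 false 2927,
  .child 3 false 2927,
  .child 0 true 2927,
  .child 1 true 2927,
  .child 2 true 2927,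
  .child 3 true 2927,
  .child 1 false 1171,
  .child 2 false 1171,
  .child 2 true 1171,
  .child 1 false 1073,
  .child 2 false 1073,
  .child 0 true 1073,
  .child 3 true 1073,
  .child 1 false 767,
  .child 2 false 767,
  .child 2 true 767,
  .child 2 false 549,
  .child 2 true 549,
  .child 3 true 549,
  .child 0 false 2897,
  .child 1 false 2897,
  .child 3 false 2897,
  .child 1 true 2897,
  .child 3 true 2897,
  .child 2 false 2402,
  .child 2 true 2402,
  .child 2 false 2210,
  .child 3 true 2210,
  .child 2 false 2858,
  .child 1 true 2858,
  .child 2 true 2858,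
  .child 2 true 2851,
  .child 3 true 2851,
  .child 2 false 2857,
  .child 2 true 2857,
  .child 2 false 372,
  .child 0 false 2024,
  .child 1 false 2024,
  .child 0 true 2024,
  .child 1 true 2024,
  .child 2 true 2024,
  .child 1 false 1722,
  .child 2 false 1722,
  .child 1 true 1722,
  .child 0 false 1298,
  .child 1 false 1298,
  .child 2 true 1298,
  .child 1 false 1018,
  .child 1 true 1018,
  .child 1 false 1299,
  .child 2 true 1299,
  .child 2 false 1259,
  .child 1 true 1259,
  .child 1 false 1352,
  .child 2 false 1352,
  .child 2 true 1352,
  .child 0 false 889,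
  .child 2 false 889,
  .child 0 true 889,
  .child 1 false 973,
  .child 0 true 1020,
  .child 1 true 1020,
  .child 2 true 1020,
  .child 1 false 1017,
  .child 1 true 1017,
  .child 2 false 746,
  .child 2 true 746,
  .child 1 false 1000,
  .child 2 false 1000,
  .child 1 true 1000,
  .child 0 false 780,
  .child 1 false 780]

/-- part 16 of `twTree0` -/
noncomputable def twTree0P16 : List (Leaf) := [
  .child 3 false 780,
  .child 0 true 780,
  .child 1 true 780,
  .child 2 true 780,
  .child 3 true 780,
  .child 2 true 773,
  .child 2 false 708,
  .child 2 false 952,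
  .child 2 true 952,
  .child 2 false 351,
  .child 1 true 351,
  .child 2 true 359,
  .child 0 false 3354,
  .child 1 false 3354,
  .child 2 false 3354,
  .child 3 false 3354,
  .child 3 true 3354,
  .child 2 false 275,
  .child 2 true 275,
  .child 2 false 745,
  .child 2 true 745,
  .child 3 true 745,
  .child 0 false 3233,
  .child 1 false 3233,
  .child 0 true 3233,
  .child 1 true 3233,
  .child 2 true 3233,
  .child 2 true 352,
  .child 2 false 760,
  .child 2 true 760,
  .child 0 false 1007,
  .child 1 false 1007,
  .child 3 false 1007,
  .child 0 true 1007,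
  .child 1 true 1007,
  .child 3 true 1007,
  .child 2 false 278,
  .child 2 true 278,
  .child 2 true 612,
  .child 0 false 2606,
  .child 1 false 2606,
  .child 3 false 2606,
  .child 0 true 2606,
  .child 1 true 2606,
  .child 2 true 2606,
  .child 3 true 2606,
  .child 2 false 266,
  .child 2 true 266,
  .child 1 false 1868,
  .child 3 false 1868,
  .child 0 true 1868,
  .child 2 true 1868,
  .child 3 true 1868,
  .child 0 false 979,
  .child 1 false 979,
  .child 0 false 3038,
  .child 1 true 3038,
  .child 3 false 886,
  .child 1 true 886,
  .child 0 false 1702,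
  .child 2 false 1702,
  .child 0 true 1702,
  .child 1 true 1702,
  .child 2 true 1702,
  .child 3 true 1702,
  .child 2 true 756,
  .child 0 false 403,
  .child 2 false 403,
  .child 3 false 403,
  .child 3 true 403,
  .child 0 false 881,
  .child 3 false 881,
  .child 0 true 881,
  .child 2 true 881,
  .child 3 true 881,
  .child 2 false 285,
  .child 2 true 285,
  .child 1 false 1904,
  .child 2 false 1904,
  .child 1 true 1904,
  .child 2 false 716,
  .child 0 false 3040,
  .child 1 false 3040,
  .child 3 false 3040,
  .child 0 true 3040,
  .child 1 true 3040,
  .child 2 true 3040,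
  .child 3 true 3040,
  .child 1 false 1516,
  .child 2 false 1516,
  .child 1 true 1516,
  .child 2 true 1516,
  .child 0 false 731,
  .child 1 false 731,
  .child 2 false 731,
  .child 2 true 731,
  .child 1 false 751,
  .child 2 false 751,
  .child 1 true 751,
  .child 2 true 751]

/-- part 17 of `twTree0` -/
noncomputable def twTree0P17 : List (Leaf) := [
  .child 0 false 983,
  .child 2 false 983,
  .child 0 true 983,
  .child 1 true 983,
  .child 2 true 983,
  .child 0 false 978,
  .child 3 false 978,
  .child 0 true 978,
  .child 3 true 978,
  .child 0 false 930,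
  .child 2 false 930,
  .child 0 true 930,
  .child 0 false 444,
  .child 2 true 444,
  .child 2 false 2148,
  .child 2 true 2148,
  .child 3 false 585,
  .child 0 true 585,
  .child 1 true 585,
  .child 1 true 1912,
  .child 2 true 1912,
  .child 0 true 293,
  .child 2 true 293,
  .child 1 false 749,
  .child 3 false 749,
  .child 1 true 749,
  .child 3 true 749,
  .child 1 false 1846,
  .child 3 false 2277,
  .child 2 true 2277,
  .child 3 true 2277,
  .child 0 false 2180,
  .child 1 false 1847,
  .child 2 false 1847,
  .child 3 false 1847,
  .child 0 false 324,
  .child 0 true 324,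
  .child 2 false 1678,
  .child 1 false 791,
  .child 2 false 791,
  .child 3 false 791,
  .child 2 true 791,
  .child 3 true 791,
  .child 3 false 2066,
  .child 0 true 2066,
  .child 2 true 2066,
  .child 0 false 1067,
  .child 1 true 1067,
  .child 2 true 1067,
  .child 1 false 3103,
  .child 2 false 3103,
  .child 3 false 3103,
  .child 1 true 3103,
  .child 2 true 3103,
  .child 0 false 1510,
  .child 2 false 1510,
  .child 0 true 1510,
  .child 3 true 1510,
  .child 2 false 3107,
  .child 2 true 3107,
  .child 0 false 2835,
  .child 0 true 2835,
  .child 1 true 2835,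
  .child 2 true 2835,
  .child 1 false 449,
  .child 3 false 449,
  .child 3 true 449,
  .child 1 false 1855,
  .child 2 false 1855,
  .child 0 true 1855,
  .child 1 true 640,
  .child 2 false 589,
  .child 0 true 589,
  .child 1 true 589,
  .child 2 true 589,
  .child 0 false 583,
  .child 1 false 583,
  .child 1 false 632,
  .child 3 false 632,
  .child 1 true 632,
  .child 2 true 632,
  .child 0 false 1985,
  .child 1 false 1985,
  .child 2 false 1985,
  .child 3 false 1985,
  .child 0 true 1985,
  .child 3 true 1985,
  .child 1 false 3146,
  .child 3 false 3146,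
  .child 1 true 3146,
  .child 2 true 3146,
  .child 2 false 1620,
  .child 2 true 1620,
  .child 3 true 1620,
  .child 3 false 3366,
  .child 0 true 3366,
  .child 2 true 3366,
  .child 3 true 3366,
  .child 2 true 2485,
  .child 1 false 411]

/-- part 18 of `twTree0` -/
noncomputable def twTree0P18 : List (Leaf) := [
  .child 2 false 411,
  .child 0 false 1193,
  .child 1 false 1193,
  .child 3 false 1193,
  .child 1 true 1193,
  .child 2 true 1193,
  .child 0 false 1252,
  .child 3 false 1252,
  .child 2 true 1252,
  .child 3 true 1252,
  .child 0 false 1016,
  .child 1 false 1016,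
  .child 3 false 1016,
  .child 0 true 1016,
  .child 1 true 1016,
  .child 3 true 1016,
  .child 0 false 1174,
  .child 1 true 1174,
  .child 1 false 1285,
  .child 2 false 1285,
  .child 3 false 1285,
  .child 0 true 1285,
  .child 1 true 1285,
  .child 0 false 668,
  .child 0 true 668,
  .child 1 true 668,
  .child 2 true 668,
  .child 3 true 668,
  .child 0 false 1321,
  .child 2 false 1321,
  .child 1 true 1321,
  .child 1 false 168,
  .child 2 false 168,
  .child 2 true 168,
  .child 0 true 964,
  .child 1 true 652,
  .child 0 false 1015,
  .child 0 true 1015,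
  .child 2 false 580,
  .child 2 true 580,
  .child 1 false 779,
  .child 2 false 779,
  .child 3 false 779,
  .child 0 true 779,
  .child 1 true 779,
  .child 3 true 779,
  .child 1 false 410,
  .child 3 false 410,
  .child 2 true 410,
  .child 3 true 410,
  .child 1 false 309,
  .child 2 true 309,
  .child 1 true 46,
  .child 0 false 243,
  .child 2 false 243,
  .child 1 true 243,
  .child 2 true 243,
  .child 3 true 243,
  .child 2 false 1792,
  .child 3 false 1792,
  .child 0 true 1792,
  .child 3 true 1792,
  .child 2 false 360,
  .child 0 false 1026,
  .child 1 false 1026,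
  .child 1 true 1026,
  .child 2 true 1026,
  .child 0 false 2690,
  .child 1 false 2690,
  .child 2 false 2690,
  .child 0 true 2690,
  .child 0 false 2161,
  .child 2 false 2161,
  .child 0 true 2161,
  .child 0 false 3351,
  .child 2 false 3351,
  .child 0 true 3351,
  .child 1 true 3351,
  .child 2 true 3351,
  .child 1 false 3132,
  .child 0 true 3132,
  .child 1 true 3132,
  .child 2 true 3132,
  .child 3 true 3132,
  .child 2 false 2372,
  .child 2 true 2372,
  .child 0 false 2222,
  .child 2 false 2222,
  .child 3 false 2222,
  .child 1 false 2826,
  .child 2 false 2826,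
  .child 3 false 2826,
  .child 0 true 2826,
  .child 1 true 2826,
  .child 3 true 2826,
  .child 2 false 1937,
  .child 2 true 1937,
  .child 1 false 1351,
  .child 0 false 3087,
  .child 3 false 3087]

/-- part 19 of `twTree0` -/
noncomputable def twTree0P19 : List (Leaf) := [
  .child 0 true 3087,
  .child 2 true 3087,
  .child 3 true 3087,
  .child 2 false 1751,
  .child 2 true 1751,
  .child 1 false 470,
  .child 3 false 470,
  .child 3 true 470,
  .child 2 false 1493,
  .child 1 true 1493,
  .child 2 false 3329,
  .child 0 true 3329,
  .child 1 false 3195,
  .child 2 false 3195,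
  .child 3 false 3195,
  .child 1 true 3195,
  .child 2 false 3160,
  .child 1 true 3160,
  .child 0 false 3333,
  .child 1 false 3333,
  .child 3 false 3333,
  .child 0 true 3333,
  .child 2 true 3333,
  .child 3 true 3333,
  .child 1 false 2499,
  .child 2 false 2499,
  .child 1 true 2499,
  .child 2 true 2499,
  .child 0 false 3230,
  .child 1 false 3230,
  .child 0 true 3230,
  .child 1 true 3230,
  .child 1 false 3591,
  .child 2 false 3591,
  .child 2 true 3591,
  .child 2 false 795,
  .child 2 true 795,
  .child 3 true 795,
  .child 2 true 2352,
  .child 2 false 2622,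
  .child 1 true 2622,
  .child 0 false 3121,
  .child 2 false 3121,
  .child 3 false 3121,
  .child 2 true 3121,
  .child 3 true 3121,
  .child 0 false 3114,
  .child 2 true 3114,
  .child 1 false 3006,
  .child 2 false 3006,
  .child 3 false 3006,
  .child 1 true 3006,
  .child 2 true 2085,
  .child 3 true 2085,
  .child 2 false 2994,
  .child 1 false 467,
  .child 1 true 170,
  .child 2 true 170,
  .child 1 false 164,
  .child 2 true 164,
  .child 0 false 719,
  .child 1 true 648,
  .child 1 false 1440,
  .child 2 false 1440,
  .child 1 true 1440,
  .child 0 false 2245,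
  .child 2 false 2245,
  .child 1 false 863,
  .child 1 true 863,
  .child 2 true 863,
  .child 0 false 672,
  .child 2 false 672,
  .child 0 true 672,
  .child 1 true 672,
  .child 0 false 718,
  .child 1 false 718,
  .child 0 true 718,
  .child 0 false 880,
  .child 1 true 880,
  .child 2 true 267,
  .child 3 true 877,
  .child 2 false 279,
  .child 1 false 3109,
  .child 1 true 3109,
  .child 2 true 3109,
  .child 2 false 3584,
  .child 3 false 3584,
  .child 3 true 962,
  .child 1 false 721,
  .child 1 false 3102,
  .child 2 false 3102,
  .child 1 true 3102,
  .child 2 true 3102,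
  .child 2 false 2375,
  .child 2 false 2825,
  .child 2 true 2825,
  .child 0 false 892,
  .child 3 true 892,
  .child 2 true 3326,
  .child 1 false 316]

/-- part 20 of `twTree0` -/
noncomputable def twTree0P20 : List (Leaf) := [
  .child 2 true 660,
  .child 1 true 297,
  .child 2 true 297,
  .child 0 false 1984,
  .child 2 false 1984,
  .child 3 false 1984,
  .child 0 true 1984,
  .child 3 true 1984,
  .child 0 false 875,
  .child 3 false 875,
  .child 0 true 875,
  .child 2 true 875,
  .child 3 true 875,
  .child 2 false 357,
  .child 2 true 357,
  .child 1 false 1915,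
  .child 2 false 1915,
  .child 3 false 1915,
  .child 2 true 1915,
  .child 3 true 1915,
  .child 0 false 1057,
  .child 3 false 1057,
  .child 2 true 1057,
  .child 0 false 1943,
  .child 2 false 1943,
  .child 1 true 1943,
  .child 2 true 1943,
  .child 1 false 1916,
  .child 2 false 1916,
  .child 3 false 1916,
  .child 1 true 1916,
  .child 2 true 1916,
  .child 0 true 2420,
  .child 2 true 2420,
  .child 3 true 2420,
  .child 2 false 1945,
  .child 2 true 1945,
  .child 1 false 94,
  .child 2 false 94,
  .child 0 true 94,
  .child 3 false 689,
  .child 1 true 689,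
  .child 3 true 689,
  .child 1 false 485,
  .child 2 false 485,
  .child 2 true 485,
  .child 0 false 498,
  .child 3 false 498,
  .child 0 true 498,
  .child 2 true 498,
  .child 3 true 498,
  .child 2 false 857,
  .child 3 true 857,
  .child 0 false 658,
  .child 2 false 658,
  .child 0 true 658,
  .child 0 false 1301,
  .child 0 true 1301,
  .child 2 true 1301,
  .child 2 false 392,
  .child 2 true 392,
  .child 2 false 375,
  .child 2 false 155,
  .child 1 true 155,
  .child 0 false 1255,
  .child 1 false 1255,
  .child 0 true 1255,
  .child 1 false 2450,
  .child 3 false 2450,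
  .child 1 true 2450,
  .child 3 true 2450,
  .child 0 false 923,
  .child 3 false 923,
  .child 0 true 923,
  .child 3 true 923,
  .child 3 false 871,
  .child 0 false 1384,
  .child 1 true 1384,
  .child 3 false 2530,
  .child 2 false 2451,
  .child 2 true 2451,
  .child 2 false 1859,
  .child 3 false 2457,
  .child 1 true 2457,
  .child 2 true 2457,
  .child 3 true 2457,
  .child 2 false 2506,
  .child 1 true 2506,
  .child 2 true 2506,
  .child 0 true 876,
  .child 3 true 876,
  .child 3 true 870,
  .child 2 false 2786,
  .child 2 true 2786,
  .child 0 false 335,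
  .child 2 true 335,
  .child 1 false 1277,
  .child 2 true 1356,
  .child 2 false 52,
  .child 1 true 52]

/-- part 21 of `twTree0` -/
noncomputable def twTree0P21 : List (Leaf) := [
  .child 2 false 282,
  .child 0 false 1401,
  .child 0 true 1401,
  .child 0 false 1402,
  .child 3 false 1402,
  .child 0 true 1402,
  .child 2 true 1402,
  .child 3 true 1402,
  .child 2 false 35,
  .child 0 false 271,
  .child 0 true 271,
  .child 2 false 54,
  .child 1 false 1415,
  .child 2 false 1415,
  .child 1 true 1415,
  .child 3 false 654,
  .child 3 true 654,
  .child 2 false 2192,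
  .child 1 false 2250,
  .child 2 false 2250,
  .child 3 false 2250,
  .child 1 true 2250,
  .child 2 false 1890,
  .child 3 true 1890,
  .child 2 true 2064,
  .child 2 true 264,
  .child 2 false 150,
  .child 0 false 64,
  .child 0 true 64,
  .child 2 true 144,
  .child 1 false 16,
  .child 3 false 16,
  .child 1 true 16,
  .child 2 true 16,
  .child 3 true 16,
  .child 2 false 413,
  .child 1 true 413,
  .child 2 true 413,
  .child 0 true 957,
  .child 0 false 1158,
  .child 2 false 1158,
  .child 1 false 400,
  .child 2 false 400,
  .child 3 false 400,
  .child 1 true 400,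
  .child 2 true 400,
  .child 0 true 415,
  .child 3 false 752,
  .child 1 true 752,
  .child 3 true 752,
  .child 2 false 1222,
  .child 0 false 825,
  .child 2 false 825,
  .child 3 false 825,
  .child 0 true 825,
  .child 1 true 825,
  .child 3 false 404,
  .child 3 true 404,
  .child 2 false 354,
  .child 1 false 1251,
  .child 2 false 1251,
  .child 1 false 1378,
  .child 3 false 1378,
  .child 2 true 1378,
  .child 2 false 277,
  .child 2 true 277,
  .child 0 false 798,
  .child 2 false 798,
  .child 3 false 798,
  .child 0 true 798,
  .child 1 true 798,
  .child 3 true 798,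
  .child 0 false 1882,
  .child 0 true 1882,
  .child 0 false 1797,
  .child 2 false 1797,
  .child 0 true 1797,
  .child 1 true 1797,
  .child 2 true 1072,
  .child 1 false 1220,
  .child 3 false 1220,
  .child 3 true 1220,
  .child 2 false 2734,
  .child 0 true 2734,
  .child 2 true 2734,
  .child 3 true 2734,
  .child 1 true 2171,
  .child 0 false 2504,
  .child 1 true 2504,
  .child 2 true 2504,
  .child 3 false 3308,
  .child 2 false 690,
  .child 1 true 690,
  .child 2 true 690,
  .child 3 true 690,
  .child 2 false 1739,
  .child 2 false 3139,
  .child 3 false 3139,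
  .child 1 true 3139,
  .child 3 true 3139]

/-- part 22 of `twTree0` -/
noncomputable def twTree0P22 : List (Leaf) := [
  .child 0 false 1472,
  .child 2 false 1472,
  .child 0 true 1472,
  .child 0 false 2905,
  .child 2 false 2905,
  .child 3 false 1055,
  .child 1 true 1055,
  .child 2 true 1055,
  .child 0 false 1145,
  .child 2 false 1145,
  .child 0 true 1145,
  .child 2 true 1145,
  .child 1 false 2902,
  .child 3 false 2902,
  .child 1 true 2902,
  .child 3 true 2902,
  .child 2 true 1135,
  .child 0 false 1840,
  .child 2 false 1840,
  .child 2 true 1840,
  .child 1 false 3668,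
  .child 2 false 3668,
  .child 3 false 3668,
  .child 0 true 3668,
  .child 1 true 3668,
  .child 3 true 3668,
  .child 2 true 1105,
  .child 0 false 1528,
  .child 1 false 1528,
  .child 0 true 1528,
  .child 2 true 1528,
  .child 2 false 792,
  .child 2 false 234,
  .child 3 false 234,
  .child 3 true 234,
  .child 2 false 2454,
  .child 0 true 2454,
  .child 2 false 1290,
  .child 1 false 1963,
  .child 2 false 1963,
  .child 2 true 1963,
  .child 1 false 1730,
  .child 2 true 1730,
  .child 2 true 1103,
  .child 1 false 2917,
  .child 2 false 2917,
  .child 3 false 2917,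
  .child 2 true 2917,
  .child 3 true 2917,
  .child 2 false 1118,
  .child 1 true 1118,
  .child 2 true 1118,
  .child 2 false 2891,
  .child 1 true 2891,
  .child 2 false 1120,
  .child 2 true 1120,
  .child 2 false 2393,
  .child 3 false 2393,
  .child 3 true 2393,
  .child 0 false 1250,
  .child 2 false 2253,
  .child 0 true 2253,
  .child 2 true 2253,
  .child 0 false 2284,
  .child 2 false 968,
  .child 2 true 968,
  .child 2 false 1964,
  .child 0 true 1964,
  .child 3 false 3698,
  .child 1 true 3698,
  .child 2 true 3698,
  .child 1 false 1237,
  .child 2 false 1237,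
  .child 1 true 1237,
  .child 2 true 1237,
  .child 0 false 2645,
  .child 1 false 2645,
  .child 2 false 2645,
  .child 3 false 2645,
  .child 0 true 2645,
  .child 1 true 2645,
  .child 3 true 2645,
  .child 1 false 1239,
  .child 1 true 1239,
  .child 2 true 1239,
  .child 2 true 1224,
  .child 1 false 993,
  .child 3 false 993,
  .child 2 true 993,
  .child 3 true 993,
  .child 2 false 933,
  .child 1 true 933,
  .child 1 false 2489,
  .child 1 true 2489,
  .child 0 false 829,
  .child 2 false 977,
  .child 2 false 213,
  .child 2 false 215,
  .child 2 false 578,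
  .child 2 true 578]

/-- part 23 of `twTree0` -/
noncomputable def twTree0P23 : List (Leaf) := [
  .child 0 false 989,
  .child 1 false 989,
  .child 2 false 989,
  .child 0 true 989,
  .child 0 false 765,
  .child 1 false 765,
  .child 0 true 765,
  .child 1 true 765,
  .child 2 true 765,
  .child 0 false 1902,
  .child 1 false 1902,
  .child 3 false 1902,
  .child 0 true 1902,
  .child 1 true 1902,
  .child 1 false 439,
  .child 2 true 439,
  .child 3 true 439,
  .child 0 false 2970,
  .child 1 false 2970,
  .child 2 false 2970,
  .child 3 false 2970,
  .child 0 true 2970,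
  .child 2 true 2970,
  .child 3 true 2970,
  .child 1 true 3655,
  .child 2 false 1147,
  .child 0 false 2178,
  .child 2 false 2178,
  .child 0 true 2178,
  .child 0 false 2995,
  .child 1 false 2995,
  .child 0 true 2995,
  .child 1 true 2995,
  .child 2 true 2911,
  .child 1 false 2908,
  .child 1 true 2908,
  .child 2 true 2908,
  .child 3 true 2908,
  .child 1 true 2714,
  .child 0 false 2218,
  .child 2 false 2218,
  .child 2 true 2218,
  .child 1 false 2711,
  .child 2 false 2711,
  .child 0 false 2716,
  .child 1 false 2716,
  .child 1 true 2716,
  .child 2 true 2716,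
  .child 3 true 2716,
  .child 1 false 2370,
  .child 0 false 3239,
  .child 1 false 3239,
  .child 2 false 3239,
  .child 3 false 3239,
  .child 0 true 3239,
  .child 1 true 3239,
  .child 3 true 3239,
  .child 2 false 2962,
  .child 0 false 1714,
  .child 1 false 1714,
  .child 3 false 1714,
  .child 0 true 1714,
  .child 2 true 1714,
  .child 3 true 1714,
  .child 1 false 2989,
  .child 2 false 2989,
  .child 3 false 2989,
  .child 0 true 2989,
  .child 2 false 1994,
  .child 0 true 1994,
  .child 2 true 1994,
  .child 1 true 2991,
  .child 2 false 2959,
  .child 3 false 2959,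
  .child 0 false 2973,
  .child 3 false 2973,
  .child 0 true 2973,
  .child 1 true 2973,
  .child 0 false 561,
  .child 2 false 561,
  .child 0 true 561,
  .child 1 false 2971,
  .child 3 false 2971,
  .child 0 true 2971,
  .child 1 true 2971,
  .child 3 true 2971,
  .child 2 true 911,
  .child 2 false 1154,
  .child 2 true 1154,
  .child 2 false 1196,
  .child 1 true 1196,
  .child 2 true 523,
  .child 0 false 2904,
  .child 1 false 2904,
  .child 2 false 2904,
  .child 0 true 2904,
  .child 0 false 3858,
  .child 1 false 3858,
  .child 0 true 3858,
  .child 1 true 3858]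

/-- part 24 of `twTree0` -/
noncomputable def twTree0P24 : List (Leaf) := [
  .child 2 true 3858,
  .child 2 true 339,
  .child 2 false 274,
  .child 2 true 274,
  .child 3 false 1857,
  .child 1 true 1857,
  .child 3 true 1857,
  .child 3 false 220,
  .child 2 true 220,
  .child 1 false 849,
  .child 2 false 849,
  .child 1 true 849,
  .child 2 true 849,
  .child 0 false 883,
  .child 2 false 883,
  .child 3 false 1051,
  .child 3 true 1051,
  .child 2 false 835,
  .child 1 true 835,
  .child 1 false 1723,
  .child 2 false 1723,
  .child 0 false 3068,
  .child 0 true 3068,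
  .child 2 true 3068,
  .child 3 true 3068,
  .child 2 false 834,
  .child 2 true 834,
  .child 2 false 284,
  .child 2 true 284,
  .child 0 false 1056,
  .child 0 true 1056,
  .child 1 false 547,
  .child 2 false 547,
  .child 1 true 547,
  .child 2 true 547,
  .child 2 false 2979,
  .child 1 false 1894,
  .child 2 false 1894,
  .child 1 true 1894,
  .child 1 false 1050,
  .child 1 true 1050,
  .child 0 false 2627,
  .child 2 false 2627,
  .child 3 false 2627,
  .child 2 true 2627,
  .child 3 true 2627,
  .child 1 true 484,
  .child 1 true 1980,
  .child 3 true 1980,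
  .child 0 false 2631,
  .child 1 false 2631,
  .child 3 false 2631,
  .child 0 true 2631,
  .child 1 true 2631,
  .child 2 true 2631,
  .child 3 true 2631,
  .child 2 true 2427,
  .child 2 false 2344,
  .child 3 false 2344,
  .child 1 true 2344,
  .child 3 true 2344,
  .child 0 false 2415,
  .child 2 false 2415,
  .child 3 false 2415,
  .child 0 true 2415,
  .child 2 true 2415,
  .child 3 true 2415,
  .child 0 false 2410,
  .child 2 false 2410,
  .child 3 false 2410,
  .child 3 true 2410,
  .child 0 false 2426,
  .child 2 false 2426,
  .child 3 false 1699,
  .child 2 true 1699,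
  .child 0 false 1604,
  .child 0 true 1604,
  .child 2 true 1604,
  .child 2 true 482,
  .child 2 false 1570,
  .child 2 true 1570,
  .child 2 true 488,
  .child 1 false 2625,
  .child 2 false 2625,
  .child 1 true 2625,
  .child 1 false 2065,
  .child 2 false 2065,
  .child 0 true 2065,
  .child 1 true 2065,
  .child 2 true 1987,
  .child 0 true 1852,
  .child 2 true 1852,
  .child 2 false 2135,
  .child 3 false 2135,
  .child 0 true 2135,
  .child 1 true 2623,
  .child 2 false 1858,
  .child 0 false 1720,
  .child 3 false 1720,
  .child 0 true 1720]

/-- part 25 of `twTree0` -/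
noncomputable def twTree0P25 : List (Leaf) := [
  .child 3 true 1720,
  .child 2 false 1824,
  .child 0 true 1824,
  .child 3 true 1824,
  .child 1 false 1294,
  .child 3 false 1294,
  .child 3 true 1294,
  .child 2 false 1977,
  .child 1 false 2705,
  .child 0 true 2705,
  .child 1 true 2705,
  .child 2 true 2705,
  .child 2 true 304,
  .child 0 false 477,
  .child 1 false 477,
  .child 1 false 2519,
  .child 2 false 2519,
  .child 3 true 2519,
  .child 0 false 3577,
  .child 2 true 3577,
  .child 1 false 3758,
  .child 2 false 3758,
  .child 3 false 3758,
  .child 1 true 3758,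
  .child 0 false 1376,
  .child 2 false 1376,
  .child 2 true 1376,
  .child 2 false 3722,
  .child 2 true 3722,
  .child 0 false 2233,
  .child 3 false 2233,
  .child 0 true 2233,
  .child 1 true 2233,
  .child 3 true 2233,
  .child 0 true 1288,
  .child 2 true 1288,
  .child 2 false 1148,
  .child 2 true 1148,
  .child 1 false 183,
  .child 1 false 1098,
  .child 2 false 1098,
  .child 2 true 1098,
  .child 0 false 667,
  .child 2 true 667,
  .child 2 false 639,
  .child 2 true 639,
  .child 0 false 1781,
  .child 1 false 1781,
  .child 2 false 1781,
  .child 0 true 1781,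
  .child 2 false 148,
  .child 3 false 1778,
  .child 1 true 1778,
  .child 2 true 1778,
  .child 2 true 939,
  .child 3 true 939,
  .child 0 false 943,
  .child 3 false 943,
  .child 0 true 943,
  .child 3 true 943,
  .child 0 true 691,
  .child 3 true 691,
  .child 0 false 950,
  .child 1 true 950,
  .child 2 true 950,
  .child 3 false 703,
  .child 0 true 703,
  .child 2 true 703,
  .child 0 false 940,
  .child 2 false 940,
  .child 0 true 940,
  .child 2 true 940,
  .child 3 true 940,
  .child 2 false 948,
  .child 2 true 948,
  .child 2 false 747,
  .child 2 true 747,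
  .child 0 true 1791,
  .child 0 false 1788,
  .child 3 false 1788,
  .child 0 true 1788,
  .child 3 true 1788,
  .child 2 false 186,
  .child 1 true 186,
  .child 2 true 186,
  .child 1 false 1054,
  .child 2 false 1054,
  .child 1 false 188,
  .child 1 true 188,
  .child 0 false 955,
  .child 2 false 955,
  .child 0 true 955,
  .child 1 true 955,
  .child 1 false 696,
  .child 1 false 165,
  .child 0 false 437,
  .child 0 true 437,
  .child 1 false 3051,
  .child 2 false 3051,
  .child 0 false 2920]

/-- part 26 of `twTree0` -/
noncomputable def twTree0P26 : List (Leaf) := [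
  .child 3 false 2920,
  .child 3 true 2920,
  .child 2 false 3391,
  .child 1 true 3391,
  .child 1 false 1920,
  .child 1 true 1920,
  .child 3 true 1920,
  .child 1 false 3445,
  .child 2 true 3445,
  .child 0 false 2360,
  .child 2 false 2360,
  .child 3 true 2360,
  .child 2 false 3476,
  .child 0 true 3476,
  .child 1 true 3476,
  .child 2 true 3085,
  .child 1 false 2683,
  .child 2 true 2683,
  .child 0 false 1663,
  .child 3 false 1663,
  .child 0 true 1663,
  .child 1 true 1663,
  .child 2 true 1663,
  .child 3 true 1663,
  .child 2 false 1749,
  .child 2 false 2097,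
  .child 1 false 2096,
  .child 2 false 2096,
  .child 3 false 2096,
  .child 0 true 2096,
  .child 2 false 1732,
  .child 1 true 1732,
  .child 2 true 1732,
  .child 1 false 1128,
  .child 1 true 1128,
  .child 2 true 1128,
  .child 1 false 2353,
  .child 1 true 2353,
  .child 2 false 2346,
  .child 3 false 2346,
  .child 1 true 2346,
  .child 1 false 3664,
  .child 2 false 3664,
  .child 1 true 3664,
  .child 0 false 959,
  .child 2 false 959,
  .child 2 true 959,
  .child 2 true 2224,
  .child 2 false 1926,
  .child 1 true 1926,
  .child 2 true 1926,
  .child 1 false 1917,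
  .child 2 false 1917,
  .child 1 true 1917,
  .child 2 true 1917,
  .child 2 false 1331,
  .child 3 true 1331,
  .child 2 false 429,
  .child 1 true 429,
  .child 2 true 429,
  .child 1 true 1886,
  .child 1 true 441,
  .child 2 true 441,
  .child 0 true 431,
  .child 1 false 2409,
  .child 1 true 2409,
  .child 2 true 2409,
  .child 1 true 1310,
  .child 2 true 1310,
  .child 0 false 1010,
  .child 0 true 1010,
  .child 2 true 1010,
  .child 1 false 2275,
  .child 1 false 2419,
  .child 2 true 2419,
  .child 2 false 300,
  .child 2 false 1289,
  .child 0 false 827,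
  .child 0 true 827,
  .child 0 false 802,
  .child 0 true 802,
  .child 2 true 802,
  .child 0 false 1323,
  .child 2 false 1323,
  .child 0 true 1323,
  .child 0 false 645,
  .child 0 true 645,
  .child 2 true 298,
  .child 1 false 776,
  .child 0 true 776,
  .child 1 true 776,
  .child 0 false 1034,
  .child 1 false 1034,
  .child 2 true 1034,
  .child 1 false 2220,
  .child 0 true 1464,
  .child 1 false 1077,
  .child 1 false 1465,
  .child 1 true 1465,
  .child 2 true 1465]

/-- part 27 of `twTree0` -/
noncomputable def twTree0P27 : List (Leaf) := [
  .child 2 false 2461,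
  .child 1 true 3803,
  .child 2 true 3803,
  .child 0 false 199,
  .child 1 false 199,
  .child 2 true 199,
  .child 2 false 1046,
  .child 1 true 1046,
  .child 2 false 1084,
  .child 0 true 1084,
  .child 1 true 1084,
  .child 2 true 1084,
  .child 1 false 1076,
  .child 2 true 2689,
  .child 2 false 1169,
  .child 1 true 1169,
  .child 2 false 1005,
  .child 0 true 1005,
  .child 1 true 1005,
  .child 2 true 1005,
  .child 1 true 3101,
  .child 2 false 624,
  .child 2 true 624,
  .child 2 true 2752,
  .child 2 false 3076,
  .child 2 false 1115,
  .child 1 false 2279,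
  .child 2 true 2279,
  .child 2 true 1142,
  .child 2 false 2965,
  .child 2 true 2965,
  .child 1 false 2718,
  .child 2 false 2718,
  .child 2 true 2718,
  .child 0 true 1746,
  .child 1 true 1746,
  .child 2 false 2982,
  .child 1 true 2982,
  .child 1 false 2938,
  .child 1 true 2938,
  .child 1 false 2892,
  .child 2 true 2892,
  .child 1 false 3395,
  .child 2 false 2894,
  .child 2 true 2894,
  .child 2 false 2885,
  .child 2 true 2885,
  .child 2 false 764,
  .child 0 false 617,
  .child 0 true 617,
  .child 2 true 617,
  .child 1 false 1024,
  .child 0 true 1024,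
  .child 0 false 251,
  .child 1 true 251,
  .child 2 false 1164,
  .child 1 false 2576,
  .child 2 false 2576,
  .child 2 false 2470,
  .child 0 true 2470,
  .child 1 false 1168,
  .child 1 true 1153,
  .child 1 false 2742,
  .child 1 true 2742,
  .child 2 true 2742,
  .child 2 false 530,
  .child 0 true 784,
  .child 1 true 784,
  .child 2 true 1149,
  .child 1 true 1197,
  .child 2 true 1197,
  .child 1 false 1190,
  .child 0 true 1190,
  .child 1 true 1190,
  .child 1 true 1198,
  .child 2 false 571,
  .child 0 true 571,
  .child 2 false 1095,
  .child 2 false 1159,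
  .child 2 true 1159,
  .child 0 false 629,
  .child 1 false 629,
  .child 0 true 629,
  .child 1 true 627,
  .child 2 true 627,
  .child 1 false 2382,
  .child 2 false 2382,
  .child 0 true 2382,
  .child 2 false 611,
  .child 2 true 2379,
  .child 0 false 895,
  .child 1 false 895,
  .child 0 true 895,
  .child 1 true 895,
  .child 0 false 3035,
  .child 0 true 3035,
  .child 1 true 3035,
  .child 1 false 1514,
  .child 2 false 1514,
  .child 1 true 1514]

/-- part 28 of `twTree0` -/
noncomputable def twTree0P28 : List (Leaf) := [
  .child 2 true 1514,
  .child 0 false 207,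
  .child 1 false 207,
  .child 1 false 209,
  .child 1 true 209,
  .child 0 false 1578,
  .child 0 true 1578,
  .child 1 true 1578,
  .child 0 true 2001,
  .child 1 true 2001,
  .child 1 false 2216,
  .child 0 true 2216,
  .child 2 true 2216,
  .child 1 false 3118,
  .child 2 false 3118,
  .child 1 true 3118,
  .child 2 false 3323,
  .child 1 true 3323,
  .child 0 true 3811,
  .child 2 true 1748,
  .child 1 false 1612,
  .child 0 true 1612,
  .child 2 true 1612,
  .child 1 true 597,
  .child 2 false 891,
  .child 0 false 2958,
  .child 1 false 2958,
  .child 0 true 2958,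
  .child 2 true 1744,
  .child 2 true 3012,
  .child 1 false 2953,
  .child 2 false 2953,
  .child 2 true 2953,
  .child 1 false 3592,
  .child 2 false 3592,
  .child 2 true 3592,
  .child 2 true 1625,
  .child 0 false 1597,
  .child 1 false 1597,
  .child 0 true 1597,
  .child 1 true 1597,
  .child 2 false 907,
  .child 2 true 907,
  .child 1 false 908,
  .child 2 true 908,
  .child 0 false 2465,
  .child 1 false 2465,
  .child 2 false 2465,
  .child 2 true 1913,
  .child 2 false 245,
  .child 1 true 245,
  .child 2 true 245,
  .child 2 true 2191,
  .child 1 true 878,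
  .child 2 false 2145,
  .child 1 false 1848,
  .child 0 true 2189,
  .child 1 false 2797,
  .child 1 true 2797,
  .child 2 false 3148,
  .child 1 false 1468,
  .child 2 false 1468,
  .child 1 true 1468,
  .child 2 true 600,
  .child 0 false 3147,
  .child 1 false 3147,
  .child 0 true 3147,
  .child 2 true 3147,
  .child 1 false 1750,
  .child 2 false 1750,
  .child 2 true 1750,
  .child 2 false 646,
  .child 1 true 1335,
  .child 0 true 2963,
  .child 1 false 1043,
  .child 1 true 1043,
  .child 2 false 3292,
  .child 2 false 1726,
  .child 2 true 1726,
  .child 2 false 204,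
  .child 1 true 204,
  .child 1 true 1042,
  .child 1 false 3628,
  .child 2 false 3628,
  .child 0 true 3628,
  .child 2 true 3628,
  .child 0 false 3832,
  .child 0 true 3832,
  .child 1 true 2784,
  .child 1 false 3590,
  .child 0 true 3590,
  .child 1 false 2838,
  .child 2 true 2838,
  .child 1 true 2967,
  .child 2 true 1124,
  .child 2 true 139,
  .child 1 false 2006,
  .child 2 true 2006,
  .child 1 true 3134,
  .child 2 false 1137]

/-- part 29 of `twTree0` -/
noncomputable def twTree0P29 : List (Leaf) := [
  .child 2 true 1137,
  .child 1 false 3589,
  .child 0 true 3589,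
  .child 1 true 3589,
  .child 0 false 1131,
  .child 0 true 1131,
  .child 0 false 3760,
  .child 1 false 3760,
  .child 0 true 3760,
  .child 1 true 3760,
  .child 1 false 426,
  .child 2 false 426,
  .child 0 false 1021,
  .child 1 false 1021,
  .child 1 true 1021,
  .child 2 true 1243,
  .child 0 true 1562,
  .child 1 false 2738,
  .child 1 true 2738,
  .child 2 true 2738,
  .child 2 true 1094,
  .child 0 true 1088,
  .child 1 false 709,
  .child 2 false 709,
  .child 2 true 709,
  .child 2 true 1090,
  .child 1 false 1231,
  .child 1 true 1231,
  .child 2 true 1231,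
  .child 1 false 1247,
  .child 2 false 1247,
  .child 2 false 1235,
  .child 1 true 1235,
  .child 2 false 141,
  .child 1 false 1244,
  .child 0 true 1244,
  .child 1 true 1244,
  .child 1 false 1110,
  .child 2 false 1110,
  .child 2 true 1110,
  .child 1 true 1101,
  .child 2 true 1101,
  .child 2 false 276,
  .child 1 false 1688,
  .child 2 false 1688,
  .child 1 true 1688,
  .child 2 true 1688,
  .child 1 true 2749,
  .child 2 true 2749,
  .child 0 false 2301,
  .child 0 true 2301,
  .child 2 true 1279,
  .child 1 false 847,
  .child 2 false 847,
  .child 2 true 847,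
  .child 0 false 1755,
  .child 1 false 705,
  .child 2 true 705,
  .child 0 false 873,
  .child 2 false 873,
  .child 1 false 2017,
  .child 2 true 2017,
  .child 1 false 984,
  .child 2 false 984,
  .child 0 false 1931,
  .child 2 true 1931,
  .child 0 false 1664,
  .child 1 false 1664,
  .child 2 false 1664,
  .child 0 true 1664,
  .child 2 false 3217,
  .child 1 true 740,
  .child 2 true 740,
  .child 1 false 232,
  .child 2 false 232,
  .child 1 true 232,
  .child 2 true 499,
  .child 2 true 1898,
  .child 2 false 1933,
  .child 1 true 1933,
  .child 1 false 3887,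
  .child 0 true 3887,
  .child 2 true 3887,
  .child 1 true 3446,
  .child 1 false 2477,
  .child 2 true 2477,
  .child 0 false 1924,
  .child 2 true 1924,
  .child 1 true 2012,
  .child 2 true 2012,
  .child 1 false 1367,
  .child 2 false 1400,
  .child 2 true 1400,
  .child 0 false 2418,
  .child 0 false 314,
  .child 1 false 3502,
  .child 2 true 3502,
  .child 1 false 1053,
  .child 1 true 1053,
  .child 2 true 1053]

/-- part 30 of `twTree0` -/
noncomputable def twTree0P30 : List (Leaf) := [
  .child 0 false 974,
  .child 2 true 974,
  .child 2 true 581,
  .child 2 false 1800,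
  .child 1 true 1800,
  .child 0 false 1341,
  .child 1 false 1341,
  .child 0 true 1341,
  .child 1 true 1341,
  .child 2 true 1341,
  .child 1 true 190,
  .child 2 true 190,
  .child 1 false 194,
  .child 2 true 194,
  .child 1 false 203,
  .child 1 true 184,
  .child 0 false 191,
  .child 0 true 191,
  .child 1 true 191,
  .child 2 false 607,
  .child 0 false 1340,
  .child 0 true 1340,
  .child 0 true 621,
  .child 2 false 938,
  .child 0 false 1700,
  .child 0 false 222,
  .child 0 true 222,
  .child 2 true 222,
  .child 2 true 1983,
  .child 0 false 2648,
  .child 1 false 2648,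
  .child 2 false 2648,
  .child 1 true 2648,
  .child 0 false 472,
  .child 2 true 472,
  .child 0 false 1891,
  .child 2 false 1891,
  .child 0 true 1891,
  .child 0 false 2661,
  .child 2 true 2661,
  .child 2 false 2618,
  .child 0 false 605,
  .child 0 true 605,
  .child 2 true 474,
  .child 0 true 2620,
  .child 2 true 2620,
  .child 2 true 235,
  .child 0 false 420,
  .child 2 false 420,
  .child 2 false 496,
  .child 1 true 78,
  .child 1 false 218,
  .child 2 false 447,
  .child 2 true 3581,
  .child 0 false 1172,
  .child 3 false 1033,
  .child 3 true 1033,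
  .child 1 true 2992,
  .child 0 true 1953,
  .child 2 true 1953,
  .child 3 true 1953,
  .child 3 false 1272,
  .child 3 true 1272,
  .child 2 true 2286,
  .child 3 false 3529,
  .child 3 true 3529,
  .child 0 false 3726,
  .child 1 true 3726,
  .child 2 false 2584,
  .child 3 false 2584,
  .child 0 false 1040,
  .child 0 true 1040,
  .child 2 true 1040,
  .child 3 true 1040,
  .child 1 false 1032,
  .child 2 false 859,
  .child 2 false 3660,
  .child 2 true 3660,
  .child 0 false 3658,
  .child 1 false 3658,
  .child 0 false 3661,
  .child 2 true 3661,
  .child 2 false 3735,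
  .child 3 false 3735,
  .child 2 true 3735,
  .child 2 false 1485,
  .child 2 false 2366,
  .child 3 false 1396,
  .child 3 true 1396,
  .child 2 true 2008,
  .child 0 false 3289,
  .child 1 false 3289,
  .child 1 true 1339,
  .child 2 false 1911,
  .child 2 true 1911,
  .child 2 false 2840,
  .child 3 true 2840,
  .child 1 true 2836,
  .child 2 true 1383,
  .child 0 false 3593]

/-- part 31 of `twTree0` -/
noncomputable def twTree0P31 : List (Leaf) := [
  .child 2 false 3593,
  .child 0 true 3593,
  .child 0 false 1457,
  .child 1 true 1640,
  .child 0 false 1616,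
  .child 2 false 1616,
  .child 0 true 1616,
  .child 3 true 1616,
  .child 1 false 1518,
  .child 2 false 1518,
  .child 2 true 1518,
  .child 0 true 1538,
  .child 1 false 3864,
  .child 3 false 3864,
  .child 1 true 3864,
  .child 3 true 3864,
  .child 2 true 1628,
  .child 2 false 1692,
  .child 2 false 2789,
  .child 2 false 688,
  .child 2 true 2766,
  .child 1 true 2736,
  .child 0 false 2015,
  .child 0 true 2015,
  .child 1 true 2015,
  .child 2 true 2015,
  .child 1 false 2555,
  .child 3 false 2555,
  .child 0 true 3330,
  .child 1 true 2516,
  .child 2 false 3820,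
  .child 0 true 3820,
  .child 3 false 2062,
  .child 1 true 2062,
  .child 0 false 3598,
  .child 3 false 3598,
  .child 3 true 3598,
  .child 2 false 1654,
  .child 3 false 1654,
  .child 0 false 2100,
  .child 2 false 2100,
  .child 0 true 2100,
  .child 3 true 2100,
  .child 3 false 3817,
  .child 1 true 3817,
  .child 3 true 3817,
  .child 2 false 3262,
  .child 1 false 2515,
  .child 1 false 2244,
  .child 1 true 2081,
  .child 2 false 2269,
  .child 0 false 659,
  .child 3 false 659,
  .child 0 true 659,
  .child 2 true 659,
  .child 3 true 659,
  .child 2 true 3314,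
  .child 2 false 2875,
  .child 1 false 3491,
  .child 2 false 3491,
  .child 3 false 3491,
  .child 3 true 3491,
  .child 1 false 3879,
  .child 2 false 1014,
  .child 0 false 1872,
  .child 2 false 1091,
  .child 3 false 1091,
  .child 1 true 1091,
  .child 2 true 1091,
  .child 3 true 1091,
  .child 1 true 2602,
  .child 2 true 2602,
  .child 3 false 2737,
  .child 3 true 2737,
  .child 1 false 1261,
  .child 2 false 1261,
  .child 2 false 310,
  .child 0 true 406,
  .child 1 false 3874,
  .child 3 false 3874,
  .child 1 false 3543,
  .child 2 false 3543,
  .child 0 true 3543,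
  .child 2 true 313,
  .child 3 false 3630,
  .child 2 true 3630,
  .child 3 true 3630,
  .child 3 false 2263,
  .child 1 true 2263,
  .child 3 false 1785,
  .child 0 true 1785,
  .child 3 true 1785,
  .child 2 true 2978,
  .child 2 false 1081,
  .child 2 false 2211,
  .child 2 true 1595,
  .child 0 false 322,
  .child 2 false 322,
  .child 0 true 322,
  .child 1 false 2261]

/-- part 32 of `twTree0` -/
noncomputable def twTree0P32 : List (Leaf) := [
  .child 1 true 3034,
  .child 1 false 537,
  .child 1 true 537,
  .child 3 false 425,
  .child 3 true 425,
  .child 0 false 2830,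
  .child 1 false 2830,
  .child 3 false 2830,
  .child 0 true 2830,
  .child 3 true 2830,
  .child 3 true 3840,
  .child 0 false 2386,
  .child 1 false 2386,
  .child 3 false 2386,
  .child 0 true 2386,
  .child 1 true 3867,
  .child 2 true 3867,
  .child 3 true 3048,
  .child 2 false 3620,
  .child 1 false 1150,
  .child 2 false 1150,
  .child 1 true 1150,
  .child 0 true 424,
  .child 2 false 1827,
  .child 0 true 1827,
  .child 1 true 2816,
  .child 2 true 1834,
  .child 1 true 3571,
  .child 0 false 2863,
  .child 1 false 2685,
  .child 3 true 2685,
  .child 1 true 1325,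
  .child 2 true 1325,
  .child 0 false 1462,
  .child 2 true 1462,
  .child 3 true 1462,
  .child 2 false 1381,
  .child 0 true 3486,
  .child 0 false 3796,
  .child 0 true 3796,
  .child 2 true 3796,
  .child 3 true 3796,
  .child 1 false 2018,
  .child 0 true 1786,
  .child 1 true 1922,
  .child 0 false 1646,
  .child 2 false 1646,
  .child 0 true 1646,
  .child 3 true 1646,
  .child 2 false 1368,
  .child 1 true 1368,
  .child 2 true 1404,
  .child 1 false 2913,
  .child 2 false 2913,
  .child 1 true 172,
  .child 2 true 172,
  .child 2 true 833,
  .child 2 false 1328,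
  .child 0 false 1487,
  .child 0 true 1487,
  .child 0 false 390,
  .child 1 false 390,
  .child 0 true 390,
  .child 1 true 390,
  .child 3 false 2432,
  .child 0 false 2019,
  .child 0 false 3749,
  .child 0 true 3749,
  .child 3 false 504,
  .child 0 true 504,
  .child 1 true 504,
  .child 2 false 1360,
  .child 2 true 1358,
  .child 2 false 1333,
  .child 3 false 2364,
  .child 3 true 2364,
  .child 1 false 2057,
  .child 0 true 2057,
  .child 1 true 2057,
  .child 3 false 527,
  .child 2 false 2829,
  .child 1 true 1439,
  .child 0 true 1216,
  .child 2 true 1216,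
  .child 0 false 3100,
  .child 2 false 2998,
  .child 1 true 62,
  .child 0 true 936,
  .child 2 true 2554,
  .child 2 true 3572,
  .child 1 false 2941,
  .child 2 false 3579,
  .child 1 true 3579,
  .child 2 true 3579,
  .child 1 false 3397,
  .child 0 false 1674,
  .child 2 false 1674,
  .child 0 true 1674,
  .child 3 true 1674,
  .child 1 false 2813]

/-- part 33 of `twTree0` -/
noncomputable def twTree0P33 : List (Leaf) := [
  .child 3 false 2813,
  .child 3 true 2813,
  .child 2 false 1666,
  .child 2 true 1666,
  .child 0 false 1143,
  .child 0 false 3485,
  .child 3 false 3485,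
  .child 3 true 3485,
  .child 2 true 1203,
  .child 2 false 1320,
  .child 3 false 1704,
  .child 3 true 1704,
  .child 0 true 2860,
  .child 2 false 3027,
  .child 0 true 3018,
  .child 3 true 3018,
  .child 0 false 3685,
  .child 0 true 3685,
  .child 2 false 2430,
  .child 0 true 2430,
  .child 1 true 647,
  .child 0 false 1365,
  .child 1 true 1365,
  .child 2 true 3313,
  .child 1 false 2055,
  .child 1 true 2055,
  .child 2 false 3470,
  .child 3 false 732,
  .child 3 false 1435,
  .child 2 true 1435,
  .child 2 false 2552,
  .child 1 true 2552,
  .child 2 false 1438,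
  .child 3 true 1438,
  .child 2 true 1213,
  .child 2 true 1995,
  .child 0 false 3718,
  .child 1 true 2291,
  .child 1 true 2112,
  .child 2 false 2293,
  .child 0 true 2288,
  .child 2 false 2036,
  .child 0 true 2036,
  .child 0 false 3870,
  .child 0 false 2956,
  .child 0 false 1266,
  .child 1 true 1266,
  .child 3 false 1496,
  .child 3 true 1496,
  .child 0 false 2333,
  .child 3 false 2333,
  .child 0 true 2333,
  .child 3 true 2333,
  .child 2 true 967,
  .child 3 false 342,
  .child 0 true 342,
  .child 3 true 342,
  .child 2 false 3363,
  .child 0 true 678,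
  .child 1 true 509,
  .child 2 true 3281,
  .child 0 false 2537,
  .child 3 false 2537,
  .child 0 true 2537,
  .child 3 true 2537,
  .child 2 false 341,
  .child 0 true 349,
  .child 0 false 742,
  .child 2 false 742,
  .child 0 true 742,
  .child 2 true 742,
  .child 3 false 1254,
  .child 3 true 1254,
  .child 2 false 769,
  .child 1 true 769,
  .child 2 true 769,
  .child 3 true 2338,
  .child 2 true 2510,
  .child 0 false 1350,
  .child 0 true 1350,
  .child 1 false 1189,
  .child 1 true 138,
  .child 2 true 620,
  .child 3 true 615,
  .child 2 false 3199,
  .child 1 true 3199,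
  .child 0 false 1343,
  .child 1 true 3177,
  .child 2 true 3177,
  .child 2 true 899,
  .child 1 false 614,
  .child 2 false 3171,
  .child 2 false 292,
  .child 3 false 292,
  .child 2 true 292,
  .child 3 true 292,
  .child 0 true 2212,
  .child 1 true 2212,
  .child 2 true 37,
  .child 0 true 2199]

/-- part 34 of `twTree0` -/
noncomputable def twTree0P34 : List (Leaf) := [
  .child 3 false 286,
  .child 3 true 286,
  .child 0 false 2207,
  .child 3 false 2207,
  .child 0 true 2207,
  .child 1 true 2207,
  .child 3 true 2207,
  .child 0 false 21,
  .child 0 true 21,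
  .child 1 true 21,
  .child 0 false 2196,
  .child 0 true 2196,
  .child 1 true 2196,
  .child 3 false 259,
  .child 2 false 255,
  .child 3 false 255,
  .child 2 true 255,
  .child 2 false 296,
  .child 3 true 296,
  .child 2 true 1676,
  .child 2 false 3190,
  .child 1 false 897,
  .child 2 false 3212,
  .child 2 false 3191,
  .child 2 true 3213,
  .child 0 false 2367,
  .child 1 true 2367,
  .child 0 false 3481,
  .child 0 true 3481,
  .child 2 true 3481,
  .child 0 true 903,
  .child 1 false 3765,
  .child 1 true 3765,
  .child 2 true 3765,
  .child 1 false 3836,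
  .child 3 false 3836,
  .child 0 true 3836,
  .child 1 true 2564,
  .child 2 false 2484,
  .child 1 true 2484,
  .child 1 true 3742,
  .child 0 false 2076,
  .child 1 false 2076,
  .child 3 false 2076,
  .child 0 true 2076,
  .child 3 true 2076,
  .child 0 false 3002,
  .child 2 false 3002,
  .child 3 false 3002,
  .child 1 true 3002,
  .child 3 true 3002,
  .child 3 true 2573,
  .child 1 true 2867,
  .child 3 true 2867,
  .child 1 true 3065,
  .child 0 false 3724,
  .child 2 false 3724,
  .child 0 true 3724,
  .child 1 true 3724,
  .child 2 true 3724,
  .child 2 false 3066,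
  .child 0 false 3563,
  .child 0 true 3563,
  .child 1 true 3563,
  .child 1 false 2983,
  .child 2 false 2983,
  .child 3 false 2983,
  .child 3 false 3515,
  .child 3 true 3515,
  .child 1 false 1112,
  .child 3 false 1112,
  .child 2 true 2518,
  .child 3 true 2518,
  .child 0 false 3775,
  .child 2 true 3775,
  .child 3 true 3775,
  .child 1 true 3264,
  .child 2 false 3426,
  .child 0 true 2422,
  .child 2 true 3247,
  .child 0 true 2699,
  .child 1 true 2699,
  .child 2 true 2699,
  .child 2 false 3248,
  .child 1 false 3003,
  .child 0 false 2514,
  .child 0 true 2514,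
  .child 1 false 1860,
  .child 2 false 1860,
  .child 0 false 2520,
  .child 2 true 3008,
  .child 0 false 3619,
  .child 1 false 3619,
  .child 1 false 3241,
  .child 3 false 3241,
  .child 2 true 3241,
  .child 2 false 782,
  .child 0 false 3157,
  .child 2 false 3157,
  .child 3 false 1918]

/-- part 35 of `twTree0` -/
noncomputable def twTree0P35 : List (Leaf) := [
  .child 3 true 1918,
  .child 2 false 3150,
  .child 0 false 3595,
  .child 3 false 3595,
  .child 3 true 3595,
  .child 2 true 3129,
  .child 1 false 3244,
  .child 2 false 3244,
  .child 3 false 3804,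
  .child 2 false 1201,
  .child 2 true 1201,
  .child 0 false 2208,
  .child 1 true 2208,
  .child 2 true 2208,
  .child 3 false 3873,
  .child 1 true 3873,
  .child 2 true 3873,
  .child 2 false 3748,
  .child 0 false 3443,
  .child 0 true 3443,
  .child 0 false 2650,
  .child 0 true 2660,
  .child 1 false 2866,
  .child 3 false 2866,
  .child 1 true 2866,
  .child 3 true 2866,
  .child 2 false 1813,
  .child 0 true 3282,
  .child 3 true 3282,
  .child 2 true 3504,
  .child 2 true 2848,
  .child 0 true 2925,
  .child 3 true 1029,
  .child 2 false 3396,
  .child 2 true 3159,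
  .child 1 false 3328,
  .child 1 true 2933,
  .child 2 true 2933,
  .child 3 true 2933,
  .child 1 true 1950,
  .child 0 true 2822,
  .child 1 false 1170,
  .child 0 true 1170,
  .child 1 true 1071,
  .child 2 false 3535,
  .child 0 true 768,
  .child 2 true 768,
  .child 1 true 2767,
  .child 1 true 2086,
  .child 3 true 2901,
  .child 0 false 3277,
  .child 0 false 2104,
  .child 0 true 2104,
  .child 2 true 1631,
  .child 2 false 2740,
  .child 0 true 2740,
  .child 3 true 2740,
  .child 2 false 2521,
  .child 0 false 3416,
  .child 1 false 3416,
  .child 3 true 3416,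
  .child 0 false 2974,
  .child 2 true 2845,
  .child 1 false 3405,
  .child 0 false 3406,
  .child 0 true 3406,
  .child 2 true 3406,
  .child 2 false 2142,
  .child 2 false 3167,
  .child 1 true 3167,
  .child 1 true 3815,
  .child 2 true 3815,
  .child 0 true 343,
  .child 0 false 2390,
  .child 2 false 2390,
  .child 0 true 2390,
  .child 1 true 650,
  .child 0 true 811,
  .child 2 false 384,
  .child 2 true 793,
  .child 1 false 1152,
  .child 1 false 2834,
  .child 1 true 2834,
  .child 0 false 2559,
  .child 1 false 999,
  .child 0 true 3138,
  .child 0 false 3311,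
  .child 3 false 3311,
  .child 2 true 3311,
  .child 2 true 3271,
  .child 1 true 1004,
  .child 2 true 1004,
  .child 2 false 3273,
  .child 2 false 3710,
  .child 0 false 3438,
  .child 3 false 3438,
  .child 1 true 3438,
  .child 0 false 2362,
  .child 3 false 2362,
  .child 0 true 2362]

/-- part 36 of `twTree0` -/
noncomputable def twTree0P36 : List (Leaf) := [
  .child 0 false 2069,
  .child 2 true 3632,
  .child 2 false 3098,
  .child 0 false 2068,
  .child 0 false 1232,
  .child 3 false 1232,
  .child 3 true 1232,
  .child 2 false 3232,
  .child 0 false 3184,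
  .child 0 true 3184,
  .child 0 false 2051,
  .child 0 true 2791,
  .child 1 false 2093,
  .child 0 true 2093,
  .child 2 true 2164,
  .child 1 false 3219,
  .child 2 false 3219,
  .child 0 true 3752,
  .child 3 true 3752,
  .child 3 false 1313,
  .child 3 true 1313,
  .child 3 false 929,
  .child 1 false 3032,
  .child 1 false 2595,
  .child 2 false 2610,
  .child 1 true 2607,
  .child 1 false 2541,
  .child 1 true 1022,
  .child 0 false 3094,
  .child 1 true 3094,
  .child 1 true 1901,
  .child 1 true 1851,
  .child 3 false 1701,
  .child 1 true 1701,
  .child 2 true 1701,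
  .child 0 false 2538,
  .child 3 false 2146,
  .child 1 true 2146,
  .child 3 true 1703,
  .child 0 false 2151,
  .child 2 true 402,
  .child 1 false 1346,
  .child 0 true 2092,
  .child 1 false 2868,
  .child 3 false 2868,
  .child 3 true 2868,
  .child 1 false 1167,
  .child 2 true 3805,
  .child 3 false 3049,
  .child 1 true 3049,
  .child 2 true 3049,
  .child 0 true 3046,
  .child 2 true 1550,
  .child 0 false 1614,
  .child 0 true 1614,
  .child 0 false 730,
  .child 3 true 730,
  .child 2 true 1568,
  .child 1 true 1753,
  .child 1 false 3500,
  .child 3 false 3500,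
  .child 2 true 3500,
  .child 3 true 3500,
  .child 1 true 2297,
  .child 2 false 1957,
  .child 2 true 1957,
  .child 1 false 1373,
  .child 2 true 809,
  .child 0 false 1312,
  .child 0 true 1312,
  .child 1 false 586,
  .child 2 false 586,
  .child 1 false 1215,
  .child 2 false 944,
  .child 1 true 944,
  .child 2 true 294,
  .child 3 true 294,
  .child 2 true 1395,
  .child 0 false 2628,
  .child 1 false 991,
  .child 0 true 438,
  .child 2 false 3437,
  .child 1 true 2525,
  .child 0 true 2067,
  .child 1 true 2067,
  .child 1 true 3327,
  .child 2 true 3327,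
  .child 0 false 1068,
  .child 2 true 2793,
  .child 2 false 3348,
  .child 1 true 3348,
  .child 2 true 3306,
  .child 2 true 2733,
  .child 3 true 2733,
  .child 1 false 3310,
  .child 0 false 3346,
  .child 2 false 3670,
  .child 2 true 3670,
  .child 0 false 901,
  .child 3 false 2417]

/-- part 37 of `twTree0` -/
noncomputable def twTree0P37 : List (Leaf) := [
  .child 0 true 2417,
  .child 3 true 2417,
  .child 0 false 1228,
  .child 2 true 1766,
  .child 0 false 2656,
  .child 1 true 3149,
  .child 1 true 1623,
  .child 2 false 3526,
  .child 1 true 3526,
  .child 2 true 3188,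
  .child 2 true 3517,
  .child 2 false 3276,
  .child 2 true 3276,
  .child 1 true 3144,
  .child 2 true 831,
  .child 3 true 1619,
  .child 2 false 759,
  .child 3 false 1553,
  .child 1 true 1553,
  .child 1 false 2441,
  .child 1 true 315,
  .child 2 true 178,
  .child 2 false 1314,
  .child 2 true 1772,
  .child 2 true 1241,
  .child 1 true 961,
  .child 3 false 77,
  .child 3 false 669,
  .child 2 false 3058,
  .child 0 true 3058,
  .child 1 false 3263,
  .child 2 false 3263,
  .child 3 false 3263,
  .child 1 false 778,
  .child 2 false 3560,
  .child 1 true 3560,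
  .child 2 true 2954,
  .child 2 true 58,
  .child 2 false 290,
  .child 0 true 1130,
  .child 1 true 1130,
  .child 2 false 20,
  .child 1 true 20,
  .child 2 true 252,
  .child 3 false 1992,
  .child 0 true 1992,
  .child 3 true 1992,
  .child 3 true 289,
  .child 1 false 1461,
  .child 2 true 2162,
  .child 2 false 1745,
  .child 1 false 2020,
  .child 2 false 2020,
  .child 2 false 3312,
  .child 3 true 1336,
  .child 0 false 3081,
  .child 3 false 3081,
  .child 3 false 2557,
  .child 0 true 1319,
  .child 0 false 3355,
  .child 1 false 478,
  .child 2 false 1807,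
  .child 2 false 3254,
  .child 2 true 3667,
  .child 2 false 2493,
  .child 0 true 2493,
  .child 2 true 1233,
  .child 2 true 1845,
  .child 0 true 1456,
  .child 2 false 1810,
  .child 1 false 3136,
  .child 1 true 3126,
  .child 1 false 3606,
  .child 3 true 3606,
  .child 2 false 3005,
  .child 1 true 3162,
  .child 2 true 2818,
  .child 1 false 2993,
  .child 2 false 177,
  .child 2 true 1305,
  .child 2 false 3246,
  .child 2 false 1725,
  .child 2 true 3530,
  .child 1 false 1563,
  .child 2 true 1563,
  .child 2 true 2292,
  .child 0 false 661,
  .child 0 false 2276,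
  .child 1 true 450,
  .child 2 false 2572,
  .child 0 true 2369,
  .child 2 true 2108,
  .child 2 false 2545,
  .child 3 false 1058,
  .child 1 true 1958,
  .child 1 true 3386,
  .child 3 true 3386,
  .child 1 false 3071,
  .child 1 true 1929,
  .child 2 false 3636]

/-- part 38 of `twTree0` -/
noncomputable def twTree0P38 : List (Leaf) := [
  .child 1 true 2413,
  .child 0 false 838,
  .child 2 true 2425,
  .child 3 false 2721,
  .child 0 true 2721,
  .child 2 true 2502,
  .child 1 true 2296,
  .child 0 true 2324,
  .child 0 false 2403,
  .child 1 false 1221,
  .child 2 false 1211,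
  .child 0 true 50,
  .child 3 false 8,
  .child 1 false 725,
  .child 2 false 2249,
  .child 2 false 93,
  .child 2 true 182,
  .child 2 false 180,
  .child 2 true 2183,
  .child 1 true 2613,
  .child 3 true 2079,
  .child 2 false 500,
  .child 3 true 3385,
  .child 3 true 2984,
  .child 2 true 3137,
  .child 2 true 2987,
  .child 0 true 3452,
  .child 2 false 2961,
  .child 1 true 1630,
  .child 0 false 3665,
  .child 0 true 3023,
  .child 2 false 3479,
  .child 1 true 3838,
  .child 2 true 1524,
  .child 0 false 1967,
  .child 2 true 2234,
  .child 2 false 2923,
  .child 2 true 1119,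
  .child 0 false 3004,
  .child 0 true 3004,
  .child 1 true 3615,
  .child 0 false 2747,
  .child 2 false 1463,
  .child 1 false 3828,
  .child 0 true 2351,
  .child 2 true 2808,
  .child 2 true 1721,
  .child 3 false 2644,
  .child 1 false 1206,
  .child 2 true 2579,
  .child 0 false 1808,
  .child 0 true 1808,
  .child 1 false 1816,
  .child 2 false 1657,
  .child 2 false 2446,
  .child 1 false 1900,
  .child 2 false 2996,
  .child 0 false 2907,
  .child 0 false 1245,
  .child 0 false 3747,
  .child 1 true 3024,
  .child 2 false 1344,
  .child 2 true 1473,
  .child 1 true 3770,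
  .child 3 false 2717,
  .child 3 true 2717,
  .child 1 true 560,
  .child 1 false 3568,
  .child 2 true 694,
  .child 1 true 2666,
  .child 2 true 2666,
  .child 2 true 1864,
  .child 3 true 221,
  .child 1 false 3407,
  .child 2 false 882,
  .child 1 true 2599,
  .child 0 true 2128,
  .child 2 true 2785,
  .child 1 true 2641,
  .child 3 false 1865,
  .child 2 false 3857,
  .child 1 true 3857,
  .child 1 false 1603,
  .child 3 false 2947,
  .child 1 true 2753,
  .child 3 true 2753,
  .child 0 true 1534,
  .child 2 false 1113,
  .child 3 false 1765,
  .child 0 true 2491,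
  .child 1 true 1731,
  .child 2 true 1881,
  .child 2 true 2030,
  .child 2 false 1647,
  .child 1 true 1647,
  .child 0 false 2556,
  .child 2 false 3812,
  .child 2 true 1030,
  .child 2 false 2807,
  .child 2 false 3196]

/-- part 39 of `twTree0` -/
noncomputable def twTree0P39 : List (Leaf) := [
  .child 2 true 1661,
  .child 2 true 321,
  .child 3 false 39,
  .child 0 false 48,
  .child 2 false 38,
  .child 0 false 6]

/-- certificate data -/
noncomputable def twTree0 : List (Leaf) :=
  [twTree0P0, twTree0P1, twTree0P2, twTree0P3, twTree0P4, twTree0P5, twTree0P6, twTree0P7, twTree0P8, twTree0P9, twTree0P10, twTree0P11, twTree0P12, twTree0P13, twTree0P14, twTree0P15, twTree0P16, twTree0P17, twTree0P18, twTree0P19, twTree0P20, twTree0P21, twTree0P22, twTree0P23, twTree0P24, twTree0P25, twTree0P26, twTree0P27, twTree0P28, twTree0P29, twTree0P30, twTree0P31, twTree0P32, twTree0P33, twTree0P34, twTree0P35, twTree0P36, twTree0P37, twTree0P38, twTree0P39].flatten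

/-- part 0 of `twRoots1` -/
noncomputable def twRoots1P0 : List (TRoot) := [
  ⟨[],
    [⟨5,[],[]⟩,⟨13,[],[]⟩,⟨13,[(10,false)],[(5,false),(6,true),(7,true)]⟩,⟨13,[(11,false),(10,false)],[(6,false),(5,false),(7,false),(6,true)]⟩,⟨13,[(12,false),(11,false),(10,false)],[(7,false),(6,false),(5,true)]⟩]⟩,
  ⟨[7],
    [⟨21,[],[]⟩,⟨15,[],[]⟩,⟨15,[(10,false)],[(5,true),(6,true),(7,true)]⟩,⟨15,[(11,false),(10,false)],[(6,false),(7,false),(5,false),(6,true)]⟩,⟨15,[(12,false),(11,false),(10,false)],[(7,false),(6,false),(5,false)]⟩]⟩,
  ⟨[2,0,3,6,5,7],
    [⟨25,[(11,false),(9,false),(11,false),(8,false),(7,false)],[(5,false),(3,false),(6,false),(7,true),(2,false),(5,false)]⟩,⟨25,[(12,false),(10,false),(11,false)],[(5,false),(6,false),(5,false),(7,false),(6,false),(2,true),(5,true)]⟩,⟨25,[],[(7,true),(3,false),(5,false),(6,true)]⟩,⟨25,[(9,false),(7,false),(12,false),(9,false),(12,false)],[(7,false),(0,true),(6,true),(5,true),(1,true),(6,true)]⟩,⟨25,[(9,false),(9,false),(9,false),(8,false),(7,false)],[(2,false),(7,false),(6,false),(5,false),(2,false),(4,false)]⟩]⟩,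
  ⟨[6,4,2,0,3,6,4,6],
    [⟨19,[(9,false),(7,false),(7,false),(7,false)],[(5,false),(2,false),(4,true),(5,true)]⟩,⟨19,[(9,false),(8,false)],[(1,false),(4,true),(6,true),(2,true),(6,false)]⟩,⟨19,[],[(0,false),(2,true),(0,false),(3,true)]⟩,⟨19,[(8,false),(7,false),(7,false)],[(0,true),(2,false)]⟩,⟨19,[(10,false),(10,false)],[(6,false),(5,true),(3,false),(1,true),(7,false)]⟩]⟩]

/-- certificate data -/
noncomputable def twRoots1 : List (TRoot) :=
  [twRoots1P0].flatten

/-- part 0 of `twTree1` -/
noncomputable def twTree1P0 : List (Leaf) := [
  .root 0,
  .root 1,
  .child 6 false 2,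
  .child 7 false 2,
  .child 8 false 2,
  .child 9 false 2,
  .child 6 true 2,
  .child 7 true 2,
  .child 8 true 2,
  .child 9 true 2,
  .child 6 false 246,
  .child 7 false 246,
  .child 8 false 246,
  .child 9 false 246,
  .child 10 false 246,
  .child 11 false 246,
  .child 12 false 246,
  .child 7 true 246,
  .child 8 true 246,
  .child 9 true 246,
  .child 11 true 246,
  .child 12 true 246,
  .child 6 false 249,
  .child 8 false 249,
  .child 9 false 249,
  .child 11 false 249,
  .child 12 false 249,
  .child 6 true 249,
  .child 8 true 249,
  .child 9 true 249,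
  .child 10 true 249,
  .child 11 true 249,
  .child 6 false 117,
  .child 7 false 117,
  .child 8 false 117,
  .child 9 false 117,
  .child 10 false 117,
  .child 11 false 117,
  .child 12 false 117,
  .child 6 true 117,
  .child 7 true 117,
  .child 9 true 117,
  .child 10 true 117,
  .child 11 true 117,
  .child 12 true 117,
  .child 6 false 761,
  .child 8 false 761,
  .child 9 false 761,
  .child 10 false 761,
  .child 11 false 761,
  .child 12 false 761,
  .child 6 true 761,
  .child 7 true 761,
  .child 8 true 761,
  .child 10 true 761,
  .child 11 true 761,
  .child 12 true 761,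
  .child 7 false 259,
  .child 8 false 259,
  .child 9 false 259,
  .child 10 false 259,
  .child 11 false 259,
  .child 12 false 259,
  .child 7 true 259,
  .child 8 true 259,
  .child 9 true 259,
  .child 12 true 259,
  .child 6 false 251,
  .child 8 false 251,
  .child 11 false 251,
  .child 6 true 251,
  .child 8 true 251,
  .child 9 true 251,
  .child 11 true 251,
  .child 6 false 71,
  .child 7 false 71,
  .child 9 false 71,
  .child 10 false 71,
  .child 11 false 71,
  .child 12 false 71,
  .child 6 true 71,
  .child 7 true 71,
  .child 8 true 71,
  .child 9 true 71,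
  .child 10 true 71,
  .child 11 true 71,
  .child 12 true 71,
  .child 6 false 591,
  .child 8 false 591,
  .child 10 false 591,
  .child 11 false 591,
  .child 12 false 591,
  .child 6 true 591,
  .child 8 true 591,
  .child 9 true 591,
  .child 10 true 591,
  .child 11 true 591,
  .child 12 true 591,
  .child 7 false 255,
  .child 8 false 255]

/-- part 1 of `twTree1` -/
noncomputable def twTree1P1 : List (Leaf) := [
  .child 9 false 255,
  .child 7 true 255,
  .child 8 true 255,
  .child 9 true 255,
  .child 6 false 1382,
  .child 7 false 1382,
  .child 8 false 1382,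
  .child 9 false 1382,
  .child 10 false 1382,
  .child 11 false 1382,
  .child 12 false 1382,
  .child 6 true 1382,
  .child 8 true 1382,
  .child 9 true 1382,
  .child 10 true 1382,
  .child 11 true 1382,
  .child 12 true 1382,
  .child 6 false 3794,
  .child 7 false 3794,
  .child 8 false 3794,
  .child 9 false 3794,
  .child 10 false 3794,
  .child 12 false 3794,
  .child 6 true 3794,
  .child 7 true 3794,
  .child 9 true 3794,
  .child 10 true 3794,
  .child 12 true 3794,
  .child 6 false 2969,
  .child 8 false 2969,
  .child 9 false 2969,
  .child 10 false 2969,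
  .child 11 false 2969,
  .child 6 true 2969,
  .child 7 true 2969,
  .child 8 true 2969,
  .child 10 true 2969,
  .child 11 true 2969,
  .child 8 false 243,
  .child 9 false 243,
  .child 6 true 243,
  .child 8 true 243,
  .child 9 true 243,
  .child 6 false 258,
  .child 7 false 258,
  .child 8 false 258,
  .child 9 false 258,
  .child 6 true 258,
  .child 7 true 258,
  .child 8 true 258,
  .child 9 true 258,
  .child 6 false 309,
  .child 7 false 309,
  .child 8 false 309,
  .child 9 false 309,
  .child 11 false 309,
  .child 6 true 309,
  .child 7 true 309,
  .child 8 true 309,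
  .child 9 true 309,
  .child 11 true 309,
  .child 6 false 3223,
  .child 8 false 3223,
  .child 11 false 3223,
  .child 12 false 3223,
  .child 6 true 3223,
  .child 7 true 3223,
  .child 8 true 3223,
  .child 9 true 3223,
  .child 10 true 3223,
  .child 11 true 3223,
  .child 12 true 3223,
  .child 6 false 2496,
  .child 7 false 2496,
  .child 9 false 2496,
  .child 10 false 2496,
  .child 11 false 2496,
  .child 12 false 2496,
  .child 6 true 2496,
  .child 7 true 2496,
  .child 8 true 2496,
  .child 9 true 2496,
  .child 10 true 2496,
  .child 11 true 2496,
  .child 12 true 2496,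
  .child 6 false 2751,
  .child 8 false 2751,
  .child 10 false 2751,
  .child 11 false 2751,
  .child 12 false 2751,
  .child 6 true 2751,
  .child 8 true 2751,
  .child 9 true 2751,
  .child 10 true 2751,
  .child 11 true 2751,
  .child 12 true 2751,
  .child 6 false 254,
  .child 7 false 254,
  .child 8 false 254,
  .child 9 false 254]

/-- part 2 of `twTree1` -/
noncomputable def twTree1P2 : List (Leaf) := [
  .child 6 true 254,
  .child 7 true 254,
  .child 9 true 254,
  .child 6 false 307,
  .child 7 false 307,
  .child 8 false 307,
  .child 9 false 307,
  .child 6 true 307,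
  .child 7 true 307,
  .child 8 true 307,
  .child 9 true 307,
  .child 11 true 307,
  .child 7 false 2772,
  .child 8 false 2772,
  .child 9 false 2772,
  .child 11 false 2772,
  .child 12 false 2772,
  .child 7 true 2772,
  .child 9 true 2772,
  .child 10 true 2772,
  .child 11 true 2772,
  .child 12 true 2772,
  .child 7 false 3801,
  .child 8 false 3801,
  .child 9 false 3801,
  .child 10 false 3801,
  .child 11 false 3801,
  .child 12 false 3801,
  .child 6 true 3801,
  .child 7 true 3801,
  .child 9 true 3801,
  .child 10 true 3801,
  .child 11 true 3801,
  .child 12 true 3801,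
  .child 6 false 277,
  .child 8 false 277,
  .child 9 false 277,
  .child 10 false 277,
  .child 11 false 277,
  .child 12 false 277,
  .child 6 true 277,
  .child 8 true 277,
  .child 10 true 277,
  .child 12 true 277,
  .child 6 false 291,
  .child 7 false 291,
  .child 8 false 291,
  .child 9 false 291,
  .child 12 false 291,
  .child 6 true 291,
  .child 7 true 291,
  .child 8 true 291,
  .child 9 true 291,
  .child 6 false 250,
  .child 7 false 250,
  .child 8 false 250,
  .child 9 false 250,
  .child 6 true 250,
  .child 7 true 250,
  .child 8 true 250,
  .child 7 false 2585,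
  .child 8 false 2585,
  .child 9 false 2585,
  .child 11 false 2585,
  .child 12 false 2585,
  .child 7 true 2585,
  .child 8 true 2585,
  .child 9 true 2585,
  .child 10 true 2585,
  .child 11 true 2585,
  .child 12 true 2585,
  .child 6 false 2283,
  .child 7 false 2283,
  .child 9 false 2283,
  .child 10 false 2283,
  .child 11 false 2283,
  .child 12 false 2283,
  .child 7 true 2283,
  .child 8 true 2283,
  .child 9 true 2283,
  .child 10 true 2283,
  .child 11 true 2283,
  .child 12 true 2283,
  .child 6 false 129,
  .child 8 false 129,
  .child 11 false 129,
  .child 6 true 129,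
  .child 8 true 129,
  .child 9 true 129,
  .child 11 true 129,
  .child 8 false 252,
  .child 9 false 252,
  .child 8 true 252,
  .child 9 true 252,
  .child 6 false 287,
  .child 7 false 287,
  .child 8 false 287,
  .child 9 false 287,
  .child 6 true 287,
  .child 7 true 287]

/-- part 3 of `twTree1` -/
noncomputable def twTree1P3 : List (Leaf) := [
  .child 8 true 287,
  .child 9 true 287,
  .child 6 false 3009,
  .child 7 false 3009,
  .child 8 false 3009,
  .child 9 false 3009,
  .child 10 false 3009,
  .child 12 false 3009,
  .child 7 true 3009,
  .child 8 true 3009,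
  .child 9 true 3009,
  .child 10 true 3009,
  .child 12 true 3009,
  .child 6 false 1941,
  .child 7 false 1941,
  .child 8 false 1941,
  .child 10 false 1941,
  .child 11 false 1941,
  .child 12 false 1941,
  .child 6 true 1941,
  .child 9 true 1941,
  .child 10 true 1941,
  .child 11 true 1941,
  .child 12 true 1941,
  .child 6 false 104,
  .child 7 false 104,
  .child 9 false 104,
  .child 6 true 104,
  .child 7 true 104,
  .child 9 true 104,
  .child 8 false 1963,
  .child 9 false 1963,
  .child 10 false 1963,
  .child 11 false 1963,
  .child 12 false 1963,
  .child 6 true 1963,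
  .child 7 true 1963,
  .child 8 true 1963,
  .child 10 true 1963,
  .child 12 true 1963,
  .child 7 false 70,
  .child 8 false 70,
  .child 9 false 70,
  .child 11 false 70,
  .child 12 false 70,
  .child 6 true 70,
  .child 7 true 70,
  .child 8 true 70,
  .child 9 true 70,
  .child 11 true 70,
  .child 6 false 580,
  .child 7 false 580,
  .child 8 false 580,
  .child 9 false 580,
  .child 10 false 580,
  .child 12 false 580,
  .child 6 true 580,
  .child 7 true 580,
  .child 8 true 580,
  .child 9 true 580,
  .child 10 true 580,
  .child 12 true 580,
  .child 7 false 128,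
  .child 8 false 128,
  .child 9 false 128,
  .child 10 false 128,
  .child 11 false 128,
  .child 7 true 128,
  .child 8 true 128,
  .child 9 true 128,
  .child 11 true 128,
  .child 8 false 1898,
  .child 9 false 1898,
  .child 10 false 1898,
  .child 11 false 1898,
  .child 12 false 1898,
  .child 6 true 1898,
  .child 8 true 1898,
  .child 10 true 1898,
  .child 11 true 1898,
  .child 12 true 1898,
  .child 6 false 3861,
  .child 11 false 3861,
  .child 12 false 3861,
  .child 6 true 3861,
  .child 7 true 3861,
  .child 9 true 3861,
  .child 10 true 3861,
  .child 11 true 3861,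
  .child 12 true 3861,
  .child 8 false 2164,
  .child 10 false 2164,
  .child 12 false 2164,
  .child 6 true 2164,
  .child 8 true 2164,
  .child 10 true 2164,
  .child 11 true 2164,
  .child 12 true 2164,
  .child 6 false 103,
  .child 8 false 103]

/-- part 4 of `twTree1` -/
noncomputable def twTree1P4 : List (Leaf) := [
  .child 9 false 103,
  .child 6 true 103,
  .child 8 true 103,
  .child 9 true 103,
  .child 11 true 103,
  .child 6 false 626,
  .child 7 false 626,
  .child 8 false 626,
  .child 9 false 626,
  .child 6 true 626,
  .child 7 true 626,
  .child 8 true 626,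
  .child 9 true 626,
  .child 10 true 626,
  .child 7 false 395,
  .child 8 false 395,
  .child 9 false 395,
  .child 6 true 395,
  .child 7 true 395,
  .child 8 true 395,
  .child 9 true 395,
  .child 6 false 624,
  .child 7 false 624,
  .child 8 false 624,
  .child 9 false 624,
  .child 10 false 624,
  .child 11 false 624,
  .child 7 true 624,
  .child 9 true 624,
  .child 10 true 624,
  .child 11 true 624,
  .child 7 false 1439,
  .child 8 false 1439,
  .child 9 false 1439,
  .child 10 false 1439,
  .child 11 false 1439,
  .child 12 false 1439,
  .child 6 true 1439,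
  .child 7 true 1439,
  .child 9 true 1439,
  .child 10 true 1439,
  .child 11 true 1439,
  .child 12 true 1439,
  .child 6 false 884,
  .child 8 false 884,
  .child 6 true 884,
  .child 7 true 884,
  .child 8 true 884,
  .child 7 false 284,
  .child 8 false 284,
  .child 9 false 284,
  .child 11 false 284,
  .child 12 false 284,
  .child 7 true 284,
  .child 8 true 284,
  .child 9 true 284,
  .child 11 true 284,
  .child 6 false 576,
  .child 7 false 576,
  .child 8 false 576,
  .child 9 false 576,
  .child 10 false 576,
  .child 12 false 576,
  .child 6 true 576,
  .child 7 true 576,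
  .child 8 true 576,
  .child 9 true 576,
  .child 10 true 576,
  .child 12 true 576,
  .child 7 false 603,
  .child 8 false 603,
  .child 9 false 603,
  .child 10 false 603,
  .child 6 true 603,
  .child 7 true 603,
  .child 8 true 603,
  .child 9 true 603,
  .child 10 true 603,
  .child 11 true 603,
  .child 7 false 3263,
  .child 9 false 3263,
  .child 10 false 3263,
  .child 11 false 3263,
  .child 12 false 3263,
  .child 6 true 3263,
  .child 7 true 3263,
  .child 9 true 3263,
  .child 10 true 3263,
  .child 11 true 3263,
  .child 12 true 3263,
  .child 6 false 538,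
  .child 8 false 538,
  .child 11 false 538,
  .child 6 true 538,
  .child 7 true 538,
  .child 8 true 538,
  .child 11 true 538,
  .child 7 false 1673,
  .child 9 false 1673,
  .child 10 false 1673]

/-- part 5 of `twTree1` -/
noncomputable def twTree1P5 : List (Leaf) := [
  .child 12 false 1673,
  .child 6 true 1673,
  .child 7 true 1673,
  .child 8 true 1673,
  .child 9 true 1673,
  .child 10 true 1673,
  .child 11 true 1673,
  .child 12 true 1673,
  .child 8 false 359,
  .child 9 false 359,
  .child 8 true 359,
  .child 9 true 359,
  .child 11 true 359,
  .child 6 false 577,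
  .child 7 false 577,
  .child 8 false 577,
  .child 9 false 577,
  .child 6 true 577,
  .child 7 true 577,
  .child 8 true 577,
  .child 9 true 577,
  .child 10 true 577,
  .child 12 true 577,
  .child 6 false 635,
  .child 7 false 635,
  .child 9 false 635,
  .child 6 true 635,
  .child 7 true 635,
  .child 8 true 635,
  .child 9 true 635,
  .child 11 true 635,
  .child 7 false 3607,
  .child 9 false 3607,
  .child 10 false 3607,
  .child 11 false 3607,
  .child 12 false 3607,
  .child 6 true 3607,
  .child 8 true 3607,
  .child 9 true 3607,
  .child 10 true 3607,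
  .child 11 true 3607,
  .child 12 true 3607,
  .child 8 false 1574,
  .child 10 false 1574,
  .child 11 false 1574,
  .child 12 false 1574,
  .child 6 true 1574,
  .child 9 true 1574,
  .child 10 true 1574,
  .child 11 true 1574,
  .child 12 true 1574,
  .child 9 false 1776,
  .child 10 false 1776,
  .child 11 false 1776,
  .child 12 false 1776,
  .child 6 true 1776,
  .child 7 true 1776,
  .child 8 true 1776,
  .child 10 true 1776,
  .child 11 true 1776,
  .child 12 true 1776,
  .child 8 false 245,
  .child 6 true 245,
  .child 8 true 245,
  .child 9 true 245,
  .child 6 false 244,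
  .child 7 false 244,
  .child 8 false 244,
  .child 9 false 244,
  .child 6 true 244,
  .child 7 true 244,
  .child 8 true 244,
  .child 6 false 308,
  .child 7 false 308,
  .child 8 false 308,
  .child 9 false 308,
  .child 6 true 308,
  .child 7 true 308,
  .child 8 true 308,
  .child 9 true 308,
  .child 8 false 1359,
  .child 11 false 1359,
  .child 12 false 1359,
  .child 6 true 1359,
  .child 7 true 1359,
  .child 8 true 1359,
  .child 9 true 1359,
  .child 10 true 1359,
  .child 11 true 1359,
  .child 12 true 1359,
  .child 6 false 3800,
  .child 7 false 3800,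
  .child 9 false 3800,
  .child 10 false 3800,
  .child 6 true 3800,
  .child 7 true 3800,
  .child 8 true 3800,
  .child 9 true 3800,
  .child 10 true 3800,
  .child 12 true 3800]

/-- part 6 of `twTree1` -/
noncomputable def twTree1P6 : List (Leaf) := [
  .child 6 false 3831,
  .child 8 false 3831,
  .child 11 false 3831,
  .child 6 true 3831,
  .child 8 true 3831,
  .child 9 true 3831,
  .child 10 true 3831,
  .child 11 true 3831,
  .child 6 false 306,
  .child 8 false 306,
  .child 9 false 306,
  .child 6 true 306,
  .child 7 true 306,
  .child 9 true 306,
  .child 7 false 2483,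
  .child 9 false 2483,
  .child 11 false 2483,
  .child 12 false 2483,
  .child 7 true 2483,
  .child 9 true 2483,
  .child 11 true 2483,
  .child 12 true 2483,
  .child 8 false 3880,
  .child 10 false 3880,
  .child 11 false 3880,
  .child 12 false 3880,
  .child 7 true 3880,
  .child 9 true 3880,
  .child 10 true 3880,
  .child 11 true 3880,
  .child 12 true 3880,
  .child 6 false 289,
  .child 7 false 289,
  .child 8 false 289,
  .child 9 false 289,
  .child 6 true 289,
  .child 7 true 289,
  .child 8 true 289,
  .child 9 true 289,
  .child 7 false 3827,
  .child 9 false 3827,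
  .child 11 false 3827,
  .child 12 false 3827,
  .child 7 true 3827,
  .child 8 true 3827,
  .child 9 true 3827,
  .child 11 true 3827,
  .child 12 true 3827,
  .child 6 false 3437,
  .child 10 false 3437,
  .child 11 false 3437,
  .child 12 false 3437,
  .child 8 true 3437,
  .child 9 true 3437,
  .child 10 true 3437,
  .child 11 true 3437,
  .child 6 false 285,
  .child 6 true 285,
  .child 8 true 285,
  .child 9 true 285,
  .child 6 false 296,
  .child 7 false 296,
  .child 8 false 296,
  .child 9 false 296,
  .child 6 true 296,
  .child 7 true 296,
  .child 8 true 296,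
  .child 9 true 296,
  .child 6 false 2097,
  .child 10 false 2097,
  .child 11 false 2097,
  .child 12 false 2097,
  .child 8 true 2097,
  .child 9 true 2097,
  .child 10 true 2097,
  .child 11 true 2097,
  .child 12 true 2097,
  .child 6 false 3865,
  .child 7 false 3865,
  .child 10 false 3865,
  .child 11 false 3865,
  .child 12 false 3865,
  .child 6 true 3865,
  .child 9 true 3865,
  .child 10 true 3865,
  .child 11 true 3865,
  .child 12 true 3865,
  .child 6 false 3754,
  .child 8 false 3754,
  .child 10 false 3754,
  .child 12 false 3754,
  .child 7 true 3754,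
  .child 8 true 3754,
  .child 10 true 3754,
  .child 11 true 3754,
  .child 7 false 116,
  .child 8 false 116,
  .child 9 false 116,
  .child 6 true 116,
  .child 7 true 116]

/-- part 7 of `twTree1` -/
noncomputable def twTree1P7 : List (Leaf) := [
  .child 8 true 116,
  .child 9 true 116,
  .child 11 true 116,
  .child 6 false 907,
  .child 7 false 907,
  .child 8 false 907,
  .child 9 false 907,
  .child 6 true 907,
  .child 7 true 907,
  .child 8 true 907,
  .child 9 true 907,
  .child 10 true 907,
  .child 7 false 552,
  .child 8 false 552,
  .child 9 false 552,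
  .child 7 true 552,
  .child 8 true 552,
  .child 9 true 552,
  .child 10 false 3007,
  .child 12 false 3007,
  .child 6 true 3007,
  .child 7 true 3007,
  .child 8 true 3007,
  .child 9 true 3007,
  .child 10 true 3007,
  .child 12 true 3007,
  .child 11 false 2762,
  .child 12 false 2762,
  .child 6 true 2762,
  .child 7 true 2762,
  .child 8 true 2762,
  .child 10 true 2762,
  .child 11 true 2762,
  .child 7 false 87,
  .child 9 false 87,
  .child 6 true 87,
  .child 7 true 87,
  .child 9 true 87,
  .child 8 false 709,
  .child 10 false 709,
  .child 11 false 709,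
  .child 12 false 709,
  .child 8 true 709,
  .child 9 true 709,
  .child 10 true 709,
  .child 12 true 709,
  .child 6 false 86,
  .child 6 true 86,
  .child 8 true 86,
  .child 9 true 86,
  .child 6 false 746,
  .child 7 false 746,
  .child 8 false 746,
  .child 9 false 746,
  .child 6 true 746,
  .child 7 true 746,
  .child 8 true 746,
  .child 6 false 226,
  .child 7 false 226,
  .child 9 false 226,
  .child 7 true 226,
  .child 8 true 226,
  .child 9 true 226,
  .child 6 false 2952,
  .child 7 false 2952,
  .child 10 false 2952,
  .child 11 false 2952,
  .child 12 false 2952,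
  .child 7 true 2952,
  .child 9 true 2952,
  .child 10 true 2952,
  .child 11 true 2952,
  .child 12 true 2952,
  .child 6 false 3514,
  .child 10 false 3514,
  .child 12 false 3514,
  .child 7 true 3514,
  .child 9 true 3514,
  .child 10 true 3514,
  .child 11 true 3514,
  .child 7 false 275,
  .child 8 false 275,
  .child 9 false 275,
  .child 7 true 275,
  .child 8 true 275,
  .child 9 true 275,
  .child 11 true 275,
  .child 6 false 574,
  .child 7 false 574,
  .child 8 false 574,
  .child 9 false 574,
  .child 6 true 574,
  .child 7 true 574,
  .child 8 true 574,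
  .child 9 true 574,
  .child 10 true 574,
  .child 12 true 574,
  .child 6 false 214,
  .child 7 false 214,
  .child 8 false 214]

/-- part 8 of `twTree1` -/
noncomputable def twTree1P8 : List (Leaf) := [
  .child 9 false 214,
  .child 7 true 214,
  .child 8 true 214,
  .child 9 true 214,
  .child 7 false 2850,
  .child 10 false 2850,
  .child 11 false 2850,
  .child 6 true 2850,
  .child 7 true 2850,
  .child 9 true 2850,
  .child 10 true 2850,
  .child 11 true 2850,
  .child 10 false 537,
  .child 11 false 537,
  .child 12 false 537,
  .child 7 true 537,
  .child 8 true 537,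
  .child 9 true 537,
  .child 10 true 537,
  .child 11 true 537,
  .child 12 true 537,
  .child 6 false 361,
  .child 8 false 361,
  .child 6 true 361,
  .child 8 true 361,
  .child 8 false 360,
  .child 9 false 360,
  .child 8 true 360,
  .child 6 false 575,
  .child 7 false 575,
  .child 9 false 575,
  .child 6 true 575,
  .child 7 true 575,
  .child 8 true 575,
  .child 9 true 575,
  .child 6 false 387,
  .child 7 false 387,
  .child 8 false 387,
  .child 6 true 387,
  .child 7 true 387,
  .child 6 false 3352,
  .child 7 false 3352,
  .child 8 false 3352,
  .child 9 false 3352,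
  .child 11 false 3352,
  .child 12 false 3352,
  .child 6 true 3352,
  .child 8 true 3352,
  .child 9 true 3352,
  .child 10 true 3352,
  .child 11 true 3352,
  .child 12 true 3352,
  .child 6 false 3116,
  .child 7 false 3116,
  .child 8 false 3116,
  .child 9 false 3116,
  .child 10 false 3116,
  .child 12 false 3116,
  .child 6 true 3116,
  .child 7 true 3116,
  .child 9 true 3116,
  .child 12 true 3116,
  .child 6 false 1740,
  .child 8 false 1740,
  .child 9 false 1740,
  .child 10 false 1740,
  .child 11 false 1740,
  .child 6 true 1740,
  .child 7 true 1740,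
  .child 8 true 1740,
  .child 10 true 1740,
  .child 11 true 1740,
  .child 6 false 2411,
  .child 8 false 2411,
  .child 11 false 2411,
  .child 12 false 2411,
  .child 6 true 2411,
  .child 7 true 2411,
  .child 8 true 2411,
  .child 9 true 2411,
  .child 10 true 2411,
  .child 11 true 2411,
  .child 12 true 2411,
  .child 6 false 1863,
  .child 7 false 1863,
  .child 9 false 1863,
  .child 10 false 1863,
  .child 11 false 1863,
  .child 12 false 1863,
  .child 6 true 1863,
  .child 7 true 1863,
  .child 8 true 1863,
  .child 9 true 1863,
  .child 10 true 1863,
  .child 12 true 1863,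
  .child 6 false 2133,
  .child 8 false 2133,
  .child 10 false 2133,
  .child 11 false 2133,
  .child 12 false 2133]

/-- part 9 of `twTree1` -/
noncomputable def twTree1P9 : List (Leaf) := [
  .child 6 true 2133,
  .child 8 true 2133,
  .child 9 true 2133,
  .child 10 true 2133,
  .child 12 true 2133,
  .child 6 false 1006,
  .child 7 false 1006,
  .child 9 false 1006,
  .child 10 false 1006,
  .child 11 false 1006,
  .child 12 false 1006,
  .child 9 true 1006,
  .child 10 true 1006,
  .child 11 true 1006,
  .child 12 true 1006,
  .child 6 false 1143,
  .child 8 false 1143,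
  .child 9 false 1143,
  .child 6 true 1143,
  .child 8 true 1143,
  .child 11 true 1143,
  .child 12 true 1143,
  .child 7 false 1946,
  .child 8 false 1946,
  .child 9 false 1946,
  .child 10 false 1946,
  .child 11 false 1946,
  .child 6 true 1946,
  .child 7 true 1946,
  .child 9 true 1946,
  .child 10 true 1946,
  .child 11 true 1946,
  .child 6 false 3464,
  .child 8 false 3464,
  .child 9 false 3464,
  .child 10 false 3464,
  .child 11 false 3464,
  .child 12 false 3464,
  .child 8 true 3464,
  .child 11 true 3464,
  .child 12 true 3464,
  .child 7 false 1425,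
  .child 8 false 1425,
  .child 11 false 1425,
  .child 12 false 1425,
  .child 7 true 1425,
  .child 8 true 1425,
  .child 9 true 1425,
  .child 11 true 1425,
  .child 12 true 1425,
  .child 6 false 1386,
  .child 7 false 1386,
  .child 9 false 1386,
  .child 10 false 1386,
  .child 12 false 1386,
  .child 6 true 1386,
  .child 8 true 1386,
  .child 9 true 1386,
  .child 10 true 1386,
  .child 12 true 1386,
  .child 6 false 3363,
  .child 7 false 3363,
  .child 9 false 3363,
  .child 10 false 3363,
  .child 6 true 3363,
  .child 7 true 3363,
  .child 8 true 3363,
  .child 9 true 3363,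
  .child 10 true 3363,
  .child 11 true 3363,
  .child 9 false 3053,
  .child 11 false 3053,
  .child 6 true 3053,
  .child 7 true 3053,
  .child 8 true 3053,
  .child 9 true 3053,
  .child 10 true 3053,
  .child 11 true 3053,
  .child 12 true 3053,
  .child 6 false 1206,
  .child 7 false 1206,
  .child 9 false 1206,
  .child 10 false 1206,
  .child 11 false 1206,
  .child 12 false 1206,
  .child 6 true 1206,
  .child 7 true 1206,
  .child 8 true 1206,
  .child 9 true 1206,
  .child 10 true 1206,
  .child 11 true 1206,
  .child 12 true 1206,
  .child 6 false 3140,
  .child 10 false 3140,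
  .child 11 false 3140,
  .child 6 true 3140,
  .child 8 true 3140,
  .child 9 true 3140,
  .child 10 true 3140,
  .child 11 true 3140]

/-- part 10 of `twTree1` -/
noncomputable def twTree1P10 : List (Leaf) := [
  .child 8 false 1462,
  .child 9 false 1462,
  .child 8 true 1462,
  .child 10 true 1462,
  .child 11 true 1462,
  .child 6 false 1379,
  .child 7 false 1379,
  .child 8 false 1379,
  .child 9 false 1379,
  .child 6 true 1379,
  .child 7 true 1379,
  .child 9 true 1379,
  .child 10 true 1379,
  .child 12 true 1379,
  .child 6 false 2078,
  .child 7 false 2078,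
  .child 8 false 2078,
  .child 9 false 2078,
  .child 7 true 2078,
  .child 8 true 2078,
  .child 9 true 2078,
  .child 7 false 1788,
  .child 8 false 1788,
  .child 10 false 1788,
  .child 11 false 1788,
  .child 12 false 1788,
  .child 7 true 1788,
  .child 8 true 1788,
  .child 9 true 1788,
  .child 10 true 1788,
  .child 11 true 1788,
  .child 12 true 1788,
  .child 6 false 3181,
  .child 7 false 3181,
  .child 8 false 3181,
  .child 10 false 3181,
  .child 11 false 3181,
  .child 9 true 3181,
  .child 10 true 3181,
  .child 11 true 3181,
  .child 6 false 2474,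
  .child 7 false 2474,
  .child 6 true 2474,
  .child 9 true 2474,
  .child 10 true 2474,
  .child 11 true 2474,
  .child 12 true 2474,
  .child 9 false 710,
  .child 11 false 710,
  .child 8 true 710,
  .child 10 true 710,
  .child 11 true 710,
  .child 12 true 710,
  .child 7 false 3719,
  .child 8 false 3719,
  .child 9 false 3719,
  .child 12 false 3719,
  .child 6 true 3719,
  .child 7 true 3719,
  .child 8 true 3719,
  .child 9 true 3719,
  .child 6 false 2908,
  .child 8 false 2908,
  .child 10 false 2908,
  .child 6 true 2908,
  .child 7 true 2908,
  .child 10 true 2908,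
  .child 11 true 2908,
  .child 8 false 3332,
  .child 9 false 3332,
  .child 10 false 3332,
  .child 12 false 3332,
  .child 6 true 3332,
  .child 7 true 3332,
  .child 8 true 3332,
  .child 9 true 3332,
  .child 10 true 3332,
  .child 11 true 3332,
  .child 6 false 3895,
  .child 8 false 3895,
  .child 10 true 3895,
  .child 8 false 1646,
  .child 12 false 1646,
  .child 6 true 1646,
  .child 9 true 1646,
  .child 11 true 1646,
  .child 6 false 2123,
  .child 8 false 2123,
  .child 9 false 2123,
  .child 6 true 2123,
  .child 10 true 2123,
  .child 6 false 2711,
  .child 8 false 2711,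
  .child 9 false 2711,
  .child 7 true 2711,
  .child 8 true 2711,
  .child 6 false 1031,
  .child 7 false 1031,
  .child 9 false 1031,
  .child 10 false 1031]

/-- part 11 of `twTree1` -/
noncomputable def twTree1P11 : List (Leaf) := [
  .child 11 false 1031,
  .child 7 true 1031,
  .child 8 true 1031,
  .child 9 true 1031,
  .child 11 true 1031,
  .child 12 true 1031,
  .child 7 false 2487,
  .child 8 false 2487,
  .child 11 false 2487,
  .child 7 true 2487,
  .child 9 true 2487,
  .child 10 true 2487,
  .child 11 true 2487,
  .child 12 true 2487,
  .child 6 true 3277,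
  .child 7 true 3277,
  .child 8 true 3277,
  .child 10 true 3277,
  .child 11 true 3277,
  .child 12 true 3277,
  .child 7 false 2989,
  .child 12 false 2989,
  .child 6 true 2989,
  .child 7 true 2989,
  .child 9 true 2989,
  .child 7 false 3855,
  .child 8 false 3855,
  .child 6 true 3855,
  .child 8 true 3855,
  .child 9 true 3855,
  .child 9 false 1583,
  .child 10 false 1583,
  .child 12 false 1583,
  .child 6 true 1583,
  .child 7 true 1583,
  .child 8 true 1583,
  .child 9 true 1583,
  .child 10 true 1583,
  .child 11 true 1583,
  .child 6 false 1666,
  .child 8 false 1666,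
  .child 11 false 1666,
  .child 12 false 1666,
  .child 6 true 1666,
  .child 7 true 1666,
  .child 8 true 1666,
  .child 10 true 1666,
  .child 11 true 1666,
  .child 12 true 1666,
  .child 7 false 3622,
  .child 9 false 3622,
  .child 10 false 3622,
  .child 6 true 3622,
  .child 7 true 3622,
  .child 8 true 3622,
  .child 12 true 3622,
  .child 6 true 3628,
  .child 8 true 3628,
  .child 10 true 3628,
  .child 6 false 3709,
  .child 7 false 3709,
  .child 8 false 3709,
  .child 6 true 3709,
  .child 8 true 3709,
  .child 9 true 3709,
  .child 7 false 1826,
  .child 8 false 1826,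
  .child 9 false 1826,
  .child 10 false 1826,
  .child 12 false 1826,
  .child 6 true 1826,
  .child 9 true 1826,
  .child 10 true 1826,
  .child 12 true 1826,
  .child 6 false 372,
  .child 8 false 372,
  .child 9 false 372,
  .child 10 false 372,
  .child 11 false 372,
  .child 12 false 372,
  .child 6 true 372,
  .child 8 true 372,
  .child 11 true 372,
  .child 12 true 372,
  .child 7 false 2868,
  .child 8 false 2868,
  .child 9 false 2868,
  .child 11 false 2868,
  .child 12 false 2868,
  .child 8 true 2868,
  .child 9 true 2868,
  .child 11 true 2868,
  .child 12 true 2868,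
  .child 7 false 2978,
  .child 9 false 2978,
  .child 10 false 2978,
  .child 11 false 2978,
  .child 12 false 2978,
  .child 8 true 2978,
  .child 9 true 2978]

/-- part 12 of `twTree1` -/
noncomputable def twTree1P12 : List (Leaf) := [
  .child 11 true 2978,
  .child 8 false 112,
  .child 6 true 112,
  .child 8 true 112,
  .child 6 false 1128,
  .child 7 false 1128,
  .child 8 false 1128,
  .child 11 false 1128,
  .child 12 false 1128,
  .child 7 true 1128,
  .child 8 true 1128,
  .child 9 true 1128,
  .child 12 true 1128,
  .child 6 false 1224,
  .child 7 false 1224,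
  .child 8 false 1224,
  .child 9 false 1224,
  .child 11 false 1224,
  .child 12 false 1224,
  .child 6 true 1224,
  .child 9 true 1224,
  .child 10 true 1224,
  .child 11 true 1224,
  .child 12 true 1224,
  .child 6 false 499,
  .child 7 false 499,
  .child 10 false 499,
  .child 6 true 499,
  .child 7 true 499,
  .child 9 true 499,
  .child 10 true 499,
  .child 12 true 499,
  .child 10 false 3095,
  .child 11 false 3095,
  .child 12 false 3095,
  .child 6 true 3095,
  .child 7 true 3095,
  .child 10 true 3095,
  .child 11 true 3095,
  .child 12 true 3095,
  .child 7 false 3221,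
  .child 9 false 3221,
  .child 10 false 3221,
  .child 12 false 3221,
  .child 6 true 3221,
  .child 7 true 3221,
  .child 8 true 3221,
  .child 9 true 3221,
  .child 12 true 3221,
  .child 6 false 3364,
  .child 8 false 3364,
  .child 11 false 3364,
  .child 12 false 3364,
  .child 7 true 3364,
  .child 8 true 3364,
  .child 9 true 3364,
  .child 10 true 3364,
  .child 11 true 3364,
  .child 12 true 3364,
  .child 7 false 2764,
  .child 11 false 2764,
  .child 12 false 2764,
  .child 7 true 2764,
  .child 8 true 2764,
  .child 11 true 2764,
  .child 12 true 2764,
  .child 8 false 3121,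
  .child 10 false 3121,
  .child 11 false 3121,
  .child 6 true 3121,
  .child 9 true 3121,
  .child 10 true 3121,
  .child 12 true 3121,
  .child 8 false 1127,
  .child 11 false 1127,
  .child 12 false 1127,
  .child 7 true 1127,
  .child 8 true 1127,
  .child 9 true 1127,
  .child 11 true 1127,
  .child 12 true 1127,
  .child 8 false 1154,
  .child 6 true 1154,
  .child 8 true 1154,
  .child 9 true 1154,
  .child 10 true 1154,
  .child 12 true 1154,
  .child 6 false 69,
  .child 9 false 69,
  .child 7 true 69,
  .child 6 false 2879,
  .child 9 false 2879,
  .child 10 false 2879,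
  .child 11 false 2879,
  .child 7 true 2879,
  .child 10 true 2879,
  .child 11 true 2879,
  .child 6 false 288,
  .child 7 false 288,
  .child 9 false 288]

/-- part 13 of `twTree1` -/
noncomputable def twTree1P13 : List (Leaf) := [
  .child 9 true 288,
  .child 7 false 3482,
  .child 8 false 3482,
  .child 9 false 3482,
  .child 11 false 3482,
  .child 12 false 3482,
  .child 9 true 3482,
  .child 11 true 3482,
  .child 12 true 3482,
  .child 6 false 1185,
  .child 8 false 1185,
  .child 6 true 1185,
  .child 8 true 1185,
  .child 9 true 1185,
  .child 12 true 1185,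
  .child 6 false 67,
  .child 7 false 67,
  .child 9 false 67,
  .child 11 false 67,
  .child 12 false 67,
  .child 6 true 67,
  .child 7 true 67,
  .child 8 true 67,
  .child 9 true 67,
  .child 11 true 67,
  .child 6 false 852,
  .child 8 false 852,
  .child 10 false 852,
  .child 12 false 852,
  .child 6 true 852,
  .child 8 true 852,
  .child 9 true 852,
  .child 10 true 852,
  .child 12 true 852,
  .child 6 false 290,
  .child 7 false 290,
  .child 8 false 290,
  .child 9 false 290,
  .child 6 true 290,
  .child 7 true 290,
  .child 9 true 290,
  .child 6 false 3414,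
  .child 9 false 3414,
  .child 10 false 3414,
  .child 11 false 3414,
  .child 7 true 3414,
  .child 9 true 3414,
  .child 11 true 3414,
  .child 12 true 3414,
  .child 7 true 3564,
  .child 9 true 3564,
  .child 6 false 3637,
  .child 7 false 3637,
  .child 8 false 3637,
  .child 9 false 3637,
  .child 10 false 3637,
  .child 12 false 3637,
  .child 6 true 3637,
  .child 7 true 3637,
  .child 8 true 3637,
  .child 10 true 3637,
  .child 12 true 3637,
  .child 6 false 1238,
  .child 7 false 1238,
  .child 8 false 1238,
  .child 10 false 1238,
  .child 6 true 1238,
  .child 7 true 1238,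
  .child 8 true 1238,
  .child 9 true 1238,
  .child 10 true 1238,
  .child 11 true 1238,
  .child 7 false 2834,
  .child 9 false 2834,
  .child 11 false 2834,
  .child 6 true 2834,
  .child 9 true 2834,
  .child 11 true 2834,
  .child 6 false 2276,
  .child 8 false 2276,
  .child 6 true 2276,
  .child 8 true 2276,
  .child 9 true 2276,
  .child 11 true 2276,
  .child 12 true 2276,
  .child 6 false 1845,
  .child 11 false 1845,
  .child 12 false 1845,
  .child 9 true 1845,
  .child 10 true 1845,
  .child 11 true 1845,
  .child 12 true 1845,
  .child 6 false 3751,
  .child 10 false 3751,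
  .child 11 false 3751,
  .child 12 false 3751,
  .child 8 true 3751,
  .child 9 true 3751,
  .child 10 true 3751,
  .child 11 true 3751]

/-- part 14 of `twTree1` -/
noncomputable def twTree1P14 : List (Leaf) := [
  .child 12 true 3751,
  .child 8 true 895,
  .child 9 true 895,
  .child 10 true 895,
  .child 11 true 895,
  .child 6 false 3731,
  .child 7 false 3731,
  .child 8 false 3731,
  .child 6 true 3731,
  .child 7 true 3731,
  .child 8 true 3731,
  .child 9 true 3731,
  .child 12 true 3731,
  .child 6 false 1159,
  .child 6 true 1159,
  .child 7 true 1159,
  .child 8 true 1159,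
  .child 9 true 1159,
  .child 6 false 1027,
  .child 9 false 1027,
  .child 10 false 1027,
  .child 11 false 1027,
  .child 8 true 1027,
  .child 9 true 1027,
  .child 10 true 1027,
  .child 11 true 1027,
  .child 12 true 1027,
  .child 6 false 690,
  .child 6 true 690,
  .child 8 true 690,
  .child 9 true 690,
  .child 10 true 690,
  .child 12 true 690,
  .child 6 false 776,
  .child 8 false 776,
  .child 9 false 776,
  .child 10 false 776,
  .child 11 false 776,
  .child 12 false 776,
  .child 7 true 776,
  .child 8 true 776,
  .child 10 true 776,
  .child 11 true 776,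
  .child 12 true 776,
  .child 8 false 1573,
  .child 11 false 1573,
  .child 12 false 1573,
  .child 8 true 1573,
  .child 9 true 1573,
  .child 11 true 1573,
  .child 12 true 1573,
  .child 8 false 643,
  .child 9 false 643,
  .child 10 false 643,
  .child 12 false 643,
  .child 6 true 643,
  .child 7 true 643,
  .child 8 true 643,
  .child 9 true 643,
  .child 8 false 1514,
  .child 9 false 1514,
  .child 10 false 1514,
  .child 7 true 1514,
  .child 8 true 1514,
  .child 10 true 1514,
  .child 10 false 2681,
  .child 11 false 2681,
  .child 12 false 2681,
  .child 6 true 2681,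
  .child 7 true 2681,
  .child 8 true 2681,
  .child 9 true 2681,
  .child 11 true 2681,
  .child 12 true 2681,
  .child 6 true 2603,
  .child 7 true 2603,
  .child 8 true 2603,
  .child 10 true 2603,
  .child 11 true 2603,
  .child 12 true 2603,
  .child 7 false 3110,
  .child 9 false 3110,
  .child 6 true 3110,
  .child 7 true 3110,
  .child 8 false 1856,
  .child 10 false 1856,
  .child 12 false 1856,
  .child 8 true 1856,
  .child 9 true 1856,
  .child 10 true 1856,
  .child 11 true 1856,
  .child 6 false 1571,
  .child 9 false 1571,
  .child 6 true 1571,
  .child 8 true 1571,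
  .child 10 true 1571,
  .child 11 true 1571,
  .child 6 false 641,
  .child 8 false 641,
  .child 9 false 641]

/-- part 15 of `twTree1` -/
noncomputable def twTree1P15 : List (Leaf) := [
  .child 6 true 641,
  .child 8 true 641,
  .child 10 true 641,
  .child 7 false 209,
  .child 8 false 209,
  .child 9 false 209,
  .child 6 true 209,
  .child 8 true 209,
  .child 9 true 209,
  .child 6 false 987,
  .child 7 false 987,
  .child 11 false 987,
  .child 12 false 987,
  .child 7 true 987,
  .child 9 true 987,
  .child 10 true 987,
  .child 12 true 987,
  .child 6 false 1781,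
  .child 11 false 1781,
  .child 12 false 1781,
  .child 7 true 1781,
  .child 9 true 1781,
  .child 11 true 1781,
  .child 12 true 1781,
  .child 9 false 1775,
  .child 12 false 1775,
  .child 7 true 1775,
  .child 12 true 1775,
  .child 6 false 230,
  .child 7 false 230,
  .child 8 false 230,
  .child 10 false 230,
  .child 12 false 230,
  .child 8 true 230,
  .child 9 true 230,
  .child 6 false 186,
  .child 8 false 186,
  .child 10 false 186,
  .child 11 false 186,
  .child 7 true 186,
  .child 10 true 186,
  .child 11 true 186,
  .child 7 false 1756,
  .child 11 false 1756,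
  .child 12 false 1756,
  .child 6 true 1756,
  .child 8 true 1756,
  .child 9 true 1756,
  .child 11 true 1756,
  .child 10 false 235,
  .child 12 false 235,
  .child 7 true 235,
  .child 8 true 235,
  .child 9 true 235,
  .child 11 true 235,
  .child 6 true 2767,
  .child 8 true 2767,
  .child 10 true 2767,
  .child 11 true 2767,
  .child 6 false 1773,
  .child 8 false 1773,
  .child 9 false 1773,
  .child 9 true 1773,
  .child 10 true 1773,
  .child 11 true 1773,
  .child 6 false 855,
  .child 9 false 855,
  .child 6 true 855,
  .child 7 true 855,
  .child 8 true 855,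
  .child 9 true 855,
  .child 12 true 855,
  .child 6 false 188,
  .child 8 false 188,
  .child 6 true 188,
  .child 7 true 188,
  .child 8 true 188,
  .child 11 true 188,
  .child 11 true 3598,
  .child 9 false 1151,
  .child 11 false 1151,
  .child 12 false 1151,
  .child 6 true 1151,
  .child 10 true 1151,
  .child 11 true 1151,
  .child 12 true 1151,
  .child 6 false 3402,
  .child 7 false 3402,
  .child 7 true 3402,
  .child 9 true 3402,
  .child 11 true 3402,
  .child 12 true 3402,
  .child 8 false 2976,
  .child 9 false 2976,
  .child 11 false 2976,
  .child 12 false 2976,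
  .child 11 true 2976,
  .child 12 true 2976,
  .child 7 false 548,
  .child 7 true 548]

/-- part 16 of `twTree1` -/
noncomputable def twTree1P16 : List (Leaf) := [
  .child 8 true 548,
  .child 9 true 548,
  .child 11 true 548,
  .child 6 false 3355,
  .child 8 false 3355,
  .child 11 false 3355,
  .child 12 false 3355,
  .child 6 true 3355,
  .child 7 true 3355,
  .child 11 true 3355,
  .child 12 true 3355,
  .child 11 false 3611,
  .child 6 true 3611,
  .child 8 true 3611,
  .child 10 true 3611,
  .child 12 true 3611,
  .child 11 false 1839,
  .child 12 false 1839,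
  .child 7 true 1839,
  .child 8 true 1839,
  .child 9 true 1839,
  .child 11 true 1839,
  .child 12 true 1839,
  .child 7 false 3028,
  .child 6 true 3028,
  .child 9 true 3028,
  .child 10 true 3028,
  .child 11 true 3028,
  .child 12 true 3028,
  .child 8 false 708,
  .child 11 false 708,
  .child 6 true 708,
  .child 7 true 708,
  .child 9 true 708,
  .child 11 true 708,
  .child 8 false 2348,
  .child 9 false 2348,
  .child 10 false 2348,
  .child 6 true 2348,
  .child 10 true 2348,
  .child 8 false 1223,
  .child 12 false 1223,
  .child 7 true 1223,
  .child 11 true 1223,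
  .child 12 true 1223,
  .child 7 true 446,
  .child 10 true 446,
  .child 6 false 106,
  .child 9 false 106,
  .child 6 true 106,
  .child 8 true 106,
  .child 9 true 106,
  .child 10 false 1952,
  .child 8 true 1952,
  .child 9 true 1952,
  .child 11 true 1952,
  .child 9 false 286,
  .child 7 true 286,
  .child 9 true 286,
  .child 6 false 3510,
  .child 7 false 3510,
  .child 8 false 3510,
  .child 9 false 3510,
  .child 9 true 3510,
  .child 10 true 3510,
  .child 8 false 3359,
  .child 9 false 3359,
  .child 10 false 3359,
  .child 12 false 3359,
  .child 9 false 2140,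
  .child 11 false 2140,
  .child 11 true 2140,
  .child 12 true 2140,
  .child 6 false 1633,
  .child 7 false 1633,
  .child 12 false 1633,
  .child 6 true 1633,
  .child 9 true 1633,
  .child 6 false 1174,
  .child 7 false 1174,
  .child 9 false 1174,
  .child 10 false 1174,
  .child 6 true 1174,
  .child 7 true 1174,
  .child 9 true 1174,
  .child 12 false 1896,
  .child 10 true 1896,
  .child 12 true 1896,
  .child 12 false 3846,
  .child 10 true 3846,
  .child 12 true 3846,
  .child 6 false 1785,
  .child 9 false 1785,
  .child 6 true 1785,
  .child 10 true 1785,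
  .child 11 true 1785,
  .child 6 false 2368,
  .child 7 false 2368,
  .child 8 false 2368,
  .child 9 false 2368]

/-- part 17 of `twTree1` -/
noncomputable def twTree1P17 : List (Leaf) := [
  .child 7 true 2368,
  .child 10 true 2368,
  .child 6 false 1176,
  .child 7 false 1176,
  .child 6 true 1176,
  .child 7 true 1176,
  .child 8 true 1176,
  .child 7 false 79,
  .child 6 true 79,
  .child 10 true 79,
  .child 11 true 79,
  .child 6 false 1135,
  .child 7 false 1135,
  .child 9 false 1135,
  .child 11 true 1135,
  .child 12 true 1135,
  .child 8 false 2782,
  .child 10 false 2782,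
  .child 11 false 2782,
  .child 12 false 2782,
  .child 6 true 2782,
  .child 7 true 2782,
  .child 8 true 2782,
  .child 10 true 2782,
  .child 11 true 2782,
  .child 12 true 2782,
  .child 8 false 3585,
  .child 12 false 3585,
  .child 6 true 3585,
  .child 7 true 3585,
  .child 8 true 3585,
  .child 9 true 3585,
  .child 11 true 3585,
  .child 9 false 2375,
  .child 7 true 2375,
  .child 9 true 2375,
  .child 10 true 2375,
  .child 12 true 2375,
  .child 6 false 847,
  .child 7 false 847,
  .child 9 false 847,
  .child 10 false 847,
  .child 6 true 847,
  .child 8 true 847,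
  .child 10 true 847,
  .child 8 false 2378,
  .child 10 false 2378,
  .child 12 false 2378,
  .child 6 true 2378,
  .child 10 true 2378,
  .child 12 true 2378,
  .child 11 false 1758,
  .child 6 true 1758,
  .child 7 true 1758,
  .child 11 true 1758,
  .child 8 false 3174,
  .child 10 false 3174,
  .child 11 false 3174,
  .child 12 false 3174,
  .child 6 true 3174,
  .child 9 true 3174,
  .child 11 true 3174,
  .child 12 true 3174,
  .child 10 true 2798,
  .child 11 true 2798,
  .child 7 false 2066,
  .child 8 false 2066,
  .child 9 false 2066,
  .child 7 true 2066,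
  .child 9 true 2066,
  .child 10 true 2066,
  .child 12 true 2066,
  .child 8 false 705,
  .child 6 true 705,
  .child 8 false 3055,
  .child 9 false 3055,
  .child 10 false 3055,
  .child 11 false 3055,
  .child 12 false 3055,
  .child 11 true 3055,
  .child 7 false 3194,
  .child 8 false 3194,
  .child 10 false 3194,
  .child 11 false 3194,
  .child 12 false 3194,
  .child 12 true 3194,
  .child 8 false 80,
  .child 7 false 274,
  .child 8 false 274,
  .child 12 false 274,
  .child 7 true 274,
  .child 8 true 274,
  .child 9 true 274,
  .child 8 false 111,
  .child 9 false 111,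
  .child 6 true 111,
  .child 7 true 111,
  .child 7 false 74,
  .child 8 false 74,
  .child 7 true 74]

/-- part 18 of `twTree1` -/
noncomputable def twTree1P18 : List (Leaf) := [
  .child 9 true 74,
  .child 7 false 1933,
  .child 11 false 1933,
  .child 12 false 1933,
  .child 6 true 1933,
  .child 7 true 1933,
  .child 8 true 1933,
  .child 11 true 1933,
  .child 7 false 3228,
  .child 9 false 3228,
  .child 10 false 3228,
  .child 12 false 3228,
  .child 8 true 3228,
  .child 11 true 3228,
  .child 12 true 3228,
  .child 8 false 304,
  .child 9 true 304,
  .child 8 false 107,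
  .child 9 false 107,
  .child 7 true 107,
  .child 6 false 1216,
  .child 7 false 1216,
  .child 9 false 1216,
  .child 10 false 1216,
  .child 11 false 1216,
  .child 12 false 1216,
  .child 7 true 1216,
  .child 9 true 1216,
  .child 6 false 423,
  .child 7 false 423,
  .child 8 false 423,
  .child 9 false 423,
  .child 12 false 423,
  .child 6 true 423,
  .child 8 true 423,
  .child 9 true 423,
  .child 7 false 3485,
  .child 9 false 3485,
  .child 11 false 3485,
  .child 12 false 3485,
  .child 6 true 3485,
  .child 10 true 3485,
  .child 11 true 3485,
  .child 12 true 3485,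
  .child 6 false 1436,
  .child 10 false 1436,
  .child 12 false 1436,
  .child 7 true 1436,
  .child 8 true 1436,
  .child 6 false 292,
  .child 9 false 292,
  .child 6 true 292,
  .child 9 true 292,
  .child 7 false 1463,
  .child 8 false 1463,
  .child 9 false 1463,
  .child 6 true 1463,
  .child 9 true 1463,
  .child 6 false 1180,
  .child 6 true 1180,
  .child 7 true 1180,
  .child 8 true 1180,
  .child 11 true 1180,
  .child 6 false 959,
  .child 10 false 959,
  .child 12 false 959,
  .child 6 true 959,
  .child 8 true 959,
  .child 9 true 959,
  .child 10 true 959,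
  .child 10 false 1774,
  .child 12 false 1774,
  .child 10 true 1774,
  .child 7 false 2152,
  .child 11 false 2152,
  .child 11 false 1319,
  .child 12 false 1319,
  .child 6 true 1319,
  .child 10 true 1319,
  .child 11 true 1319,
  .child 12 true 1319,
  .child 10 false 1550,
  .child 11 false 1550,
  .child 7 true 1550,
  .child 10 true 1550,
  .child 11 true 1550,
  .child 10 true 3881,
  .child 11 true 3881,
  .child 11 false 3600,
  .child 6 true 3600,
  .child 9 true 3600,
  .child 11 false 2862,
  .child 12 false 2862,
  .child 6 true 2862,
  .child 7 true 2862,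
  .child 8 true 2862,
  .child 11 true 2862,
  .child 12 true 2862,
  .child 7 false 3141,
  .child 7 true 3141]

/-- part 19 of `twTree1` -/
noncomputable def twTree1P19 : List (Leaf) := [
  .child 9 true 3141,
  .child 11 true 3141,
  .child 7 false 3173,
  .child 9 false 3173,
  .child 11 false 3173,
  .child 6 true 3173,
  .child 6 false 1593,
  .child 8 false 1593,
  .child 12 true 1593,
  .child 9 false 3692,
  .child 11 false 3692,
  .child 12 false 3692,
  .child 6 true 3692,
  .child 10 true 3692,
  .child 11 true 3692,
  .child 6 false 1446,
  .child 7 false 1446,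
  .child 9 false 1446,
  .child 9 true 1446,
  .child 10 true 1446,
  .child 6 false 1149,
  .child 7 false 1149,
  .child 8 false 1149,
  .child 9 false 1149,
  .child 6 true 1149,
  .child 7 true 1149,
  .child 8 true 1149,
  .child 11 true 1149,
  .child 12 false 3325,
  .child 7 true 3325,
  .child 10 true 3325,
  .child 10 false 3858,
  .child 11 false 3858,
  .child 12 false 3858,
  .child 10 true 3858,
  .child 12 true 3858,
  .child 10 false 3448,
  .child 11 true 3448,
  .child 8 false 2613,
  .child 6 true 2613,
  .child 8 true 2613,
  .child 9 true 2613,
  .child 10 true 2613,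
  .child 11 true 2613,
  .child 8 false 2527,
  .child 9 false 2527,
  .child 6 true 2527,
  .child 9 true 2527,
  .child 10 true 2527,
  .child 7 false 1125,
  .child 7 true 1125,
  .child 8 true 1125,
  .child 8 true 1723,
  .child 7 false 3580,
  .child 11 false 3580,
  .child 12 false 3580,
  .child 9 true 3580,
  .child 12 true 3580,
  .child 9 false 790,
  .child 10 false 790,
  .child 11 false 790,
  .child 10 true 790,
  .child 11 true 790,
  .child 12 true 790,
  .child 8 false 3708,
  .child 6 true 3708,
  .child 9 true 3708,
  .child 6 false 3813,
  .child 7 false 3813,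
  .child 8 true 3813,
  .child 10 true 3813,
  .child 8 false 2485,
  .child 9 false 2485,
  .child 10 false 2485,
  .child 6 true 2485,
  .child 11 false 1586,
  .child 6 true 1586,
  .child 10 true 1586,
  .child 11 true 1586,
  .child 9 true 1052,
  .child 10 true 1052,
  .child 10 false 3714,
  .child 11 false 3714,
  .child 9 true 3714,
  .child 10 true 3714,
  .child 11 true 3714,
  .child 6 false 3652,
  .child 9 true 3652,
  .child 10 true 3652,
  .child 9 true 3613,
  .child 6 false 3042,
  .child 9 false 3042,
  .child 8 true 3042,
  .child 7 false 2752,
  .child 10 false 2752,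
  .child 9 true 2752,
  .child 11 true 2752,
  .child 10 false 3624,
  .child 11 false 3624,
  .child 12 false 3624]

/-- part 20 of `twTree1` -/
noncomputable def twTree1P20 : List (Leaf) := [
  .child 9 true 3624,
  .child 11 true 3624,
  .child 12 true 3624,
  .child 7 false 539,
  .child 7 true 539,
  .child 10 false 1083,
  .child 8 true 1083,
  .child 11 false 2725,
  .child 12 false 2725,
  .child 10 true 2725,
  .child 11 true 2725,
  .child 6 false 339,
  .child 11 true 339,
  .child 7 true 228,
  .child 7 false 991,
  .child 9 false 991,
  .child 10 true 991,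
  .child 12 true 991,
  .child 8 false 3145,
  .child 6 true 3145,
  .child 10 true 3145,
  .child 12 true 3145,
  .child 6 true 1810,
  .child 7 true 1810,
  .child 12 true 1810,
  .child 6 true 1717,
  .child 8 true 1717,
  .child 10 true 1717,
  .child 6 false 2441,
  .child 7 false 2441,
  .child 8 false 2441,
  .child 9 false 2441,
  .child 12 false 2441,
  .child 7 true 2441,
  .child 8 true 2441,
  .child 9 true 2441,
  .child 7 false 1592,
  .child 8 false 1592,
  .child 9 false 1592,
  .child 11 false 1592,
  .child 6 true 1592,
  .child 8 true 1592,
  .child 9 true 1592,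
  .child 11 true 1592,
  .child 6 false 2318,
  .child 8 false 2318,
  .child 11 false 2318,
  .child 12 false 2318,
  .child 9 true 2318,
  .child 11 true 2318,
  .child 12 true 2318,
  .child 6 false 3231,
  .child 8 true 3231,
  .child 10 true 3231,
  .child 11 true 3231,
  .child 12 true 3231,
  .child 7 false 2705,
  .child 9 false 2705,
  .child 12 false 2705,
  .child 8 true 2705,
  .child 9 true 2705,
  .child 12 true 2705,
  .child 8 false 2872,
  .child 12 false 2872,
  .child 7 true 2872,
  .child 6 false 3407,
  .child 10 false 3407,
  .child 11 false 3407,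
  .child 12 false 3407,
  .child 6 true 3407,
  .child 7 true 3407,
  .child 8 true 3407,
  .child 10 true 3407,
  .child 12 true 3407,
  .child 6 false 3531,
  .child 6 true 3531,
  .child 9 true 3531,
  .child 11 true 3531,
  .child 12 true 3531,
  .child 10 true 2504,
  .child 12 true 2504,
  .child 10 false 2600,
  .child 12 false 2600,
  .child 11 false 1213,
  .child 11 true 1213,
  .child 9 false 3843,
  .child 12 false 3843,
  .child 6 true 3843,
  .child 9 true 3843,
  .child 7 false 3131,
  .child 8 false 3131,
  .child 7 true 3131,
  .child 11 true 3131,
  .child 11 false 3239,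
  .child 11 true 3239,
  .child 12 true 3239,
  .child 11 false 2833,
  .child 7 true 2833,
  .child 6 false 3849,
  .child 9 false 3849]

/-- part 21 of `twTree1` -/
noncomputable def twTree1P21 : List (Leaf) := [
  .child 8 true 3849,
  .child 8 false 2649,
  .child 9 false 2649,
  .child 7 true 2649,
  .child 9 true 2649,
  .child 11 false 2759,
  .child 10 true 2759,
  .child 8 false 2998,
  .child 9 true 2998,
  .child 11 true 2998,
  .child 7 false 3447,
  .child 8 false 3447,
  .child 7 true 3447,
  .child 9 true 3447,
  .child 11 true 3447,
  .child 8 false 486,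
  .child 9 false 486,
  .child 10 true 486,
  .child 7 false 692,
  .child 10 true 692,
  .child 9 false 2878,
  .child 10 true 2878,
  .child 12 true 2878,
  .child 11 false 1474,
  .child 12 false 1474,
  .child 12 true 1474,
  .child 8 true 2686,
  .child 10 true 2686,
  .child 8 false 382,
  .child 9 false 382,
  .child 6 true 382,
  .child 10 true 382,
  .child 12 true 382,
  .child 6 true 204,
  .child 7 true 204,
  .child 9 true 204,
  .child 8 false 3627,
  .child 12 true 3627,
  .child 8 false 2883,
  .child 11 false 2883,
  .child 10 true 2883,
  .child 11 true 2883,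
  .child 12 true 2883,
  .child 9 false 2699,
  .child 10 false 2699,
  .child 12 false 2699,
  .child 10 false 2766,
  .child 12 false 2766,
  .child 6 true 2766,
  .child 8 false 1654,
  .child 12 false 1654,
  .child 6 true 1654,
  .child 7 true 1654,
  .child 9 true 1654,
  .child 11 false 2112,
  .child 6 true 2112,
  .child 12 true 2112,
  .child 7 false 1791,
  .child 10 false 1791,
  .child 11 false 1791,
  .child 12 false 1791,
  .child 6 true 1791,
  .child 10 true 1791,
  .child 11 true 1791,
  .child 12 true 1791,
  .child 8 false 3900,
  .child 11 true 3900,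
  .child 9 false 1089,
  .child 12 false 1089,
  .child 7 true 1089,
  .child 8 true 1089,
  .child 9 true 1089,
  .child 9 false 2605,
  .child 6 true 2605,
  .child 9 true 2605,
  .child 6 false 1489,
  .child 9 false 1489,
  .child 6 true 1489,
  .child 7 true 1489,
  .child 8 true 1489,
  .child 12 false 2277,
  .child 10 true 2277,
  .child 11 true 2277,
  .child 12 true 2277,
  .child 11 false 3666,
  .child 12 false 3666,
  .child 11 false 712,
  .child 12 false 712,
  .child 11 true 712,
  .child 12 true 712,
  .child 6 false 1777,
  .child 9 false 1777,
  .child 6 true 1777,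
  .child 9 true 1777,
  .child 8 false 2329,
  .child 6 true 2329,
  .child 8 true 2329,
  .child 8 false 2566,
  .child 11 false 2566,
  .child 8 true 2566]

/-- part 22 of `twTree1` -/
noncomputable def twTree1P22 : List (Leaf) := [
  .child 11 true 2566,
  .child 9 true 1228,
  .child 10 false 3577,
  .child 12 false 3577,
  .child 7 true 3577,
  .child 8 true 3577,
  .child 10 true 3577,
  .child 8 false 224,
  .child 6 false 227,
  .child 8 true 227,
  .child 7 true 3868,
  .child 11 true 3868,
  .child 11 false 2790,
  .child 12 false 2790,
  .child 8 true 2790,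
  .child 6 false 2921,
  .child 10 false 943,
  .child 11 false 943,
  .child 12 false 943,
  .child 11 true 943,
  .child 7 false 127,
  .child 8 false 127,
  .child 9 false 127,
  .child 7 true 127,
  .child 8 false 2128,
  .child 9 false 2128,
  .child 10 false 2128,
  .child 11 false 2128,
  .child 12 false 2128,
  .child 8 true 2128,
  .child 10 true 2128,
  .child 6 false 1457,
  .child 7 false 1457,
  .child 8 false 1457,
  .child 10 false 1457,
  .child 6 true 1457,
  .child 8 true 1457,
  .child 10 true 1457,
  .child 12 true 1457,
  .child 8 false 702,
  .child 10 false 702,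
  .child 11 false 702,
  .child 12 false 702,
  .child 9 true 702,
  .child 10 true 702,
  .child 12 true 702,
  .child 6 false 3566,
  .child 9 false 3566,
  .child 10 false 3566,
  .child 11 false 3566,
  .child 8 true 3566,
  .child 10 true 3566,
  .child 7 false 607,
  .child 8 false 607,
  .child 9 true 18,
  .child 7 false 2214,
  .child 9 false 2214,
  .child 10 false 2214,
  .child 8 true 2214,
  .child 7 true 1677,
  .child 8 true 1677,
  .child 10 true 1677,
  .child 11 true 1677,
  .child 12 true 1677,
  .child 12 false 2654,
  .child 6 true 2654,
  .child 9 true 2654,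
  .child 10 true 2654,
  .child 12 true 2654,
  .child 10 false 1597,
  .child 11 false 1597,
  .child 6 true 1597,
  .child 8 true 1597,
  .child 8 false 639,
  .child 6 true 639,
  .child 9 true 639,
  .child 6 true 95,
  .child 8 true 95,
  .child 9 true 95,
  .child 10 false 3267,
  .child 6 true 3267,
  .child 11 true 3267,
  .child 8 false 3659,
  .child 9 false 3659,
  .child 10 false 3659,
  .child 6 true 3659,
  .child 10 true 3659,
  .child 6 false 1244,
  .child 8 false 1244,
  .child 7 true 1244,
  .child 8 false 124,
  .child 6 true 124,
  .child 7 false 120,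
  .child 7 true 120,
  .child 11 false 3787,
  .child 11 true 3787,
  .child 7 false 3503,
  .child 9 false 3503,
  .child 10 false 3503,
  .child 8 true 3503]

/-- part 23 of `twTree1` -/
noncomputable def twTree1P23 : List (Leaf) := [
  .child 9 true 3503,
  .child 11 false 1718,
  .child 9 true 1718,
  .child 12 true 1718,
  .child 9 true 90,
  .child 10 false 1779,
  .child 6 true 1779,
  .child 7 true 1779,
  .child 12 false 2010,
  .child 8 false 1059,
  .child 12 false 1059,
  .child 8 true 1059,
  .child 11 true 1059,
  .child 8 false 2684,
  .child 10 false 2684,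
  .child 7 true 2684,
  .child 8 true 2684,
  .child 9 true 2684,
  .child 8 false 1602,
  .child 10 false 1602,
  .child 9 true 1602,
  .child 10 true 1602,
  .child 9 true 3816,
  .child 10 true 3816,
  .child 11 false 1967,
  .child 6 true 1967,
  .child 6 false 1542,
  .child 10 true 1542,
  .child 8 true 1937,
  .child 9 true 1937,
  .child 10 true 1937,
  .child 8 false 1599,
  .child 6 true 1599,
  .child 7 true 1599,
  .child 8 true 1599,
  .child 9 true 1599,
  .child 6 false 3851,
  .child 8 true 3851,
  .child 12 true 3851,
  .child 7 false 3836,
  .child 8 false 3836,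
  .child 6 true 3836,
  .child 9 true 3836,
  .child 6 true 2298,
  .child 7 true 2298,
  .child 6 false 2884,
  .child 8 false 2884,
  .child 6 true 2884,
  .child 9 true 2884,
  .child 11 false 1598,
  .child 12 false 1598,
  .child 12 true 1598,
  .child 9 true 3699,
  .child 10 true 3699,
  .child 12 false 1071,
  .child 7 true 1071,
  .child 12 true 1071,
  .child 9 false 3041,
  .child 11 true 3041,
  .child 9 false 3736,
  .child 11 true 3736,
  .child 11 false 3388,
  .child 12 true 3388,
  .child 11 false 3591,
  .child 7 true 3591,
  .child 11 true 3591,
  .child 8 true 3035,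
  .child 10 true 2158,
  .child 7 true 3702,
  .child 12 true 3702,
  .child 9 false 2551,
  .child 7 true 2551,
  .child 6 true 2728,
  .child 10 true 2728,
  .child 7 true 549,
  .child 11 true 549,
  .child 8 true 2789,
  .child 8 true 225,
  .child 7 false 2632,
  .child 9 false 2632,
  .child 7 false 2317,
  .child 8 false 2317,
  .child 9 false 2317,
  .child 11 false 2317,
  .child 12 false 2317,
  .child 6 true 2317,
  .child 6 false 2630,
  .child 7 false 2630,
  .child 8 false 2630,
  .child 10 false 2630,
  .child 11 false 2630,
  .child 7 true 2630,
  .child 9 true 2630,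
  .child 10 true 2630,
  .child 12 true 2630,
  .child 6 false 3202,
  .child 8 false 3202,
  .child 10 true 3202,
  .child 11 true 3202,
  .child 12 true 3202]

/-- part 24 of `twTree1` -/
noncomputable def twTree1P24 : List (Leaf) := [
  .child 7 false 3711,
  .child 10 false 3711,
  .child 6 true 3711,
  .child 7 true 3711,
  .child 11 true 2619,
  .child 12 true 2619,
  .child 12 false 618,
  .child 12 true 618,
  .child 6 true 747,
  .child 7 false 3559,
  .child 8 false 3559,
  .child 6 true 3559,
  .child 8 true 3559,
  .child 9 false 2815,
  .child 7 true 2815,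
  .child 12 true 2815,
  .child 6 false 2660,
  .child 8 false 2660,
  .child 9 false 2660,
  .child 10 false 2660,
  .child 6 true 2660,
  .child 12 true 2660,
  .child 8 false 305,
  .child 11 false 305,
  .child 6 true 1157,
  .child 6 true 3525,
  .child 7 true 3525,
  .child 11 true 3525,
  .child 12 true 3525,
  .child 6 true 2902,
  .child 8 true 2902,
  .child 11 true 2902,
  .child 10 true 1713,
  .child 11 true 2565,
  .child 11 true 617,
  .child 12 true 617,
  .child 6 true 1110,
  .child 9 true 1110,
  .child 6 false 3896,
  .child 6 true 3896,
  .child 7 true 3896,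
  .child 8 true 3896,
  .child 7 true 197,
  .child 11 false 1540,
  .child 9 false 2847,
  .child 8 true 2847,
  .child 8 false 2899,
  .child 9 false 2899,
  .child 6 true 2899,
  .child 9 true 2899,
  .child 7 false 2204,
  .child 10 false 2204,
  .child 11 false 2204,
  .child 6 true 2204,
  .child 10 true 2204,
  .child 11 true 2204,
  .child 12 true 2204,
  .child 11 true 3768,
  .child 7 true 786,
  .child 8 false 530,
  .child 9 false 530,
  .child 7 true 530,
  .child 7 false 3609,
  .child 8 true 3609,
  .child 6 false 1181,
  .child 7 false 1181,
  .child 8 false 1181,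
  .child 6 true 1181,
  .child 7 true 1181,
  .child 9 true 1181,
  .child 10 true 1181,
  .child 7 true 1824,
  .child 12 true 1824,
  .child 8 false 1650,
  .child 12 false 1650,
  .child 10 false 1675,
  .child 8 true 1432,
  .child 10 true 1432,
  .child 6 false 1466,
  .child 7 false 1466,
  .child 8 false 1466,
  .child 9 true 1466,
  .child 6 true 3350,
  .child 8 true 3350,
  .child 10 false 2484,
  .child 12 false 2484,
  .child 7 false 2155,
  .child 7 true 2155,
  .child 11 true 2155,
  .child 12 true 2155,
  .child 7 false 698,
  .child 9 false 698,
  .child 10 false 698,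
  .child 12 false 698,
  .child 6 false 215,
  .child 8 false 215,
  .child 11 false 215,
  .child 7 false 3772,
  .child 6 false 2586,
  .child 9 false 2586]

/-- part 25 of `twTree1` -/
noncomputable def twTree1P25 : List (Leaf) := [
  .child 8 true 2586,
  .child 9 true 2586,
  .child 6 false 2924,
  .child 8 false 3677,
  .child 11 false 3677,
  .child 12 false 3677,
  .child 11 true 3677,
  .child 6 false 105,
  .child 7 true 105,
  .child 7 false 952,
  .child 9 false 952,
  .child 9 true 952,
  .child 11 false 3386,
  .child 6 false 3117,
  .child 11 false 3117,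
  .child 8 true 3117,
  .child 11 true 3117,
  .child 6 false 3240,
  .child 11 false 3240,
  .child 8 true 3240,
  .child 8 true 118,
  .child 8 false 1990,
  .child 9 false 1990,
  .child 9 true 1990,
  .child 10 true 1990,
  .child 10 false 2937,
  .child 6 true 2937,
  .child 9 true 2937,
  .child 12 true 2937,
  .child 10 false 3476,
  .child 6 false 1971,
  .child 11 false 1971,
  .child 12 true 1971,
  .child 8 false 551,
  .child 7 true 551,
  .child 10 false 3227,
  .child 11 false 2431,
  .child 12 false 2431,
  .child 8 true 2431,
  .child 9 true 2431,
  .child 12 true 2431,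
  .child 6 false 3655,
  .child 7 true 3655,
  .child 9 true 3655,
  .child 10 true 3655,
  .child 6 false 879,
  .child 10 false 879,
  .child 6 true 879,
  .child 8 true 879,
  .child 9 true 879,
  .child 6 true 101,
  .child 6 false 131,
  .child 8 false 131,
  .child 9 false 131,
  .child 9 false 3384,
  .child 10 false 3384,
  .child 6 true 3384,
  .child 9 true 3384,
  .child 11 true 3384,
  .child 7 false 589,
  .child 11 true 589,
  .child 8 true 3844,
  .child 9 false 213,
  .child 6 true 213,
  .child 8 false 3065,
  .child 12 false 3065,
  .child 9 true 3065,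
  .child 12 false 1536,
  .child 10 true 1536,
  .child 8 true 1384,
  .child 7 false 276,
  .child 11 true 1641,
  .child 12 false 1070,
  .child 6 true 1070,
  .child 12 false 3674,
  .child 12 true 3674,
  .child 9 false 1596,
  .child 6 true 1596,
  .child 10 false 2083,
  .child 11 true 2083,
  .child 10 true 1025,
  .child 8 true 3746,
  .child 7 false 1355,
  .child 6 true 1355,
  .child 9 true 1355,
  .child 12 true 1355,
  .child 8 false 2374,
  .child 6 true 2374,
  .child 11 true 2374,
  .child 12 false 2100,
  .child 12 true 2100,
  .child 8 false 2742,
  .child 11 false 2742,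
  .child 7 false 130,
  .child 7 true 130,
  .child 7 true 2846,
  .child 12 true 1939,
  .child 6 false 125,
  .child 7 true 125,
  .child 9 true 125]

/-- part 26 of `twTree1` -/
noncomputable def twTree1P26 : List (Leaf) := [
  .child 12 true 857,
  .child 10 false 1780,
  .child 7 true 1780,
  .child 8 false 2973,
  .child 11 false 2973,
  .child 11 true 2973,
  .child 6 true 3057,
  .child 11 true 3057,
  .child 11 true 3238,
  .child 6 true 3700,
  .child 7 true 3700,
  .child 9 true 3700,
  .child 11 true 3700,
  .child 9 false 2167,
  .child 8 true 2167,
  .child 10 true 2167,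
  .child 11 true 3251,
  .child 10 false 1745,
  .child 11 false 1745,
  .child 10 true 1745,
  .child 11 true 1745,
  .child 9 false 1475,
  .child 10 true 1475,
  .child 6 true 2146,
  .child 8 true 2146,
  .child 9 true 2146,
  .child 11 true 2146,
  .child 8 true 2909,
  .child 10 true 2909,
  .child 6 false 3544,
  .child 8 false 3544,
  .child 12 false 1512,
  .child 9 true 1512,
  .child 6 false 3541,
  .child 6 true 3541,
  .child 6 false 3630,
  .child 11 true 3630,
  .child 10 false 494,
  .child 6 false 1763,
  .child 8 true 945,
  .child 9 true 945,
  .child 6 false 126,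
  .child 9 true 126,
  .child 8 true 2822,
  .child 12 true 2822,
  .child 9 false 2882,
  .child 12 false 2882,
  .child 8 true 2882,
  .child 8 false 1615,
  .child 6 true 1615,
  .child 6 true 1467,
  .child 8 true 338,
  .child 9 false 2572,
  .child 11 false 3593,
  .child 6 true 3593,
  .child 11 true 1215,
  .child 7 false 2438,
  .child 9 false 2438,
  .child 9 true 2438,
  .child 12 true 2438,
  .child 8 true 142,
  .child 11 true 142,
  .child 7 false 1651,
  .child 6 true 1651,
  .child 10 true 1651,
  .child 12 true 1651,
  .child 6 true 3894,
  .child 6 true 3579,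
  .child 8 true 2606,
  .child 9 true 2606,
  .child 9 false 3810,
  .child 6 true 1236,
  .child 8 true 1236,
  .child 9 false 2495,
  .child 8 true 2495,
  .child 9 true 205,
  .child 8 false 1516,
  .child 6 true 3097,
  .child 7 true 3097,
  .child 10 true 3097,
  .child 12 true 1910,
  .child 6 true 751,
  .child 8 true 751,
  .child 7 false 2501,
  .child 9 true 2501,
  .child 6 true 3142,
  .child 11 false 1341,
  .child 6 false 3501,
  .child 6 false 479,
  .child 8 false 479,
  .child 6 false 184,
  .child 6 true 184,
  .child 7 true 2211,
  .child 11 true 2211,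
  .child 12 true 1184,
  .child 7 false 1955,
  .child 9 false 1955,
  .child 10 true 1955,
  .child 11 true 1955,
  .child 10 false 891]

/-- part 27 of `twTree1` -/
noncomputable def twTree1P27 : List (Leaf) := [
  .child 7 true 1420,
  .child 8 true 1420,
  .child 7 true 141,
  .child 8 true 141,
  .child 10 true 141,
  .child 7 true 1331,
  .child 12 true 1331,
  .child 11 false 1183,
  .child 7 true 1183,
  .child 8 false 3222,
  .child 9 false 3222,
  .child 6 true 3222,
  .child 7 false 65,
  .child 9 false 65,
  .child 11 true 65,
  .child 8 false 2063,
  .child 9 false 2063,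
  .child 6 true 2063,
  .child 9 false 2913,
  .child 12 false 2913,
  .child 12 true 2913,
  .child 6 false 1124,
  .child 6 true 91,
  .child 11 false 3163,
  .child 8 false 140,
  .child 11 true 140,
  .child 6 false 1229,
  .child 9 false 1229,
  .child 7 false 3281,
  .child 8 false 3281,
  .child 7 true 3281,
  .child 9 true 3281,
  .child 11 true 3281,
  .child 7 true 3515,
  .child 8 true 2108,
  .child 11 true 3375,
  .child 6 false 1353,
  .child 6 true 1353,
  .child 9 true 2357,
  .child 12 false 3885,
  .child 10 false 3427,
  .child 10 true 3427,
  .child 12 false 2743,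
  .child 8 true 2635,
  .child 11 false 1340,
  .child 11 false 2830,
  .child 11 true 2830,
  .child 7 true 2279,
  .child 9 true 3697,
  .child 7 false 2838,
  .child 11 true 1581,
  .child 6 false 3814,
  .child 11 false 1797,
  .child 10 true 3495,
  .child 9 false 3368,
  .child 8 true 3368,
  .child 9 false 89,
  .child 8 false 3421,
  .child 11 true 3421,
  .child 11 false 2601,
  .child 12 false 2601,
  .child 12 true 2601,
  .child 10 true 1998,
  .child 7 true 1448,
  .child 9 true 1448,
  .child 8 false 1961,
  .child 7 true 1961,
  .child 6 false 995,
  .child 9 true 995,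
  .child 6 false 3430,
  .child 9 true 3430,
  .child 10 true 3430,
  .child 6 false 2562,
  .child 9 false 2562,
  .child 7 false 2470,
  .child 8 true 3093,
  .child 7 true 1073,
  .child 9 false 1091,
  .child 9 true 1091,
  .child 9 true 1814,
  .child 8 false 1924,
  .child 9 false 1924,
  .child 12 true 1924,
  .child 10 false 3500,
  .child 12 false 3500,
  .child 7 true 3500,
  .child 6 true 2821,
  .child 9 true 425,
  .child 11 false 3032,
  .child 7 true 3032,
  .child 8 true 3032,
  .child 11 true 3032,
  .child 8 false 1511,
  .child 12 false 1511,
  .child 6 true 1511,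
  .child 7 true 3866,
  .child 6 false 2468,
  .child 6 true 2468,
  .child 6 false 1178,
  .child 7 true 1178]

/-- part 28 of `twTree1` -/
noncomputable def twTree1P28 : List (Leaf) := [
  .child 6 true 3615,
  .child 8 true 3615,
  .child 12 false 1487,
  .child 8 true 1487,
  .child 9 true 1487,
  .child 11 true 1648,
  .child 7 true 138,
  .child 6 false 1320,
  .child 12 true 1320,
  .child 7 false 2794,
  .child 8 true 2794,
  .child 7 false 2085,
  .child 8 false 849,
  .child 7 true 849,
  .child 6 true 2905,
  .child 7 true 2905,
  .child 10 false 2518,
  .child 9 false 646,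
  .child 7 true 646,
  .child 11 false 1732,
  .child 8 true 1189,
  .child 10 false 3734,
  .child 11 false 3734,
  .child 8 true 3734,
  .child 12 true 3734,
  .child 8 false 2065,
  .child 9 false 2065,
  .child 12 false 2065,
  .child 7 true 2065,
  .child 12 true 2065,
  .child 7 false 3423,
  .child 6 false 3269,
  .child 7 false 3269,
  .child 12 false 3269,
  .child 10 true 3269,
  .child 9 false 2584,
  .child 6 true 2584,
  .child 8 false 2417,
  .child 9 false 2417,
  .child 7 true 2417,
  .child 9 true 2417,
  .child 6 false 1093,
  .child 11 false 1093,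
  .child 9 false 3826,
  .child 11 false 3826,
  .child 12 true 3826,
  .child 8 false 2877,
  .child 10 true 2877,
  .child 12 true 2877,
  .child 8 false 1279,
  .child 6 false 1799,
  .child 7 false 1799,
  .child 12 false 1566,
  .child 6 true 1501,
  .child 6 false 1601,
  .child 8 true 1601,
  .child 11 false 2702,
  .child 8 true 2664,
  .child 9 false 2663,
  .child 11 false 2113,
  .child 11 true 2163,
  .child 11 false 3654,
  .child 7 true 2836,
  .child 10 false 1700,
  .child 11 true 1700,
  .child 8 true 1940,
  .child 8 false 3764,
  .child 11 true 3764,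
  .child 7 false 217,
  .child 7 true 560,
  .child 9 true 560,
  .child 10 true 894,
  .child 11 true 894,
  .child 12 true 894,
  .child 6 false 2653,
  .child 6 false 3230,
  .child 8 false 3004,
  .child 12 false 3004,
  .child 9 true 3004,
  .child 6 false 3299,
  .child 8 true 3299,
  .child 10 true 3299,
  .child 12 true 3299,
  .child 11 false 845,
  .child 12 false 845,
  .child 8 true 845,
  .child 10 true 845,
  .child 8 false 3546,
  .child 9 false 581,
  .child 8 true 581,
  .child 11 false 3869,
  .child 10 false 3520,
  .child 9 true 3520,
  .child 7 true 3206,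
  .child 8 true 2645,
  .child 9 true 3010,
  .child 8 true 61,
  .child 8 true 2886,
  .child 11 false 1930,
  .child 7 false 1962]

/-- part 29 of `twTree1` -/
noncomputable def twTree1P29 : List (Leaf) := [
  .child 9 false 1962,
  .child 7 true 621,
  .child 8 true 3901,
  .child 6 false 2853,
  .child 11 false 1853,
  .child 8 true 1853,
  .child 10 true 1853,
  .child 12 true 1853,
  .child 8 false 1043,
  .child 11 true 1043,
  .child 7 true 2775,
  .child 6 false 796,
  .child 9 true 796,
  .child 8 true 2471,
  .child 11 true 2471,
  .child 8 true 3760,
  .child 11 true 3760,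
  .child 6 true 1956,
  .child 6 true 3305,
  .child 12 false 912,
  .child 11 true 912,
  .child 8 false 72,
  .child 9 false 2914,
  .child 10 false 2914,
  .child 9 false 3203,
  .child 12 true 3203,
  .child 6 false 748,
  .child 8 false 748,
  .child 9 false 748,
  .child 10 false 748,
  .child 6 true 748,
  .child 9 false 2003,
  .child 8 true 2003,
  .child 9 true 2003,
  .child 6 true 1980,
  .child 8 false 540,
  .child 6 true 540,
  .child 9 true 540,
  .child 9 false 3066,
  .child 6 false 1733,
  .child 9 true 1733,
  .child 7 false 2898,
  .child 8 false 2898,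
  .child 9 true 536,
  .child 6 false 1822,
  .child 11 false 2176,
  .child 10 true 2176,
  .child 11 true 2176,
  .child 12 true 2176,
  .child 6 false 3317,
  .child 7 true 1837,
  .child 7 true 3805,
  .child 9 false 2144,
  .child 11 true 3159,
  .child 6 true 2026,
  .child 6 true 3372,
  .child 12 false 3467,
  .child 6 true 2659,
  .child 11 true 2659,
  .child 6 false 1614,
  .child 9 false 181,
  .child 9 false 2904,
  .child 10 false 2904,
  .child 12 false 2904,
  .child 11 true 2904,
  .child 6 false 2272,
  .child 7 false 2272,
  .child 10 false 2272,
  .child 10 true 2272,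
  .child 9 false 2628,
  .child 8 true 1342,
  .child 7 false 1186,
  .child 10 true 1186,
  .child 10 false 3165,
  .child 12 false 3165,
  .child 10 true 3165,
  .child 9 true 3403,
  .child 7 true 3705,
  .child 7 false 1153,
  .child 6 true 706,
  .child 11 false 3377,
  .child 7 true 3282,
  .child 9 true 3282,
  .child 6 false 544,
  .child 10 false 544,
  .child 7 true 1179,
  .child 12 true 3304,
  .child 9 true 1214,
  .child 8 true 449,
  .child 9 true 449,
  .child 12 true 449,
  .child 10 true 2427,
  .child 12 true 2427,
  .child 10 true 554,
  .child 6 false 1173,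
  .child 6 true 1173,
  .child 9 true 2563,
  .child 7 true 1719,
  .child 8 false 1860,
  .child 7 true 1665]

/-- part 30 of `twTree1` -/
noncomputable def twTree1P30 : List (Leaf) := [
  .child 10 true 1665,
  .child 12 true 1665,
  .child 6 true 3112,
  .child 8 true 3112,
  .child 6 true 2124,
  .child 11 false 759,
  .child 12 true 1617,
  .child 11 true 1543,
  .child 9 false 2118,
  .child 11 true 2118,
  .child 6 true 1987,
  .child 8 true 3530,
  .child 6 false 3524,
  .child 7 false 3789,
  .child 10 false 3789,
  .child 7 false 1175,
  .child 11 true 1695,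
  .child 7 false 1048,
  .child 6 true 2874,
  .child 8 false 3823,
  .child 8 false 1201,
  .child 11 false 2049,
  .child 8 false 3856,
  .child 12 false 2212,
  .child 11 true 3139,
  .child 6 true 1527,
  .child 9 true 1527,
  .child 11 true 3383,
  .child 8 false 572,
  .child 10 false 858,
  .child 11 false 858,
  .child 12 false 858,
  .child 12 false 1199,
  .child 9 true 1199,
  .child 7 false 1901,
  .child 6 true 1901,
  .child 9 true 1901,
  .child 12 false 3573,
  .child 10 true 1902,
  .child 8 false 2200,
  .child 11 false 2200,
  .child 6 true 1063,
  .child 9 false 910,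
  .child 9 false 2528,
  .child 12 true 1605,
  .child 9 true 2064,
  .child 12 true 2545,
  .child 11 true 3431,
  .child 8 true 3483,
  .child 9 false 1964,
  .child 9 true 1964,
  .child 11 true 1570,
  .child 6 false 3274,
  .child 11 false 2984,
  .child 10 true 2923,
  .child 7 false 1849,
  .child 6 true 2637,
  .child 9 true 2839,
  .child 9 true 2515,
  .child 9 false 2754,
  .child 12 true 2706,
  .child 11 false 3062,
  .child 9 true 3062,
  .child 11 true 2617,
  .child 7 true 2947,
  .child 11 true 2720,
  .child 6 true 3484,
  .child 10 true 2215,
  .child 12 true 3712,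
  .child 9 true 1090,
  .child 7 true 1242,
  .child 9 false 2939,
  .child 11 false 3629,
  .child 6 true 2217,
  .child 8 false 1989,
  .child 10 true 1552,
  .child 9 false 731,
  .child 12 true 3283,
  .child 9 true 3020,
  .child 12 false 2758,
  .child 10 false 3793,
  .child 7 false 332,
  .child 12 false 3107,
  .child 11 true 3511,
  .child 8 false 1237,
  .child 7 true 1237,
  .child 7 false 2854,
  .child 7 false 3854,
  .child 9 true 3825,
  .child 12 true 909,
  .child 10 true 633,
  .child 8 false 2238,
  .child 6 true 2238,
  .child 7 true 2238,
  .child 7 false 1706,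
  .child 10 true 3673,
  .child 6 false 2745,
  .child 8 true 2745,
  .child 11 true 2556,
  .child 8 true 1867]

/-- part 31 of `twTree1` -/
noncomputable def twTree1P31 : List (Leaf) := [
  .child 10 true 1867,
  .child 8 true 2808,
  .child 6 true 1399,
  .child 11 true 686,
  .child 10 true 3639,
  .child 11 true 3647,
  .child 8 false 411,
  .child 7 true 610,
  .child 9 false 1232,
  .child 8 true 2222,
  .child 7 false 665,
  .child 6 true 3005,
  .child 9 false 426,
  .child 10 false 3440,
  .child 9 true 2455,
  .child 10 false 2797,
  .child 10 false 1783,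
  .child 10 false 1671,
  .child 12 false 1671,
  .child 11 false 2157,
  .child 8 false 3717,
  .child 6 true 119,
  .child 6 true 2236,
  .child 7 true 3822,
  .child 9 true 3822,
  .child 11 true 753,
  .root 2,
  .child 7 false 42,
  .child 8 false 42,
  .child 9 false 42,
  .child 10 false 42,
  .child 11 false 42,
  .child 12 false 42,
  .child 7 true 42,
  .child 8 true 42,
  .child 9 true 42,
  .child 10 true 42,
  .child 11 true 42,
  .child 12 true 42,
  .child 6 false 1417,
  .child 7 false 1417,
  .child 8 false 1417,
  .child 9 false 1417,
  .child 10 false 1417,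
  .child 11 false 1417,
  .child 12 false 1417,
  .child 6 true 1417,
  .child 8 true 1417,
  .child 9 true 1417,
  .child 10 true 1417,
  .child 11 true 1417,
  .child 12 true 1417,
  .child 6 false 1324,
  .child 7 false 1324,
  .child 8 false 1324,
  .child 9 false 1324,
  .child 10 false 1324,
  .child 11 false 1324,
  .child 12 false 1324,
  .child 6 true 1324,
  .child 7 true 1324,
  .child 9 true 1324,
  .child 10 true 1324,
  .child 11 true 1324,
  .child 12 true 1324,
  .child 6 false 464,
  .child 8 false 464,
  .child 10 false 464,
  .child 11 false 464,
  .child 12 false 464,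
  .child 6 true 464,
  .child 7 true 464,
  .child 8 true 464,
  .child 10 true 464,
  .child 11 true 464,
  .child 12 true 464,
  .child 8 false 155,
  .child 9 false 155,
  .child 10 false 155,
  .child 11 false 155,
  .child 6 true 155,
  .child 8 true 155,
  .child 9 true 155,
  .child 11 true 155,
  .child 6 false 99,
  .child 7 false 99,
  .child 9 false 99,
  .child 12 false 99,
  .child 6 true 99,
  .child 7 true 99,
  .child 8 true 99,
  .child 10 true 99,
  .child 6 false 100,
  .child 7 false 100,
  .child 8 false 100,
  .child 9 false 100,
  .child 10 false 100,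
  .child 11 false 100,
  .child 6 true 100,
  .child 7 true 100]

/-- part 32 of `twTree1` -/
noncomputable def twTree1P32 : List (Leaf) := [
  .child 8 true 100,
  .child 9 true 100,
  .child 10 true 100,
  .child 11 true 100,
  .child 6 false 2447,
  .child 8 false 2447,
  .child 11 false 2447,
  .child 12 false 2447,
  .child 6 true 2447,
  .child 7 true 2447,
  .child 8 true 2447,
  .child 9 true 2447,
  .child 10 true 2447,
  .child 11 true 2447,
  .child 12 true 2447,
  .child 6 false 381,
  .child 7 false 381,
  .child 9 false 381,
  .child 10 false 381,
  .child 11 false 381,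
  .child 12 false 381,
  .child 6 true 381,
  .child 7 true 381,
  .child 8 true 381,
  .child 9 true 381,
  .child 10 true 381,
  .child 11 true 381,
  .child 12 true 381,
  .child 6 false 2444,
  .child 10 false 2444,
  .child 11 false 2444,
  .child 12 false 2444,
  .child 6 true 2444,
  .child 8 true 2444,
  .child 9 true 2444,
  .child 10 true 2444,
  .child 11 true 2444,
  .child 12 true 2444,
  .child 6 false 52,
  .child 8 false 52,
  .child 9 false 52,
  .child 6 true 52,
  .child 8 true 52,
  .child 9 true 52,
  .child 10 true 52,
  .child 11 true 52,
  .child 7 false 81,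
  .child 8 false 81,
  .child 9 false 81,
  .child 6 true 81,
  .child 7 true 81,
  .child 8 true 81,
  .child 9 true 81,
  .child 10 true 81,
  .child 6 false 123,
  .child 7 false 123,
  .child 8 false 123,
  .child 9 false 123,
  .child 6 true 123,
  .child 7 true 123,
  .child 8 true 123,
  .child 9 true 123,
  .child 11 true 123,
  .child 6 false 1410,
  .child 7 false 1410,
  .child 8 false 1410,
  .child 9 false 1410,
  .child 11 false 1410,
  .child 7 true 1410,
  .child 9 true 1410,
  .child 10 true 1410,
  .child 11 true 1410,
  .child 6 false 400,
  .child 8 false 400,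
  .child 9 false 400,
  .child 10 false 400,
  .child 11 false 400,
  .child 6 true 400,
  .child 8 true 400,
  .child 9 true 400,
  .child 11 true 400,
  .child 7 false 455,
  .child 8 false 455,
  .child 10 false 455,
  .child 12 false 455,
  .child 7 true 455,
  .child 10 true 455,
  .child 11 true 455,
  .child 12 true 455,
  .child 6 false 2609,
  .child 10 false 2609,
  .child 11 false 2609,
  .child 12 false 2609,
  .child 6 true 2609,
  .child 8 true 2609,
  .child 10 true 2609,
  .child 11 true 2609,
  .child 12 true 2609,
  .child 7 false 533,
  .child 8 false 533]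

/-- part 33 of `twTree1` -/
noncomputable def twTree1P33 : List (Leaf) := [
  .child 10 false 533,
  .child 11 false 533,
  .child 12 false 533,
  .child 7 true 533,
  .child 11 true 533,
  .child 12 true 533,
  .child 6 false 405,
  .child 7 false 405,
  .child 10 false 405,
  .child 12 false 405,
  .child 6 true 405,
  .child 7 true 405,
  .child 8 true 405,
  .child 10 true 405,
  .child 12 true 405,
  .child 9 false 1102,
  .child 10 false 1102,
  .child 11 false 1102,
  .child 7 true 1102,
  .child 9 true 1102,
  .child 10 true 1102,
  .child 11 true 1102,
  .child 7 false 1422,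
  .child 9 false 1422,
  .child 10 false 1422,
  .child 11 false 1422,
  .child 6 true 1422,
  .child 7 true 1422,
  .child 8 true 1422,
  .child 10 true 1422,
  .child 11 true 1422,
  .child 12 true 1422,
  .child 6 false 2442,
  .child 7 false 2442,
  .child 9 false 2442,
  .child 6 true 2442,
  .child 7 true 2442,
  .child 8 true 2442,
  .child 9 true 2442,
  .child 10 true 2442,
  .child 12 true 2442,
  .child 8 false 2591,
  .child 10 false 2591,
  .child 12 false 2591,
  .child 8 true 2591,
  .child 10 true 2591,
  .child 11 true 2591,
  .child 12 true 2591,
  .child 8 false 454,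
  .child 11 true 454,
  .child 8 false 399,
  .child 6 true 399,
  .child 7 true 399,
  .child 8 true 399,
  .child 10 true 399,
  .child 12 true 399,
  .child 6 false 2395,
  .child 7 false 2395,
  .child 6 true 2395,
  .child 7 true 2395,
  .child 9 true 2395,
  .child 11 true 2395,
  .child 7 false 677,
  .child 8 false 677,
  .child 9 false 677,
  .child 10 false 677,
  .child 11 false 677,
  .child 12 false 677,
  .child 7 true 677,
  .child 8 true 677,
  .child 9 true 677,
  .child 10 true 677,
  .child 12 true 677,
  .child 6 false 2448,
  .child 7 false 2448,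
  .child 9 true 2448,
  .child 10 true 2448,
  .child 11 true 2448,
  .child 12 true 2448,
  .child 6 false 1424,
  .child 10 false 1424,
  .child 12 false 1424,
  .child 6 true 1424,
  .child 9 true 1424,
  .child 10 true 1424,
  .child 11 true 1424,
  .child 12 true 1424,
  .child 8 false 25,
  .child 9 false 25,
  .child 10 false 25,
  .child 11 false 25,
  .child 12 false 25,
  .child 7 true 25,
  .child 10 true 25,
  .child 11 true 25,
  .child 12 true 25,
  .child 9 false 1402,
  .child 10 false 1402,
  .child 11 false 1402,
  .child 12 false 1402]

/-- part 34 of `twTree1` -/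
noncomputable def twTree1P34 : List (Leaf) := [
  .child 6 true 1402,
  .child 8 true 1402,
  .child 11 true 1402,
  .child 12 true 1402,
  .child 6 false 964,
  .child 9 false 964,
  .child 10 false 964,
  .child 12 false 964,
  .child 7 true 964,
  .child 8 true 964,
  .child 10 true 964,
  .child 12 true 964,
  .child 7 false 671,
  .child 8 false 671,
  .child 11 false 671,
  .child 9 true 671,
  .child 11 true 671,
  .child 8 false 828,
  .child 10 false 828,
  .child 11 false 828,
  .child 6 true 828,
  .child 7 true 828,
  .child 8 true 828,
  .child 9 true 828,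
  .child 8 false 59,
  .child 11 false 59,
  .child 7 true 59,
  .child 9 true 59,
  .child 10 true 59,
  .child 11 true 59,
  .child 10 false 657,
  .child 11 false 657,
  .child 12 false 657,
  .child 6 true 657,
  .child 8 true 657,
  .child 10 true 657,
  .child 11 true 657,
  .child 12 true 657,
  .child 6 false 1328,
  .child 8 false 1328,
  .child 6 true 1328,
  .child 10 true 1328,
  .child 11 true 1328,
  .child 6 false 170,
  .child 8 false 170,
  .child 7 true 170,
  .child 8 true 170,
  .child 10 true 170,
  .child 6 false 673,
  .child 9 false 673,
  .child 6 true 673,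
  .child 7 true 673,
  .child 8 true 673,
  .child 11 true 673,
  .child 8 false 450,
  .child 10 false 450,
  .child 12 false 450,
  .child 8 false 237,
  .child 9 false 237,
  .child 10 false 237,
  .child 11 false 237,
  .child 12 false 237,
  .child 7 true 237,
  .child 10 true 237,
  .child 11 true 237,
  .child 12 true 237,
  .child 7 false 2434,
  .child 10 false 2434,
  .child 11 false 2434,
  .child 12 false 2434,
  .child 6 true 2434,
  .child 7 true 2434,
  .child 9 true 2434,
  .child 11 true 2434,
  .child 10 false 2047,
  .child 12 false 2047,
  .child 6 true 2047,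
  .child 7 true 2047,
  .child 10 true 2047,
  .child 8 false 1251,
  .child 11 false 1251,
  .child 6 true 1251,
  .child 8 true 1251,
  .child 11 true 1251,
  .child 10 true 2052,
  .child 12 false 173,
  .child 7 true 173,
  .child 10 true 173,
  .child 12 true 173,
  .child 8 true 460,
  .child 9 true 460,
  .child 10 true 460,
  .child 11 true 460,
  .child 12 true 460,
  .child 9 false 2354,
  .child 6 true 2354,
  .child 8 true 2354,
  .child 11 true 2354,
  .child 6 false 2322,
  .child 6 true 2322]

/-- part 35 of `twTree1` -/
noncomputable def twTree1P35 : List (Leaf) := [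
  .child 9 true 2322,
  .child 10 true 2322,
  .child 12 true 2322,
  .child 7 false 1497,
  .child 9 true 1497,
  .child 11 true 1497,
  .child 6 false 2371,
  .child 7 false 2371,
  .child 8 false 2371,
  .child 9 false 2371,
  .child 11 false 2371,
  .child 12 false 2371,
  .child 7 true 2371,
  .child 11 true 2371,
  .child 12 true 2371,
  .child 9 false 260,
  .child 11 false 260,
  .child 6 true 260,
  .child 11 true 260,
  .child 6 false 353,
  .child 7 false 353,
  .child 8 false 353,
  .child 9 false 353,
  .child 6 true 353,
  .child 7 true 353,
  .child 8 true 353,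
  .child 9 true 353,
  .child 10 false 654,
  .child 11 false 654,
  .child 12 false 654,
  .child 6 true 654,
  .child 9 true 654,
  .child 11 true 654,
  .child 12 true 654,
  .child 10 false 2323,
  .child 11 false 2323,
  .child 12 false 2323,
  .child 6 true 2323,
  .child 8 true 2323,
  .child 11 true 2323,
  .child 11 false 156,
  .child 9 true 156,
  .child 11 true 156,
  .child 12 true 156,
  .child 6 false 920,
  .child 7 false 920,
  .child 8 false 920,
  .child 9 false 920,
  .child 6 true 920,
  .child 7 true 920,
  .child 8 true 920,
  .child 9 true 920,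
  .child 10 true 920,
  .child 6 false 793,
  .child 7 false 793,
  .child 10 false 793,
  .child 10 true 793,
  .child 6 false 2800,
  .child 7 false 2800,
  .child 6 true 2800,
  .child 8 true 2800,
  .child 9 true 2800,
  .child 7 true 1337,
  .child 6 false 298,
  .child 6 true 298,
  .child 8 true 298,
  .child 10 false 647,
  .child 10 true 647,
  .child 7 true 1440,
  .child 10 true 1365,
  .child 12 true 1365,
  .child 9 false 114,
  .child 6 true 114,
  .child 7 false 1015,
  .child 8 false 1015,
  .child 11 false 1015,
  .child 11 true 1015,
  .child 6 false 327,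
  .child 9 false 327,
  .child 11 false 327,
  .child 11 true 327,
  .child 6 false 98,
  .child 9 false 98,
  .child 11 false 98,
  .child 6 true 98,
  .child 11 true 98,
  .child 10 false 2432,
  .child 11 false 2432,
  .child 10 true 2432,
  .child 11 true 2432,
  .child 7 false 97,
  .child 8 false 97,
  .child 12 true 97,
  .child 6 false 354,
  .child 7 false 354,
  .child 8 false 354,
  .child 9 false 354,
  .child 7 true 354,
  .child 8 true 354,
  .child 9 true 354]

/-- part 36 of `twTree1` -/
noncomputable def twTree1P36 : List (Leaf) := [
  .child 7 false 970,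
  .child 11 false 970,
  .child 12 false 970,
  .child 10 true 970,
  .child 11 true 970,
  .child 7 true 2393,
  .child 9 true 2393,
  .child 10 true 2393,
  .child 11 true 2393,
  .child 7 false 330,
  .child 11 false 330,
  .child 11 true 330,
  .child 11 false 1303,
  .child 11 true 1303,
  .child 12 true 1303,
  .child 9 true 83,
  .child 6 false 772,
  .child 7 false 772,
  .child 8 false 772,
  .child 9 false 772,
  .child 6 true 772,
  .child 7 true 772,
  .child 9 true 772,
  .child 6 false 1368,
  .child 11 false 1368,
  .child 10 true 1368,
  .child 11 true 1368,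
  .child 12 true 1368,
  .child 6 false 461,
  .child 10 false 461,
  .child 7 true 461,
  .child 9 true 461,
  .child 10 true 461,
  .child 11 true 461,
  .child 12 true 461,
  .child 6 false 2450,
  .child 9 false 2450,
  .child 6 true 2450,
  .child 9 true 2450,
  .child 12 true 2450,
  .child 6 false 805,
  .child 11 true 805,
  .child 12 true 2569,
  .child 10 false 1421,
  .child 11 false 1421,
  .child 12 false 1421,
  .child 11 false 2221,
  .child 9 false 1984,
  .child 11 true 1984,
  .child 6 true 2530,
  .child 9 true 2530,
  .child 11 true 2048,
  .child 8 true 2250,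
  .child 10 true 2250,
  .child 10 true 2405,
  .child 11 false 682,
  .child 11 true 682,
  .child 9 true 825,
  .child 11 true 825,
  .child 7 true 456,
  .child 6 false 1416,
  .child 10 false 1416,
  .child 12 false 1416,
  .child 6 true 1416,
  .child 10 true 47,
  .child 11 true 47,
  .child 12 true 47,
  .child 11 true 1370,
  .child 8 true 2338,
  .child 12 true 2338,
  .child 10 false 2295,
  .child 7 false 811,
  .child 11 true 811,
  .child 8 false 722,
  .child 6 false 738,
  .child 7 false 738,
  .child 11 false 738,
  .child 8 true 738,
  .child 11 true 738,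
  .child 10 true 261,
  .child 11 true 261,
  .child 12 true 261,
  .child 10 false 2440,
  .child 8 false 1398,
  .child 11 true 1398,
  .child 7 false 2248,
  .child 8 false 2248,
  .child 8 true 2248,
  .child 11 true 736,
  .child 11 false 442,
  .child 8 true 442,
  .child 11 false 823,
  .child 11 true 823,
  .child 6 false 281,
  .child 11 false 281,
  .child 11 true 281,
  .child 7 false 2389,
  .child 11 false 2389,
  .child 11 true 2389,
  .child 6 false 2182]

/-- part 37 of `twTree1` -/
noncomputable def twTree1P37 : List (Leaf) := [
  .child 7 false 2182,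
  .child 7 true 2182,
  .child 11 true 2182,
  .child 11 false 348,
  .child 6 true 348,
  .child 11 true 348,
  .child 6 false 921,
  .child 8 false 921,
  .child 6 true 921,
  .child 7 true 921,
  .child 9 false 2325,
  .child 12 true 509,
  .child 11 false 508,
  .child 11 true 508,
  .child 11 false 971,
  .child 9 false 373,
  .child 11 false 373,
  .child 11 true 373,
  .child 11 true 735,
  .child 8 false 315,
  .child 9 false 315,
  .child 11 false 315,
  .child 8 false 717,
  .child 11 false 717,
  .child 11 false 355,
  .child 11 true 355,
  .child 11 false 76,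
  .child 9 false 108,
  .child 7 true 108,
  .child 7 true 2457,
  .child 7 true 743,
  .child 10 false 54,
  .child 11 false 430,
  .child 12 true 648,
  .child 12 true 650,
  .child 7 false 1306,
  .child 11 true 1306,
  .child 9 false 1104,
  .child 11 true 1104,
  .child 6 true 418,
  .child 11 true 2304,
  .child 11 true 2419,
  .child 7 true 935,
  .child 11 false 2251,
  .child 11 true 2251,
  .child 11 false 675,
  .child 7 false 1221,
  .child 8 false 1221,
  .child 9 false 1221,
  .child 10 false 1221,
  .child 8 true 1221,
  .child 12 true 1221,
  .child 11 false 800,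
  .child 11 true 800,
  .child 9 false 924,
  .child 6 true 924,
  .child 7 true 924,
  .child 8 true 924,
  .child 9 true 924,
  .child 10 true 924,
  .child 10 false 391,
  .child 12 true 391,
  .child 11 false 1305,
  .child 11 true 1305,
  .child 11 true 77,
  .child 8 false 922,
  .child 7 true 922,
  .child 10 true 922,
  .child 11 false 1392,
  .child 11 true 1392,
  .child 11 false 375,
  .child 7 false 931,
  .child 9 false 931,
  .child 11 true 2365,
  .child 11 true 645,
  .child 11 true 1443,
  .child 12 true 799,
  .child 12 true 2532,
  .child 11 true 2361,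
  .child 11 true 1267,
  .child 11 true 2035,
  .child 11 false 2314,
  .child 11 true 2314,
  .child 9 false 1266,
  .child 11 true 1266,
  .child 6 true 378,
  .child 6 false 803,
  .child 7 false 803,
  .child 6 true 803,
  .child 12 true 803,
  .child 11 true 1314,
  .child 11 false 1012,
  .child 11 false 609,
  .child 11 false 1277,
  .child 11 true 1277,
  .child 11 true 1564,
  .child 11 true 872,
  .child 7 false 1347,
  .child 10 true 801,
  .child 11 true 349]

/-- part 38 of `twTree1` -/
noncomputable def twTree1P38 : List (Leaf) := [
  .child 11 false 861,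
  .child 11 true 1016,
  .child 11 true 2058,
  .child 11 false 870,
  .child 11 true 870,
  .child 11 true 262,
  .child 11 true 414,
  .child 8 false 322,
  .child 9 false 322,
  .child 10 false 322,
  .child 12 false 322,
  .child 10 true 322,
  .child 12 true 322,
  .child 11 false 58,
  .child 11 true 58,
  .child 11 true 1323,
  .child 6 false 2043,
  .child 9 true 2043,
  .child 12 true 2043,
  .child 11 false 55,
  .child 11 true 55,
  .child 11 false 623,
  .child 8 false 824,
  .child 10 false 824,
  .child 9 true 824,
  .child 9 false 1261,
  .child 11 false 1882,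
  .child 11 false 412,
  .child 11 true 875,
  .child 11 true 233,
  .child 11 true 362,
  .child 8 false 659,
  .child 7 true 659,
  .child 9 true 659,
  .child 10 true 659,
  .child 12 true 659,
  .child 11 false 366,
  .child 11 true 366,
  .child 11 false 1018,
  .child 7 false 1271,
  .child 8 true 1271,
  .child 11 true 336,
  .child 11 true 370,
  .child 7 true 2286,
  .child 8 true 2286,
  .child 11 true 1307,
  .child 11 true 2362,
  .child 11 true 2453,
  .child 11 true 535,
  .child 7 true 518,
  .child 11 true 377,
  .child 11 false 273,
  .child 11 true 358,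
  .child 9 false 859,
  .child 11 false 452,
  .child 11 true 452,
  .child 11 true 1442,
  .child 11 true 808,
  .child 11 true 1885,
  .child 11 false 1426,
  .child 6 true 507,
  .child 12 true 507,
  .child 11 true 2247,
  .child 8 false 175,
  .child 6 true 1374,
  .child 10 true 1374,
  .child 10 false 1292,
  .child 9 true 1292,
  .child 12 true 1292,
  .child 7 true 929,
  .child 6 true 334,
  .child 7 true 732,
  .child 12 false 523,
  .child 7 false 2490,
  .child 6 true 2490,
  .child 6 true 573,
  .root 3,
  .child 7 false 1,
  .child 8 false 1,
  .child 9 false 1,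
  .child 10 false 1,
  .child 11 false 1,
  .child 12 false 1,
  .child 7 true 1,
  .child 10 false 238,
  .child 11 false 238,
  .child 12 false 238,
  .child 10 true 238,
  .child 11 true 238,
  .child 12 true 238,
  .child 10 true 239,
  .child 11 true 239,
  .child 12 true 239,
  .child 10 false 24,
  .child 11 false 24,
  .child 12 false 24,
  .child 11 false 3,
  .child 11 false 6,
  .child 11 false 21,
  .child 11 true 21]

/-- part 39 of `twTree1` -/
noncomputable def twTree1P39 : List (Leaf) := [
  .child 11 false 45,
  .child 11 true 45,
  .child 11 true 20,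
  .child 11 true 44,
  .child 11 true 22,
  .child 11 true 36]

/-- certificate data -/
noncomputable def twTree1 : List (Leaf) :=
  [twTree1P0, twTree1P1, twTree1P2, twTree1P3, twTree1P4, twTree1P5, twTree1P6, twTree1P7, twTree1P8, twTree1P9, twTree1P10, twTree1P11, twTree1P12, twTree1P13, twTree1P14, twTree1P15, twTree1P16, twTree1P17, twTree1P18, twTree1P19, twTree1P20, twTree1P21, twTree1P22, twTree1P23, twTree1P24, twTree1P25, twTree1P26, twTree1P27, twTree1P28, twTree1P29, twTree1P30, twTree1P31, twTree1P32, twTree1P33, twTree1P34, twTree1P35, twTree1P36, twTree1P37, twTree1P38, twTree1P39].flatten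

/-- part 0 of `twRoots2` -/
noncomputable def twRoots2P0 : List (TRoot) := [
  ⟨[],
    [⟨16,[],[]⟩,⟨51,[(72,false),(17,false),(18,false),(17,false),(72,false)],[(6,false),(2,false),(5,false),(7,true),(0,false),(1,false)]⟩,⟨51,[(18,false),(72,false),(17,false),(72,false),(17,false)],[(6,false),(5,true),(2,false),(6,false),(7,true),(3,false),(6,false)]⟩,⟨51,[(72,false),(17,false),(72,false),(17,false)],[(5,false),(7,false),(3,false),(6,false),(2,true),(5,false),(0,false)]⟩,⟨34,[],[(7,false),(6,true),(5,true)]⟩]⟩,
  ⟨[4,7],
    [⟨31,[(18,false),(72,false),(17,false)],[(1,true),(6,true),(3,true),(6,true),(7,true),(6,true)]⟩,⟨31,[(18,false),(72,false),(17,false),(17,false),(17,false),(17,false),(17,false)],[(1,false),(5,false),(4,true),(6,true),(7,true),(3,true),(6,true)]⟩,⟨31,[(18,false),(72,false),(17,false),(17,false),(17,false)],[(5,false),(4,false),(5,false),(6,false),(2,false)]⟩,⟨31,[(18,false),(72,false),(17,false),(17,false),(17,false),(17,false),(17,false),(17,false),(17,false)],[(5,false),(6,false),(5,false),(7,true),(0,true),(3,true),(6,true)]⟩,⟨56,[(18,false),(72,false),(17,false),(18,false),(17,false)],[(1,true),(1,true),(6,true),(7,true),(0,true)]⟩]⟩,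
  ⟨[4,0,4,7],
    [⟨64,[(17,false),(18,false),(17,false),(18,false),(72,false),(17,false),(17,false),(17,false)],[(3,false),(3,false),(7,true),(6,true),(1,false),(5,true)]⟩,⟨99,[(17,false),(17,false),(72,false),(17,false),(72,false),(17,false),(17,false)],[(2,false),(0,true),(3,false),(5,false),(6,true),(7,true)]⟩,⟨99,[(17,false),(72,false),(18,false),(17,false),(17,false),(17,false)],[(1,false),(4,false),(6,true),(7,true),(0,false),(6,true)]⟩,⟨64,[(18,false),(72,false),(17,false),(17,false),(72,false),(17,false),(18,false),(17,false),(18,false)],[(1,false),(5,false),(4,false),(3,true),(6,false),(5,false)]⟩,⟨79,[(72,false),(17,false),(72,false),(17,false),(17,false),(72,false),(17,false),(17,false)],[(0,false),(3,true),(5,false),(6,false),(7,true),(6,true)]⟩]⟩,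
  ⟨[5,1,4,0,4,7],
    [⟨83,[],[(7,false),(0,true),(0,true),(6,false)]⟩,⟨50,[(17,false),(18,false),(72,false),(18,false),(17,false),(72,false)],[(0,false),(2,true),(5,true),(2,true),(6,true),(7,true)]⟩,⟨49,[(17,false),(72,false),(17,false),(17,false),(72,false),(18,false)],[(3,false),(5,false),(6,false),(7,false),(5,false),(3,true),(6,true)]⟩,⟨71,[(17,false),(18,false),(72,false),(18,false),(17,false),(72,false)],[(2,false),(7,false),(6,false),(5,true),(3,false),(6,true),(7,true)]⟩,⟨36,[(17,false),(18,false),(72,false),(18,false),(17,false),(72,false)],[(5,false),(6,false),(7,false),(2,true),(5,true),(1,true),(6,true)]⟩]⟩,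
  ⟨[4,0,4,1,5,0,5,7],
    [⟨81,[],[]⟩,⟨88,[(18,false),(72,false),(17,false),(72,false),(18,false)],[(7,false),(1,false),(2,true),(7,false),(0,false)]⟩,⟨88,[(72,false),(17,false),(17,false),(72,false),(18,false),(72,false)],[(7,false),(5,true),(3,false),(6,false),(7,true),(2,true)]⟩,⟨88,[(17,false),(72,false),(17,false),(72,false),(18,false)],[(0,false),(6,false),(2,true),(5,false),(7,false),(6,true),(3,false)]⟩,⟨81,[(72,false),(18,false),(72,false),(17,false),(17,false),(17,false),(72,false)],[(4,false),(6,false),(7,false),(6,false),(5,true)]⟩]⟩,
  ⟨[0,5,1,4,1,5,7],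
    [⟨101,[],[(2,true),(0,false)]⟩,⟨91,[(72,false),(17,false),(72,false),(18,false),(17,false),(18,false),(72,false),(18,false),(17,false)],[(5,false),(6,false),(5,false),(2,false),(0,true),(6,false)]⟩,⟨91,[(17,false),(72,false),(17,false),(18,false),(17,false),(17,false)],[(5,false),(7,true),(3,true),(6,true),(5,true),(3,false)]⟩,⟨101,[(17,false),(17,false),(72,false),(17,false),(18,false),(72,false),(17,false),(17,false),(17,false)],[(2,false),(0,false),(5,false),(6,false),(5,false),(7,false),(6,true),(5,true)]⟩,⟨85,[(72,false),(17,false),(72,false),(17,false),(17,false),(72,false)],[(5,false),(6,false),(2,false),(7,false),(6,false),(5,false),(3,false)]⟩]⟩,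
  ⟨[1,5,0,4,1,4,7],
    [⟨66,[(17,false),(72,false),(17,false),(72,false),(18,false),(72,false),(18,false),(17,false),(17,false)],[(1,false),(7,false),(2,true),(1,false),(1,false)]⟩,⟨93,[],[(2,false),(6,false),(7,true),(6,true),(5,true)]⟩,⟨89,[],[(5,false),(6,false),(7,false),(6,true)]⟩,⟨89,[(17,false),(72,false),(17,false),(18,false),(72,false),(18,false),(17,false),(18,false),(17,false)],[(0,false),(6,false),(7,false),(2,true),(5,true),(3,false),(6,true)]⟩,⟨66,[(18,false),(72,false),(18,false),(17,false),(18,false),(72,false),(18,false)],[(0,false),(6,false),(7,true),(0,false),(1,true),(5,true)]⟩]⟩,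
  ⟨[4,1,4,0,2,1,5,7],
    [⟨87,[(18,false),(17,false),(18,false),(17,false)],[(5,false),(7,false),(6,true),(2,false),(5,false),(7,false),(0,true),(6,true)]⟩,⟨105,[(72,false),(18,false),(17,false),(72,false)],[(2,false),(4,false),(7,false),(5,false),(6,true),(1,false)]⟩,⟨105,[(17,false),(72,false),(18,false),(17,false),(17,false),(17,false),(17,false)],[(2,false),(7,false),(6,true),(2,false),(7,true)]⟩,⟨97,[],[(4,false),(2,true),(6,false),(7,false),(6,true)]⟩,⟨97,[(17,false),(72,false),(17,false),(72,false),(17,false),(17,false),(72,false)],[(0,false),(5,false),(6,false),(3,true),(7,true),(1,true),(6,false),(5,false)]⟩]⟩]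

/-- part 1 of `twRoots2` -/
noncomputable def twRoots2P1 : List (TRoot) := [
  ⟨[3,5,5,3,5,7],
    [⟨102,[(72,false),(17,false),(18,false),(72,false),(17,false),(17,false),(17,false),(17,false),(17,false)],[(5,false),(0,true),(1,true),(2,false),(6,true)]⟩,⟨102,[(18,false),(72,false),(17,false),(18,false),(17,false),(17,false)],[(0,true),(7,false),(6,true),(3,false),(7,false),(5,false)]⟩,⟨103,[(17,false),(17,false),(17,false),(17,false),(17,false),(17,false)],[(5,false)]⟩,⟨86,[(72,false),(17,false),(17,false),(72,false),(18,false),(17,false)],[(5,false),(7,true),(6,true),(2,true),(5,false),(3,false),(7,true)]⟩,⟨103,[(18,false),(17,false),(18,false),(72,false),(18,false),(17,false),(18,false)],[(0,false),(3,false),(6,false),(5,false),(7,false),(6,false),(5,true)]⟩]⟩,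
  ⟨[2,4,3,1,2,5,7],
    [⟨109,[(18,false),(72,false),(17,false),(18,false),(17,false),(18,false),(72,false),(18,false)],[(1,false),(4,false),(3,true),(5,true),(6,true),(1,false)]⟩,⟨95,[],[(6,false),(0,false),(6,false)]⟩,⟨109,[(18,false),(72,false),(17,false),(72,false),(17,false),(17,false),(17,false),(72,false),(18,false)],[(7,false),(1,true),(6,false),(7,false),(3,false),(5,false)]⟩,⟨107,[(17,false),(72,false),(17,false),(17,false),(17,false),(72,false)],[(6,false),(5,false),(2,true),(6,false),(2,true),(7,true)]⟩,⟨107,[(72,false),(18,false),(72,false),(17,false),(72,false),(17,false),(17,false)],[(6,false),(1,false),(0,false),(6,false),(7,false),(6,false)]⟩]⟩]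

/-- certificate data -/
noncomputable def twRoots2 : List (TRoot) :=
  [twRoots2P0, twRoots2P1].flatten

/-- part 0 of `twTree2` -/
noncomputable def twTree2P0 : List (Leaf) := [
  .root 0,
  .child 72 false 0,
  .child 17 false 3676,
  .child 18 false 3676,
  .child 17 true 3676,
  .child 18 true 3676,
  .child 17 false 2115,
  .child 18 false 2115,
  .child 72 false 2115,
  .child 18 true 2115,
  .child 72 false 2125,
  .child 72 false 2099,
  .child 72 false 2114,
  .child 72 false 3834,
  .child 72 false 2116,
  .child 18 false 2663,
  .child 17 true 2663,
  .child 18 true 2663,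
  .child 72 false 3078,
  .child 17 false 2537,
  .child 18 false 2537,
  .child 17 true 2537,
  .child 18 true 2537,
  .child 17 false 3436,
  .child 18 false 3436,
  .child 18 true 3436,
  .child 17 false 3882,
  .child 18 false 3882,
  .child 17 true 3882,
  .child 17 false 2823,
  .child 17 true 2823,
  .child 18 true 2823,
  .child 72 false 1099,
  .child 17 false 3196,
  .child 18 false 3196,
  .child 18 true 3196,
  .child 17 false 3675,
  .child 18 true 3675,
  .child 72 false 3253,
  .child 72 false 1783,
  .child 17 true 3786,
  .child 18 true 3786,
  .root 1,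
  .child 17 false 13,
  .child 18 false 13,
  .child 72 false 13,
  .child 17 true 13,
  .child 18 true 13,
  .child 17 false 14,
  .child 18 false 14,
  .child 72 false 14,
  .child 18 true 14,
  .child 17 false 305,
  .child 72 false 305,
  .child 17 true 305,
  .child 17 false 2212,
  .child 18 false 2212,
  .child 17 true 2212,
  .child 18 true 2212,
  .child 72 false 67,
  .child 17 true 67,
  .child 18 true 67,
  .child 72 false 332,
  .child 17 true 332,
  .child 17 false 11,
  .child 18 false 11,
  .child 72 false 11,
  .child 17 false 610,
  .child 72 false 610,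
  .child 17 true 610,
  .child 17 false 779,
  .child 18 false 779,
  .child 17 true 779,
  .child 18 true 779,
  .child 72 false 612,
  .child 17 true 612,
  .child 72 false 339,
  .child 18 true 339,
  .child 17 false 3644,
  .child 18 false 3644,
  .child 17 true 3644,
  .child 18 true 3644,
  .child 72 false 372,
  .child 17 false 2200,
  .child 72 false 2200,
  .child 18 true 2200,
  .child 72 false 3226,
  .child 17 true 3226,
  .child 72 false 3401,
  .child 17 true 3401,
  .child 18 true 3401,
  .child 72 false 2462,
  .child 17 true 2462,
  .child 17 false 2090,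
  .child 18 false 2090,
  .child 17 true 2090,
  .child 18 true 2090,
  .child 17 true 12,
  .child 18 true 12,
  .child 72 false 578]

/-- part 1 of `twTree2` -/
noncomputable def twTree2P1 : List (Leaf) := [
  .child 17 false 3,
  .child 18 false 3,
  .child 72 false 215,
  .child 17 false 65,
  .child 18 false 65,
  .child 72 false 65,
  .child 17 false 216,
  .child 72 false 216,
  .child 17 false 1618,
  .child 18 false 1618,
  .child 17 true 1618,
  .child 18 true 1618,
  .child 72 false 579,
  .child 17 false 629,
  .child 18 false 629,
  .child 18 true 629,
  .child 72 false 745,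
  .child 17 false 1001,
  .child 18 false 1001,
  .child 72 false 1001,
  .child 18 true 1001,
  .child 17 false 2497,
  .child 72 false 2497,
  .child 17 true 2497,
  .child 72 false 1625,
  .child 17 true 1625,
  .child 18 true 1625,
  .child 17 true 2491,
  .child 17 false 3089,
  .child 18 false 3089,
  .child 17 true 3089,
  .child 18 true 3089,
  .child 72 false 896,
  .child 17 false 2622,
  .child 18 false 2622,
  .child 17 true 2622,
  .child 72 false 611,
  .child 17 false 2535,
  .child 18 false 2535,
  .child 72 false 2535,
  .child 18 true 2535,
  .child 17 false 1626,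
  .child 72 false 1626,
  .child 17 true 1626,
  .child 72 false 2027,
  .child 18 true 2027,
  .child 72 false 975,
  .child 17 true 975,
  .child 17 false 1676,
  .child 18 false 1676,
  .child 17 true 1676,
  .child 18 true 1676,
  .child 18 false 2003,
  .child 17 true 1695,
  .child 18 true 1695,
  .child 18 false 3829,
  .child 17 true 3829,
  .child 18 true 3829,
  .child 17 true 2206,
  .child 18 true 2206,
  .child 17 false 9,
  .child 18 false 9,
  .child 17 false 2175,
  .child 18 false 2175,
  .child 18 true 2175,
  .child 17 false 856,
  .child 72 false 856,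
  .child 17 true 856,
  .child 17 true 2077,
  .child 18 true 2077,
  .child 17 true 229,
  .child 72 false 66,
  .child 72 false 303,
  .child 18 false 2636,
  .child 17 true 2636,
  .child 18 true 2636,
  .child 72 false 1,
  .child 72 false 4,
  .child 17 false 2009,
  .child 17 true 2009,
  .child 18 true 2009,
  .child 72 false 10,
  .child 72 false 744,
  .child 17 false 7,
  .child 72 false 333,
  .child 17 false 1915,
  .child 18 false 1915,
  .child 17 true 1915,
  .child 18 true 1915,
  .child 17 false 3018,
  .child 18 false 3018,
  .child 72 false 3018,
  .child 18 true 3018,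
  .child 17 false 1312,
  .child 72 false 1312,
  .child 17 true 1312,
  .child 72 false 3016,
  .child 18 true 3016,
  .child 72 false 1577,
  .child 17 true 1577]

/-- part 2 of `twTree2` -/
noncomputable def twTree2P2 : List (Leaf) := [
  .child 18 false 3339,
  .child 17 true 3339,
  .child 18 true 3339,
  .child 18 false 781,
  .child 72 false 781,
  .child 72 false 787,
  .child 72 false 846,
  .child 17 false 2500,
  .child 18 false 2500,
  .child 17 true 2500,
  .child 18 true 2500,
  .child 17 false 628,
  .child 18 false 628,
  .child 17 false 2217,
  .child 17 true 2217,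
  .child 18 false 3767,
  .child 17 true 3767,
  .child 18 true 3767,
  .child 17 true 3050,
  .child 18 true 3082,
  .child 17 false 3245,
  .child 18 false 3245,
  .child 18 true 3245,
  .child 17 false 328,
  .child 18 false 328,
  .child 17 true 328,
  .child 18 true 328,
  .child 17 true 999,
  .child 18 true 999,
  .child 18 false 1749,
  .child 72 false 1749,
  .child 18 true 1749,
  .child 17 false 2005,
  .child 72 false 2005,
  .child 17 true 2005,
  .child 72 false 2827,
  .child 17 true 2827,
  .child 18 true 2827,
  .child 72 false 595,
  .child 72 false 3153,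
  .child 17 false 3020,
  .child 17 false 2641,
  .child 72 false 2641,
  .child 18 false 242,
  .child 17 true 242,
  .child 18 true 242,
  .child 18 true 2785,
  .child 18 false 3300,
  .child 18 true 3300,
  .child 18 false 1725,
  .child 18 true 1725,
  .child 72 false 3498,
  .child 17 true 3558,
  .child 17 true 3425,
  .child 18 true 3425,
  .child 17 true 3587,
  .child 72 false 1917,
  .child 17 true 3622,
  .child 18 true 3622,
  .child 17 false 2729,
  .child 18 false 2729,
  .child 17 false 3218,
  .child 18 false 3218,
  .child 18 true 3218,
  .child 72 false 6,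
  .child 18 true 231,
  .child 72 false 3616,
  .child 72 false 3015,
  .child 17 false 340,
  .child 18 false 340,
  .child 17 true 340,
  .child 18 true 340,
  .child 18 false 2487,
  .child 18 true 2487,
  .child 72 false 3588,
  .child 17 false 3373,
  .child 18 false 3373,
  .child 18 false 40,
  .child 72 false 794,
  .child 72 false 1375,
  .child 72 false 1666,
  .child 72 false 3807,
  .child 17 false 3693,
  .child 72 false 3857,
  .child 17 false 3068,
  .child 17 true 2732,
  .child 18 false 369,
  .child 18 true 369,
  .child 17 true 152,
  .child 17 true 335,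
  .child 72 false 3258,
  .child 72 false 2359,
  .child 18 false 2756,
  .child 18 true 237,
  .root 2,
  .child 17 false 544,
  .child 18 false 544,
  .child 72 false 544,
  .child 17 true 544,
  .child 18 true 544]

/-- part 3 of `twTree2` -/
noncomputable def twTree2P3 : List (Leaf) := [
  .child 17 false 137,
  .child 18 false 137,
  .child 72 false 137,
  .child 18 true 137,
  .child 17 false 1785,
  .child 72 false 1785,
  .child 17 true 1785,
  .child 17 false 2133,
  .child 18 false 2133,
  .child 17 true 2133,
  .child 18 true 2133,
  .child 72 false 1123,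
  .child 17 true 1123,
  .child 18 true 1123,
  .child 72 false 1143,
  .child 17 true 1143,
  .child 17 false 554,
  .child 18 false 554,
  .child 72 false 554,
  .child 17 false 2513,
  .child 72 false 2513,
  .child 17 true 2513,
  .child 17 false 3372,
  .child 18 false 3372,
  .child 17 true 3372,
  .child 18 true 3372,
  .child 72 false 2105,
  .child 17 true 2105,
  .child 72 false 2412,
  .child 18 true 2412,
  .child 17 false 2339,
  .child 18 false 2339,
  .child 17 true 2339,
  .child 18 true 2339,
  .child 72 false 2772,
  .child 17 false 2118,
  .child 18 false 2118,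
  .child 72 false 2118,
  .child 18 true 2118,
  .child 17 false 3014,
  .child 17 true 3014,
  .child 72 false 759,
  .child 17 true 759,
  .child 18 true 759,
  .child 72 false 2698,
  .child 17 true 2698,
  .child 17 false 103,
  .child 18 false 103,
  .child 17 true 103,
  .child 18 true 103,
  .child 72 false 134,
  .child 17 true 134,
  .child 18 true 134,
  .child 72 false 2553,
  .child 17 false 2953,
  .child 18 false 2953,
  .child 17 true 2953,
  .child 18 true 2953,
  .child 17 false 1122,
  .child 18 false 1122,
  .child 72 false 1122,
  .child 17 false 2812,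
  .child 72 false 2812,
  .child 17 true 2131,
  .child 18 true 2131,
  .child 72 false 2468,
  .child 17 false 2938,
  .child 18 false 2938,
  .child 17 true 2938,
  .child 18 true 2938,
  .child 72 false 2368,
  .child 17 false 2721,
  .child 18 false 2721,
  .child 72 false 2721,
  .child 18 true 2721,
  .child 17 false 3900,
  .child 72 false 3900,
  .child 17 true 3900,
  .child 72 false 2747,
  .child 17 true 2747,
  .child 18 true 2747,
  .child 72 false 2112,
  .child 17 true 2112,
  .child 17 false 534,
  .child 18 false 534,
  .child 17 true 534,
  .child 18 true 534,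
  .child 72 false 1633,
  .child 17 false 2931,
  .child 18 false 2931,
  .child 17 true 2931,
  .child 18 true 2931,
  .child 72 false 1887,
  .child 17 false 3342,
  .child 18 false 3342,
  .child 72 false 3342,
  .child 18 true 3342,
  .child 17 false 930,
  .child 72 false 930,
  .child 17 true 930]

/-- part 4 of `twTree2` -/
noncomputable def twTree2P4 : List (Leaf) := [
  .child 72 false 876,
  .child 17 true 876,
  .child 18 true 876,
  .child 72 false 1372,
  .child 17 true 1372,
  .child 17 false 1286,
  .child 18 false 1286,
  .child 17 true 1286,
  .child 18 true 1286,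
  .child 17 false 3277,
  .child 18 false 3277,
  .child 72 false 3277,
  .child 17 false 3653,
  .child 72 false 3653,
  .child 17 false 54,
  .child 18 false 54,
  .child 17 true 54,
  .child 18 true 54,
  .child 72 false 2282,
  .child 17 true 2282,
  .child 72 false 2697,
  .child 18 true 2697,
  .child 72 false 1709,
  .child 17 false 2597,
  .child 18 false 2597,
  .child 17 true 2597,
  .child 18 true 2597,
  .child 72 false 2650,
  .child 18 true 2650,
  .child 72 false 2739,
  .child 17 false 1741,
  .child 18 false 1741,
  .child 17 true 1741,
  .child 18 true 1741,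
  .child 72 false 2662,
  .child 17 false 87,
  .child 18 false 87,
  .child 72 false 87,
  .child 18 true 87,
  .child 17 false 224,
  .child 72 false 224,
  .child 17 true 224,
  .child 72 false 117,
  .child 17 true 117,
  .child 18 true 117,
  .child 72 false 217,
  .child 17 true 217,
  .child 17 false 988,
  .child 18 false 988,
  .child 17 true 988,
  .child 18 true 988,
  .child 72 false 529,
  .child 72 false 2411,
  .child 18 true 1047,
  .child 17 false 796,
  .child 18 false 796,
  .child 72 false 796,
  .child 18 true 796,
  .child 17 false 1635,
  .child 72 false 1635,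
  .child 17 true 1635,
  .child 17 true 1355,
  .child 18 true 1355,
  .child 72 false 1764,
  .child 17 true 1764,
  .child 72 false 136,
  .child 17 false 3260,
  .child 18 false 3260,
  .child 17 true 3260,
  .child 18 true 3260,
  .child 17 false 19,
  .child 18 false 19,
  .child 17 true 19,
  .child 18 true 19,
  .child 72 false 3145,
  .child 18 false 626,
  .child 17 true 626,
  .child 18 true 626,
  .child 17 false 3668,
  .child 18 false 3668,
  .child 72 false 3668,
  .child 18 true 3668,
  .child 17 false 3615,
  .child 72 false 3615,
  .child 17 true 3615,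
  .child 17 true 2866,
  .child 18 true 2866,
  .child 72 false 1651,
  .child 17 true 1651,
  .child 17 false 1373,
  .child 18 false 1373,
  .child 17 true 1373,
  .child 18 true 1373,
  .child 17 false 2748,
  .child 18 false 2748,
  .child 72 false 2748,
  .child 17 false 3058,
  .child 72 false 3058,
  .child 17 true 3058,
  .child 17 false 645]

/-- part 5 of `twTree2` -/
noncomputable def twTree2P5 : List (Leaf) := [
  .child 18 false 645,
  .child 17 true 645,
  .child 18 true 645,
  .child 17 true 3488,
  .child 72 false 3296,
  .child 18 true 3296,
  .child 17 false 1263,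
  .child 18 false 1263,
  .child 17 true 1263,
  .child 17 false 1671,
  .child 18 false 1671,
  .child 18 true 1671,
  .child 72 false 3367,
  .child 17 true 3367,
  .child 18 true 3367,
  .child 72 false 3489,
  .child 17 false 3281,
  .child 17 true 3281,
  .child 18 true 3281,
  .child 72 false 3842,
  .child 17 false 1278,
  .child 18 false 1278,
  .child 18 true 1278,
  .child 17 false 1497,
  .child 72 false 1497,
  .child 17 true 1497,
  .child 72 false 527,
  .child 17 true 527,
  .child 18 true 527,
  .child 72 false 1251,
  .child 17 true 1251,
  .child 17 false 1653,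
  .child 18 false 1653,
  .child 17 true 1653,
  .child 18 true 1653,
  .child 72 false 3510,
  .child 18 true 3510,
  .child 72 false 2012,
  .child 72 false 990,
  .child 17 false 1496,
  .child 72 false 1496,
  .child 17 false 656,
  .child 72 false 656,
  .child 17 false 1812,
  .child 17 true 1812,
  .child 72 false 381,
  .child 72 false 1362,
  .child 18 true 1362,
  .child 17 false 1853,
  .child 18 false 1853,
  .child 17 true 1853,
  .child 18 true 1853,
  .child 72 false 1346,
  .child 17 false 3795,
  .child 17 true 3795,
  .child 18 true 3795,
  .child 72 false 2048,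
  .child 17 true 2048,
  .child 72 false 1423,
  .child 17 false 1699,
  .child 18 false 1699,
  .child 17 true 1699,
  .child 18 true 1699,
  .child 18 true 935,
  .child 72 false 397,
  .child 72 false 2419,
  .child 72 false 396,
  .child 72 false 2132,
  .child 17 false 81,
  .child 18 false 81,
  .child 17 true 81,
  .child 72 false 3424,
  .child 18 false 3356,
  .child 17 true 3356,
  .child 18 true 3356,
  .child 17 false 358,
  .child 18 false 358,
  .child 18 true 358,
  .child 17 false 280,
  .child 17 true 280,
  .child 17 true 357,
  .child 18 true 357,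
  .child 72 false 602,
  .child 17 true 602,
  .child 17 false 844,
  .child 18 false 844,
  .child 17 true 844,
  .child 18 true 844,
  .child 72 false 3547,
  .child 17 false 3728,
  .child 18 false 3728,
  .child 17 true 3728,
  .child 18 true 3728,
  .child 72 false 3698,
  .child 17 false 2904,
  .child 18 false 2904,
  .child 17 true 2904,
  .child 18 true 2904,
  .child 18 false 1408,
  .child 18 true 1408]

/-- part 6 of `twTree2` -/
noncomputable def twTree2P6 : List (Leaf) := [
  .child 72 false 2365,
  .child 17 true 2365,
  .child 17 true 3034,
  .child 18 true 3034,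
  .child 17 true 1401,
  .child 17 false 1614,
  .child 18 false 1614,
  .child 17 true 1614,
  .child 18 true 1614,
  .child 72 false 3705,
  .child 17 false 52,
  .child 18 false 52,
  .child 17 true 52,
  .child 17 false 641,
  .child 18 false 641,
  .child 72 false 641,
  .child 18 true 641,
  .child 17 false 2137,
  .child 17 true 2137,
  .child 17 true 643,
  .child 17 false 830,
  .child 18 false 830,
  .child 17 true 830,
  .child 72 false 580,
  .child 72 false 746,
  .child 17 false 2357,
  .child 18 false 2357,
  .child 72 false 112,
  .child 18 true 268,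
  .child 72 false 70,
  .child 17 false 2345,
  .child 18 false 2345,
  .child 72 false 3828,
  .child 18 false 3666,
  .child 17 true 3666,
  .child 18 true 3666,
  .child 72 false 3030,
  .child 18 false 346,
  .child 72 false 1655,
  .child 72 false 3591,
  .child 17 false 1339,
  .child 18 false 1339,
  .child 18 true 1339,
  .child 18 false 58,
  .child 17 true 58,
  .child 18 true 58,
  .child 72 false 1596,
  .child 17 true 1596,
  .child 18 true 225,
  .child 72 false 607,
  .child 72 false 581,
  .child 17 false 2524,
  .child 18 false 2524,
  .child 18 true 2524,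
  .child 72 false 104,
  .child 72 false 639,
  .child 72 false 757,
  .child 18 true 3270,
  .child 72 false 614,
  .child 72 false 1804,
  .child 18 false 3025,
  .child 17 true 3025,
  .child 72 false 996,
  .child 72 false 3838,
  .child 17 false 3773,
  .child 17 true 3773,
  .child 18 true 3773,
  .child 72 false 881,
  .child 18 true 881,
  .child 72 false 810,
  .child 17 false 2731,
  .child 72 false 2731,
  .child 17 false 592,
  .child 18 false 592,
  .child 17 true 592,
  .child 17 false 218,
  .child 18 false 218,
  .child 17 true 218,
  .child 18 true 218,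
  .child 72 false 3864,
  .child 17 false 2442,
  .child 18 false 2442,
  .child 17 false 3343,
  .child 18 true 1422,
  .child 72 false 1409,
  .child 72 false 3888,
  .child 17 false 2844,
  .child 18 false 2844,
  .child 17 true 2844,
  .child 72 false 1682,
  .child 18 false 3479,
  .child 72 false 3479,
  .child 18 true 3479,
  .child 72 false 1698,
  .child 18 false 1677,
  .child 17 true 1677,
  .child 18 true 1677,
  .child 72 false 2735,
  .child 17 false 212,
  .child 18 false 212]

/-- part 7 of `twTree2` -/
noncomputable def twTree2P7 : List (Leaf) := [
  .child 17 true 212,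
  .child 72 false 1062,
  .child 18 true 1062,
  .child 17 false 214,
  .child 18 false 214,
  .child 17 true 214,
  .child 72 false 55,
  .child 17 false 3769,
  .child 18 false 3769,
  .child 72 false 957,
  .child 17 true 2874,
  .child 72 false 2929,
  .child 17 false 2493,
  .child 17 true 2493,
  .child 17 false 3862,
  .child 18 false 3862,
  .child 18 true 3862,
  .child 17 true 885,
  .child 17 false 100,
  .child 17 true 100,
  .child 18 false 2305,
  .child 18 true 2305,
  .child 17 false 1457,
  .child 17 true 1457,
  .child 17 false 919,
  .child 17 true 919,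
  .child 18 true 919,
  .child 17 false 2627,
  .child 17 true 588,
  .child 72 false 2618,
  .child 17 false 3405,
  .child 18 false 3405,
  .child 17 true 3405,
  .child 18 true 1341,
  .child 17 true 1789,
  .child 18 true 1789,
  .child 17 false 35,
  .child 17 true 35,
  .child 72 false 2338,
  .child 72 false 2343,
  .child 17 false 1876,
  .child 17 true 1876,
  .child 17 true 473,
  .child 72 false 518,
  .child 18 false 3608,
  .child 18 true 2078,
  .child 18 true 2496,
  .child 72 false 84,
  .child 72 false 114,
  .child 17 false 3578,
  .child 17 true 3578,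
  .child 17 true 1765,
  .child 18 true 1765,
  .child 17 true 2941,
  .child 17 false 257,
  .child 18 false 257,
  .child 17 false 393,
  .child 72 false 393,
  .child 17 true 393,
  .child 17 true 868,
  .child 72 false 82,
  .child 72 false 256,
  .child 17 true 256,
  .child 18 false 3619,
  .child 18 true 3619,
  .child 17 false 1660,
  .child 18 true 1660,
  .child 17 false 3387,
  .child 17 true 1199,
  .child 18 true 1199,
  .child 17 true 3605,
  .child 18 true 3634,
  .child 17 false 3654,
  .child 72 false 42,
  .child 18 false 2706,
  .child 17 true 2706,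
  .child 18 true 2706,
  .child 72 false 920,
  .child 17 true 2693,
  .child 18 true 2693,
  .child 17 false 2787,
  .child 18 true 3743,
  .child 72 false 942,
  .child 17 false 1852,
  .child 17 false 3681,
  .child 18 false 3785,
  .child 18 true 3785,
  .child 18 false 3325,
  .child 17 true 3325,
  .child 18 true 3325,
  .child 17 false 304,
  .child 17 false 213,
  .child 17 false 79,
  .child 17 true 79,
  .child 17 true 835,
  .child 18 true 1076,
  .child 17 false 2817,
  .child 18 false 1673,
  .root 3,
  .child 17 false 2213]

/-- part 8 of `twTree2` -/
noncomputable def twTree2P8 : List (Leaf) := [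
  .child 18 false 2213,
  .child 72 false 2213,
  .child 17 true 2213,
  .child 18 true 2213,
  .child 17 false 3570,
  .child 18 false 3570,
  .child 72 false 3570,
  .child 18 true 3570,
  .child 17 false 915,
  .child 72 false 915,
  .child 17 true 915,
  .child 17 false 2987,
  .child 18 false 2987,
  .child 17 true 2987,
  .child 18 true 2987,
  .child 72 false 2195,
  .child 17 true 2195,
  .child 18 true 2195,
  .child 72 false 3257,
  .child 17 true 3257,
  .child 17 false 3573,
  .child 18 false 3573,
  .child 72 false 3573,
  .child 17 false 1924,
  .child 72 false 1924,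
  .child 17 true 1924,
  .child 17 false 1216,
  .child 18 false 1216,
  .child 17 true 1216,
  .child 18 true 1216,
  .child 72 false 2458,
  .child 17 true 2458,
  .child 72 false 3692,
  .child 18 true 3692,
  .child 17 false 1354,
  .child 18 false 1354,
  .child 17 true 1354,
  .child 18 true 1354,
  .child 72 false 1584,
  .child 17 false 2211,
  .child 18 false 2211,
  .child 72 false 2211,
  .child 18 true 2211,
  .child 17 false 1097,
  .child 72 false 1097,
  .child 17 true 1097,
  .child 72 false 1135,
  .child 17 true 1135,
  .child 18 true 1135,
  .child 72 false 2687,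
  .child 17 true 2687,
  .child 17 false 1437,
  .child 18 false 1437,
  .child 17 true 1437,
  .child 18 true 1437,
  .child 72 false 3571,
  .child 17 true 3571,
  .child 18 true 3571,
  .child 72 false 959,
  .child 17 false 2172,
  .child 18 false 2172,
  .child 17 true 2172,
  .child 18 true 2172,
  .child 72 false 3430,
  .child 17 false 3572,
  .child 18 false 3572,
  .child 72 false 3572,
  .child 17 false 2203,
  .child 72 false 2203,
  .child 17 false 2768,
  .child 18 false 2768,
  .child 17 true 2768,
  .child 18 true 2768,
  .child 72 false 2954,
  .child 17 false 2350,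
  .child 18 false 2350,
  .child 17 true 2350,
  .child 18 true 2350,
  .child 72 false 1881,
  .child 17 false 816,
  .child 18 false 816,
  .child 72 false 816,
  .child 18 true 816,
  .child 17 false 3536,
  .child 72 false 3536,
  .child 17 true 3536,
  .child 72 false 2608,
  .child 17 true 2608,
  .child 18 true 2608,
  .child 72 false 2808,
  .child 17 true 2808,
  .child 17 false 1454,
  .child 18 false 1454,
  .child 17 true 1454,
  .child 18 true 1454,
  .child 72 false 3560,
  .child 17 false 2152,
  .child 18 false 2152,
  .child 17 true 2152,
  .child 18 true 2152]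

/-- part 9 of `twTree2` -/
noncomputable def twTree2P9 : List (Leaf) := [
  .child 72 false 3059,
  .child 17 false 182,
  .child 18 false 182,
  .child 72 false 182,
  .child 18 true 182,
  .child 17 false 2861,
  .child 72 false 2861,
  .child 17 true 2861,
  .child 72 false 1360,
  .child 17 true 1360,
  .child 18 true 1360,
  .child 72 false 1117,
  .child 17 true 1117,
  .child 17 false 783,
  .child 18 false 783,
  .child 17 true 783,
  .child 18 true 783,
  .child 17 false 3141,
  .child 18 false 3141,
  .child 72 false 3141,
  .child 17 false 2907,
  .child 72 false 2907,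
  .child 17 true 2907,
  .child 17 false 2385,
  .child 18 false 2385,
  .child 17 true 2385,
  .child 18 true 2385,
  .child 72 false 2854,
  .child 17 true 2854,
  .child 72 false 1188,
  .child 18 true 1188,
  .child 17 false 418,
  .child 18 false 418,
  .child 17 true 418,
  .child 18 true 418,
  .child 72 false 3032,
  .child 17 false 286,
  .child 18 false 286,
  .child 17 true 286,
  .child 18 true 286,
  .child 72 false 3402,
  .child 17 true 3402,
  .child 18 true 3402,
  .child 72 false 1140,
  .child 17 false 652,
  .child 18 false 652,
  .child 17 true 652,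
  .child 18 true 652,
  .child 72 false 2143,
  .child 17 false 452,
  .child 18 false 452,
  .child 72 false 452,
  .child 18 true 452,
  .child 17 false 657,
  .child 72 false 657,
  .child 17 true 657,
  .child 72 false 177,
  .child 17 true 177,
  .child 18 true 177,
  .child 72 false 450,
  .child 17 true 450,
  .child 17 false 2312,
  .child 18 false 2312,
  .child 17 true 2312,
  .child 18 true 2312,
  .child 72 false 3397,
  .child 72 false 1585,
  .child 17 false 1927,
  .child 18 false 1927,
  .child 17 true 1927,
  .child 18 true 1927,
  .child 17 false 1078,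
  .child 18 false 1078,
  .child 72 false 1078,
  .child 18 true 1078,
  .child 17 false 3358,
  .child 72 false 3358,
  .child 17 true 3358,
  .child 72 false 2171,
  .child 17 true 2171,
  .child 18 true 2171,
  .child 72 false 686,
  .child 17 true 686,
  .child 17 false 585,
  .child 18 false 585,
  .child 17 true 585,
  .child 18 true 585,
  .child 72 false 784,
  .child 72 false 1880,
  .child 17 false 1284,
  .child 18 false 1284,
  .child 17 true 1284,
  .child 18 true 1284,
  .child 72 false 3086,
  .child 17 false 1886,
  .child 18 false 1886,
  .child 17 true 1886,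
  .child 18 true 1886,
  .child 17 false 3060,
  .child 18 false 3060]

/-- part 10 of `twTree2` -/
noncomputable def twTree2P10 : List (Leaf) := [
  .child 72 false 3060,
  .child 18 true 3060,
  .child 17 false 2725,
  .child 72 false 2725,
  .child 17 true 2725,
  .child 72 false 3061,
  .child 17 true 3061,
  .child 18 true 3061,
  .child 72 false 492,
  .child 17 true 492,
  .child 17 false 1252,
  .child 18 false 1252,
  .child 17 true 1252,
  .child 18 true 1252,
  .child 17 false 2337,
  .child 18 false 2337,
  .child 72 false 2337,
  .child 18 true 2337,
  .child 17 false 446,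
  .child 72 false 446,
  .child 17 true 446,
  .child 72 false 2329,
  .child 17 true 2329,
  .child 18 true 2329,
  .child 72 false 2151,
  .child 17 true 2151,
  .child 17 false 2289,
  .child 18 false 2289,
  .child 17 true 2289,
  .child 18 true 2289,
  .child 17 false 2607,
  .child 18 false 2607,
  .child 72 false 2607,
  .child 17 false 2256,
  .child 72 false 2256,
  .child 17 true 2256,
  .child 17 false 307,
  .child 18 false 307,
  .child 17 true 307,
  .child 18 true 307,
  .child 72 false 2804,
  .child 17 true 2804,
  .child 72 false 1241,
  .child 18 true 1241,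
  .child 17 false 522,
  .child 18 false 522,
  .child 17 true 522,
  .child 18 true 522,
  .child 72 false 3450,
  .child 17 false 1941,
  .child 18 false 1941,
  .child 17 true 1941,
  .child 18 true 1941,
  .child 72 false 817,
  .child 17 true 817,
  .child 18 true 817,
  .child 72 false 2263,
  .child 17 false 2517,
  .child 18 false 2517,
  .child 17 true 2517,
  .child 18 true 2517,
  .child 72 false 1075,
  .child 17 false 3186,
  .child 18 false 3186,
  .child 72 false 3186,
  .child 18 true 3186,
  .child 17 false 3546,
  .child 72 false 3546,
  .child 17 true 3546,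
  .child 72 false 770,
  .child 17 true 770,
  .child 18 true 770,
  .child 72 false 1048,
  .child 17 true 1048,
  .child 17 false 687,
  .child 18 false 687,
  .child 17 true 687,
  .child 18 true 687,
  .child 72 false 2413,
  .child 18 true 2413,
  .child 72 false 2612,
  .child 72 false 1228,
  .child 72 false 3641,
  .child 17 false 1367,
  .child 72 false 1367,
  .child 17 false 1955,
  .child 72 false 1955,
  .child 17 false 1289,
  .child 18 false 1289,
  .child 17 true 1289,
  .child 18 true 1289,
  .child 72 false 1999,
  .child 72 false 2120,
  .child 18 true 2120,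
  .child 17 false 1716,
  .child 18 false 1716,
  .child 17 true 1716,
  .child 18 true 1716,
  .child 72 false 2291,
  .child 17 false 2993]

/-- part 11 of `twTree2` -/
noncomputable def twTree2P11 : List (Leaf) := [
  .child 18 false 2993,
  .child 17 true 2993,
  .child 18 true 2993,
  .child 72 false 183,
  .child 17 true 183,
  .child 72 false 3364,
  .child 17 false 1892,
  .child 18 false 1892,
  .child 17 true 1892,
  .child 18 true 1892,
  .child 72 false 3027,
  .child 72 false 3566,
  .child 18 true 3566,
  .child 72 false 1782,
  .child 72 false 1459,
  .child 72 false 771,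
  .child 17 false 2905,
  .child 72 false 2905,
  .child 17 false 2670,
  .child 18 false 2670,
  .child 17 true 2670,
  .child 72 false 2025,
  .child 17 false 3309,
  .child 18 false 3309,
  .child 17 true 3309,
  .child 18 true 3309,
  .child 72 false 1139,
  .child 17 false 2688,
  .child 18 false 2688,
  .child 18 true 2688,
  .child 17 false 979,
  .child 17 true 979,
  .child 17 true 3409,
  .child 18 true 3409,
  .child 72 false 877,
  .child 17 true 877,
  .child 17 false 1493,
  .child 18 false 1493,
  .child 17 true 1493,
  .child 18 true 1493,
  .child 72 false 2980,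
  .child 17 false 3724,
  .child 18 false 3724,
  .child 17 true 3724,
  .child 18 true 3724,
  .child 72 false 2906,
  .child 17 false 433,
  .child 18 false 433,
  .child 72 false 433,
  .child 18 true 433,
  .child 17 false 1430,
  .child 72 false 1430,
  .child 17 true 1430,
  .child 72 false 404,
  .child 18 true 404,
  .child 72 false 1417,
  .child 17 true 1417,
  .child 17 false 1670,
  .child 18 false 1670,
  .child 17 true 1670,
  .child 18 true 1670,
  .child 18 false 289,
  .child 18 true 289,
  .child 72 false 309,
  .child 17 true 309,
  .child 17 true 287,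
  .child 18 true 287,
  .child 72 false 306,
  .child 17 true 306,
  .child 17 false 2824,
  .child 18 false 2824,
  .child 17 true 2824,
  .child 18 true 2824,
  .child 72 false 2978,
  .child 72 false 3161,
  .child 17 false 2699,
  .child 18 false 2699,
  .child 17 true 2699,
  .child 17 false 649,
  .child 18 false 649,
  .child 72 false 649,
  .child 18 true 649,
  .child 17 false 400,
  .child 72 false 400,
  .child 17 true 400,
  .child 17 true 327,
  .child 17 false 2124,
  .child 18 false 2124,
  .child 17 true 2124,
  .child 72 false 1296,
  .child 72 false 1192,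
  .child 18 true 2148,
  .child 72 false 2245,
  .child 72 false 875,
  .child 17 false 3206,
  .child 18 false 3206,
  .child 72 false 752,
  .child 18 true 583,
  .child 72 false 453,
  .child 72 false 2262]

/-- part 12 of `twTree2` -/
noncomputable def twTree2P12 : List (Leaf) := [
  .child 17 false 3625,
  .child 18 false 3625,
  .child 17 true 3625,
  .child 72 false 658,
  .child 72 false 2788,
  .child 72 false 2334,
  .child 18 true 2742,
  .child 72 false 586,
  .child 72 false 2421,
  .child 72 false 2064,
  .child 18 false 807,
  .child 17 true 807,
  .child 18 true 807,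
  .child 72 false 2073,
  .child 72 false 3357,
  .child 17 false 1274,
  .child 18 false 1274,
  .child 72 false 3361,
  .child 18 false 3856,
  .child 17 true 3856,
  .child 18 true 3856,
  .child 72 false 1465,
  .child 17 false 2183,
  .child 18 false 2183,
  .child 18 true 2183,
  .child 72 false 1957,
  .child 72 false 3154,
  .child 72 false 900,
  .child 17 false 621,
  .child 18 false 621,
  .child 17 true 621,
  .child 18 true 621,
  .child 72 false 1805,
  .child 72 false 2223,
  .child 17 true 2223,
  .child 72 false 2705,
  .child 72 false 1042,
  .child 72 false 2274,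
  .child 18 true 2274,
  .child 72 false 1313,
  .child 72 false 2267,
  .child 72 false 3155,
  .child 72 false 978,
  .child 17 false 486,
  .child 18 false 486,
  .child 17 true 486,
  .child 18 true 486,
  .child 72 false 880,
  .child 72 false 491,
  .child 17 false 3599,
  .child 18 false 3599,
  .child 17 true 3599,
  .child 18 true 3599,
  .child 72 false 2741,
  .child 17 false 1315,
  .child 18 false 1315,
  .child 18 true 1315,
  .child 72 false 2770,
  .child 72 false 584,
  .child 17 true 428,
  .child 18 true 428,
  .child 72 false 1944,
  .child 72 false 2042,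
  .child 72 false 1268,
  .child 72 false 655,
  .child 72 false 178,
  .child 72 false 1490,
  .child 72 false 1211,
  .child 17 false 3337,
  .child 18 false 3337,
  .child 17 true 3337,
  .child 18 true 3337,
  .child 72 false 2342,
  .child 72 false 1907,
  .child 18 false 401,
  .child 17 true 401,
  .child 18 true 401,
  .child 72 false 548,
  .child 17 false 2277,
  .child 18 false 2277,
  .child 18 true 2277,
  .child 72 false 2869,
  .child 72 false 3527,
  .child 17 false 169,
  .child 18 false 169,
  .child 17 true 169,
  .child 18 true 169,
  .child 72 false 1227,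
  .child 72 false 571,
  .child 18 true 571,
  .child 72 false 1839,
  .child 72 false 1399,
  .child 72 false 1811,
  .child 17 false 1217,
  .child 72 false 1217,
  .child 17 false 2924,
  .child 18 false 2924,
  .child 17 true 2924,
  .child 72 false 2460,
  .child 17 false 1771]

/-- part 13 of `twTree2` -/
noncomputable def twTree2P13 : List (Leaf) := [
  .child 18 false 1771,
  .child 17 true 1771,
  .child 18 true 1771,
  .child 72 false 785,
  .child 17 false 244,
  .child 18 false 244,
  .child 18 true 244,
  .child 17 false 288,
  .child 17 true 288,
  .child 18 true 254,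
  .child 72 false 292,
  .child 17 false 3656,
  .child 18 false 3656,
  .child 17 true 3656,
  .child 18 true 3656,
  .child 72 false 2461,
  .child 17 false 1965,
  .child 18 false 1965,
  .child 17 true 1965,
  .child 18 true 1965,
  .child 72 false 2252,
  .child 17 false 160,
  .child 18 false 160,
  .child 72 false 160,
  .child 18 true 160,
  .child 17 true 1307,
  .child 72 false 63,
  .child 18 true 63,
  .child 72 false 2182,
  .child 17 true 2182,
  .child 17 false 622,
  .child 18 false 622,
  .child 17 true 622,
  .child 18 true 622,
  .child 18 false 2686,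
  .child 18 true 2686,
  .child 72 false 61,
  .child 17 true 61,
  .child 17 true 3447,
  .child 18 true 3447,
  .child 17 true 489,
  .child 17 false 1149,
  .child 18 false 1149,
  .child 17 true 1149,
  .child 18 true 1149,
  .child 72 false 814,
  .child 17 false 3268,
  .child 18 false 3268,
  .child 17 true 3268,
  .child 18 false 3005,
  .child 72 false 3005,
  .child 18 true 3005,
  .child 17 false 3013,
  .child 72 false 3013,
  .child 17 true 3013,
  .child 17 true 3193,
  .child 17 false 3381,
  .child 18 false 3381,
  .child 17 true 3381,
  .child 72 false 1798,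
  .child 18 false 135,
  .child 17 true 135,
  .child 18 true 135,
  .child 72 false 1791,
  .child 72 false 3567,
  .child 17 false 720,
  .child 18 false 720,
  .child 72 false 3056,
  .child 18 false 349,
  .child 17 true 349,
  .child 18 true 349,
  .child 72 false 1656,
  .child 17 false 1962,
  .child 18 false 1962,
  .child 18 true 1962,
  .child 72 false 3360,
  .child 72 false 3710,
  .child 72 false 684,
  .child 18 false 1934,
  .child 17 true 1934,
  .child 18 true 1934,
  .child 72 false 546,
  .child 17 false 2287,
  .child 17 true 2287,
  .child 18 true 2287,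
  .child 17 false 2629,
  .child 18 false 2629,
  .child 18 true 2629,
  .child 17 false 2079,
  .child 18 false 2079,
  .child 18 true 2079,
  .child 72 false 1358,
  .child 17 false 1607,
  .child 18 false 1607,
  .child 17 true 1607,
  .child 17 false 2673,
  .child 17 true 2673,
  .child 18 true 2673,
  .child 17 false 1020,
  .child 18 false 1020]

/-- part 14 of `twTree2` -/
noncomputable def twTree2P14 : List (Leaf) := [
  .child 18 true 1020,
  .child 17 true 2285,
  .child 17 true 164,
  .child 17 false 3178,
  .child 18 false 3178,
  .child 17 true 3178,
  .child 18 true 3178,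
  .child 17 false 2126,
  .child 17 true 2126,
  .child 18 true 2126,
  .child 17 false 1717,
  .child 18 true 1717,
  .child 72 false 1750,
  .child 17 true 1750,
  .child 72 false 2767,
  .child 18 true 2767,
  .child 72 false 3103,
  .child 17 true 3103,
  .child 17 false 3195,
  .child 18 false 3195,
  .child 17 true 3195,
  .child 18 true 3195,
  .child 18 true 2038,
  .child 17 true 3596,
  .child 18 true 3596,
  .child 72 false 3280,
  .child 17 false 3274,
  .child 17 true 3274,
  .child 18 true 3274,
  .child 72 false 180,
  .child 17 false 1498,
  .child 18 false 1498,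
  .child 17 true 1498,
  .child 18 false 547,
  .child 72 false 547,
  .child 18 true 547,
  .child 17 false 2963,
  .child 72 false 2963,
  .child 17 true 2963,
  .child 17 true 2749,
  .child 17 false 3793,
  .child 18 false 3793,
  .child 17 true 3793,
  .child 18 true 3799,
  .child 72 false 1480,
  .child 18 false 322,
  .child 18 true 162,
  .child 17 false 3451,
  .child 18 false 3451,
  .child 17 true 3451,
  .child 72 false 3696,
  .child 18 true 2490,
  .child 72 false 1871,
  .child 72 false 2140,
  .child 72 false 1979,
  .child 17 false 1549,
  .child 18 false 1549,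
  .child 18 true 1549,
  .child 17 false 3493,
  .child 17 true 3493,
  .child 17 true 1530,
  .child 18 true 1530,
  .child 17 true 3723,
  .child 18 false 379,
  .child 17 true 379,
  .child 18 true 379,
  .child 17 false 3408,
  .child 18 false 3408,
  .child 17 false 1166,
  .child 72 false 1166,
  .child 17 true 1166,
  .child 17 true 2576,
  .child 72 false 3065,
  .child 72 false 3073,
  .child 17 true 3073,
  .child 18 false 3501,
  .child 17 true 3501,
  .child 18 true 3501,
  .child 17 false 2353,
  .child 18 false 2353,
  .child 18 true 2353,
  .child 17 false 1669,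
  .child 17 true 1669,
  .child 17 true 2477,
  .child 18 true 2477,
  .child 72 false 2775,
  .child 17 true 2775,
  .child 17 true 414,
  .child 18 true 3298,
  .child 17 false 405,
  .child 72 false 405,
  .child 17 false 923,
  .child 18 true 3745,
  .child 72 false 1435,
  .child 18 true 1306,
  .child 17 true 1697,
  .child 72 false 454,
  .child 17 false 3512,
  .child 17 true 3512,
  .child 72 false 829]

/-- part 15 of `twTree2` -/
noncomputable def twTree2P15 : List (Leaf) := [
  .child 17 false 1751,
  .child 17 true 1751,
  .child 72 false 533,
  .child 72 false 3559,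
  .child 72 false 1555,
  .child 72 false 243,
  .child 17 false 1775,
  .child 18 false 1775,
  .child 72 false 258,
  .child 72 false 290,
  .child 72 false 3825,
  .child 72 false 630,
  .child 18 false 2051,
  .child 17 true 2051,
  .child 18 true 2051,
  .child 17 false 2684,
  .child 18 false 2684,
  .child 72 false 1869,
  .child 72 false 3532,
  .child 17 false 878,
  .child 18 false 878,
  .child 17 true 878,
  .child 17 true 239,
  .child 72 false 220,
  .child 17 true 220,
  .child 17 false 2362,
  .child 17 true 2362,
  .child 18 true 2362,
  .child 17 true 45,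
  .child 17 false 3130,
  .child 72 false 3130,
  .child 18 true 1281,
  .child 17 false 32,
  .child 17 true 32,
  .child 18 false 3635,
  .child 17 true 3635,
  .child 72 false 3618,
  .child 17 false 707,
  .child 72 false 707,
  .child 18 false 3471,
  .child 17 true 3471,
  .child 18 true 1849,
  .child 17 false 1412,
  .child 18 false 1412,
  .child 72 false 2780,
  .child 17 false 1095,
  .child 18 false 680,
  .child 17 false 2417,
  .child 18 true 2417,
  .child 17 true 2336,
  .child 17 true 1193,
  .child 18 false 2324,
  .child 17 true 2324,
  .child 18 true 2324,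
  .child 17 false 997,
  .child 18 true 997,
  .child 17 false 1894,
  .child 18 false 504,
  .child 17 true 504,
  .child 18 true 504,
  .child 17 true 3163,
  .child 17 false 906,
  .child 18 true 906,
  .child 72 false 377,
  .child 72 false 3528,
  .child 72 false 2201,
  .child 18 false 925,
  .child 17 true 925,
  .child 18 true 925,
  .child 17 false 1707,
  .child 17 true 1707,
  .child 18 true 1707,
  .child 72 false 2220,
  .child 17 false 567,
  .child 18 false 567,
  .child 18 true 567,
  .child 17 true 158,
  .child 18 true 158,
  .child 18 false 1846,
  .child 17 true 1846,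
  .child 18 true 1846,
  .child 72 false 532,
  .child 18 false 3354,
  .child 17 true 3354,
  .child 18 true 3354,
  .child 17 true 706,
  .child 18 true 706,
  .child 17 false 28,
  .child 18 false 28,
  .child 17 true 28,
  .child 17 false 1610,
  .child 17 true 1610,
  .child 18 true 1610,
  .child 17 false 490,
  .child 18 false 490,
  .child 18 true 490,
  .child 17 false 2762,
  .child 17 true 2762,
  .child 18 true 488,
  .child 72 false 1921]

/-- part 16 of `twTree2` -/
noncomputable def twTree2P16 : List (Leaf) := [
  .child 17 false 1690,
  .child 18 false 1690,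
  .child 17 true 1690,
  .child 18 true 1690,
  .child 17 false 3665,
  .child 17 true 3665,
  .child 18 true 3665,
  .child 17 false 1809,
  .child 18 true 1809,
  .child 17 true 1094,
  .child 72 false 3600,
  .child 18 true 3600,
  .child 72 false 1963,
  .child 17 true 1963,
  .child 17 false 1900,
  .child 18 false 1900,
  .child 17 true 1900,
  .child 18 true 1900,
  .child 18 false 2335,
  .child 72 false 679,
  .child 17 true 679,
  .child 17 true 929,
  .child 17 false 1631,
  .child 17 true 1631,
  .child 18 true 1631,
  .child 17 false 241,
  .child 18 false 241,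
  .child 17 true 241,
  .child 17 true 417,
  .child 17 false 21,
  .child 18 false 21,
  .child 17 true 21,
  .child 18 false 1981,
  .child 17 true 1981,
  .child 18 true 1981,
  .child 17 false 3347,
  .child 17 true 3347,
  .child 18 true 3347,
  .child 17 false 788,
  .child 18 false 788,
  .child 18 true 788,
  .child 17 false 438,
  .child 18 false 438,
  .child 17 true 438,
  .child 17 false 2104,
  .child 17 true 2104,
  .child 18 true 2104,
  .child 17 false 983,
  .child 18 false 983,
  .child 18 true 983,
  .child 17 true 1532,
  .child 17 true 1933,
  .child 17 false 3878,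
  .child 18 false 3878,
  .child 17 true 3878,
  .child 18 true 3878,
  .child 17 false 836,
  .child 17 true 836,
  .child 18 true 836,
  .child 72 false 732,
  .child 72 false 441,
  .child 18 true 441,
  .child 72 false 2356,
  .child 17 false 2096,
  .child 18 false 2096,
  .child 17 true 2096,
  .child 18 true 2096,
  .child 72 false 2628,
  .child 17 false 2948,
  .child 17 true 2948,
  .child 18 true 2948,
  .child 17 false 2563,
  .child 18 false 2563,
  .child 17 true 2563,
  .child 18 false 1321,
  .child 72 false 1321,
  .child 18 true 1321,
  .child 17 false 318,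
  .child 72 false 318,
  .child 17 true 318,
  .child 17 true 1326,
  .child 17 false 1205,
  .child 18 false 1205,
  .child 17 true 1205,
  .child 18 true 165,
  .child 72 false 347,
  .child 18 true 2679,
  .child 17 false 633,
  .child 18 false 633,
  .child 72 false 2821,
  .child 72 false 3306,
  .child 72 false 3443,
  .child 17 false 985,
  .child 18 false 985,
  .child 18 true 985,
  .child 17 false 1592,
  .child 17 true 1592,
  .child 17 true 2455,
  .child 18 true 2455,
  .child 17 true 1966]

/-- part 17 of `twTree2` -/
noncomputable def twTree2P17 : List (Leaf) := [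
  .child 18 false 2408,
  .child 72 false 246,
  .child 72 false 291,
  .child 18 false 3658,
  .child 17 true 3658,
  .child 18 true 3658,
  .child 17 false 3170,
  .child 18 false 3170,
  .child 18 true 3170,
  .child 17 false 3241,
  .child 17 true 3241,
  .child 17 true 2784,
  .child 18 true 2784,
  .child 17 true 1473,
  .child 18 true 1093,
  .child 17 false 523,
  .child 72 false 523,
  .child 17 false 2300,
  .child 18 true 677,
  .child 17 false 3863,
  .child 17 true 3863,
  .child 72 false 2432,
  .child 17 false 1547,
  .child 17 true 1547,
  .child 72 false 2249,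
  .child 72 false 3176,
  .child 72 false 1684,
  .child 17 false 3543,
  .child 18 false 3543,
  .child 72 false 2961,
  .child 17 true 2352,
  .child 17 false 1561,
  .child 18 false 1561,
  .child 17 false 209,
  .child 18 true 209,
  .child 17 true 1134,
  .child 17 true 3333,
  .child 18 false 1752,
  .child 17 true 1752,
  .child 18 true 1752,
  .child 17 false 1084,
  .child 18 true 1084,
  .child 17 false 964,
  .child 18 false 974,
  .child 17 true 974,
  .child 18 true 974,
  .child 17 true 1421,
  .child 17 false 2642,
  .child 18 true 2642,
  .child 72 false 709,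
  .child 72 false 3832,
  .child 18 false 3699,
  .child 18 true 3699,
  .child 72 false 2534,
  .child 72 false 1850,
  .child 72 false 321,
  .child 72 false 1328,
  .child 72 false 1392,
  .child 17 false 3052,
  .child 17 true 3171,
  .child 72 false 3747,
  .child 72 false 1245,
  .child 18 true 2016,
  .child 72 false 2127,
  .child 17 false 2570,
  .child 18 false 2570,
  .child 72 false 924,
  .child 17 false 501,
  .child 18 false 501,
  .child 17 false 2568,
  .child 18 false 2568,
  .child 17 false 662,
  .child 18 false 662,
  .child 72 false 2751,
  .child 18 false 508,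
  .child 17 true 2486,
  .child 17 true 1895,
  .child 17 false 3217,
  .child 72 false 1688,
  .child 18 false 1304,
  .child 18 true 1304,
  .child 17 false 1295,
  .child 17 true 1295,
  .child 72 false 3905,
  .child 17 true 3861,
  .child 18 true 3861,
  .child 17 false 3426,
  .child 18 false 3426,
  .child 18 true 3426,
  .child 17 false 2484,
  .child 17 true 3869,
  .child 18 true 3869,
  .child 17 true 3742,
  .child 17 true 1932,
  .child 17 false 2386,
  .child 18 false 2386,
  .child 72 false 3102,
  .child 72 false 3432,
  .child 17 false 3895,
  .child 17 true 2723]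

/-- part 18 of `twTree2` -/
noncomputable def twTree2P18 : List (Leaf) := [
  .child 72 false 1208,
  .child 72 false 2327,
  .child 18 true 3737,
  .child 72 false 1472,
  .child 18 false 3589,
  .child 17 false 230,
  .root 4,
  .child 17 false 2194,
  .child 72 false 2194,
  .child 17 true 2194,
  .child 17 false 3897,
  .child 72 false 3897,
  .child 17 false 2625,
  .child 18 false 2625,
  .child 17 true 2625,
  .child 18 true 2625,
  .child 72 false 3757,
  .child 72 false 3902,
  .child 17 false 3697,
  .child 18 false 3697,
  .child 17 true 3697,
  .child 18 true 3697,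
  .child 17 false 483,
  .child 18 false 483,
  .child 72 false 483,
  .child 18 true 483,
  .child 72 false 481,
  .child 72 false 2626,
  .child 17 false 601,
  .child 18 false 601,
  .child 17 true 601,
  .child 18 true 601,
  .child 17 false 2377,
  .child 17 true 2377,
  .child 18 true 2377,
  .child 17 false 2956,
  .child 18 false 2956,
  .child 72 false 2956,
  .child 18 true 2956,
  .child 72 false 3800,
  .child 72 false 2427,
  .child 72 false 484,
  .child 17 false 3007,
  .child 18 false 3007,
  .child 17 true 3007,
  .child 18 true 3007,
  .child 72 false 2623,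
  .child 17 false 2703,
  .child 18 false 2703,
  .child 17 true 2703,
  .child 17 false 916,
  .child 18 false 916,
  .child 18 true 916,
  .child 17 false 3146,
  .child 18 false 3146,
  .child 72 false 3146,
  .child 18 true 3146,
  .child 72 false 2070,
  .child 72 false 2932,
  .child 18 false 2485,
  .child 18 true 2485,
  .child 72 false 2123,
  .child 18 false 1455,
  .child 18 true 1455,
  .child 17 false 3001,
  .child 18 false 3001,
  .child 18 true 3001,
  .child 17 false 3010,
  .child 18 false 3010,
  .child 18 true 3010,
  .child 72 false 3843,
  .child 17 false 3467,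
  .child 18 false 3467,
  .child 18 true 3467,
  .child 72 false 2084,
  .child 72 false 2069,
  .child 72 false 2835,
  .child 72 false 1591,
  .child 18 true 470,
  .child 72 false 1986,
  .child 18 false 468,
  .child 18 true 468,
  .child 72 false 3276,
  .child 17 false 1035,
  .child 18 false 1035,
  .child 18 true 1035,
  .child 17 true 1511,
  .child 18 true 1511,
  .child 17 true 2029,
  .child 18 true 2029,
  .root 5,
  .child 17 false 3126,
  .child 18 false 3126,
  .child 72 false 3126,
  .child 17 true 3126,
  .child 18 true 3126,
  .child 17 false 2994,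
  .child 18 false 2994,
  .child 72 false 2994,
  .child 18 true 2994]

/-- part 19 of `twTree2` -/
noncomputable def twTree2P19 : List (Leaf) := [
  .child 17 false 3151,
  .child 72 false 3151,
  .child 17 true 3151,
  .child 17 false 2153,
  .child 18 false 2153,
  .child 17 true 2153,
  .child 18 true 2153,
  .child 72 false 3123,
  .child 17 true 3123,
  .child 18 true 3123,
  .child 72 false 841,
  .child 17 true 841,
  .child 17 false 3134,
  .child 18 false 3134,
  .child 72 false 3134,
  .child 17 false 3273,
  .child 72 false 3273,
  .child 17 true 3273,
  .child 17 false 2536,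
  .child 18 false 2536,
  .child 17 true 2536,
  .child 18 true 2536,
  .child 72 false 2193,
  .child 17 true 2193,
  .child 72 false 1720,
  .child 18 true 1720,
  .child 17 false 1021,
  .child 18 false 1021,
  .child 17 true 1021,
  .child 18 true 1021,
  .child 72 false 1830,
  .child 17 false 2155,
  .child 18 false 2155,
  .child 72 false 2155,
  .child 18 true 2155,
  .child 17 false 3650,
  .child 72 false 3650,
  .child 17 true 3650,
  .child 72 false 3095,
  .child 17 true 3095,
  .child 18 true 3095,
  .child 72 false 3651,
  .child 17 true 3651,
  .child 17 false 1762,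
  .child 18 false 1762,
  .child 17 true 1762,
  .child 18 true 1762,
  .child 72 false 2991,
  .child 17 true 2991,
  .child 18 true 2991,
  .child 72 false 3271,
  .child 17 false 3303,
  .child 18 false 3303,
  .child 17 true 3303,
  .child 18 true 3303,
  .child 72 false 605,
  .child 17 false 3125,
  .child 18 false 3125,
  .child 72 false 3125,
  .child 17 false 1829,
  .child 72 false 1829,
  .child 17 false 3545,
  .child 18 false 3545,
  .child 17 true 3545,
  .child 18 true 3545,
  .child 72 false 694,
  .child 17 false 3643,
  .child 18 false 3643,
  .child 18 true 3643,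
  .child 72 false 837,
  .child 17 false 3224,
  .child 18 false 3224,
  .child 72 false 3224,
  .child 18 true 3224,
  .child 17 false 1158,
  .child 72 false 1158,
  .child 17 true 1158,
  .child 72 false 1644,
  .child 17 true 1644,
  .child 18 true 1644,
  .child 72 false 1224,
  .child 17 true 1224,
  .child 17 false 2522,
  .child 18 false 2522,
  .child 17 true 2522,
  .child 18 true 2522,
  .child 72 false 853,
  .child 17 false 849,
  .child 18 false 849,
  .child 17 true 849,
  .child 72 false 1708,
  .child 17 false 1452,
  .child 18 false 1452,
  .child 72 false 1452,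
  .child 18 true 1452,
  .child 17 false 3053,
  .child 72 false 3053,
  .child 17 true 3053,
  .child 72 false 1657,
  .child 18 true 1657]

/-- part 20 of `twTree2` -/
noncomputable def twTree2P20 : List (Leaf) := [
  .child 72 false 1973,
  .child 17 true 1973,
  .child 17 false 3503,
  .child 18 false 3503,
  .child 17 true 3503,
  .child 18 true 3503,
  .child 17 false 3091,
  .child 18 false 3091,
  .child 17 false 2691,
  .child 72 false 2691,
  .child 17 true 2691,
  .child 17 false 590,
  .child 18 false 590,
  .child 17 true 590,
  .child 18 true 590,
  .child 72 false 904,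
  .child 17 true 904,
  .child 72 false 2004,
  .child 18 true 2004,
  .child 17 true 1063,
  .child 18 true 1063,
  .child 72 false 1870,
  .child 17 false 3324,
  .child 18 false 3324,
  .child 17 true 3324,
  .child 18 true 3324,
  .child 72 false 3094,
  .child 17 true 3094,
  .child 18 true 3094,
  .child 17 false 2061,
  .child 18 false 2061,
  .child 17 true 2061,
  .child 18 true 2061,
  .child 17 false 1253,
  .child 18 false 1253,
  .child 72 false 1253,
  .child 18 true 1253,
  .child 17 false 1984,
  .child 72 false 1984,
  .child 17 true 1984,
  .child 72 false 2082,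
  .child 17 true 2082,
  .child 18 true 2082,
  .child 72 false 654,
  .child 17 true 654,
  .child 17 true 2790,
  .child 18 true 2790,
  .child 72 false 3114,
  .child 72 false 905,
  .child 17 false 899,
  .child 18 false 899,
  .child 17 true 899,
  .child 18 true 899,
  .child 17 false 2789,
  .child 72 false 2789,
  .child 18 true 2789,
  .child 72 false 3429,
  .child 17 true 3429,
  .child 72 false 2504,
  .child 18 true 2504,
  .child 72 false 3631,
  .child 17 true 3631,
  .child 17 false 1778,
  .child 18 false 1778,
  .child 17 true 1778,
  .child 18 true 1778,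
  .child 72 false 3162,
  .child 72 false 3394,
  .child 72 false 842,
  .child 17 false 1419,
  .child 18 false 1419,
  .child 17 true 1419,
  .child 18 true 1419,
  .child 17 false 1662,
  .child 18 false 1662,
  .child 72 false 1662,
  .child 18 true 1662,
  .child 17 false 897,
  .child 72 false 897,
  .child 17 true 897,
  .child 72 false 1486,
  .child 17 true 1486,
  .child 18 true 1486,
  .child 72 false 613,
  .child 17 true 613,
  .child 17 false 872,
  .child 18 false 872,
  .child 17 true 872,
  .child 18 true 872,
  .child 18 false 3067,
  .child 72 false 3067,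
  .child 72 false 850,
  .child 72 false 754,
  .child 18 false 1967,
  .child 17 true 1967,
  .child 18 true 1967,
  .child 17 false 2000,
  .child 18 false 2000,
  .child 72 false 2000,
  .child 17 false 2298]

/-- part 21 of `twTree2` -/
noncomputable def twTree2P21 : List (Leaf) := [
  .child 17 true 2298,
  .child 17 false 1576,
  .child 18 false 1576,
  .child 17 true 1576,
  .child 18 true 1576,
  .child 72 false 666,
  .child 17 true 666,
  .child 18 true 1223,
  .child 17 false 1918,
  .child 17 true 1918,
  .child 72 false 604,
  .child 17 false 3633,
  .child 18 false 3633,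
  .child 17 true 3633,
  .child 18 true 3633,
  .child 17 true 1954,
  .child 18 true 1954,
  .child 72 false 2292,
  .child 18 false 3548,
  .child 72 false 1226,
  .child 17 false 1796,
  .child 18 false 1796,
  .child 72 false 1796,
  .child 18 true 1796,
  .child 17 false 1606,
  .child 72 false 1606,
  .child 72 false 2936,
  .child 17 true 2936,
  .child 18 true 2936,
  .child 72 false 1500,
  .child 72 false 1754,
  .child 72 false 1739,
  .child 72 false 1724,
  .child 17 false 2564,
  .child 72 false 2564,
  .child 17 false 2588,
  .child 17 false 2726,
  .child 18 false 2726,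
  .child 17 true 2726,
  .child 18 true 2726,
  .child 18 true 1972,
  .child 17 false 3212,
  .child 18 false 3212,
  .child 17 true 3212,
  .child 18 true 3212,
  .child 17 false 2960,
  .child 18 false 2960,
  .child 18 true 2960,
  .child 72 false 3629,
  .child 18 false 2656,
  .child 17 true 2656,
  .child 18 true 2656,
  .child 72 false 2668,
  .child 72 false 2531,
  .child 18 true 2531,
  .child 72 false 3791,
  .child 72 false 3519,
  .child 72 false 3690,
  .child 17 false 3700,
  .child 72 false 3700,
  .child 72 false 2666,
  .child 17 false 3459,
  .child 18 false 3459,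
  .child 17 true 3459,
  .child 18 true 3459,
  .child 17 false 266,
  .child 18 false 266,
  .child 18 true 266,
  .child 17 false 330,
  .child 17 true 330,
  .child 17 true 756,
  .child 18 true 756,
  .child 72 false 301,
  .child 17 true 301,
  .child 17 false 1379,
  .child 18 false 1379,
  .child 17 true 1379,
  .child 18 true 1379,
  .child 72 false 2667,
  .child 17 false 2091,
  .child 18 false 2091,
  .child 17 true 2091,
  .child 18 true 2091,
  .child 72 false 1987,
  .child 72 false 1482,
  .child 72 false 3379,
  .child 17 false 1462,
  .child 18 false 1462,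
  .child 17 true 1462,
  .child 18 true 1462,
  .child 18 false 2927,
  .child 18 true 2927,
  .child 17 true 3322,
  .child 17 true 3264,
  .child 18 true 3264,
  .child 72 false 2222,
  .child 17 true 2222,
  .child 17 false 2231,
  .child 18 false 2231,
  .child 17 true 2231]

/-- part 22 of `twTree2` -/
noncomputable def twTree2P22 : List (Leaf) := [
  .child 18 true 2231,
  .child 72 false 1884,
  .child 18 false 3407,
  .child 17 false 1832,
  .child 72 false 1832,
  .child 17 true 1832,
  .child 17 true 3156,
  .child 72 false 2244,
  .child 72 false 736,
  .child 18 true 2672,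
  .child 72 false 738,
  .child 72 false 456,
  .child 18 false 3520,
  .child 72 false 2447,
  .child 18 true 370,
  .child 72 false 1017,
  .child 17 false 786,
  .child 18 false 786,
  .child 17 true 786,
  .child 72 false 2443,
  .child 72 false 2766,
  .child 72 false 2922,
  .child 18 true 762,
  .child 72 false 1792,
  .child 72 false 989,
  .child 18 false 1415,
  .child 17 true 1415,
  .child 18 true 1415,
  .child 72 false 705,
  .child 17 false 1866,
  .child 18 false 1866,
  .child 72 false 2771,
  .child 18 false 3183,
  .child 17 true 3183,
  .child 18 true 3183,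
  .child 17 false 1755,
  .child 18 false 1755,
  .child 72 false 1913,
  .child 72 false 3568,
  .child 72 false 2380,
  .child 18 false 1650,
  .child 18 true 1650,
  .child 72 false 1301,
  .child 72 false 2450,
  .child 72 false 1338,
  .child 17 false 3140,
  .child 18 false 3140,
  .child 17 true 3140,
  .child 18 true 3140,
  .child 72 false 1800,
  .child 72 false 2777,
  .child 17 false 543,
  .child 18 false 543,
  .child 18 false 976,
  .child 18 true 976,
  .child 72 false 3239,
  .child 72 false 739,
  .child 72 false 2489,
  .child 72 false 2257,
  .child 72 false 2505,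
  .child 17 false 758,
  .child 18 false 758,
  .child 18 true 758,
  .child 18 false 2944,
  .child 17 true 2944,
  .child 18 false 295,
  .child 17 true 295,
  .child 18 true 295,
  .child 72 false 3054,
  .child 72 false 3736,
  .child 72 false 3777,
  .child 17 false 3470,
  .child 17 false 574,
  .child 18 false 574,
  .child 17 true 574,
  .child 72 false 2299,
  .child 72 false 2418,
  .child 17 false 1637,
  .child 18 true 1637,
  .child 17 true 3396,
  .child 18 true 3399,
  .child 17 true 1071,
  .child 72 false 667,
  .child 72 false 2901,
  .child 72 false 3624,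
  .child 17 false 3213,
  .child 18 false 3213,
  .child 18 true 3213,
  .child 18 false 1219,
  .child 18 true 1219,
  .child 17 true 3854,
  .child 17 true 1232,
  .child 18 true 1232,
  .child 17 true 3142,
  .child 17 false 275,
  .child 18 false 275,
  .child 17 true 275,
  .child 17 false 106,
  .child 18 false 106,
  .child 17 true 106]

/-- part 23 of `twTree2` -/
noncomputable def twTree2P23 : List (Leaf) := [
  .child 72 false 3557,
  .child 18 false 776,
  .child 18 true 776,
  .child 72 false 1803,
  .child 17 false 311,
  .child 18 false 1827,
  .child 17 true 1827,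
  .child 18 true 1827,
  .child 72 false 558,
  .child 17 false 1353,
  .child 18 false 1911,
  .child 18 true 1911,
  .child 17 true 1938,
  .child 18 true 1938,
  .child 18 false 582,
  .child 18 true 582,
  .child 72 false 1484,
  .child 17 false 3202,
  .child 18 false 3202,
  .child 17 false 493,
  .child 18 false 493,
  .child 18 true 493,
  .child 17 true 2743,
  .child 17 false 2760,
  .child 72 false 3513,
  .child 17 true 3513,
  .child 18 true 3198,
  .child 72 false 3240,
  .child 17 true 3240,
  .child 72 false 2030,
  .child 17 false 3474,
  .child 18 false 3474,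
  .child 17 false 789,
  .child 72 false 789,
  .child 17 true 789,
  .child 17 true 1867,
  .child 17 false 995,
  .child 18 false 995,
  .child 18 false 2250,
  .child 18 true 1331,
  .child 18 false 1429,
  .child 72 false 2154,
  .child 17 false 1311,
  .child 18 false 1311,
  .child 18 true 1311,
  .child 17 false 2236,
  .child 17 true 2236,
  .child 17 true 2541,
  .child 18 true 2541,
  .child 17 true 2094,
  .child 18 false 279,
  .child 17 false 269,
  .child 72 false 269,
  .child 17 true 269,
  .child 72 false 371,
  .child 72 false 267,
  .child 17 true 267,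
  .child 17 false 2880,
  .child 18 true 2880,
  .child 18 true 1230,
  .child 17 true 1359,
  .child 18 true 2208,
  .child 17 false 2836,
  .child 17 true 2573,
  .child 72 false 1382,
  .child 72 false 2516,
  .child 72 false 3261,
  .child 18 false 1247,
  .child 18 false 3524,
  .child 17 true 3524,
  .child 72 false 201,
  .child 17 true 201,
  .child 18 false 3530,
  .child 17 true 3530,
  .child 72 false 2529,
  .child 18 false 3476,
  .child 17 true 3476,
  .child 18 true 702,
  .child 18 false 77,
  .child 72 false 3404,
  .child 18 false 313,
  .child 17 true 2251,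
  .child 17 true 674,
  .child 17 true 105,
  .child 18 true 105,
  .child 17 false 2774,
  .child 17 true 884,
  .child 18 true 884,
  .child 17 true 3481,
  .child 72 false 3074,
  .child 18 true 3143,
  .child 17 true 1233,
  .child 18 true 68,
  .child 18 true 840,
  .root 6,
  .child 17 false 1524,
  .child 18 false 1524,
  .child 72 false 1524,
  .child 17 true 1524,
  .child 18 true 1524]

/-- part 24 of `twTree2` -/
noncomputable def twTree2P24 : List (Leaf) := [
  .child 17 false 1507,
  .child 18 false 1507,
  .child 72 false 1507,
  .child 18 true 1507,
  .child 17 false 1054,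
  .child 72 false 1054,
  .child 17 true 1054,
  .child 17 false 1767,
  .child 18 false 1767,
  .child 17 true 1767,
  .child 18 true 1767,
  .child 72 false 1562,
  .child 17 true 1562,
  .child 18 true 1562,
  .child 72 false 1518,
  .child 17 true 1518,
  .child 18 false 1543,
  .child 72 false 1543,
  .child 72 false 3376,
  .child 17 true 3376,
  .child 17 false 1575,
  .child 18 false 1575,
  .child 17 true 1575,
  .child 18 true 1575,
  .child 72 false 3496,
  .child 17 true 3496,
  .child 72 false 1521,
  .child 17 false 366,
  .child 18 false 366,
  .child 17 true 366,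
  .child 18 true 366,
  .child 72 false 199,
  .child 72 false 3345,
  .child 72 false 1548,
  .child 17 true 1548,
  .child 72 false 3751,
  .child 72 false 1528,
  .child 17 false 2887,
  .child 18 false 2887,
  .child 17 true 2887,
  .child 18 true 2887,
  .child 72 false 1502,
  .child 18 true 1502,
  .child 72 false 3331,
  .child 17 false 2177,
  .child 18 false 2177,
  .child 17 true 2177,
  .child 18 true 2177,
  .child 72 false 1557,
  .child 17 false 200,
  .child 72 false 200,
  .child 17 false 2415,
  .child 18 false 2415,
  .child 17 true 2415,
  .child 18 true 2415,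
  .child 17 false 1340,
  .child 18 false 1340,
  .child 17 true 1340,
  .child 18 true 1340,
  .child 72 false 3330,
  .child 17 false 1260,
  .child 18 false 1260,
  .child 18 true 1260,
  .child 17 false 521,
  .child 72 false 521,
  .child 17 true 521,
  .child 72 false 516,
  .child 17 true 516,
  .child 18 true 516,
  .child 72 false 2388,
  .child 17 true 2388,
  .child 18 false 624,
  .child 17 true 624,
  .child 18 true 624,
  .child 72 false 3593,
  .child 17 false 2826,
  .child 18 false 2826,
  .child 17 true 2826,
  .child 17 false 367,
  .child 18 false 367,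
  .child 72 false 367,
  .child 17 false 2055,
  .child 72 false 2055,
  .child 72 false 391,
  .child 72 false 2057,
  .child 17 false 3564,
  .child 17 true 3564,
  .child 18 true 3564,
  .child 17 false 1564,
  .child 18 false 1564,
  .child 17 true 1564,
  .child 18 true 1564,
  .child 17 false 53,
  .child 17 true 53,
  .child 72 false 1508,
  .child 18 true 2781,
  .child 17 false 3478,
  .child 18 false 3478,
  .child 17 true 3478,
  .child 18 true 3478]

/-- part 25 of `twTree2` -/
noncomputable def twTree2P25 : List (Leaf) := [
  .child 18 false 2649,
  .child 72 false 2649,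
  .child 18 true 2649,
  .child 17 false 2917,
  .child 72 false 2917,
  .child 17 true 2917,
  .child 17 true 3131,
  .child 72 false 2847,
  .child 17 false 3390,
  .child 18 false 3390,
  .child 17 true 3390,
  .child 18 true 3390,
  .child 72 false 194,
  .child 17 false 235,
  .child 18 false 235,
  .child 17 true 235,
  .child 18 true 235,
  .child 17 false 3671,
  .child 18 false 3671,
  .child 72 false 3671,
  .child 18 true 3671,
  .child 17 false 3720,
  .child 72 false 3720,
  .child 17 true 3720,
  .child 72 false 3669,
  .child 17 true 3669,
  .child 18 true 3669,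
  .child 72 false 1845,
  .child 17 true 1845,
  .child 17 false 569,
  .child 18 false 569,
  .child 17 true 569,
  .child 18 true 569,
  .child 17 true 2921,
  .child 17 false 2653,
  .child 18 false 2653,
  .child 72 false 2653,
  .child 18 true 2653,
  .child 17 false 221,
  .child 72 false 221,
  .child 17 true 221,
  .child 72 false 2655,
  .child 17 true 2655,
  .child 18 true 2655,
  .child 17 true 1294,
  .child 17 false 1801,
  .child 72 false 1801,
  .child 18 true 1801,
  .child 17 false 2557,
  .child 17 true 2557,
  .child 72 false 2753,
  .child 17 true 2753,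
  .child 18 true 2753,
  .child 72 false 2515,
  .child 72 false 1277,
  .child 17 true 1277,
  .child 72 false 2302,
  .child 17 true 2302,
  .child 72 false 1414,
  .child 72 false 2391,
  .child 72 false 1272,
  .child 18 true 1272,
  .child 17 false 2702,
  .child 18 false 2702,
  .child 17 true 2702,
  .child 18 true 2702,
  .child 72 false 1110,
  .child 18 true 1110,
  .child 72 false 2898,
  .child 17 false 966,
  .child 18 false 966,
  .child 17 true 966,
  .child 18 true 966,
  .child 72 false 2473,
  .child 72 false 2555,
  .child 18 false 3507,
  .child 17 true 3507,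
  .child 18 true 3507,
  .child 17 false 2523,
  .child 18 false 2523,
  .child 17 true 2523,
  .child 18 true 2523,
  .child 17 false 2498,
  .child 18 false 2498,
  .child 17 true 2498,
  .child 18 true 2498,
  .child 17 false 3809,
  .child 18 false 3809,
  .child 18 true 3809,
  .child 72 false 2899,
  .child 72 false 2402,
  .child 17 true 1282,
  .child 72 false 1270,
  .child 72 false 363,
  .child 72 false 362,
  .child 72 false 2926,
  .child 72 false 3680,
  .child 72 false 3672,
  .child 17 true 3672,
  .child 18 true 2199]

/-- part 26 of `twTree2` -/
noncomputable def twTree2P26 : List (Leaf) := [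
  .child 72 false 3534,
  .child 72 false 2850,
  .child 17 false 2883,
  .child 18 false 2883,
  .child 72 false 1115,
  .child 72 false 2896,
  .child 17 true 1861,
  .child 72 false 1470,
  .child 18 true 941,
  .child 72 false 2795,
  .child 72 false 477,
  .child 18 false 1958,
  .child 18 true 1958,
  .child 72 false 3679,
  .child 72 false 2363,
  .child 18 false 1863,
  .child 72 false 2654,
  .child 72 false 3011,
  .child 72 false 1531,
  .child 17 false 2884,
  .child 17 false 1945,
  .child 72 false 2719,
  .child 72 false 476,
  .child 18 false 1553,
  .child 17 true 1553,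
  .child 17 false 3761,
  .child 17 true 1928,
  .child 18 true 1928,
  .child 72 false 1447,
  .child 18 false 2793,
  .child 18 true 2793,
  .child 17 false 2951,
  .child 17 true 2951,
  .child 17 false 2525,
  .child 72 false 1120,
  .child 18 false 1121,
  .child 18 true 1121,
  .child 72 false 2796,
  .child 17 true 1616,
  .child 18 true 2556,
  .child 17 true 560,
  .child 17 false 1652,
  .child 18 false 3585,
  .child 18 true 3585,
  .child 17 false 2794,
  .child 17 true 2794,
  .root 7,
  .child 17 false 1763,
  .child 18 false 1763,
  .child 72 false 1763,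
  .child 17 true 1763,
  .child 18 true 1763,
  .child 17 false 2049,
  .child 18 false 2049,
  .child 72 false 2049,
  .child 18 true 2049,
  .child 17 false 3716,
  .child 72 false 3716,
  .child 17 true 3716,
  .child 17 false 536,
  .child 18 false 536,
  .child 17 true 536,
  .child 18 true 536,
  .child 72 false 2801,
  .child 17 true 2801,
  .child 18 true 2801,
  .child 72 false 1774,
  .child 17 true 1774,
  .child 17 false 2010,
  .child 18 false 2010,
  .child 72 false 2010,
  .child 17 false 2806,
  .child 17 true 2806,
  .child 17 false 3179,
  .child 18 false 3179,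
  .child 17 true 3179,
  .child 18 true 3179,
  .child 72 false 723,
  .child 17 true 723,
  .child 18 true 2717,
  .child 17 false 125,
  .child 18 false 125,
  .child 17 true 125,
  .child 18 true 125,
  .child 72 false 3590,
  .child 17 false 537,
  .child 18 false 537,
  .child 72 false 537,
  .child 18 true 537,
  .child 17 false 1154,
  .child 72 false 1154,
  .child 17 true 1154,
  .child 72 false 1163,
  .child 17 true 1163,
  .child 18 true 1163,
  .child 72 false 1332,
  .child 17 true 1332,
  .child 17 false 683,
  .child 18 false 683,
  .child 17 true 683]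

/-- part 27 of `twTree2` -/
noncomputable def twTree2P27 : List (Leaf) := [
  .child 18 true 683,
  .child 17 true 1566,
  .child 18 true 1566,
  .child 72 false 3454,
  .child 17 false 775,
  .child 18 false 775,
  .child 17 true 775,
  .child 18 true 775,
  .child 72 false 3021,
  .child 17 false 1974,
  .child 18 false 1974,
  .child 17 false 3500,
  .child 72 false 3500,
  .child 17 false 1068,
  .child 18 false 1068,
  .child 17 true 1068,
  .child 18 true 1068,
  .child 72 false 3455,
  .child 72 false 3023,
  .child 17 false 3234,
  .child 18 false 3234,
  .child 72 false 3234,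
  .child 18 true 3234,
  .child 17 false 3062,
  .child 17 true 3062,
  .child 72 false 3523,
  .child 72 false 3182,
  .child 17 true 3182,
  .child 17 false 2045,
  .child 18 false 2045,
  .child 17 true 2045,
  .child 18 true 2045,
  .child 72 false 3453,
  .child 17 false 131,
  .child 18 false 131,
  .child 72 false 131,
  .child 18 true 131,
  .child 17 false 124,
  .child 17 true 124,
  .child 72 false 551,
  .child 17 true 551,
  .child 18 true 551,
  .child 72 false 129,
  .child 17 true 129,
  .child 17 false 2322,
  .child 18 false 2322,
  .child 17 true 2322,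
  .child 18 true 2322,
  .child 17 false 1164,
  .child 18 false 1164,
  .child 17 false 1466,
  .child 72 false 1466,
  .child 17 true 1466,
  .child 17 true 1124,
  .child 18 true 1124,
  .child 72 false 3609,
  .child 72 false 1479,
  .child 18 true 1479,
  .child 17 false 149,
  .child 18 false 149,
  .child 17 true 149,
  .child 72 false 1128,
  .child 17 false 3798,
  .child 18 false 3798,
  .child 17 true 3798,
  .child 18 true 3798,
  .child 72 false 1432,
  .child 17 true 1432,
  .child 72 false 2828,
  .child 18 false 2310,
  .child 72 false 1153,
  .child 17 false 375,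
  .child 72 false 375,
  .child 17 false 264,
  .child 17 true 264,
  .child 17 true 153,
  .child 18 true 153,
  .child 72 false 26,
  .child 72 false 1627,
  .child 17 false 2779,
  .child 18 false 2779,
  .child 17 true 2779,
  .child 72 false 3233,
  .child 18 true 3233,
  .child 72 false 1985,
  .child 17 true 1985,
  .child 72 false 3096,
  .child 17 true 3096,
  .child 18 true 3096,
  .child 17 true 953,
  .child 17 false 3846,
  .child 18 false 3846,
  .child 17 true 3846,
  .child 18 true 3846,
  .child 72 false 2026,
  .child 72 false 2716,
  .child 18 true 263,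
  .child 17 false 3393,
  .child 18 false 3393,
  .child 72 false 3393]

/-- part 28 of `twTree2` -/
noncomputable def twTree2P28 : List (Leaf) := [
  .child 18 true 3393,
  .child 17 false 2001,
  .child 17 true 2001,
  .child 72 false 3816,
  .child 17 true 3816,
  .child 18 true 3816,
  .child 17 true 3048,
  .child 17 false 148,
  .child 18 false 148,
  .child 18 true 148,
  .child 17 false 395,
  .child 18 false 395,
  .child 18 true 395,
  .child 72 false 3147,
  .child 17 false 3442,
  .child 18 false 3442,
  .child 17 true 3442,
  .child 18 true 3442,
  .child 72 false 1588,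
  .child 72 false 3181,
  .child 72 false 1794,
  .child 18 false 1383,
  .child 17 true 1383,
  .child 17 false 859,
  .child 18 false 859,
  .child 72 false 859,
  .child 18 true 859,
  .child 17 false 341,
  .child 17 true 341,
  .child 72 false 2435,
  .child 18 true 2435,
  .child 72 false 342,
  .child 17 true 342,
  .child 17 false 69,
  .child 72 false 75,
  .child 18 true 128,
  .child 72 false 226,
  .child 18 true 261,
  .child 17 true 130,
  .child 72 false 91,
  .child 17 false 1397,
  .child 72 false 552,
  .child 72 false 344,
  .child 72 false 1013,
  .child 17 false 1348,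
  .child 18 false 1348,
  .child 17 true 1348,
  .child 18 true 1348,
  .child 72 false 530,
  .child 17 false 1431,
  .child 18 false 1431,
  .child 17 true 1431,
  .child 18 true 1431,
  .child 17 false 2264,
  .child 18 false 2264,
  .child 18 true 2264,
  .child 72 false 146,
  .child 72 false 144,
  .child 18 false 364,
  .child 18 true 364,
  .child 18 true 1923,
  .child 72 false 2235,
  .child 17 true 2235,
  .child 18 true 2230,
  .child 72 false 2539,
  .child 17 true 2539,
  .child 17 false 510,
  .child 17 true 510,
  .child 18 true 510,
  .child 72 false 262,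
  .child 72 false 260,
  .child 72 false 374,
  .child 18 true 3040,
  .child 72 false 914,
  .child 18 false 2178,
  .child 17 true 2178,
  .child 18 true 2178,
  .child 72 false 3378,
  .child 17 false 2354,
  .child 72 false 3764,
  .child 72 false 3859,
  .child 18 true 1366,
  .child 72 false 2566,
  .child 72 false 1736,
  .child 72 false 2567,
  .child 18 false 2234,
  .child 17 false 3456,
  .child 18 false 2110,
  .child 18 true 2110,
  .child 18 false 2243,
  .child 18 true 2243,
  .child 18 true 2240,
  .child 72 false 154,
  .child 18 true 2176,
  .child 17 true 2453,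
  .child 17 false 1385,
  .child 17 false 365,
  .child 72 false 389,
  .root 8,
  .child 17 false 435]

/-- part 29 of `twTree2` -/
noncomputable def twTree2P29 : List (Leaf) := [
  .child 18 false 435,
  .child 72 false 435,
  .child 17 true 435,
  .child 18 true 435,
  .child 17 false 2546,
  .child 18 false 2546,
  .child 72 false 2546,
  .child 18 true 2546,
  .child 17 false 1949,
  .child 72 false 1949,
  .child 17 true 1949,
  .child 17 false 2982,
  .child 18 false 2982,
  .child 17 true 2982,
  .child 18 true 2982,
  .child 72 false 2545,
  .child 17 true 2545,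
  .child 18 true 2545,
  .child 72 false 1952,
  .child 17 true 1952,
  .child 17 false 857,
  .child 18 false 857,
  .child 72 false 857,
  .child 17 false 1712,
  .child 72 false 1712,
  .child 17 true 1712,
  .child 17 false 2301,
  .child 18 false 2301,
  .child 17 true 2301,
  .child 18 true 2301,
  .child 72 false 697,
  .child 17 true 697,
  .child 72 false 2577,
  .child 18 true 2577,
  .child 17 true 1922,
  .child 18 true 1922,
  .child 72 false 3070,
  .child 17 false 2848,
  .child 18 false 2848,
  .child 72 false 2848,
  .child 18 true 2848,
  .child 17 false 1734,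
  .child 72 false 1734,
  .child 17 true 1734,
  .child 72 false 1112,
  .child 17 true 1112,
  .child 18 true 1112,
  .child 72 false 1113,
  .child 17 true 1113,
  .child 17 false 3462,
  .child 18 false 3462,
  .child 17 true 3462,
  .child 18 true 3462,
  .child 72 false 1288,
  .child 18 true 1288,
  .child 72 false 3386,
  .child 17 false 819,
  .child 18 false 819,
  .child 17 true 819,
  .child 18 true 819,
  .child 72 false 1834,
  .child 72 false 1942,
  .child 17 false 3421,
  .child 72 false 3421,
  .child 17 false 294,
  .child 18 false 294,
  .child 17 true 294,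
  .child 18 true 294,
  .child 72 false 3127,
  .child 17 false 2414,
  .child 18 false 2414,
  .child 17 true 2414,
  .child 18 true 2414,
  .child 17 false 2438,
  .child 18 false 2438,
  .child 72 false 2438,
  .child 18 true 2438,
  .child 17 false 2092,
  .child 72 false 2092,
  .child 17 true 2092,
  .child 72 false 3731,
  .child 17 true 3731,
  .child 18 true 3731,
  .child 72 false 2328,
  .child 17 true 2328,
  .child 17 false 1904,
  .child 18 false 1904,
  .child 17 true 1904,
  .child 18 true 1904,
  .child 72 false 1713,
  .child 17 false 1002,
  .child 18 false 1002,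
  .child 17 true 1002,
  .child 18 true 1002,
  .child 72 false 698,
  .child 72 false 1057,
  .child 72 false 1836,
  .child 17 false 948,
  .child 18 false 948,
  .child 17 true 948]

/-- part 30 of `twTree2` -/
noncomputable def twTree2P30 : List (Leaf) := [
  .child 18 true 948,
  .child 17 false 1111,
  .child 18 false 1111,
  .child 72 false 1111,
  .child 17 false 986,
  .child 72 false 986,
  .child 17 true 986,
  .child 17 false 495,
  .child 18 false 495,
  .child 17 true 495,
  .child 18 true 495,
  .child 72 false 3003,
  .child 17 true 3003,
  .child 72 false 2985,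
  .child 18 true 2985,
  .child 17 false 3327,
  .child 18 false 3327,
  .child 17 true 3327,
  .child 18 true 3327,
  .child 72 false 2920,
  .child 17 false 769,
  .child 18 false 769,
  .child 17 true 769,
  .child 18 true 769,
  .child 72 false 1005,
  .child 17 true 1005,
  .child 18 true 1005,
  .child 72 false 1218,
  .child 17 false 2596,
  .child 18 false 2596,
  .child 17 true 2596,
  .child 18 true 2596,
  .child 17 false 3464,
  .child 18 false 3464,
  .child 72 false 3464,
  .child 18 true 3464,
  .child 17 false 3603,
  .child 72 false 3603,
  .child 17 true 3603,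
  .child 72 false 3904,
  .child 17 true 3904,
  .child 18 true 3904,
  .child 72 false 3586,
  .child 17 true 3586,
  .child 17 false 1144,
  .child 18 false 1144,
  .child 17 true 1144,
  .child 18 true 1144,
  .child 72 false 3071,
  .child 17 false 1007,
  .child 18 false 1007,
  .child 17 true 1007,
  .child 18 true 1007,
  .child 17 false 173,
  .child 18 false 173,
  .child 72 false 173,
  .child 18 true 173,
  .child 17 false 1361,
  .child 17 true 1361,
  .child 72 false 459,
  .child 17 true 459,
  .child 18 true 459,
  .child 72 false 1345,
  .child 17 true 1345,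
  .child 17 false 3732,
  .child 18 false 3732,
  .child 17 true 3732,
  .child 18 true 3732,
  .child 17 false 792,
  .child 17 true 792,
  .child 18 true 792,
  .child 72 false 1951,
  .child 17 false 3875,
  .child 18 false 3875,
  .child 17 true 3875,
  .child 18 true 3875,
  .child 17 false 2159,
  .child 18 false 2159,
  .child 72 false 2159,
  .child 18 true 2159,
  .child 17 false 3540,
  .child 72 false 3540,
  .child 17 true 3540,
  .child 72 false 2157,
  .child 18 true 2157,
  .child 72 false 2164,
  .child 17 true 2164,
  .child 17 false 1201,
  .child 18 false 1201,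
  .child 17 true 1201,
  .child 18 true 1201,
  .child 17 false 3667,
  .child 18 false 3667,
  .child 18 true 3667,
  .child 17 false 3362,
  .child 72 false 3362,
  .child 17 true 3362,
  .child 72 false 901,
  .child 17 true 901,
  .child 18 true 901]

/-- part 31 of `twTree2` -/
noncomputable def twTree2P31 : List (Leaf) := [
  .child 72 false 3319,
  .child 17 true 3319,
  .child 17 false 1897,
  .child 18 false 1897,
  .child 72 false 1897,
  .child 17 false 3223,
  .child 72 false 3223,
  .child 17 true 3223,
  .child 17 false 2398,
  .child 18 false 2398,
  .child 17 true 2398,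
  .child 72 false 1214,
  .child 17 true 1214,
  .child 72 false 1212,
  .child 18 true 1212,
  .child 17 false 2141,
  .child 18 false 2141,
  .child 17 true 2141,
  .child 18 true 2141,
  .child 72 false 2331,
  .child 17 false 2786,
  .child 72 false 2437,
  .child 17 true 2437,
  .child 18 true 2437,
  .child 72 false 3607,
  .child 17 false 1858,
  .child 18 false 1858,
  .child 17 true 1858,
  .child 18 true 1858,
  .child 72 false 815,
  .child 17 false 1022,
  .child 18 false 1022,
  .child 72 false 1022,
  .child 18 true 1022,
  .child 17 false 1710,
  .child 72 false 1710,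
  .child 17 true 1710,
  .child 17 true 1064,
  .child 18 true 1064,
  .child 72 false 1065,
  .child 17 true 1065,
  .child 17 false 1363,
  .child 17 true 1363,
  .child 18 true 1363,
  .child 18 true 1975,
  .child 72 false 2911,
  .child 72 false 2297,
  .child 72 false 2370,
  .child 17 false 3278,
  .child 18 false 3278,
  .child 17 true 3278,
  .child 18 true 3278,
  .child 72 false 951,
  .child 18 true 951,
  .child 72 false 3508,
  .child 72 false 2318,
  .child 17 false 2918,
  .child 72 false 2918,
  .child 17 true 820,
  .child 72 false 2846,
  .child 17 false 326,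
  .child 18 false 326,
  .child 17 true 326,
  .child 18 true 326,
  .child 72 false 1109,
  .child 17 false 1570,
  .child 18 false 1570,
  .child 18 true 1570,
  .child 17 false 3304,
  .child 17 true 3304,
  .child 17 true 498,
  .child 18 true 498,
  .child 17 true 1728,
  .child 17 false 2135,
  .child 18 false 2135,
  .child 17 true 2135,
  .child 18 true 2135,
  .child 72 false 2752,
  .child 17 false 1434,
  .child 18 false 1434,
  .child 17 true 1434,
  .child 18 true 1434,
  .child 72 false 2916,
  .child 17 false 3107,
  .child 18 false 3107,
  .child 72 false 3107,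
  .child 18 true 3107,
  .child 17 false 689,
  .child 72 false 689,
  .child 17 true 689,
  .child 72 false 2825,
  .child 18 true 2825,
  .child 72 false 202,
  .child 17 true 202,
  .child 17 false 1689,
  .child 18 false 1689,
  .child 17 true 1689,
  .child 18 true 1689,
  .child 18 false 2238,
  .child 18 true 2238]

/-- part 32 of `twTree2` -/
noncomputable def twTree2P32 : List (Leaf) := [
  .child 17 true 1815,
  .child 17 true 1572,
  .child 18 true 1572,
  .child 72 false 1817,
  .child 17 true 1817,
  .child 17 false 888,
  .child 18 false 888,
  .child 17 true 888,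
  .child 18 true 888,
  .child 72 false 2983,
  .child 72 false 2984,
  .child 17 false 1184,
  .child 72 false 1184,
  .child 18 true 1184,
  .child 17 false 3350,
  .child 72 false 3350,
  .child 17 true 3350,
  .child 17 true 2593,
  .child 72 false 3881,
  .child 72 false 3167,
  .child 72 false 2142,
  .child 72 false 3210,
  .child 17 false 1971,
  .child 18 false 1971,
  .child 72 false 1200,
  .child 18 true 3389,
  .child 72 false 3611,
  .child 72 false 3873,
  .child 72 false 3166,
  .child 72 false 2559,
  .child 18 true 3036,
  .child 72 false 2589,
  .child 72 false 3754,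
  .child 72 false 2046,
  .child 18 false 463,
  .child 17 true 463,
  .child 18 true 463,
  .child 72 false 1105,
  .child 72 false 1347,
  .child 72 false 931,
  .child 18 false 599,
  .child 17 true 599,
  .child 18 true 599,
  .child 72 false 93,
  .child 17 false 2715,
  .child 18 false 2715,
  .child 18 true 2715,
  .child 72 false 3165,
  .child 72 false 2156,
  .child 72 false 3783,
  .child 72 false 1287,
  .child 72 false 1104,
  .child 72 false 818,
  .child 18 true 2542,
  .child 72 false 2306,
  .child 72 false 3215,
  .child 17 true 3137,
  .child 18 true 3137,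
  .child 72 false 3035,
  .child 17 false 800,
  .child 18 false 800,
  .child 18 true 800,
  .child 17 true 3108,
  .child 18 true 3108,
  .child 72 false 3375,
  .child 72 false 1816,
  .child 72 false 2857,
  .child 17 true 3701,
  .child 72 false 2855,
  .child 72 false 2858,
  .child 17 false 1009,
  .child 18 false 1009,
  .child 17 true 1009,
  .child 18 true 1009,
  .child 17 false 3810,
  .child 72 false 3810,
  .child 17 false 992,
  .child 18 false 992,
  .child 17 false 2260,
  .child 18 false 2260,
  .child 17 true 2260,
  .child 18 true 2260,
  .child 72 false 2868,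
  .child 18 false 1818,
  .child 18 true 1818,
  .child 17 false 2510,
  .child 17 false 64,
  .child 18 false 64,
  .child 18 true 64,
  .child 72 false 2606,
  .child 17 false 1152,
  .child 18 false 1152,
  .child 17 true 1152,
  .child 18 true 1152,
  .child 72 false 1215,
  .child 17 false 3368,
  .child 18 false 3368,
  .child 72 false 3814,
  .child 18 true 3814,
  .child 17 true 2711]

/-- part 33 of `twTree2` -/
noncomputable def twTree2P33 : List (Leaf) := [
  .child 18 false 172,
  .child 18 true 172,
  .child 17 false 1050,
  .child 18 false 1050,
  .child 17 true 1050,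
  .child 18 true 1050,
  .child 72 false 3637,
  .child 17 true 2632,
  .child 18 false 475,
  .child 72 false 475,
  .child 17 false 1701,
  .child 72 false 1701,
  .child 17 true 236,
  .child 18 true 2962,
  .child 17 false 1011,
  .child 18 false 1011,
  .child 72 false 3038,
  .child 18 false 3295,
  .child 72 false 932,
  .child 72 false 1371,
  .child 72 false 2658,
  .child 17 false 2512,
  .child 17 true 2512,
  .child 18 true 2512,
  .child 18 false 1822,
  .child 18 true 1322,
  .child 72 false 1903,
  .child 18 true 3294,
  .child 18 false 1380,
  .child 17 false 777,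
  .child 17 true 777,
  .child 72 false 1028,
  .child 72 false 174,
  .child 18 false 970,
  .child 18 true 970,
  .child 17 false 2404,
  .child 17 true 2404,
  .child 17 true 972,
  .child 17 true 688,
  .child 17 false 2502,
  .child 18 false 2502,
  .child 17 false 500,
  .child 72 false 500,
  .child 17 true 500,
  .child 17 true 2727,
  .child 72 false 2974,
  .child 72 false 2503,
  .child 17 true 2503,
  .child 17 false 2633,
  .child 18 true 2633,
  .child 17 true 891,
  .child 18 true 3150,
  .child 17 true 1551,
  .child 18 true 1317,
  .child 17 false 1784,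
  .child 17 false 3117,
  .child 72 false 3542,
  .child 18 true 204,
  .child 72 false 692,
  .child 17 false 437,
  .child 17 true 437,
  .child 72 false 3312,
  .child 72 false 3584,
  .child 72 false 2602,
  .child 72 false 3874,
  .child 72 false 2506,
  .child 18 false 2843,
  .child 17 true 2843,
  .child 18 true 2843,
  .child 18 false 293,
  .child 17 false 1045,
  .child 17 true 1045,
  .child 18 true 1045,
  .child 72 false 1293,
  .child 18 true 2360,
  .child 17 true 222,
  .child 18 false 474,
  .child 18 false 385,
  .child 72 false 2158,
  .child 18 false 2169,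
  .child 18 true 2210,
  .child 17 true 798,
  .child 17 true 520,
  .child 18 false 2682,
  .child 17 true 2682,
  .child 17 false 2969,
  .child 18 false 3148,
  .child 17 true 3148,
  .child 17 false 2321,
  .child 72 false 2838,
  .child 17 true 519,
  .child 18 true 519,
  .child 72 false 3463,
  .child 18 false 797,
  .child 17 true 2228,
  .child 18 true 638,
  .child 17 true 1126,
  .child 18 true 2258,
  .child 18 true 2912,
  .child 72 false 2845]

/-- part 34 of `twTree2` -/
noncomputable def twTree2P34 : List (Leaf) := [
  .child 18 false 1046,
  .child 17 false 3287,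
  .root 9,
  .child 17 false 3236,
  .child 18 false 3236,
  .child 72 false 3236,
  .child 17 true 3236,
  .child 18 true 3236,
  .child 17 false 3238,
  .child 18 false 3238,
  .child 72 false 3238,
  .child 18 true 3238,
  .child 17 false 2937,
  .child 72 false 2937,
  .child 17 true 2937,
  .child 17 false 2696,
  .child 18 false 2696,
  .child 17 true 2696,
  .child 18 true 2696,
  .child 72 false 902,
  .child 17 true 902,
  .child 18 true 902,
  .child 72 false 3252,
  .child 17 true 3252,
  .child 17 false 2877,
  .child 18 false 2877,
  .child 72 false 2877,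
  .child 17 false 1248,
  .child 72 false 1248,
  .child 17 true 1248,
  .child 17 false 191,
  .child 18 false 191,
  .child 17 true 191,
  .child 18 true 191,
  .child 72 false 994,
  .child 17 true 994,
  .child 72 false 3726,
  .child 18 true 3726,
  .child 17 false 1797,
  .child 18 false 1797,
  .child 17 true 1797,
  .child 18 true 1797,
  .child 72 false 1613,
  .child 17 false 2426,
  .child 18 false 2426,
  .child 72 false 2426,
  .child 18 true 2426,
  .child 17 false 3703,
  .child 17 true 3703,
  .child 72 false 2646,
  .child 17 true 2646,
  .child 18 true 2646,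
  .child 72 false 3093,
  .child 17 true 3093,
  .child 17 false 1254,
  .child 18 false 1254,
  .child 17 true 1254,
  .child 18 true 1254,
  .child 72 false 3231,
  .child 17 true 3231,
  .child 18 true 3231,
  .child 17 false 3682,
  .child 18 false 3682,
  .child 17 true 3682,
  .child 18 true 3682,
  .child 72 false 1499,
  .child 17 false 3232,
  .child 18 false 3232,
  .child 72 false 3232,
  .child 17 false 3255,
  .child 72 false 3255,
  .child 18 true 2713,
  .child 72 false 3288,
  .child 17 false 2294,
  .child 18 false 2294,
  .child 17 true 2294,
  .child 18 true 2294,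
  .child 72 false 3410,
  .child 17 false 1525,
  .child 18 false 1525,
  .child 72 false 1525,
  .child 18 true 1525,
  .child 17 false 3539,
  .child 72 false 3539,
  .child 17 true 3539,
  .child 72 false 1504,
  .child 17 true 1504,
  .child 18 true 1504,
  .child 72 false 1605,
  .child 17 true 1605,
  .child 17 false 2950,
  .child 18 false 2950,
  .child 17 true 2950,
  .child 18 true 2950,
  .child 72 false 1249,
  .child 17 false 1161,
  .child 18 false 1161,
  .child 17 true 1161,
  .child 18 true 1161,
  .child 72 false 2943]

/-- part 35 of `twTree2` -/
noncomputable def twTree2P35 : List (Leaf) := [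
  .child 17 false 2584,
  .child 18 false 2584,
  .child 72 false 2584,
  .child 18 true 2584,
  .child 17 false 2939,
  .child 72 false 2939,
  .child 17 true 2939,
  .child 72 false 3529,
  .child 17 true 3529,
  .child 18 true 3529,
  .child 72 false 2940,
  .child 17 true 2940,
  .child 17 false 1759,
  .child 18 false 1759,
  .child 17 true 1759,
  .child 18 true 1759,
  .child 17 false 2348,
  .child 18 false 2348,
  .child 72 false 2348,
  .child 17 false 2652,
  .child 72 false 2652,
  .child 17 false 138,
  .child 18 false 138,
  .child 17 true 138,
  .child 18 true 138,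
  .child 72 false 2624,
  .child 17 true 2624,
  .child 72 false 3092,
  .child 18 true 3092,
  .child 72 false 3880,
  .child 17 false 1190,
  .child 18 false 1190,
  .child 17 true 1190,
  .child 18 true 1190,
  .child 72 false 1998,
  .child 18 true 1998,
  .child 72 false 2638,
  .child 17 false 2782,
  .child 18 false 2782,
  .child 17 true 2782,
  .child 18 true 2782,
  .child 72 false 3090,
  .child 17 false 2269,
  .child 18 false 2269,
  .child 18 true 2269,
  .child 17 false 969,
  .child 72 false 969,
  .child 17 true 969,
  .child 72 false 2087,
  .child 17 true 2087,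
  .child 18 true 2087,
  .child 72 false 1019,
  .child 17 true 1019,
  .child 17 false 3482,
  .child 18 false 3482,
  .child 17 true 3482,
  .child 18 true 3482,
  .child 72 false 3174,
  .child 72 false 3371,
  .child 17 false 3686,
  .child 18 false 3686,
  .child 72 false 3686,
  .child 18 true 3686,
  .child 17 false 2820,
  .child 72 false 2820,
  .child 17 true 2820,
  .child 72 false 3684,
  .child 17 true 3684,
  .child 18 true 3684,
  .child 72 false 2401,
  .child 17 true 2401,
  .child 17 true 482,
  .child 18 true 482,
  .child 72 false 3204,
  .child 17 false 1106,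
  .child 18 false 1106,
  .child 17 true 1106,
  .child 18 true 1106,
  .child 17 false 1299,
  .child 18 false 1299,
  .child 17 true 1299,
  .child 18 true 1299,
  .child 17 false 675,
  .child 18 false 675,
  .child 17 true 675,
  .child 18 true 675,
  .child 17 false 3313,
  .child 18 false 3313,
  .child 72 false 3313,
  .child 18 true 3313,
  .child 17 false 1194,
  .child 72 false 1194,
  .child 17 true 1194,
  .child 17 true 1995,
  .child 18 true 1995,
  .child 72 false 139,
  .child 17 true 139,
  .child 17 false 1687,
  .child 18 false 1687,
  .child 17 true 1687]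

/-- part 36 of `twTree2` -/
noncomputable def twTree2P36 : List (Leaf) := [
  .child 18 true 1687,
  .child 17 false 1503,
  .child 18 false 1503,
  .child 72 false 1503,
  .child 17 false 1744,
  .child 72 false 1744,
  .child 17 true 1744,
  .child 17 false 3845,
  .child 18 false 3845,
  .child 17 true 3845,
  .child 18 true 3845,
  .child 17 true 3323,
  .child 72 false 1604,
  .child 18 true 1604,
  .child 17 false 2170,
  .child 18 false 2170,
  .child 17 true 2170,
  .child 18 true 2170,
  .child 72 false 3617,
  .child 17 false 1600,
  .child 18 false 1600,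
  .child 18 true 1600,
  .child 72 false 1544,
  .child 17 true 1544,
  .child 18 true 1544,
  .child 72 false 3160,
  .child 17 false 1515,
  .child 18 false 1515,
  .child 17 true 1515,
  .child 18 true 1515,
  .child 72 false 1891,
  .child 17 false 3823,
  .child 18 false 3823,
  .child 18 true 3823,
  .child 17 false 3249,
  .child 72 false 3249,
  .child 17 true 3249,
  .child 72 false 2955,
  .child 17 true 2955,
  .child 18 true 2955,
  .child 72 false 1758,
  .child 17 true 1758,
  .child 17 false 2822,
  .child 18 false 2822,
  .child 18 true 2822,
  .child 72 false 572,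
  .child 18 true 572,
  .child 72 false 1319,
  .child 72 false 2080,
  .child 17 false 1070,
  .child 72 false 1070,
  .child 17 false 620,
  .child 72 false 620,
  .child 17 false 1495,
  .child 18 false 1495,
  .child 17 true 1495,
  .child 18 true 1495,
  .child 72 false 3203,
  .child 72 false 2475,
  .child 18 true 2475,
  .child 17 false 1620,
  .child 18 false 1620,
  .child 17 true 1620,
  .child 18 true 1620,
  .child 72 false 2873,
  .child 17 false 2041,
  .child 18 false 2041,
  .child 17 true 2041,
  .child 72 false 2837,
  .child 17 true 2837,
  .child 17 false 1623,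
  .child 18 false 1623,
  .child 17 true 1623,
  .child 72 false 3283,
  .child 18 true 3039,
  .child 72 false 715,
  .child 72 false 3469,
  .child 72 false 1629,
  .child 72 false 2349,
  .child 17 false 1159,
  .child 18 false 1159,
  .child 17 true 1159,
  .child 72 false 3813,
  .child 17 false 1052,
  .child 18 false 1052,
  .child 17 true 1052,
  .child 18 true 1052,
  .child 17 false 1177,
  .child 18 false 1177,
  .child 18 true 1177,
  .child 17 false 1487,
  .child 17 true 1487,
  .child 17 true 1175,
  .child 18 true 1175,
  .child 72 false 685,
  .child 17 true 685,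
  .child 17 false 2572,
  .child 18 false 2572,
  .child 18 true 2572,
  .child 72 false 3750]

/-- part 37 of `twTree2` -/
noncomputable def twTree2P37 : List (Leaf) := [
  .child 18 false 1554,
  .child 17 true 1554,
  .child 18 true 1554,
  .child 72 false 3613,
  .child 17 false 1182,
  .child 18 false 1182,
  .child 17 true 1182,
  .child 18 true 1182,
  .child 18 false 3733,
  .child 18 true 3733,
  .child 72 false 1997,
  .child 17 true 1997,
  .child 17 true 3850,
  .child 18 true 3850,
  .child 17 true 3779,
  .child 17 false 197,
  .child 18 false 197,
  .child 17 true 197,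
  .child 18 true 197,
  .child 72 false 3652,
  .child 17 false 410,
  .child 18 false 410,
  .child 17 true 410,
  .child 17 false 3730,
  .child 18 false 3730,
  .child 72 false 3730,
  .child 18 true 3730,
  .child 17 false 2893,
  .child 17 true 2893,
  .child 17 true 3848,
  .child 17 false 1320,
  .child 18 false 1320,
  .child 17 true 1320,
  .child 72 false 726,
  .child 72 false 1722,
  .child 17 false 1568,
  .child 18 false 1568,
  .child 72 false 350,
  .child 18 true 3359,
  .child 72 false 1256,
  .child 17 false 1705,
  .child 17 true 1705,
  .child 72 false 2293,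
  .child 18 false 2560,
  .child 17 true 2560,
  .child 18 true 2560,
  .child 72 false 1107,
  .child 72 false 3837,
  .child 17 false 3144,
  .child 18 false 3144,
  .child 72 false 2890,
  .child 18 false 2889,
  .child 17 false 735,
  .child 18 true 735,
  .child 72 false 2677,
  .child 18 false 2068,
  .child 17 true 2068,
  .child 18 true 2068,
  .child 72 false 913,
  .child 18 true 871,
  .child 72 false 1595,
  .child 72 false 2533,
  .child 72 false 1257,
  .child 72 false 2594,
  .child 17 false 2221,
  .child 72 false 1183,
  .child 72 false 1198,
  .child 18 false 2894,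
  .child 17 true 2894,
  .child 72 false 1197,
  .child 72 false 2765,
  .child 17 false 1586,
  .child 18 false 1586,
  .child 17 true 1586,
  .child 18 true 1586,
  .child 18 true 3282,
  .child 72 false 2410,
  .child 72 false 3228,
  .child 72 false 1545,
  .child 17 false 444,
  .child 18 false 444,
  .child 17 true 444,
  .child 17 false 1970,
  .child 18 false 1970,
  .child 17 true 1970,
  .child 17 false 3563,
  .child 18 false 3563,
  .child 17 false 3484,
  .child 18 true 1683,
  .child 72 false 1189,
  .child 18 false 462,
  .child 17 true 462,
  .child 18 true 462,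
  .child 72 false 3318,
  .child 18 false 1426,
  .child 17 true 743,
  .child 72 false 1826,
  .child 17 false 719,
  .child 18 false 719,
  .child 17 true 719]

/-- part 38 of `twTree2` -/
noncomputable def twTree2P38 : List (Leaf) := [
  .child 18 true 719,
  .child 72 false 1559,
  .child 17 false 1327,
  .child 18 false 1327,
  .child 17 true 1327,
  .child 72 false 1770,
  .child 17 true 731,
  .child 17 false 2387,
  .child 18 false 2387,
  .child 17 true 2387,
  .child 72 false 2083,
  .child 17 false 3259,
  .child 18 false 3259,
  .child 72 false 3320,
  .child 17 true 1533,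
  .child 18 true 1533,
  .child 72 false 1793,
  .child 18 false 1018,
  .child 17 true 1018,
  .child 18 true 1018,
  .child 72 false 2290,
  .child 17 false 782,
  .child 17 true 782,
  .child 17 false 3026,
  .child 18 true 3026,
  .child 17 false 1239,
  .child 17 true 1239,
  .child 18 true 1239,
  .child 17 false 1558,
  .child 17 true 1541,
  .child 17 false 1587,
  .child 18 false 1587,
  .child 17 true 1587,
  .child 17 false 1162,
  .child 17 true 1162,
  .child 18 true 1477,
  .child 17 true 1427,
  .child 72 false 3064,
  .child 17 true 2189,
  .child 17 false 190,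
  .child 17 true 190,
  .child 18 true 2428,
  .child 17 false 439,
  .child 17 true 439,
  .child 18 false 600,
  .child 72 false 600,
  .child 18 true 600,
  .child 17 false 3630,
  .child 17 true 3216,
  .child 72 false 1074,
  .child 18 false 1643,
  .child 18 true 1628,
  .child 18 true 3248,
  .child 72 false 1237,
  .child 72 false 1235,
  .child 17 false 3758,
  .child 18 false 3758,
  .child 18 true 3758,
  .child 17 false 1602,
  .child 17 true 1602,
  .child 18 true 2519,
  .child 17 false 1174,
  .child 18 false 1174,
  .child 17 false 3422,
  .child 72 false 3422,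
  .child 17 true 3422,
  .child 17 true 2871,
  .child 72 false 3369,
  .child 72 false 1178,
  .child 17 true 1178,
  .child 18 false 812,
  .child 18 true 812,
  .child 17 false 2483,
  .child 18 false 2483,
  .child 17 false 2259,
  .child 17 true 2259,
  .child 17 true 1186,
  .child 17 true 2892,
  .child 72 false 2651,
  .child 17 false 811,
  .child 72 false 426,
  .child 17 true 2161,
  .child 18 true 2161,
  .child 72 false 1318,
  .child 17 false 3811,
  .child 17 true 3811,
  .child 18 true 3811,
  .child 17 false 2075,
  .child 18 true 3473,
  .child 72 false 943,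
  .child 17 false 189,
  .child 17 true 2613,
  .child 17 true 2562,
  .child 18 false 3886,
  .child 17 true 3886,
  .child 18 true 3886,
  .child 18 false 2834,
  .child 17 false 443,
  .child 17 true 443,
  .child 17 false 461]

/-- part 39 of `twTree2` -/
noncomputable def twTree2P39 : List (Leaf) := [
  .child 17 false 427,
  .child 18 false 1262,
  .child 18 true 1262,
  .child 72 false 2923,
  .child 18 false 3344,
  .child 72 false 2444]

/-- certificate data -/
noncomputable def twTree2 : List (Leaf) :=
  [twTree2P0, twTree2P1, twTree2P2, twTree2P3, twTree2P4, twTree2P5, twTree2P6, twTree2P7, twTree2P8, twTree2P9, twTree2P10, twTree2P11, twTree2P12, twTree2P13, twTree2P14, twTree2P15, twTree2P16, twTree2P17, twTree2P18, twTree2P19, twTree2P20, twTree2P21, twTree2P22, twTree2P23, twTree2P24, twTree2P25, twTree2P26, twTree2P27, twTree2P28, twTree2P29, twTree2P30, twTree2P31, twTree2P32, twTree2P33, twTree2P34, twTree2P35, twTree2P36, twTree2P37, twTree2P38, twTree2P39].flatten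

/-- part 0 of `twRoots3` -/
noncomputable def twRoots3P0 : List (TRoot) := [
  ⟨[],
    [⟨22,[],[]⟩,⟨33,[],[]⟩,⟨33,[(23,false)],[(6,false),(5,false),(7,true)]⟩,⟨33,[(23,false),(24,false)],[(5,false),(6,false),(5,false),(7,false),(6,true)]⟩,⟨33,[(24,false)],[(6,false),(7,true),(6,true),(5,true)]⟩]⟩,
  ⟨[7],
    [⟨46,[(57,false)],[(1,false),(1,false),(7,true),(6,true),(3,true),(5,false),(6,true)]⟩,⟨58,[],[]⟩,⟨58,[(23,false)],[(6,false),(5,false),(7,false)]⟩,⟨58,[(23,false),(24,false)],[(5,false),(6,false),(5,false),(7,true),(6,true)]⟩,⟨58,[(24,false)],[(6,false),(7,false),(6,false),(5,true)]⟩]⟩,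
  ⟨[4,0,4,7],
    [⟨110,[(57,false),(23,false),(24,false),(23,false),(57,false),(24,false),(23,false),(57,false)],[(0,false),(2,false),(7,true),(2,false),(6,false),(5,false),(7,false)]⟩,⟨110,[(57,false),(57,false),(24,false),(24,false),(57,false),(24,false),(23,false)],[(6,false),(7,false),(3,false),(5,false),(6,false),(1,false),(7,false),(5,false)]⟩,⟨110,[(24,false),(57,false),(23,false),(24,false),(23,false),(57,false),(24,false),(57,false),(23,false)],[(5,false),(6,true),(3,false),(7,false),(0,false),(5,false)]⟩,⟨113,[(57,false),(23,false),(57,false),(57,false),(57,false),(57,false)],[(1,false),(6,false),(7,false),(1,false),(5,true),(2,false),(6,true)]⟩,⟨78,[(24,false),(23,false),(57,false),(24,false),(24,false),(57,false),(24,false),(57,false),(23,false)],[(3,false),(7,false),(6,true),(5,true),(2,false),(3,false)]⟩]⟩,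
  ⟨[4,0,4,1,5,0,5,7],
    [⟨111,[],[(7,true),(6,true),(3,true)]⟩,⟨76,[(24,false),(24,false),(57,false),(23,false),(57,false),(23,false),(23,false),(57,false)],[(5,true),(1,true),(6,false),(7,false),(2,false),(5,false),(6,false)]⟩,⟨76,[(57,false),(23,false),(57,false),(23,false),(23,false),(57,false)],[(6,false),(7,false),(6,false),(2,true),(5,false),(6,true),(1,false)]⟩,⟨76,[(57,false),(23,false),(24,false),(24,false),(57,false),(23,false),(23,false)],[(2,false),(5,false),(7,false),(1,true),(7,false),(1,false)]⟩,⟨76,[(23,false),(57,false),(24,false),(24,false),(57,false),(23,false),(24,false)],[(2,false),(7,false),(0,false),(7,false),(0,false),(6,false)]⟩]⟩,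
  ⟨[3,5,7],
    [⟨35,[(57,false),(57,false),(57,false),(57,false),(57,false),(23,false),(23,false)],[(4,false),(5,false),(2,true),(7,true),(1,false),(6,true)]⟩,⟨35,[(57,false),(23,false),(57,false),(57,false),(23,false),(24,false)],[(1,true),(1,true),(6,false),(3,true),(5,true)]⟩,⟨35,[(57,false),(23,false),(57,false),(57,false),(57,false),(57,false)],[(7,true),(4,true),(6,true),(3,false),(1,true)]⟩,⟨47,[(57,false),(57,false),(57,false),(23,false),(57,false),(23,false),(23,false),(24,false)],[(1,false),(2,false),(5,false),(7,false),(6,false),(4,false)]⟩,⟨35,[(57,false),(57,false),(57,false),(23,false),(24,false),(23,false),(23,false)],[(0,false),(5,false),(6,false),(7,false),(5,true),(2,false),(6,true)]⟩]⟩]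

/-- certificate data -/
noncomputable def twRoots3 : List (TRoot) :=
  [twRoots3P0].flatten

/-- part 0 of `twTree3` -/
noncomputable def twTree3P0 : List (Leaf) := [
  .root 0,
  .child 57 false 0,
  .child 23 false 9,
  .child 23 true 9,
  .child 24 true 9,
  .child 23 false 39,
  .child 57 false 39,
  .child 57 true 39,
  .child 24 false 40,
  .child 57 false 40,
  .child 57 true 40,
  .child 23 false 84,
  .child 24 false 84,
  .child 23 true 84,
  .child 24 true 84,
  .child 23 false 100,
  .child 24 false 100,
  .child 23 true 100,
  .child 24 true 100,
  .child 23 true 123,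
  .child 24 true 123,
  .child 23 true 114,
  .child 24 true 114,
  .child 23 false 772,
  .child 57 false 772,
  .child 57 true 772,
  .child 23 false 830,
  .child 57 false 830,
  .child 57 true 830,
  .child 24 false 920,
  .child 57 false 920,
  .child 24 true 920,
  .child 57 true 920,
  .child 57 true 51,
  .child 23 false 108,
  .child 57 false 108,
  .child 57 true 108,
  .child 57 false 354,
  .child 57 true 354,
  .child 24 false 921,
  .child 57 false 921,
  .child 57 true 921,
  .child 24 false 919,
  .child 57 false 919,
  .child 57 true 919,
  .child 24 false 353,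
  .child 57 true 353,
  .child 23 false 1993,
  .child 23 true 2125,
  .child 24 true 2125,
  .child 24 false 2240,
  .child 23 true 2240,
  .child 24 true 2240,
  .child 23 false 3440,
  .child 24 false 3440,
  .child 23 true 2099,
  .child 23 true 2543,
  .child 24 true 2543,
  .child 24 true 2114,
  .child 24 false 1795,
  .child 23 true 1795,
  .child 23 false 3043,
  .child 23 true 2242,
  .root 1,
  .child 57 false 2,
  .child 23 false 6,
  .child 23 true 6,
  .child 24 true 6,
  .child 23 false 5,
  .child 57 false 5,
  .child 57 true 5,
  .child 24 false 4,
  .child 57 false 4,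
  .child 57 true 4,
  .child 23 false 339,
  .child 24 false 339,
  .child 23 true 339,
  .child 24 true 339,
  .child 23 false 333,
  .child 24 false 333,
  .child 23 true 333,
  .child 24 true 333,
  .child 23 true 215,
  .child 24 true 215,
  .child 23 true 372,
  .child 24 true 372,
  .child 23 false 611,
  .child 57 false 611,
  .child 57 true 611,
  .child 23 false 745,
  .child 57 false 745,
  .child 57 true 745,
  .child 24 false 612,
  .child 57 false 612,
  .child 24 true 612,
  .child 57 true 612,
  .child 57 true 12,
  .child 23 false 896,
  .child 57 false 896,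
  .child 57 true 896]

/-- part 1 of `twTree3` -/
noncomputable def twTree3P1 : List (Leaf) := [
  .child 57 false 579,
  .child 57 true 579,
  .child 24 false 610,
  .child 57 false 610,
  .child 57 true 610,
  .child 24 false 744,
  .child 57 false 744,
  .child 57 true 744,
  .child 24 false 578,
  .child 57 true 578,
  .child 23 false 1274,
  .child 23 true 2069,
  .child 24 true 2069,
  .child 24 false 1471,
  .child 23 true 1471,
  .child 24 true 1471,
  .child 23 false 3291,
  .child 24 false 3291,
  .child 23 true 2067,
  .child 23 true 2964,
  .child 24 true 2964,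
  .child 24 true 2084,
  .child 24 false 1469,
  .child 23 true 1469,
  .child 23 false 1472,
  .child 23 true 633,
  .root 2,
  .child 23 false 544,
  .child 24 false 544,
  .child 57 false 544,
  .child 23 true 544,
  .child 24 true 544,
  .child 57 true 544,
  .child 23 false 1176,
  .child 24 false 1176,
  .child 57 false 1176,
  .child 24 true 1176,
  .child 57 true 1176,
  .child 23 false 1572,
  .child 24 false 1572,
  .child 57 false 1572,
  .child 23 true 1572,
  .child 57 true 1572,
  .child 23 false 3625,
  .child 24 false 3625,
  .child 57 false 3625,
  .child 23 true 3625,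
  .child 24 true 3625,
  .child 24 false 141,
  .child 57 false 141,
  .child 24 true 141,
  .child 57 true 141,
  .child 23 false 2870,
  .child 57 false 2870,
  .child 23 true 2870,
  .child 24 true 2870,
  .child 57 true 2870,
  .child 23 false 3409,
  .child 24 false 3409,
  .child 23 true 3409,
  .child 24 true 3409,
  .child 57 true 3409,
  .child 24 false 2398,
  .child 57 false 2398,
  .child 24 true 2398,
  .child 57 true 2398,
  .child 23 false 1644,
  .child 57 false 1644,
  .child 23 true 1644,
  .child 57 true 1644,
  .child 23 false 3264,
  .child 24 false 3264,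
  .child 57 false 3264,
  .child 23 true 3264,
  .child 24 true 3264,
  .child 23 false 2602,
  .child 57 false 2602,
  .child 23 true 2602,
  .child 24 true 2602,
  .child 57 true 2602,
  .child 23 false 2995,
  .child 24 false 2995,
  .child 23 true 2995,
  .child 24 true 2995,
  .child 57 true 2995,
  .child 23 false 1633,
  .child 24 false 1633,
  .child 57 false 1633,
  .child 24 true 1633,
  .child 57 true 1633,
  .child 23 false 3423,
  .child 24 false 3423,
  .child 57 false 3423,
  .child 23 true 3423,
  .child 23 false 3662,
  .child 24 false 3662,
  .child 57 false 3662,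
  .child 23 true 3662,
  .child 24 true 3662,
  .child 24 false 2418]

/-- part 2 of `twTree3` -/
noncomputable def twTree3P2 : List (Leaf) := [
  .child 57 false 2418,
  .child 24 true 2418,
  .child 57 true 2418,
  .child 23 false 3292,
  .child 24 false 3292,
  .child 23 true 3292,
  .child 24 true 3292,
  .child 23 false 1684,
  .child 24 false 1684,
  .child 57 false 1684,
  .child 57 true 1684,
  .child 23 false 3117,
  .child 24 false 3117,
  .child 57 false 3117,
  .child 23 true 3117,
  .child 57 true 3117,
  .child 23 false 1463,
  .child 24 false 1463,
  .child 57 false 1463,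
  .child 23 true 1463,
  .child 24 false 3101,
  .child 57 false 3101,
  .child 24 true 3101,
  .child 57 true 3101,
  .child 23 false 382,
  .child 57 false 382,
  .child 23 true 382,
  .child 57 true 382,
  .child 23 false 3365,
  .child 24 false 3365,
  .child 57 false 3365,
  .child 23 true 3365,
  .child 57 true 3365,
  .child 23 false 2314,
  .child 24 false 2314,
  .child 23 true 2314,
  .child 24 true 2314,
  .child 23 false 2368,
  .child 57 false 2368,
  .child 23 true 2368,
  .child 57 true 2368,
  .child 23 false 2453,
  .child 24 false 2453,
  .child 23 true 2453,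
  .child 24 true 2453,
  .child 57 true 2453,
  .child 23 false 1818,
  .child 24 false 1818,
  .child 57 false 1818,
  .child 24 true 1818,
  .child 57 true 1818,
  .child 24 false 1277,
  .child 57 false 1277,
  .child 23 true 1277,
  .child 24 true 1277,
  .child 24 false 3224,
  .child 57 true 3224,
  .child 23 false 497,
  .child 57 false 497,
  .child 24 true 497,
  .child 23 false 1443,
  .child 24 false 1443,
  .child 23 true 1443,
  .child 24 true 1443,
  .child 23 false 3542,
  .child 57 false 3542,
  .child 24 true 3542,
  .child 57 true 3542,
  .child 23 false 2767,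
  .child 24 false 2767,
  .child 57 false 2767,
  .child 57 true 2767,
  .child 24 false 2018,
  .child 57 false 2018,
  .child 24 true 2018,
  .child 57 true 2018,
  .child 23 false 78,
  .child 57 false 78,
  .child 24 true 78,
  .child 57 true 78,
  .child 24 false 882,
  .child 23 true 882,
  .child 57 true 882,
  .child 23 false 3827,
  .child 57 false 3827,
  .child 23 true 3827,
  .child 57 true 3827,
  .child 23 false 1248,
  .child 24 false 1248,
  .child 23 true 1248,
  .child 24 true 1248,
  .child 23 false 666,
  .child 57 false 666,
  .child 23 true 666,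
  .child 24 true 666,
  .child 57 true 666,
  .child 23 false 3524,
  .child 24 false 3524,
  .child 23 true 3524,
  .child 24 true 3524]

/-- part 3 of `twTree3` -/
noncomputable def twTree3P3 : List (Leaf) := [
  .child 57 true 3524,
  .child 23 false 2872,
  .child 57 false 2872,
  .child 24 true 2872,
  .child 57 true 2872,
  .child 23 false 2208,
  .child 24 false 2208,
  .child 23 true 2208,
  .child 24 true 2208,
  .child 24 false 2513,
  .child 57 false 2513,
  .child 24 true 2513,
  .child 57 true 2513,
  .child 24 false 3139,
  .child 23 true 3139,
  .child 24 true 3139,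
  .child 23 false 1585,
  .child 24 false 1585,
  .child 57 false 1585,
  .child 57 true 1585,
  .child 23 false 1767,
  .child 24 false 1767,
  .child 57 false 1767,
  .child 23 true 1767,
  .child 57 true 1767,
  .child 23 false 2298,
  .child 24 false 2298,
  .child 57 false 2298,
  .child 24 false 1933,
  .child 57 false 1933,
  .child 24 true 1933,
  .child 57 true 1933,
  .child 23 false 1924,
  .child 57 false 1924,
  .child 23 true 1924,
  .child 57 true 1924,
  .child 23 false 1225,
  .child 24 false 1225,
  .child 57 false 1225,
  .child 24 true 1225,
  .child 24 false 3447,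
  .child 57 false 3447,
  .child 23 true 3447,
  .child 24 true 3447,
  .child 24 false 3029,
  .child 57 true 3029,
  .child 23 false 2763,
  .child 57 false 2763,
  .child 24 true 2763,
  .child 23 false 2825,
  .child 24 false 2825,
  .child 23 true 2825,
  .child 23 false 3376,
  .child 57 false 3376,
  .child 24 true 3376,
  .child 57 true 3376,
  .child 23 false 2736,
  .child 24 false 2736,
  .child 57 false 2736,
  .child 57 true 2736,
  .child 24 false 3692,
  .child 57 false 3692,
  .child 24 true 3692,
  .child 57 true 3692,
  .child 23 false 1518,
  .child 57 false 1518,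
  .child 24 true 1518,
  .child 57 true 1518,
  .child 24 false 2105,
  .child 57 true 2105,
  .child 24 false 1179,
  .child 57 false 1179,
  .child 24 true 1179,
  .child 57 true 1179,
  .child 23 true 1158,
  .child 57 true 1158,
  .child 23 false 3201,
  .child 24 false 3201,
  .child 57 false 3201,
  .child 23 true 3201,
  .child 24 true 3201,
  .child 23 true 937,
  .child 24 true 937,
  .child 23 false 2936,
  .child 24 false 2936,
  .child 23 true 2936,
  .child 24 true 2936,
  .child 57 true 2936,
  .child 57 false 3491,
  .child 57 true 3491,
  .child 57 false 554,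
  .child 23 true 554,
  .child 23 false 508,
  .child 24 false 508,
  .child 23 true 508,
  .child 24 true 508,
  .child 57 false 3470,
  .child 24 true 3470,
  .child 57 true 3470,
  .child 23 false 3138]

/-- part 4 of `twTree3` -/
noncomputable def twTree3P4 : List (Leaf) := [
  .child 24 false 3138,
  .child 57 false 3138,
  .child 57 true 3138,
  .child 23 false 2414,
  .child 57 false 2414,
  .child 57 true 2414,
  .child 57 false 1488,
  .child 24 false 3646,
  .child 57 false 3646,
  .child 24 true 3646,
  .child 57 true 3646,
  .child 23 false 2376,
  .child 57 false 2376,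
  .child 23 true 2376,
  .child 57 true 2376,
  .child 23 false 1143,
  .child 57 false 1143,
  .child 57 true 1143,
  .child 23 false 1940,
  .child 24 false 1940,
  .child 23 true 1940,
  .child 57 false 3874,
  .child 57 true 3874,
  .child 23 false 3326,
  .child 23 true 3326,
  .child 24 true 3326,
  .child 23 false 1394,
  .child 57 false 1394,
  .child 57 true 1394,
  .child 23 false 3459,
  .child 57 false 3459,
  .child 57 true 3459,
  .child 24 false 858,
  .child 57 false 858,
  .child 24 true 858,
  .child 57 true 858,
  .child 23 false 2370,
  .child 57 false 2370,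
  .child 24 true 2370,
  .child 57 true 2370,
  .child 24 false 204,
  .child 57 false 204,
  .child 24 true 204,
  .child 57 true 204,
  .child 23 false 877,
  .child 57 true 877,
  .child 23 false 2938,
  .child 24 false 2938,
  .child 57 false 2938,
  .child 23 true 2938,
  .child 24 true 2938,
  .child 23 false 2826,
  .child 24 false 2826,
  .child 23 true 2826,
  .child 57 true 2826,
  .child 23 false 791,
  .child 24 false 791,
  .child 57 false 791,
  .child 24 true 791,
  .child 57 true 791,
  .child 24 false 489,
  .child 23 true 489,
  .child 23 false 3836,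
  .child 24 false 3836,
  .child 57 false 3836,
  .child 23 true 3836,
  .child 24 true 3836,
  .child 24 false 2688,
  .child 23 false 3871,
  .child 24 false 3871,
  .child 23 true 3871,
  .child 24 true 3871,
  .child 23 false 1226,
  .child 57 false 1226,
  .child 57 false 1178,
  .child 24 false 1067,
  .child 23 true 1067,
  .child 23 false 2762,
  .child 24 false 2762,
  .child 57 false 2762,
  .child 57 true 2762,
  .child 23 false 1316,
  .child 24 false 1316,
  .child 23 true 1316,
  .child 24 true 1316,
  .child 23 false 3103,
  .child 57 false 3103,
  .child 23 true 3103,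
  .child 57 true 3103,
  .child 23 false 732,
  .child 24 false 732,
  .child 23 true 732,
  .child 24 true 732,
  .child 57 true 732,
  .child 23 false 691,
  .child 57 false 691,
  .child 57 true 691,
  .child 24 false 1438,
  .child 23 true 1438,
  .child 24 true 1438]

/-- part 5 of `twTree3` -/
noncomputable def twTree3P5 : List (Leaf) := [
  .child 57 true 979,
  .child 23 false 2044,
  .child 24 false 2044,
  .child 23 true 2044,
  .child 24 true 2044,
  .child 23 false 2292,
  .child 57 false 2292,
  .child 57 true 2292,
  .child 23 false 2468,
  .child 57 false 2468,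
  .child 23 false 2236,
  .child 23 true 2236,
  .child 24 true 2236,
  .child 57 false 1090,
  .child 23 false 1335,
  .child 23 true 1335,
  .child 23 false 1270,
  .child 57 false 1270,
  .child 57 true 1270,
  .child 23 false 1269,
  .child 24 false 1269,
  .child 57 false 1269,
  .child 23 true 1269,
  .child 57 true 1269,
  .child 24 false 1374,
  .child 57 false 1374,
  .child 24 true 1374,
  .child 57 true 1374,
  .child 23 false 2569,
  .child 57 false 2569,
  .child 57 true 2569,
  .child 23 false 1173,
  .child 57 true 1173,
  .child 24 false 1040,
  .child 57 false 1040,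
  .child 23 true 1040,
  .child 24 true 1040,
  .child 23 false 3679,
  .child 24 false 3679,
  .child 23 true 3679,
  .child 24 true 3679,
  .child 23 false 512,
  .child 57 false 512,
  .child 57 true 512,
  .child 23 false 1255,
  .child 24 false 1255,
  .child 57 false 1255,
  .child 57 true 1255,
  .child 24 false 1575,
  .child 24 true 1575,
  .child 57 true 1575,
  .child 23 false 2052,
  .child 57 false 2052,
  .child 24 true 2052,
  .child 57 true 2052,
  .child 23 true 1464,
  .child 57 true 1464,
  .child 57 false 2580,
  .child 24 true 2580,
  .child 57 true 2580,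
  .child 23 true 601,
  .child 24 true 601,
  .child 57 false 1785,
  .child 23 false 2618,
  .child 24 false 2618,
  .child 23 true 2618,
  .child 24 true 2618,
  .child 23 false 514,
  .child 24 false 514,
  .child 23 true 514,
  .child 57 true 514,
  .child 24 false 1283,
  .child 57 false 1283,
  .child 24 true 1283,
  .child 57 true 1283,
  .child 57 false 2448,
  .child 23 true 2448,
  .child 57 true 2448,
  .child 24 false 2962,
  .child 23 true 2962,
  .child 24 true 2962,
  .child 57 false 1887,
  .child 57 true 1887,
  .child 24 false 1975,
  .child 23 true 1975,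
  .child 23 false 1349,
  .child 57 false 1349,
  .child 23 false 516,
  .child 24 false 516,
  .child 57 false 516,
  .child 57 true 516,
  .child 24 false 1409,
  .child 57 false 1409,
  .child 24 true 1409,
  .child 57 true 1409,
  .child 57 true 2440,
  .child 24 false 3102,
  .child 57 false 3102,
  .child 24 true 3102,
  .child 57 true 3102]

/-- part 6 of `twTree3` -/
noncomputable def twTree3P6 : List (Leaf) := [
  .child 23 false 2386,
  .child 24 false 2386,
  .child 23 false 3403,
  .child 23 false 3688,
  .child 24 false 3688,
  .child 24 true 3688,
  .child 24 false 3066,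
  .child 57 false 3066,
  .child 24 true 3066,
  .child 57 false 202,
  .child 23 true 202,
  .child 23 false 977,
  .child 23 true 977,
  .child 24 true 977,
  .child 23 false 804,
  .child 24 false 804,
  .child 24 false 3348,
  .child 57 false 3348,
  .child 23 true 3348,
  .child 57 true 3348,
  .child 23 false 3334,
  .child 24 false 3334,
  .child 23 true 3334,
  .child 24 true 3334,
  .child 23 false 1766,
  .child 57 false 1766,
  .child 57 true 1766,
  .child 23 false 3777,
  .child 24 false 3777,
  .child 23 true 3777,
  .child 24 true 3777,
  .child 57 true 3777,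
  .child 57 false 642,
  .child 57 true 642,
  .child 24 false 2693,
  .child 23 true 2693,
  .child 24 true 2693,
  .child 23 false 1740,
  .child 57 false 1740,
  .child 23 false 1330,
  .child 24 false 1330,
  .child 23 true 1330,
  .child 24 true 1330,
  .child 57 true 1177,
  .child 23 true 1920,
  .child 57 false 1091,
  .child 57 true 1091,
  .child 23 true 2094,
  .child 24 true 2094,
  .child 24 false 2831,
  .child 57 false 2831,
  .child 57 true 2831,
  .child 24 false 1055,
  .child 23 true 1055,
  .child 24 true 1055,
  .child 24 false 3792,
  .child 57 false 3792,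
  .child 57 true 3792,
  .child 23 false 3555,
  .child 24 false 3555,
  .child 57 false 3555,
  .child 23 true 3555,
  .child 57 true 3555,
  .child 24 false 3602,
  .child 57 false 3602,
  .child 24 true 3602,
  .child 57 true 3602,
  .child 23 false 3519,
  .child 57 false 3519,
  .child 57 true 3519,
  .child 24 true 137,
  .child 24 false 784,
  .child 57 false 784,
  .child 23 true 784,
  .child 24 true 784,
  .child 57 true 3369,
  .child 23 false 1507,
  .child 24 false 1507,
  .child 23 true 1507,
  .child 57 false 3671,
  .child 57 true 3671,
  .child 23 false 902,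
  .child 24 false 902,
  .child 57 false 902,
  .child 57 true 902,
  .child 24 false 2614,
  .child 57 false 2614,
  .child 24 true 2614,
  .child 57 true 2614,
  .child 23 false 3230,
  .child 57 false 3230,
  .child 24 true 3230,
  .child 57 true 3230,
  .child 24 false 3420,
  .child 57 true 3420,
  .child 57 false 2611,
  .child 23 false 1366,
  .child 24 false 1366,
  .child 23 true 1366,
  .child 24 true 1061]

/-- part 7 of `twTree3` -/
noncomputable def twTree3P7 : List (Leaf) := [
  .child 23 false 1564,
  .child 24 false 1564,
  .child 23 true 1564,
  .child 23 false 2482,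
  .child 57 false 2482,
  .child 57 true 2482,
  .child 57 false 1899,
  .child 57 true 1899,
  .child 24 false 3456,
  .child 57 false 3456,
  .child 24 true 3456,
  .child 57 true 3456,
  .child 23 true 890,
  .child 23 false 2213,
  .child 24 false 2213,
  .child 23 true 2213,
  .child 57 false 604,
  .child 23 false 1548,
  .child 23 true 1548,
  .child 24 true 1548,
  .child 57 false 2701,
  .child 57 true 2701,
  .child 24 false 1619,
  .child 57 false 1619,
  .child 24 true 1619,
  .child 57 true 1619,
  .child 57 false 2911,
  .child 24 false 1539,
  .child 24 true 1539,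
  .child 57 true 1539,
  .child 23 false 1395,
  .child 57 true 1395,
  .child 23 false 1387,
  .child 24 false 1387,
  .child 57 false 1387,
  .child 23 true 1387,
  .child 24 true 1387,
  .child 23 false 385,
  .child 24 false 385,
  .child 23 true 385,
  .child 24 true 385,
  .child 57 true 385,
  .child 23 false 1460,
  .child 24 false 1460,
  .child 24 true 1460,
  .child 57 true 1460,
  .child 24 false 1880,
  .child 23 true 1880,
  .child 23 false 1068,
  .child 57 false 1068,
  .child 23 true 1068,
  .child 24 true 1068,
  .child 24 false 2993,
  .child 23 false 3587,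
  .child 24 false 3587,
  .child 23 true 3587,
  .child 24 true 3587,
  .child 57 false 1122,
  .child 24 false 1562,
  .child 23 true 1562,
  .child 23 false 3570,
  .child 24 false 3570,
  .child 57 false 3570,
  .child 57 true 3570,
  .child 23 false 2665,
  .child 24 false 2665,
  .child 23 true 2665,
  .child 24 true 2665,
  .child 23 false 3261,
  .child 23 true 3261,
  .child 57 true 3261,
  .child 23 false 481,
  .child 24 false 481,
  .child 23 true 481,
  .child 24 true 481,
  .child 57 true 481,
  .child 23 false 194,
  .child 57 false 194,
  .child 57 true 194,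
  .child 24 false 3695,
  .child 23 true 3695,
  .child 24 true 3695,
  .child 57 true 1578,
  .child 23 false 3508,
  .child 24 true 3508,
  .child 57 false 2871,
  .child 57 true 2871,
  .child 23 false 1703,
  .child 57 false 3359,
  .child 23 false 2814,
  .child 57 false 2814,
  .child 23 true 2814,
  .child 57 true 2814,
  .child 24 false 3110,
  .child 57 false 3110,
  .child 24 true 3110,
  .child 57 true 3110,
  .child 57 false 790,
  .child 23 true 790,
  .child 57 true 790]

/-- part 8 of `twTree3` -/
noncomputable def twTree3P8 : List (Leaf) := [
  .child 24 false 2521,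
  .child 23 true 2521,
  .child 24 true 2521,
  .child 57 true 3595,
  .child 23 true 3319,
  .child 23 false 1833,
  .child 57 false 1833,
  .child 23 false 3266,
  .child 57 false 3266,
  .child 57 true 3266,
  .child 24 true 1658,
  .child 24 false 1637,
  .child 57 false 1637,
  .child 24 true 1637,
  .child 23 false 3296,
  .child 24 false 3296,
  .child 23 true 3296,
  .child 23 false 1746,
  .child 23 false 3764,
  .child 24 false 3764,
  .child 23 true 3764,
  .child 24 true 3764,
  .child 24 false 1579,
  .child 24 true 1579,
  .child 57 false 1054,
  .child 23 true 1054,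
  .child 23 true 3290,
  .child 24 true 3290,
  .child 23 false 2318,
  .child 24 false 2318,
  .child 23 true 2318,
  .child 24 false 1502,
  .child 23 true 1502,
  .child 57 true 1502,
  .child 24 false 1588,
  .child 23 true 1588,
  .child 24 true 1588,
  .child 23 false 1659,
  .child 57 true 1659,
  .child 23 false 3668,
  .child 24 false 3668,
  .child 23 true 3668,
  .child 24 true 3668,
  .child 57 true 3668,
  .child 57 false 3400,
  .child 57 true 3400,
  .child 24 false 1470,
  .child 23 true 1470,
  .child 23 false 1640,
  .child 57 false 1640,
  .child 23 false 1797,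
  .child 23 true 1797,
  .child 24 true 1797,
  .child 23 true 3573,
  .child 24 true 1851,
  .child 24 false 2627,
  .child 23 true 2627,
  .child 24 true 2627,
  .child 57 true 1815,
  .child 23 true 1266,
  .child 24 false 3672,
  .child 57 false 3672,
  .child 57 true 3672,
  .child 57 false 3232,
  .child 57 true 3232,
  .child 24 false 3690,
  .child 57 false 3690,
  .child 57 true 3690,
  .child 57 false 1597,
  .child 23 true 1597,
  .child 57 true 1597,
  .child 57 false 3238,
  .child 57 true 3238,
  .child 57 false 3173,
  .child 57 true 3173,
  .child 24 false 3175,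
  .child 57 false 3175,
  .child 57 false 3726,
  .child 57 true 3726,
  .child 24 false 1983,
  .child 23 true 1983,
  .child 23 false 2630,
  .child 23 false 3796,
  .child 24 false 1364,
  .child 57 false 1282,
  .child 24 false 2597,
  .child 57 true 2597,
  .child 23 false 2037,
  .child 57 true 2037,
  .child 24 false 2845,
  .child 23 true 2845,
  .child 23 false 3362,
  .child 23 true 3362,
  .child 24 true 3362,
  .child 24 true 1144,
  .child 57 true 2406,
  .child 23 false 3483,
  .child 24 false 3483,
  .child 57 false 3483,
  .child 23 true 3483]

/-- part 9 of `twTree3` -/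
noncomputable def twTree3P9 : List (Leaf) := [
  .child 24 true 3483,
  .child 23 false 1206,
  .child 24 false 1206,
  .child 23 true 1206,
  .child 24 true 1206,
  .child 24 true 724,
  .child 57 true 724,
  .child 23 false 1028,
  .child 24 false 1028,
  .child 57 false 1028,
  .child 23 true 1028,
  .child 24 true 1028,
  .child 23 false 1793,
  .child 24 false 1793,
  .child 23 true 1793,
  .child 24 true 1793,
  .child 23 true 2297,
  .child 23 false 627,
  .child 57 false 627,
  .child 23 false 1432,
  .child 24 false 1432,
  .child 23 true 1432,
  .child 24 true 1432,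
  .child 23 false 2467,
  .child 24 false 2467,
  .child 23 true 2467,
  .child 24 true 2467,
  .child 57 true 2467,
  .child 23 false 1147,
  .child 57 false 1147,
  .child 57 true 1147,
  .child 24 false 1962,
  .child 23 true 1962,
  .child 24 true 1962,
  .child 57 true 864,
  .child 23 false 548,
  .child 24 false 548,
  .child 23 true 548,
  .child 24 true 548,
  .child 23 true 1441,
  .child 24 true 1441,
  .child 23 false 2367,
  .child 23 true 2367,
  .child 57 false 707,
  .child 57 true 707,
  .child 23 false 1166,
  .child 57 false 1166,
  .child 57 false 3582,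
  .child 57 false 2576,
  .child 24 false 1716,
  .child 24 true 1716,
  .child 57 true 583,
  .child 23 false 2885,
  .child 24 false 2885,
  .child 23 true 2885,
  .child 24 true 2885,
  .child 23 false 1005,
  .child 24 false 1005,
  .child 23 true 1005,
  .child 24 true 1005,
  .child 57 false 2859,
  .child 24 true 2859,
  .child 23 false 1777,
  .child 23 true 1777,
  .child 24 true 1777,
  .child 23 false 1227,
  .child 24 false 1227,
  .child 23 true 1227,
  .child 24 true 1227,
  .child 23 true 3158,
  .child 23 false 2966,
  .child 24 false 2966,
  .child 23 true 2966,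
  .child 24 true 2966,
  .child 23 false 2539,
  .child 23 false 3852,
  .child 24 false 3852,
  .child 23 true 3852,
  .child 24 true 3852,
  .child 57 true 3852,
  .child 57 false 2255,
  .child 57 true 2255,
  .child 24 false 1140,
  .child 23 true 1140,
  .child 24 true 1140,
  .child 23 false 2237,
  .child 57 false 2237,
  .child 23 false 3586,
  .child 24 false 3586,
  .child 23 true 3586,
  .child 24 true 3586,
  .child 57 true 706,
  .child 24 false 3255,
  .child 24 true 3255,
  .child 57 false 2385,
  .child 57 true 2385,
  .child 23 false 3720,
  .child 24 false 3720,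
  .child 23 true 3720,
  .child 24 true 3720]

/-- part 10 of `twTree3` -/
noncomputable def twTree3P10 : List (Leaf) := [
  .child 57 true 486,
  .child 24 false 3392,
  .child 23 true 3392,
  .child 24 true 3392,
  .child 23 false 2310,
  .child 24 false 2310,
  .child 57 false 2310,
  .child 57 true 2310,
  .child 23 false 2410,
  .child 57 false 2410,
  .child 57 true 2410,
  .child 23 false 3408,
  .child 24 false 3293,
  .child 57 false 3293,
  .child 57 true 3293,
  .child 57 false 3179,
  .child 23 true 3179,
  .child 57 true 3179,
  .child 23 false 3228,
  .child 57 false 3228,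
  .child 24 true 3228,
  .child 57 true 3228,
  .child 23 false 3510,
  .child 24 false 3510,
  .child 57 false 3510,
  .child 57 true 3510,
  .child 24 false 953,
  .child 57 false 953,
  .child 24 true 953,
  .child 24 false 2645,
  .child 57 false 2645,
  .child 57 true 2645,
  .child 57 true 1950,
  .child 23 false 3237,
  .child 23 true 3237,
  .child 24 true 3237,
  .child 23 false 3520,
  .child 23 true 3520,
  .child 24 true 3520,
  .child 23 true 2511,
  .child 57 false 3895,
  .child 24 true 3895,
  .child 57 true 3895,
  .child 57 false 3878,
  .child 57 true 3878,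
  .child 57 true 1717,
  .child 57 false 1099,
  .child 57 true 1099,
  .child 24 false 3699,
  .child 57 false 3699,
  .child 57 true 3699,
  .child 57 false 3879,
  .child 24 true 3879,
  .child 57 true 3879,
  .child 23 false 3606,
  .child 57 false 2129,
  .child 23 true 2663,
  .child 23 false 2408,
  .child 57 false 2408,
  .child 57 true 2408,
  .child 23 false 735,
  .child 24 false 735,
  .child 57 false 413,
  .child 24 true 413,
  .child 57 true 413,
  .child 23 false 407,
  .child 57 false 407,
  .child 57 true 407,
  .child 57 true 2759,
  .child 24 true 3548,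
  .child 23 false 3474,
  .child 24 true 3474,
  .child 23 false 971,
  .child 57 false 971,
  .child 23 false 1440,
  .child 24 false 1440,
  .child 57 false 1440,
  .child 57 true 1440,
  .child 24 false 1307,
  .child 57 false 1307,
  .child 24 true 1307,
  .child 57 true 1307,
  .child 23 false 1426,
  .child 57 false 1426,
  .child 57 true 1426,
  .child 23 false 2750,
  .child 24 false 2750,
  .child 23 true 2750,
  .child 24 true 2750,
  .child 23 false 3438,
  .child 24 false 3438,
  .child 23 true 3438,
  .child 24 true 3438,
  .child 23 false 401,
  .child 24 false 401,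
  .child 57 false 401,
  .child 23 true 401,
  .child 57 true 401,
  .child 24 false 2457,
  .child 57 false 2457]

/-- part 11 of `twTree3` -/
noncomputable def twTree3P11 : List (Leaf) := [
  .child 24 true 2457,
  .child 57 true 2457,
  .child 57 false 929,
  .child 23 true 929,
  .child 57 true 929,
  .child 23 false 414,
  .child 57 false 414,
  .child 57 true 414,
  .child 23 false 2407,
  .child 24 false 2407,
  .child 57 false 2407,
  .child 57 true 2407,
  .child 24 false 717,
  .child 57 false 717,
  .child 24 true 717,
  .child 24 true 3832,
  .child 23 false 3295,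
  .child 57 false 3295,
  .child 57 true 3798,
  .child 57 false 3136,
  .child 57 true 3136,
  .child 23 true 2186,
  .child 57 false 2658,
  .child 57 true 2658,
  .child 57 true 2811,
  .child 24 false 2050,
  .child 57 true 2050,
  .child 23 false 3419,
  .child 24 false 3419,
  .child 57 false 3419,
  .child 23 false 2359,
  .child 24 true 2359,
  .child 23 false 645,
  .child 57 false 645,
  .child 24 true 645,
  .child 57 true 645,
  .child 24 false 1891,
  .child 57 false 1891,
  .child 23 true 1891,
  .child 24 true 1891,
  .child 23 false 3579,
  .child 24 false 3579,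
  .child 23 true 3579,
  .child 24 true 3579,
  .child 57 true 1447,
  .child 23 false 2015,
  .child 24 false 2015,
  .child 23 true 2015,
  .child 24 true 2015,
  .child 57 false 2361,
  .child 23 false 208,
  .child 24 false 208,
  .child 23 true 208,
  .child 24 true 208,
  .child 57 true 208,
  .child 57 false 1416,
  .child 57 true 1416,
  .child 24 false 2888,
  .child 23 true 2888,
  .child 24 true 2888,
  .child 23 false 3412,
  .child 24 false 3412,
  .child 23 true 3412,
  .child 24 true 3412,
  .child 57 false 3515,
  .child 57 true 2177,
  .child 57 false 1613,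
  .child 57 true 1613,
  .child 23 false 995,
  .child 57 false 995,
  .child 57 true 995,
  .child 24 false 3557,
  .child 57 false 3557,
  .child 24 false 3204,
  .child 57 false 3204,
  .child 57 true 3204,
  .child 57 true 3187,
  .child 24 false 2365,
  .child 24 true 2365,
  .child 23 false 3287,
  .child 24 false 3287,
  .child 23 true 3287,
  .child 24 true 3287,
  .child 24 false 3617,
  .child 23 true 3617,
  .child 24 true 3617,
  .child 24 false 827,
  .child 57 false 827,
  .child 24 true 827,
  .child 23 true 2486,
  .child 23 false 3435,
  .child 23 true 3435,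
  .child 24 true 3435,
  .child 23 false 2751,
  .child 24 false 2751,
  .child 23 true 2751,
  .child 24 true 2751,
  .child 57 false 2340,
  .child 57 true 2340,
  .child 57 false 510]

/-- part 12 of `twTree3` -/
noncomputable def twTree3P12 : List (Leaf) := [
  .child 24 false 961,
  .child 23 true 961,
  .child 57 true 961,
  .child 57 false 1422,
  .child 24 false 2394,
  .child 57 false 2081,
  .child 24 false 869,
  .child 23 true 2302,
  .child 57 true 1699,
  .child 24 false 2810,
  .child 57 false 346,
  .child 57 false 2389,
  .child 23 false 651,
  .child 23 false 2232,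
  .child 57 false 2232,
  .child 57 true 2232,
  .child 23 false 3022,
  .child 24 false 3022,
  .child 23 true 3022,
  .child 24 true 3022,
  .child 23 false 2027,
  .child 23 true 1511,
  .child 57 true 2570,
  .child 23 true 2621,
  .child 24 true 2621,
  .child 57 false 2230,
  .child 57 false 2559,
  .child 57 true 2559,
  .child 57 true 2433,
  .child 23 false 3504,
  .child 23 true 3504,
  .child 23 false 634,
  .child 57 false 634,
  .child 57 true 634,
  .child 57 false 2184,
  .child 23 false 2300,
  .child 23 true 2300,
  .child 24 true 2300,
  .child 24 true 1403,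
  .child 57 false 828,
  .child 23 true 730,
  .child 23 false 2648,
  .child 24 false 2648,
  .child 23 true 2648,
  .child 57 false 1365,
  .child 23 false 1935,
  .child 23 true 1935,
  .child 24 true 1935,
  .child 23 true 2676,
  .child 24 true 2676,
  .child 23 false 2089,
  .child 24 true 2089,
  .child 24 false 1845,
  .child 57 false 3099,
  .child 57 true 3099,
  .child 23 false 3861,
  .child 57 true 1244,
  .child 24 true 2878,
  .child 23 false 2158,
  .child 24 false 2158,
  .child 23 true 2158,
  .child 24 true 2158,
  .child 57 true 61,
  .child 23 false 1285,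
  .child 57 false 1285,
  .child 24 false 1259,
  .child 57 true 1259,
  .child 57 true 927,
  .child 57 false 442,
  .child 23 false 2249,
  .child 57 false 2249,
  .child 23 false 793,
  .child 23 true 793,
  .child 23 false 2041,
  .child 57 true 3760,
  .child 24 false 3540,
  .child 57 false 3540,
  .child 57 true 3540,
  .child 24 false 3736,
  .child 57 false 3736,
  .child 24 true 3736,
  .child 57 true 3736,
  .child 23 false 3537,
  .child 57 true 3537,
  .child 24 true 3503,
  .child 23 false 3189,
  .child 24 false 3189,
  .child 57 true 2164,
  .child 24 false 3640,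
  .child 57 true 3640,
  .child 24 false 1673,
  .child 57 false 1673,
  .child 57 true 1673,
  .child 23 false 3732,
  .child 24 true 3732,
  .child 23 false 2867,
  .child 24 false 2867,
  .child 23 true 2867,
  .child 24 false 2040,
  .child 23 true 2040]

/-- part 13 of `twTree3` -/
noncomputable def twTree3P13 : List (Leaf) := [
  .child 23 false 1972,
  .child 57 false 1972,
  .child 57 true 1972,
  .child 24 false 3041,
  .child 57 false 3041,
  .child 57 true 3041,
  .child 24 false 2534,
  .child 23 true 2534,
  .child 57 false 1540,
  .child 57 true 1540,
  .child 24 false 2973,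
  .child 57 false 2973,
  .child 57 true 2973,
  .child 24 false 2833,
  .child 24 true 2833,
  .child 57 true 2833,
  .child 57 true 1452,
  .child 57 true 3789,
  .child 24 true 3478,
  .child 57 false 2540,
  .child 57 true 3294,
  .child 57 false 874,
  .child 57 true 740,
  .child 23 true 3776,
  .child 57 true 3776,
  .child 24 true 3371,
  .child 23 false 1371,
  .child 24 false 1371,
  .child 57 false 1371,
  .child 23 true 1371,
  .child 24 true 1371,
  .child 23 false 1352,
  .child 24 false 1352,
  .child 23 true 1352,
  .child 24 true 1352,
  .child 23 false 1494,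
  .child 23 false 191,
  .child 24 false 191,
  .child 23 true 191,
  .child 57 true 191,
  .child 24 false 1043,
  .child 24 true 1043,
  .child 23 false 1461,
  .child 23 true 1461,
  .child 24 true 1461,
  .child 57 false 2139,
  .child 57 false 3330,
  .child 57 true 3330,
  .child 57 false 3322,
  .child 57 true 3322,
  .child 57 false 1934,
  .child 57 false 915,
  .child 57 true 915,
  .child 57 false 1679,
  .child 23 false 451,
  .child 24 false 451,
  .child 23 true 451,
  .child 24 true 451,
  .child 23 false 932,
  .child 24 false 932,
  .child 23 true 932,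
  .child 24 true 932,
  .child 24 true 1045,
  .child 23 false 1636,
  .child 24 false 1636,
  .child 23 true 1636,
  .child 57 false 3680,
  .child 23 true 3800,
  .child 24 true 3800,
  .child 24 false 3709,
  .child 23 true 3709,
  .child 24 true 3709,
  .child 57 false 3174,
  .child 23 false 2908,
  .child 57 false 1408,
  .child 57 true 1408,
  .child 57 true 3034,
  .child 23 false 906,
  .child 24 false 906,
  .child 57 false 906,
  .child 23 true 906,
  .child 24 true 906,
  .child 23 false 3281,
  .child 24 false 3281,
  .child 23 true 3281,
  .child 24 true 3281,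
  .child 23 false 2889,
  .child 24 false 2889,
  .child 23 true 2889,
  .child 24 true 2889,
  .child 23 false 3533,
  .child 24 false 3533,
  .child 23 true 3533,
  .child 57 false 910,
  .child 23 false 2551,
  .child 23 true 2551,
  .child 24 true 2551,
  .child 23 false 1089,
  .child 23 true 1089,
  .child 57 false 2680]

/-- part 14 of `twTree3` -/
noncomputable def twTree3P14 : List (Leaf) := [
  .child 57 false 3345,
  .child 57 true 3345,
  .child 23 true 1852,
  .child 24 false 2179,
  .child 57 true 2179,
  .child 57 false 983,
  .child 57 true 983,
  .child 23 false 2152,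
  .child 23 true 2152,
  .child 24 true 2152,
  .child 23 true 530,
  .child 24 true 530,
  .child 23 true 1002,
  .child 24 false 3903,
  .child 23 true 3903,
  .child 24 true 3903,
  .child 23 false 2907,
  .child 24 false 2907,
  .child 23 true 2907,
  .child 24 true 2907,
  .child 24 false 2542,
  .child 23 true 2542,
  .child 57 true 2471,
  .child 57 false 3596,
  .child 57 true 3596,
  .child 57 true 2458,
  .child 24 false 3558,
  .child 23 true 3558,
  .child 24 true 3558,
  .child 23 false 2450,
  .child 57 false 2450,
  .child 57 true 2450,
  .child 23 false 1370,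
  .child 24 false 1370,
  .child 23 false 2038,
  .child 24 false 826,
  .child 57 false 826,
  .child 24 true 826,
  .child 23 false 1762,
  .child 57 false 1762,
  .child 23 false 682,
  .child 57 false 682,
  .child 24 true 682,
  .child 23 false 2439,
  .child 24 false 2439,
  .child 57 false 2439,
  .child 24 false 872,
  .child 57 false 872,
  .child 24 true 872,
  .child 23 false 2339,
  .child 24 true 2339,
  .child 24 false 3086,
  .child 57 false 3086,
  .child 57 true 3086,
  .child 23 true 2927,
  .child 57 false 1532,
  .child 23 false 1167,
  .child 24 false 1167,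
  .child 57 false 1167,
  .child 57 true 1167,
  .child 57 false 2195,
  .child 24 false 3425,
  .child 57 false 3425,
  .child 57 true 3425,
  .child 23 false 3863,
  .child 57 false 3863,
  .child 57 true 3863,
  .child 23 false 3888,
  .child 57 false 3040,
  .child 57 true 3040,
  .child 24 false 3840,
  .child 24 true 3840,
  .child 23 false 3372,
  .child 24 true 3372,
  .child 57 true 3372,
  .child 57 false 3257,
  .child 23 false 2566,
  .child 23 true 2566,
  .child 24 true 2566,
  .child 23 true 2565,
  .child 57 false 1903,
  .child 57 true 1903,
  .child 23 false 950,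
  .child 57 false 1904,
  .child 24 true 1904,
  .child 57 false 1064,
  .child 23 false 2738,
  .child 24 false 2738,
  .child 23 true 2738,
  .child 24 true 2738,
  .child 23 false 3289,
  .child 24 false 3289,
  .child 24 false 2625,
  .child 57 false 2625,
  .child 57 false 951,
  .child 24 true 951,
  .child 57 true 1912,
  .child 23 true 1900,
  .child 24 true 1900,
  .child 57 true 484]

/-- part 15 of `twTree3` -/
noncomputable def twTree3P15 : List (Leaf) := [
  .child 23 true 1896,
  .child 24 true 1896,
  .child 23 false 2161,
  .child 23 true 2161,
  .child 24 true 2161,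
  .child 23 false 2929,
  .child 24 false 2929,
  .child 23 true 2929,
  .child 24 true 2929,
  .child 24 false 1612,
  .child 23 true 3283,
  .child 24 true 3283,
  .child 57 false 1923,
  .child 57 false 3254,
  .child 24 true 3254,
  .child 57 true 3254,
  .child 57 false 2541,
  .child 23 true 1808,
  .child 24 true 1808,
  .child 23 true 2819,
  .child 24 true 2819,
  .child 24 false 1687,
  .child 23 true 1687,
  .child 24 true 1687,
  .child 57 true 3572,
  .child 23 false 3693,
  .child 24 false 3693,
  .child 57 true 3693,
  .child 57 true 2813,
  .child 24 false 3049,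
  .child 24 true 3049,
  .child 23 false 3265,
  .child 57 false 3265,
  .child 24 false 3490,
  .child 57 false 3300,
  .child 24 true 3300,
  .child 57 true 3300,
  .child 57 true 1584,
  .child 24 false 3418,
  .child 57 true 3418,
  .child 57 false 1901,
  .child 23 false 631,
  .child 57 true 631,
  .child 24 true 2012,
  .child 23 false 1801,
  .child 23 false 2939,
  .child 57 true 2939,
  .child 23 false 775,
  .child 57 false 2473,
  .child 24 true 2473,
  .child 57 true 2473,
  .child 57 false 3229,
  .child 24 true 3229,
  .child 57 true 3229,
  .child 23 false 722,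
  .child 24 false 722,
  .child 23 true 722,
  .child 24 false 179,
  .child 23 true 179,
  .child 57 true 614,
  .child 57 false 764,
  .child 57 true 764,
  .child 57 false 2366,
  .child 23 false 326,
  .child 24 false 326,
  .child 23 true 326,
  .child 24 true 326,
  .child 23 false 1254,
  .child 24 false 1254,
  .child 23 true 1254,
  .child 24 true 1254,
  .child 24 true 1541,
  .child 23 false 955,
  .child 23 false 2141,
  .child 24 false 2141,
  .child 23 true 2141,
  .child 23 true 3718,
  .child 57 true 1606,
  .child 24 false 3855,
  .child 23 true 3855,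
  .child 23 false 2217,
  .child 23 true 2217,
  .child 24 true 2217,
  .child 23 true 3794,
  .child 24 true 3794,
  .child 23 false 3368,
  .child 24 false 3368,
  .child 23 true 3368,
  .child 57 false 2943,
  .child 23 true 3765,
  .child 57 true 1468,
  .child 23 false 2976,
  .child 57 true 1414,
  .child 24 false 3807,
  .child 23 true 3807,
  .child 24 true 3807,
  .child 57 false 1879,
  .child 57 true 3667,
  .child 57 false 3835,
  .child 57 true 1311]

/-- part 16 of `twTree3` -/
noncomputable def twTree3P16 : List (Leaf) := [
  .child 57 false 1077,
  .child 24 false 2401,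
  .child 23 true 2401,
  .child 23 false 2598,
  .child 24 false 2598,
  .child 23 false 132,
  .child 24 false 132,
  .child 57 false 132,
  .child 23 false 1044,
  .child 24 false 465,
  .child 57 false 465,
  .child 24 true 465,
  .child 57 true 465,
  .child 57 false 2874,
  .child 23 true 2874,
  .child 57 true 2874,
  .child 23 false 564,
  .child 57 false 564,
  .child 57 true 564,
  .child 23 false 2293,
  .child 24 false 2293,
  .child 57 false 2293,
  .child 57 true 2293,
  .child 24 false 2305,
  .child 24 true 2305,
  .child 57 true 2305,
  .child 57 false 1382,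
  .child 57 true 1382,
  .child 23 false 3411,
  .child 24 false 3411,
  .child 57 false 3411,
  .child 23 false 2128,
  .child 57 false 2128,
  .child 57 true 2128,
  .child 57 false 777,
  .child 24 false 3683,
  .child 57 false 3683,
  .child 24 true 3683,
  .child 57 true 3683,
  .child 57 true 1190,
  .child 23 false 3413,
  .child 57 false 3413,
  .child 57 true 3413,
  .child 23 false 1734,
  .child 57 false 1734,
  .child 57 true 1734,
  .child 24 false 2430,
  .child 24 true 2430,
  .child 57 false 2307,
  .child 57 true 2307,
  .child 23 false 1111,
  .child 23 true 1111,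
  .child 24 true 1111,
  .child 23 false 2253,
  .child 23 false 3641,
  .child 24 false 3641,
  .child 24 false 619,
  .child 57 false 619,
  .child 24 true 619,
  .child 57 true 619,
  .child 57 false 3599,
  .child 23 false 3876,
  .child 57 true 3876,
  .child 23 false 1129,
  .child 24 false 1129,
  .child 57 false 1129,
  .child 24 false 1242,
  .child 57 false 1242,
  .child 24 true 1242,
  .child 57 true 1242,
  .child 57 false 2869,
  .child 57 true 2869,
  .child 23 false 2957,
  .child 23 true 2957,
  .child 24 true 2957,
  .child 23 false 2854,
  .child 24 false 2854,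
  .child 23 true 2854,
  .child 24 true 2854,
  .child 23 false 2595,
  .child 24 false 2595,
  .child 57 false 2595,
  .child 57 true 2595,
  .child 24 false 2312,
  .child 24 true 2312,
  .child 57 false 3609,
  .child 23 true 3609,
  .child 57 true 3609,
  .child 23 true 3079,
  .child 23 false 1184,
  .child 57 false 1184,
  .child 57 true 1184,
  .child 23 false 2127,
  .child 24 false 2127,
  .child 24 true 1128,
  .child 57 true 2591,
  .child 57 true 1383,
  .child 23 true 2335,
  .child 23 true 1594,
  .child 23 true 3054]

/-- part 17 of `twTree3` -/
noncomputable def twTree3P17 : List (Leaf) := [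
  .child 24 false 3762,
  .child 23 true 3762,
  .child 24 true 3762,
  .child 23 false 3562,
  .child 24 false 3562,
  .child 57 true 3562,
  .child 23 false 3847,
  .child 24 false 3847,
  .child 57 false 2849,
  .child 24 true 2849,
  .child 57 true 2849,
  .child 57 true 555,
  .child 23 false 3890,
  .child 24 false 1652,
  .child 57 false 1652,
  .child 57 true 1652,
  .child 24 false 3684,
  .child 57 false 3684,
  .child 24 true 3684,
  .child 57 true 3684,
  .child 23 false 1154,
  .child 57 false 1154,
  .child 24 false 1211,
  .child 23 false 2593,
  .child 57 false 2593,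
  .child 23 false 1243,
  .child 24 false 1153,
  .child 57 true 3316,
  .child 23 false 1135,
  .child 23 false 3881,
  .child 24 false 3881,
  .child 57 false 3881,
  .child 24 false 3745,
  .child 57 false 3745,
  .child 24 true 3745,
  .child 57 true 3745,
  .child 57 true 3032,
  .child 23 false 3462,
  .child 57 true 3462,
  .child 23 false 3374,
  .child 24 false 3374,
  .child 24 false 3696,
  .child 57 false 3696,
  .child 24 true 3696,
  .child 57 true 3696,
  .child 57 false 2306,
  .child 57 true 2306,
  .child 23 false 1183,
  .child 24 false 1183,
  .child 23 true 1183,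
  .child 24 false 1208,
  .child 23 true 1208,
  .child 23 false 3856,
  .child 57 false 3856,
  .child 57 true 3856,
  .child 24 false 3904,
  .child 57 false 3904,
  .child 24 true 3904,
  .child 57 true 3904,
  .child 57 false 1219,
  .child 57 true 1219,
  .child 24 false 2512,
  .child 23 true 2512,
  .child 23 false 2644,
  .child 57 false 2644,
  .child 57 true 2644,
  .child 23 false 2905,
  .child 24 false 2905,
  .child 57 false 2905,
  .child 57 true 2905,
  .child 24 false 2988,
  .child 57 false 2988,
  .child 24 true 2988,
  .child 23 true 3621,
  .child 57 true 3530,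
  .child 57 false 1155,
  .child 57 true 1155,
  .child 57 true 3236,
  .child 57 false 3505,
  .child 23 true 2451,
  .child 57 false 3604,
  .child 23 false 1788,
  .child 23 false 1783,
  .child 24 false 1783,
  .child 57 false 1783,
  .child 23 true 1783,
  .child 23 true 2392,
  .child 24 true 2392,
  .child 24 false 990,
  .child 23 false 2721,
  .child 24 false 2721,
  .child 23 false 3182,
  .child 24 false 3182,
  .child 24 true 1195,
  .child 24 false 545,
  .child 24 true 545,
  .child 23 true 1204,
  .child 24 true 1204,
  .child 57 true 1799,
  .child 23 false 3465]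

/-- part 18 of `twTree3` -/
noncomputable def twTree3P18 : List (Leaf) := [
  .child 24 false 3465,
  .child 24 true 2692,
  .child 23 false 1735,
  .child 23 false 1209,
  .child 24 true 1209,
  .child 23 false 1812,
  .child 24 false 1812,
  .child 24 false 2940,
  .child 57 false 2940,
  .child 57 true 2754,
  .child 23 true 3752,
  .child 57 true 2877,
  .child 24 false 2589,
  .child 24 true 3325,
  .child 24 true 3691,
  .child 23 false 2326,
  .child 24 false 3899,
  .child 24 true 3165,
  .child 24 true 1063,
  .child 57 true 822,
  .child 57 false 916,
  .child 23 true 916,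
  .child 23 false 2349,
  .child 23 true 2349,
  .child 24 true 2349,
  .child 57 false 680,
  .child 24 true 680,
  .child 23 false 3611,
  .child 24 false 3611,
  .child 23 false 135,
  .child 24 true 135,
  .child 24 true 3854,
  .child 23 true 2980,
  .child 24 true 2980,
  .child 24 false 647,
  .child 57 false 647,
  .child 23 true 2906,
  .child 24 true 2906,
  .child 23 false 1504,
  .child 57 true 1589,
  .child 57 false 925,
  .child 57 true 925,
  .child 57 false 3754,
  .child 57 true 3754,
  .child 57 false 3057,
  .child 57 true 3514,
  .child 57 true 3215,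
  .child 57 false 2834,
  .child 57 true 2834,
  .child 57 true 1967,
  .child 24 true 908,
  .child 57 false 2336,
  .child 57 true 2336,
  .child 23 false 3149,
  .child 23 true 3149,
  .child 24 true 3149,
  .child 23 false 3093,
  .child 24 true 159,
  .child 24 false 999,
  .child 23 false 1998,
  .child 24 false 3652,
  .child 23 false 1491,
  .child 24 false 536,
  .child 23 true 536,
  .child 23 true 917,
  .child 57 true 1895,
  .child 24 false 3563,
  .child 23 true 1100,
  .child 57 true 3343,
  .child 24 false 3467,
  .child 57 false 3467,
  .child 57 true 3467,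
  .child 57 false 2571,
  .child 57 true 2571,
  .child 57 false 2500,
  .child 57 true 2500,
  .child 57 false 587,
  .child 23 false 1529,
  .child 57 true 1529,
  .child 57 false 3803,
  .child 57 true 3803,
  .child 57 true 1745,
  .child 24 false 3717,
  .child 57 false 3717,
  .child 57 true 3717,
  .child 57 false 2360,
  .child 57 true 2360,
  .child 23 false 1743,
  .child 57 false 1743,
  .child 57 true 1743,
  .child 23 false 855,
  .child 24 false 2975,
  .child 23 false 230,
  .child 57 false 230,
  .child 57 true 3259,
  .child 24 false 205,
  .child 23 false 3441,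
  .child 24 false 1667,
  .child 23 true 1667,
  .child 57 true 1667]

/-- part 19 of `twTree3` -/
noncomputable def twTree3P19 : List (Leaf) := [
  .child 24 true 1752,
  .child 57 true 184,
  .child 23 false 3626,
  .child 23 false 1742,
  .child 57 false 1742,
  .child 57 true 1742,
  .child 24 false 1674,
  .child 24 true 1674,
  .child 57 true 1654,
  .child 23 false 3742,
  .child 23 true 2779,
  .child 23 true 1430,
  .child 24 true 1430,
  .child 23 false 1361,
  .child 24 true 1361,
  .child 23 true 1513,
  .child 24 true 1513,
  .child 57 true 509,
  .child 57 false 3080,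
  .child 57 true 3080,
  .child 57 true 3351,
  .child 24 false 1458,
  .child 24 true 3081,
  .child 23 false 1586,
  .child 23 false 3727,
  .child 23 false 1741,
  .child 24 false 1587,
  .child 57 true 1587,
  .child 23 false 2062,
  .child 23 false 2137,
  .child 23 true 2137,
  .child 23 false 3024,
  .child 23 false 1512,
  .child 24 true 3020,
  .child 23 true 2981,
  .child 23 false 2880,
  .child 23 true 2880,
  .child 23 true 3482,
  .child 24 true 3482,
  .child 23 true 2357,
  .child 57 true 3669,
  .child 23 true 1230,
  .child 23 true 549,
  .child 24 true 549,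
  .child 23 false 3499,
  .child 57 false 3083,
  .child 57 true 3083,
  .child 57 true 3258,
  .child 57 false 207,
  .child 57 false 3231,
  .child 24 true 1902,
  .child 57 false 2668,
  .child 57 false 3755,
  .child 24 false 3344,
  .child 23 true 2426,
  .child 23 false 1859,
  .child 57 false 986,
  .child 24 true 2309,
  .child 24 false 811,
  .child 23 false 1885,
  .child 23 true 1160,
  .child 23 true 171,
  .child 57 false 2160,
  .child 24 false 643,
  .child 23 false 1643,
  .child 57 true 1643,
  .child 57 false 3251,
  .child 57 false 3526,
  .child 57 true 3526,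
  .child 57 true 1651,
  .child 24 false 3527,
  .child 23 false 3535,
  .child 23 true 1164,
  .child 24 true 1164,
  .child 23 true 2714,
  .child 23 true 973,
  .child 24 true 973,
  .child 24 true 3846,
  .child 23 false 871,
  .child 24 false 871,
  .child 57 true 871,
  .child 23 false 418,
  .child 57 false 418,
  .child 24 false 1314,
  .child 24 true 1314,
  .child 23 false 428,
  .child 23 false 819,
  .child 57 true 819,
  .child 24 false 1722,
  .child 57 false 1722,
  .child 24 true 1722,
  .child 57 false 924,
  .child 57 true 924,
  .child 24 false 1770,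
  .child 57 false 1931,
  .child 57 true 1931,
  .child 57 false 1605,
  .child 57 false 3285,
  .child 57 true 3285,
  .child 24 true 2248]

/-- part 20 of `twTree3` -/
noncomputable def twTree3P20 : List (Leaf) := [
  .child 24 true 176,
  .child 23 true 2443,
  .child 23 false 1373,
  .child 24 false 1373,
  .child 24 true 1373,
  .child 23 false 3842,
  .child 23 false 1413,
  .child 57 false 1413,
  .child 57 true 1413,
  .child 23 false 969,
  .child 57 true 969,
  .child 24 false 820,
  .child 24 true 820,
  .child 23 true 888,
  .child 23 false 1019,
  .child 24 false 1434,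
  .child 24 true 1434,
  .child 23 false 3366,
  .child 57 true 3831,
  .child 57 false 1142,
  .child 24 true 1142,
  .child 57 true 1142,
  .child 23 true 3262,
  .child 23 false 1642,
  .child 23 true 1642,
  .child 23 false 556,
  .child 23 false 3313,
  .child 57 false 3313,
  .child 24 false 1180,
  .child 57 true 181,
  .child 23 false 1995,
  .child 57 true 1995,
  .child 23 false 2528,
  .child 24 false 1086,
  .child 24 true 1086,
  .child 57 false 3004,
  .child 57 true 3004,
  .child 23 false 1113,
  .child 24 false 3227,
  .child 57 true 1118,
  .child 23 false 2984,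
  .child 57 false 2984,
  .child 24 false 3415,
  .child 23 true 2820,
  .child 23 false 2788,
  .child 24 false 3451,
  .child 57 true 3451,
  .child 57 false 546,
  .child 57 true 546,
  .child 23 false 1332,
  .child 57 true 1332,
  .child 24 false 2447,
  .child 23 true 2447,
  .child 24 true 2447,
  .child 23 true 1346,
  .child 57 false 3221,
  .child 57 true 3222,
  .child 23 false 3647,
  .child 23 false 3143,
  .child 57 false 3143,
  .child 23 false 3749,
  .child 24 false 3612,
  .child 57 true 3612,
  .child 24 false 3140,
  .child 24 false 3767,
  .child 57 false 3048,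
  .child 57 true 3048,
  .child 24 true 2930,
  .child 23 false 1363,
  .child 24 false 1363,
  .child 23 true 3333,
  .child 24 true 1292,
  .child 23 false 3133,
  .child 23 true 1372,
  .child 57 false 1103,
  .child 23 true 2586,
  .child 23 false 3685,
  .child 23 false 3405,
  .child 24 false 3405,
  .child 24 true 3788,
  .child 57 true 3788,
  .child 24 true 3299,
  .child 24 true 3549,
  .child 24 false 3872,
  .child 23 true 2112,
  .child 23 false 3037,
  .child 57 true 3889,
  .child 57 false 2557,
  .child 57 true 620,
  .child 57 true 757,
  .child 57 true 3473,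
  .child 57 false 3390,
  .child 57 true 3744,
  .child 23 true 2594,
  .child 24 true 2594,
  .child 23 true 140,
  .child 23 false 3768,
  .child 23 true 3769,
  .child 23 false 1631,
  .child 23 true 3253]

/-- part 21 of `twTree3` -/
noncomputable def twTree3P21 : List (Leaf) := [
  .child 24 true 3253,
  .child 24 false 1610,
  .child 57 false 2530,
  .child 57 true 2530,
  .child 24 false 3638,
  .child 23 true 749,
  .child 23 false 174,
  .child 24 false 433,
  .child 57 false 3539,
  .child 57 true 3539,
  .child 23 true 2882,
  .child 23 true 3799,
  .child 57 true 2459,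
  .child 24 true 1194,
  .child 57 true 997,
  .child 24 true 438,
  .child 57 false 831,
  .child 23 false 970,
  .child 24 true 2846,
  .child 57 false 3608,
  .child 23 true 3608,
  .child 23 false 2823,
  .child 23 true 1905,
  .child 24 false 1672,
  .child 23 true 2886,
  .child 57 true 913,
  .child 57 true 2334,
  .child 24 true 1181,
  .child 57 false 3350,
  .child 24 true 2657,
  .child 23 false 467,
  .child 24 false 467,
  .child 24 true 2671,
  .child 57 false 3036,
  .child 23 false 3778,
  .child 57 false 567,
  .child 23 true 3875,
  .child 24 false 1814,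
  .child 23 true 653,
  .child 57 false 2563,
  .child 57 true 3485,
  .child 57 false 751,
  .root 3,
  .child 23 false 2194,
  .child 24 false 2194,
  .child 57 false 2194,
  .child 23 true 2194,
  .child 57 true 2194,
  .child 57 false 3897,
  .child 57 false 3902,
  .child 23 false 2324,
  .child 23 true 2324,
  .child 24 true 2324,
  .child 23 false 2371,
  .child 23 true 2371,
  .child 24 true 2371,
  .child 23 false 2247,
  .child 23 true 2247,
  .child 24 true 2247,
  .child 23 false 2369,
  .child 23 true 2369,
  .child 24 true 2369,
  .child 23 false 503,
  .child 57 false 503,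
  .child 57 true 503,
  .child 24 false 506,
  .child 57 false 506,
  .child 24 true 506,
  .child 57 true 506,
  .child 57 false 1304,
  .child 57 true 1304,
  .child 23 false 501,
  .child 57 false 501,
  .child 57 true 501,
  .child 24 false 504,
  .child 57 true 504,
  .child 57 false 663,
  .child 57 true 663,
  .child 57 false 505,
  .child 24 false 62,
  .child 57 false 62,
  .child 24 true 62,
  .child 57 true 62,
  .child 57 false 507,
  .child 24 false 502,
  .child 57 true 502,
  .child 23 false 1726,
  .child 24 false 1726,
  .child 23 true 1726,
  .child 24 true 1726,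
  .child 23 false 2904,
  .child 24 false 2904,
  .child 23 true 2904,
  .child 24 true 2904,
  .child 24 false 699,
  .child 23 true 699,
  .child 24 true 699,
  .child 24 false 3118,
  .child 23 true 3118,
  .child 24 true 3118]

/-- part 22 of `twTree3` -/
noncomputable def twTree3P22 : List (Leaf) := [
  .child 24 false 1737,
  .child 23 true 1737,
  .child 24 true 1737,
  .child 23 false 2734,
  .child 24 false 2734,
  .child 23 true 2734,
  .child 24 true 2734,
  .child 23 false 2946,
  .child 23 true 2946,
  .child 24 true 2946,
  .child 23 false 2730,
  .child 24 false 2730,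
  .child 23 true 2730,
  .child 24 true 2730,
  .child 24 false 1714,
  .child 23 true 1714,
  .child 24 true 1714,
  .child 24 false 3132,
  .child 23 true 3132,
  .child 24 true 3132,
  .child 23 false 2399,
  .child 23 true 2399,
  .child 24 true 2399,
  .child 24 false 1838,
  .child 23 true 1838,
  .child 24 true 1838,
  .child 23 true 3335,
  .child 24 true 3335,
  .child 23 true 2944,
  .child 24 true 2944,
  .child 23 true 3112,
  .child 24 true 3112,
  .child 23 true 2508,
  .child 24 true 2508,
  .child 23 false 2400,
  .child 57 false 2400,
  .child 57 true 2400,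
  .child 23 false 3624,
  .child 57 false 3624,
  .child 57 true 3624,
  .child 24 false 1003,
  .child 57 false 1003,
  .child 24 true 1003,
  .child 57 true 1003,
  .child 57 false 1549,
  .child 57 true 1549,
  .child 23 false 1919,
  .child 57 false 1919,
  .child 57 true 1919,
  .child 23 false 2974,
  .child 57 false 2974,
  .child 57 true 2974,
  .child 24 false 3298,
  .child 57 false 3298,
  .child 24 true 3298,
  .child 57 true 3298,
  .child 57 false 883,
  .child 57 true 883,
  .child 57 false 1729,
  .child 57 true 1729,
  .child 24 false 3723,
  .child 57 false 3723,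
  .child 24 true 3723,
  .child 57 true 3723,
  .child 57 false 2061,
  .child 23 false 2107,
  .child 57 false 2107,
  .child 57 true 2107,
  .child 24 false 2014,
  .child 57 false 2014,
  .child 24 true 2014,
  .child 57 true 2014,
  .child 57 false 496,
  .child 57 true 496,
  .child 23 false 2095,
  .child 57 false 2095,
  .child 57 true 2095,
  .child 24 false 3304,
  .child 57 false 3304,
  .child 57 true 3304,
  .child 57 false 844,
  .child 57 true 844,
  .child 23 false 3724,
  .child 57 false 3724,
  .child 57 true 3724,
  .child 23 false 1939,
  .child 57 false 1939,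
  .child 57 true 1939,
  .child 24 false 2524,
  .child 57 false 2524,
  .child 57 true 2524,
  .child 57 true 1510,
  .child 23 false 3338,
  .child 57 false 3338,
  .child 24 false 1728,
  .child 57 true 1728,
  .child 57 true 1711,
  .child 23 false 3642,
  .child 57 false 3642,
  .child 57 false 2901]

/-- part 23 of `twTree3` -/
noncomputable def twTree3P23 : List (Leaf) := [
  .child 24 false 2615,
  .child 57 true 2615,
  .child 57 false 3377,
  .child 57 true 3377,
  .child 24 false 3493,
  .child 57 false 3493,
  .child 24 true 3493,
  .child 57 true 3493,
  .child 23 false 3666,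
  .child 57 false 3666,
  .child 24 false 1918,
  .child 57 false 1918,
  .child 57 true 1918,
  .child 57 true 498,
  .child 57 false 2757,
  .child 57 true 2757,
  .child 24 false 3382,
  .child 57 false 3382,
  .child 57 true 3382,
  .child 57 false 3383,
  .child 24 false 3044,
  .child 57 true 3044,
  .child 24 false 3636,
  .child 57 true 3636,
  .child 24 false 3389,
  .child 57 true 3389,
  .child 24 false 1938,
  .child 57 true 1938,
  .child 24 false 2758,
  .child 57 true 2758,
  .child 23 false 3178,
  .child 23 true 3220,
  .child 24 true 3220,
  .child 24 false 3568,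
  .child 23 true 3568,
  .child 24 true 3568,
  .child 23 false 3404,
  .child 24 false 3404,
  .child 23 true 3007,
  .child 24 true 3007,
  .child 24 false 2899,
  .child 23 true 2899,
  .child 24 true 2899,
  .child 23 false 3131,
  .child 24 true 1033,
  .child 24 false 1486,
  .child 23 true 1486,
  .child 24 true 1486,
  .child 23 false 3564,
  .child 23 false 2402,
  .child 24 false 3008,
  .child 23 true 3008,
  .child 24 true 3008,
  .child 23 false 1119,
  .child 24 false 1119,
  .child 24 true 1481,
  .child 23 false 2926,
  .child 23 true 3844,
  .child 23 false 2852,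
  .child 24 false 2852,
  .child 23 true 3000,
  .child 24 true 3000,
  .child 23 true 1453,
  .child 23 true 3247,
  .child 23 true 3569,
  .child 24 false 3012,
  .child 23 true 3012,
  .child 23 false 3194,
  .child 23 false 3734,
  .child 23 false 1172,
  .child 24 false 1662,
  .child 23 true 1662,
  .child 24 true 1662,
  .child 23 true 2121,
  .child 24 true 2121,
  .child 23 false 3207,
  .child 24 false 3207,
  .child 23 false 613,
  .child 24 true 2029,
  .child 23 false 3894,
  .child 23 true 3896,
  .child 23 true 3892,
  .child 24 true 3892,
  .child 23 false 2781,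
  .child 23 true 3009,
  .child 23 true 3891,
  .child 23 true 1455,
  .child 23 true 3208,
  .child 24 true 3208,
  .child 23 true 782,
  .child 23 false 2923,
  .child 23 true 2898,
  .child 23 true 3248,
  .child 23 true 3195,
  .root 4,
  .child 23 false 19,
  .child 24 false 19,
  .child 57 false 19,
  .child 23 true 19,
  .child 24 true 19]

/-- part 24 of `twTree3` -/
noncomputable def twTree3P24 : List (Leaf) := [
  .child 57 true 19,
  .child 23 false 18,
  .child 24 false 18,
  .child 57 false 18,
  .child 24 true 18,
  .child 57 true 18,
  .child 23 false 130,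
  .child 24 false 130,
  .child 57 false 130,
  .child 23 true 130,
  .child 57 true 130,
  .child 23 false 29,
  .child 24 false 29,
  .child 57 false 29,
  .child 23 true 29,
  .child 24 false 68,
  .child 57 false 68,
  .child 24 true 68,
  .child 57 true 68,
  .child 23 false 387,
  .child 57 false 387,
  .child 23 true 387,
  .child 24 true 387,
  .child 57 true 387,
  .child 23 false 46,
  .child 24 false 46,
  .child 24 true 46,
  .child 57 true 46,
  .child 24 false 69,
  .child 57 false 69,
  .child 24 true 69,
  .child 57 true 69,
  .child 23 false 105,
  .child 57 false 105,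
  .child 23 true 105,
  .child 57 true 105,
  .child 23 false 1534,
  .child 24 false 1534,
  .child 57 false 1534,
  .child 23 true 1534,
  .child 24 true 1534,
  .child 23 false 129,
  .child 57 false 129,
  .child 23 true 129,
  .child 24 true 129,
  .child 57 true 129,
  .child 23 false 1505,
  .child 24 false 1505,
  .child 23 true 1505,
  .child 24 true 1505,
  .child 57 true 1505,
  .child 23 false 71,
  .child 24 false 71,
  .child 57 false 71,
  .child 24 true 71,
  .child 57 true 71,
  .child 23 false 603,
  .child 24 false 603,
  .child 57 false 603,
  .child 23 true 603,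
  .child 23 false 2260,
  .child 24 false 2260,
  .child 57 false 2260,
  .child 23 true 2260,
  .child 24 true 2260,
  .child 24 false 591,
  .child 57 false 591,
  .child 24 true 591,
  .child 57 true 591,
  .child 23 false 2331,
  .child 24 false 2331,
  .child 23 true 2331,
  .child 24 true 2331,
  .child 24 false 37,
  .child 57 false 37,
  .child 57 true 37,
  .child 23 false 241,
  .child 24 false 241,
  .child 57 false 241,
  .child 23 false 124,
  .child 24 false 124,
  .child 57 false 124,
  .child 23 true 124,
  .child 57 false 23,
  .child 57 true 23,
  .child 23 false 276,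
  .child 24 false 276,
  .child 57 false 276,
  .child 23 true 276,
  .child 57 true 276,
  .child 23 false 2922,
  .child 24 false 2922,
  .child 23 true 2922,
  .child 24 true 2922,
  .child 23 false 104,
  .child 57 false 104,
  .child 23 true 104,
  .child 57 true 104,
  .child 23 false 1834,
  .child 24 false 1834]

/-- part 25 of `twTree3` -/
noncomputable def twTree3P25 : List (Leaf) := [
  .child 23 true 1834,
  .child 24 true 1834,
  .child 57 true 1834,
  .child 23 false 90,
  .child 24 false 90,
  .child 57 false 90,
  .child 24 true 90,
  .child 57 true 90,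
  .child 24 false 1829,
  .child 57 false 1829,
  .child 23 true 1829,
  .child 24 true 1829,
  .child 57 true 118,
  .child 57 false 228,
  .child 24 true 228,
  .child 23 false 3649,
  .child 24 false 3649,
  .child 23 true 3649,
  .child 24 true 3649,
  .child 57 false 43,
  .child 24 true 43,
  .child 57 true 43,
  .child 23 false 20,
  .child 57 false 20,
  .child 57 true 20,
  .child 23 false 32,
  .child 24 false 361,
  .child 23 true 361,
  .child 57 true 361,
  .child 57 false 626,
  .child 23 true 626,
  .child 57 true 626,
  .child 24 false 87,
  .child 24 true 87,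
  .child 23 false 275,
  .child 57 false 275,
  .child 24 true 275,
  .child 57 true 275,
  .child 23 false 102,
  .child 57 true 102,
  .child 23 false 214,
  .child 57 false 214,
  .child 24 true 214,
  .child 57 true 214,
  .child 23 false 2266,
  .child 24 false 2266,
  .child 23 true 2266,
  .child 24 true 2266,
  .child 24 false 70,
  .child 57 false 70,
  .child 24 true 70,
  .child 57 true 70,
  .child 24 false 1212,
  .child 23 true 1212,
  .child 24 true 1212,
  .child 23 false 796,
  .child 24 false 796,
  .child 57 false 796,
  .child 57 true 796,
  .child 23 false 3039,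
  .child 24 false 3039,
  .child 57 false 3039,
  .child 23 true 3039,
  .child 57 true 3039,
  .child 23 false 360,
  .child 57 false 360,
  .child 24 false 2684,
  .child 57 false 2684,
  .child 24 true 2684,
  .child 57 true 2684,
  .child 23 false 2063,
  .child 57 false 2063,
  .child 23 true 2063,
  .child 57 true 2063,
  .child 24 false 576,
  .child 57 false 576,
  .child 57 false 38,
  .child 23 true 38,
  .child 24 true 38,
  .child 24 false 907,
  .child 57 true 907,
  .child 23 false 72,
  .child 57 false 72,
  .child 24 true 72,
  .child 23 false 238,
  .child 23 false 3469,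
  .child 57 false 3469,
  .child 24 true 3469,
  .child 57 true 3469,
  .child 23 false 1520,
  .child 24 false 1520,
  .child 57 false 1520,
  .child 57 true 1520,
  .child 24 false 3591,
  .child 57 false 3591,
  .child 24 true 3591,
  .child 57 true 3591,
  .child 23 false 2083,
  .child 57 false 2083,
  .child 24 true 2083]

/-- part 26 of `twTree3` -/
noncomputable def twTree3P26 : List (Leaf) := [
  .child 57 true 2083,
  .child 24 false 86,
  .child 57 true 86,
  .child 24 false 210,
  .child 57 false 210,
  .child 24 true 210,
  .child 57 true 210,
  .child 57 true 85,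
  .child 23 true 274,
  .child 24 false 952,
  .child 57 true 952,
  .child 57 false 74,
  .child 57 true 74,
  .child 23 false 2794,
  .child 24 false 2794,
  .child 23 true 2794,
  .child 24 true 2794,
  .child 57 false 88,
  .child 24 true 88,
  .child 57 true 88,
  .child 23 false 684,
  .child 24 false 684,
  .child 57 false 684,
  .child 57 true 684,
  .child 23 false 1236,
  .child 57 false 1236,
  .child 57 true 1236,
  .child 57 false 304,
  .child 24 false 2610,
  .child 57 false 2610,
  .child 24 true 2610,
  .child 57 true 2610,
  .child 23 false 2073,
  .child 57 false 2073,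
  .child 23 true 2073,
  .child 57 true 2073,
  .child 23 false 581,
  .child 57 false 581,
  .child 57 true 581,
  .child 57 false 107,
  .child 57 true 107,
  .child 23 false 142,
  .child 57 false 142,
  .child 57 true 142,
  .child 23 false 2912,
  .child 57 false 2912,
  .child 57 true 2912,
  .child 24 false 3361,
  .child 57 false 3361,
  .child 24 true 3361,
  .child 57 true 3361,
  .child 23 false 1318,
  .child 57 false 1318,
  .child 24 true 1318,
  .child 57 true 1318,
  .child 23 false 27,
  .child 57 true 27,
  .child 23 false 245,
  .child 24 false 245,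
  .child 23 true 245,
  .child 24 true 245,
  .child 23 false 243,
  .child 24 false 243,
  .child 23 true 243,
  .child 24 true 243,
  .child 57 false 577,
  .child 57 false 95,
  .child 23 false 362,
  .child 24 false 362,
  .child 23 true 362,
  .child 24 true 362,
  .child 23 false 273,
  .child 23 true 273,
  .child 24 true 273,
  .child 23 false 359,
  .child 57 false 359,
  .child 57 true 359,
  .child 23 false 117,
  .child 23 false 2271,
  .child 23 true 2271,
  .child 24 true 2271,
  .child 57 false 226,
  .child 23 false 815,
  .child 23 true 815,
  .child 23 false 3162,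
  .child 57 false 3162,
  .child 57 true 3162,
  .child 23 false 1943,
  .child 24 false 1943,
  .child 57 false 1943,
  .child 23 true 1943,
  .child 57 true 1943,
  .child 24 false 1712,
  .child 57 false 1712,
  .child 24 true 1712,
  .child 57 true 1712,
  .child 23 false 1708,
  .child 57 false 1708,
  .child 57 true 1708,
  .child 23 false 211]

/-- part 27 of `twTree3` -/
noncomputable def twTree3P27 : List (Leaf) := [
  .child 57 true 211,
  .child 24 false 773,
  .child 57 false 773,
  .child 23 false 106,
  .child 23 false 1926,
  .child 57 false 1926,
  .child 57 true 1926,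
  .child 23 false 636,
  .child 24 false 636,
  .child 57 false 636,
  .child 57 true 636,
  .child 24 false 2994,
  .child 57 false 2994,
  .child 24 true 2994,
  .child 57 true 2994,
  .child 23 false 2375,
  .child 57 false 2375,
  .child 24 true 2375,
  .child 57 true 2375,
  .child 23 true 552,
  .child 57 true 552,
  .child 57 false 103,
  .child 24 true 103,
  .child 57 true 103,
  .child 23 false 2832,
  .child 24 false 2832,
  .child 23 true 2832,
  .child 24 true 2832,
  .child 57 false 607,
  .child 23 false 3144,
  .child 24 false 3144,
  .child 23 true 3144,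
  .child 24 true 3144,
  .child 23 false 1837,
  .child 24 false 1837,
  .child 57 false 1837,
  .child 23 true 1837,
  .child 57 true 1837,
  .child 24 false 2108,
  .child 57 false 2108,
  .child 24 true 2108,
  .child 57 true 2108,
  .child 57 false 1754,
  .child 23 true 1754,
  .child 57 true 1754,
  .child 24 false 2172,
  .child 23 true 2172,
  .child 24 true 2172,
  .child 24 false 411,
  .child 23 true 411,
  .child 23 false 1713,
  .child 57 false 1713,
  .child 57 true 1713,
  .child 23 false 3126,
  .child 24 false 3126,
  .child 57 false 3126,
  .child 57 true 3126,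
  .child 24 false 2504,
  .child 57 false 2504,
  .child 24 true 2504,
  .child 57 true 2504,
  .child 57 true 435,
  .child 23 false 363,
  .child 23 true 363,
  .child 24 true 363,
  .child 23 true 725,
  .child 24 true 725,
  .child 57 false 45,
  .child 57 true 45,
  .child 57 true 161,
  .child 23 true 2273,
  .child 24 true 2273,
  .child 24 false 2311,
  .child 23 true 2311,
  .child 24 true 2311,
  .child 57 true 338,
  .child 24 false 3030,
  .child 23 true 3030,
  .child 24 true 3030,
  .child 23 false 1170,
  .child 24 false 1170,
  .child 23 true 1170,
  .child 57 false 101,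
  .child 24 false 708,
  .child 57 false 120,
  .child 23 false 2577,
  .child 24 false 2577,
  .child 23 true 2577,
  .child 23 false 905,
  .child 24 false 905,
  .child 23 true 905,
  .child 23 false 3360,
  .child 57 false 3360,
  .child 57 true 3360,
  .child 57 false 1238,
  .child 57 true 1238,
  .child 24 false 3607,
  .child 57 false 3607,
  .child 24 true 3607,
  .child 57 true 3607]

/-- part 28 of `twTree3` -/
noncomputable def twTree3P28 : List (Leaf) := [
  .child 23 true 2064,
  .child 23 false 3260,
  .child 24 false 3260,
  .child 23 true 3260,
  .child 57 false 574,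
  .child 23 false 3739,
  .child 23 true 3739,
  .child 24 true 3739,
  .child 57 false 1151,
  .child 57 true 1151,
  .child 24 false 3357,
  .child 57 false 3357,
  .child 24 true 3357,
  .child 57 true 3357,
  .child 57 false 1407,
  .child 24 false 982,
  .child 24 true 982,
  .child 57 true 982,
  .child 23 false 1059,
  .child 57 true 1059,
  .child 23 false 447,
  .child 57 false 447,
  .child 23 true 447,
  .child 24 true 447,
  .child 23 false 2732,
  .child 24 false 2732,
  .child 23 true 2732,
  .child 24 true 2732,
  .child 57 true 2732,
  .child 23 false 3758,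
  .child 24 false 3758,
  .child 24 true 3758,
  .child 57 true 3758,
  .child 24 false 1653,
  .child 23 true 1653,
  .child 23 false 1445,
  .child 24 false 1445,
  .child 57 false 1445,
  .child 23 true 1445,
  .child 24 true 1445,
  .child 24 false 1526,
  .child 23 false 3450,
  .child 24 false 3450,
  .child 23 true 3450,
  .child 24 true 3450,
  .child 57 false 217,
  .child 24 false 2950,
  .child 23 true 2950,
  .child 23 false 2478,
  .child 24 false 2478,
  .child 57 false 2478,
  .child 57 true 2478,
  .child 23 false 319,
  .child 24 false 319,
  .child 23 true 319,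
  .child 24 true 319,
  .child 23 false 3502,
  .child 23 true 3502,
  .child 57 true 3502,
  .child 23 false 464,
  .child 24 false 464,
  .child 23 true 464,
  .child 24 true 464,
  .child 57 true 464,
  .child 23 false 1406,
  .child 57 false 1406,
  .child 57 true 1406,
  .child 24 false 157,
  .child 23 true 157,
  .child 24 true 157,
  .child 57 true 1542,
  .child 23 false 674,
  .child 23 true 674,
  .child 24 true 674,
  .child 23 false 2654,
  .child 24 false 2654,
  .child 23 true 2654,
  .child 24 true 2654,
  .child 24 false 2226,
  .child 23 true 2226,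
  .child 24 true 2226,
  .child 23 true 426,
  .child 24 false 2519,
  .child 57 false 2519,
  .child 24 true 2519,
  .child 23 false 2470,
  .child 24 false 2470,
  .child 23 true 2470,
  .child 24 true 2470,
  .child 23 false 867,
  .child 23 false 2526,
  .child 24 false 2526,
  .child 23 true 2526,
  .child 24 true 2526,
  .child 24 false 2017,
  .child 24 true 2017,
  .child 23 true 2374,
  .child 23 false 386,
  .child 24 true 386,
  .child 23 false 672]

/-- part 29 of `twTree3` -/
noncomputable def twTree3P29 : List (Leaf) := [
  .child 24 false 672,
  .child 23 true 672,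
  .child 24 true 672,
  .child 24 false 2955,
  .child 57 false 2955,
  .child 23 true 2955,
  .child 57 true 2955,
  .child 24 false 1300,
  .child 23 true 1300,
  .child 24 true 1300,
  .child 23 false 1898,
  .child 57 true 1898,
  .child 23 false 2332,
  .child 24 false 2332,
  .child 23 true 2332,
  .child 24 true 2332,
  .child 57 true 2332,
  .child 57 false 1052,
  .child 57 true 1052,
  .child 24 false 57,
  .child 23 true 57,
  .child 23 false 198,
  .child 57 false 198,
  .child 24 false 1402,
  .child 23 true 1402,
  .child 23 true 2952,
  .child 24 false 1856,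
  .child 23 true 1856,
  .child 24 true 1856,
  .child 24 false 3064,
  .child 23 true 3064,
  .child 24 true 3064,
  .child 23 true 3631,
  .child 23 false 1623,
  .child 24 false 1623,
  .child 23 true 1623,
  .child 24 true 1623,
  .child 23 false 1874,
  .child 23 true 1874,
  .child 24 true 1874,
  .child 24 false 698,
  .child 57 false 698,
  .child 57 false 2991,
  .child 24 false 2766,
  .child 57 true 2766,
  .child 23 false 1288,
  .child 57 true 1288,
  .child 24 false 1465,
  .child 23 true 1465,
  .child 23 false 449,
  .child 23 true 449,
  .child 24 true 449,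
  .child 57 false 2378,
  .child 24 true 2378,
  .child 57 true 2378,
  .child 57 true 2301,
  .child 23 false 3356,
  .child 24 false 3356,
  .child 57 false 3356,
  .child 23 true 3356,
  .child 24 true 3356,
  .child 23 false 1670,
  .child 24 false 1670,
  .child 23 true 1670,
  .child 24 true 1670,
  .child 57 false 1400,
  .child 24 true 1400,
  .child 57 true 1400,
  .child 23 false 3577,
  .child 24 false 3577,
  .child 57 false 3577,
  .child 23 true 3577,
  .child 24 true 3577,
  .child 23 false 1617,
  .child 24 false 1617,
  .child 23 true 1617,
  .child 24 true 1617,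
  .child 23 true 439,
  .child 23 false 2171,
  .child 57 false 2171,
  .child 23 false 1268,
  .child 24 false 1268,
  .child 23 true 1268,
  .child 24 true 1268,
  .child 57 false 1148,
  .child 57 true 1148,
  .child 23 false 861,
  .child 24 false 861,
  .child 23 true 861,
  .child 24 true 861,
  .child 57 true 861,
  .child 23 false 2373,
  .child 57 false 2373,
  .child 24 false 598,
  .child 23 true 598,
  .child 23 false 427,
  .child 23 true 427,
  .child 24 true 427,
  .child 23 true 2798,
  .child 24 true 2798]

/-- part 30 of `twTree3` -/
noncomputable def twTree3P30 : List (Leaf) := [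
  .child 23 false 3067,
  .child 23 true 3067,
  .child 24 false 1873,
  .child 23 true 1873,
  .child 24 true 1873,
  .child 23 false 2653,
  .child 24 false 2653,
  .child 23 true 2653,
  .child 24 true 2653,
  .child 57 false 1391,
  .child 57 true 1391,
  .child 24 false 960,
  .child 23 true 960,
  .child 24 true 960,
  .child 23 false 3806,
  .child 24 false 3806,
  .child 23 true 3806,
  .child 24 true 3806,
  .child 57 false 3731,
  .child 24 true 3731,
  .child 23 false 1289,
  .child 24 true 1289,
  .child 23 false 233,
  .child 23 true 233,
  .child 24 true 233,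
  .child 23 true 425,
  .child 23 false 493,
  .child 24 false 493,
  .child 23 true 493,
  .child 24 true 493,
  .child 23 false 2438,
  .child 57 false 2438,
  .child 57 true 2438,
  .child 23 false 3561,
  .child 24 false 3561,
  .child 23 true 3561,
  .child 57 true 3561,
  .child 57 false 1478,
  .child 57 true 1478,
  .child 24 false 3150,
  .child 23 true 3150,
  .child 24 true 3150,
  .child 23 false 2862,
  .child 57 false 2862,
  .child 23 false 2507,
  .child 24 false 2507,
  .child 23 true 2507,
  .child 24 true 2507,
  .child 23 false 287,
  .child 57 false 287,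
  .child 57 true 287,
  .child 23 false 291,
  .child 24 false 291,
  .child 57 false 291,
  .child 57 true 291,
  .child 24 false 286,
  .child 57 false 286,
  .child 57 true 286,
  .child 23 true 258,
  .child 57 true 258,
  .child 23 false 296,
  .child 57 false 296,
  .child 57 true 296,
  .child 23 false 289,
  .child 57 false 289,
  .child 57 true 289,
  .child 24 false 288,
  .child 57 false 288,
  .child 57 true 288,
  .child 57 true 244,
  .child 23 true 2277,
  .child 24 true 2277,
  .child 23 false 1560,
  .child 23 false 2054,
  .child 57 false 2054,
  .child 57 true 2054,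
  .child 23 false 388,
  .child 57 false 388,
  .child 57 true 388,
  .child 24 false 389,
  .child 57 false 389,
  .child 24 true 389,
  .child 57 true 389,
  .child 57 false 367,
  .child 57 true 367,
  .child 57 false 364,
  .child 57 true 364,
  .child 24 false 2055,
  .child 57 false 2055,
  .child 24 true 2055,
  .child 57 true 2055,
  .child 57 true 1385,
  .child 57 true 127,
  .child 24 true 1546,
  .child 23 false 3358,
  .child 57 true 3223,
  .child 57 false 2192,
  .child 57 true 2192,
  .child 23 true 841,
  .child 57 false 1159]

/-- part 31 of `twTree3` -/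
noncomputable def twTree3P31 : List (Leaf) := [
  .child 57 true 1159,
  .child 57 true 1844,
  .child 24 false 3128,
  .child 57 true 3128,
  .child 24 false 431,
  .child 57 false 431,
  .child 23 true 431,
  .child 24 true 431,
  .child 23 false 1275,
  .child 24 false 1275,
  .child 23 true 1275,
  .child 23 false 705,
  .child 57 false 705,
  .child 24 true 705,
  .child 57 true 705,
  .child 23 false 2697,
  .child 57 false 2697,
  .child 23 true 2697,
  .child 24 true 2697,
  .child 23 false 2101,
  .child 24 false 2101,
  .child 23 true 2101,
  .child 24 true 2101,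
  .child 57 true 1830,
  .child 23 false 2712,
  .child 24 false 2712,
  .child 23 true 2712,
  .child 24 true 2712,
  .child 57 false 849,
  .child 23 false 893,
  .child 24 false 893,
  .child 57 true 893,
  .child 57 false 646,
  .child 57 true 646,
  .child 24 false 2764,
  .child 23 true 2764,
  .child 24 true 2764,
  .child 24 false 2282,
  .child 23 true 2282,
  .child 24 true 2282,
  .child 24 false 1875,
  .child 23 true 1875,
  .child 24 true 1875,
  .child 24 false 847,
  .child 24 true 847,
  .child 23 false 1987,
  .child 23 false 949,
  .child 24 false 949,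
  .child 23 true 949,
  .child 24 false 1922,
  .child 57 false 1922,
  .child 24 true 1922,
  .child 23 true 2066,
  .child 23 true 2699,
  .child 24 false 2739,
  .child 23 true 2739,
  .child 24 true 2739,
  .child 57 false 3246,
  .child 23 true 3246,
  .child 57 true 3246,
  .child 23 false 3198,
  .child 24 false 3198,
  .child 23 true 3198,
  .child 24 true 3198,
  .child 57 false 2545,
  .child 23 false 1165,
  .child 24 false 1165,
  .child 23 true 1165,
  .child 24 true 1165,
  .child 57 true 1165,
  .child 57 false 850,
  .child 57 true 850,
  .child 24 false 1027,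
  .child 23 true 1027,
  .child 24 true 1027,
  .child 23 false 3565,
  .child 24 false 3565,
  .child 23 true 3565,
  .child 24 true 3565,
  .child 23 true 3151,
  .child 57 false 293,
  .child 57 true 293,
  .child 57 true 2660,
  .child 24 false 1706,
  .child 57 false 1706,
  .child 24 true 1706,
  .child 57 true 1706,
  .child 23 true 475,
  .child 24 false 3429,
  .child 57 false 2674,
  .child 57 true 2674,
  .child 57 true 2628,
  .child 24 false 944,
  .child 57 false 944,
  .child 24 true 944,
  .child 57 true 944,
  .child 57 false 941,
  .child 57 true 941,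
  .child 57 false 3271,
  .child 23 false 3567]

/-- part 32 of `twTree3` -/
noncomputable def twTree3P32 : List (Leaf) := [
  .child 24 true 3567,
  .child 23 false 1786,
  .child 23 true 1786,
  .child 24 true 1786,
  .child 23 false 3494,
  .child 57 false 3494,
  .child 57 true 3494,
  .child 24 false 415,
  .child 23 true 415,
  .child 24 true 415,
  .child 23 false 520,
  .child 24 false 520,
  .child 23 true 520,
  .child 24 true 520,
  .child 24 false 164,
  .child 23 true 164,
  .child 57 true 2085,
  .child 23 true 657,
  .child 23 false 2868,
  .child 57 false 2868,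
  .child 24 true 1235,
  .child 57 true 1235,
  .child 57 true 1273,
  .child 23 false 686,
  .child 57 false 686,
  .child 57 true 686,
  .child 57 false 2913,
  .child 24 true 3394,
  .child 23 false 3354,
  .child 23 true 3354,
  .child 24 true 3354,
  .child 23 false 783,
  .child 24 false 783,
  .child 23 true 783,
  .child 24 true 2086,
  .child 57 false 857,
  .child 23 false 162,
  .child 23 true 450,
  .child 23 false 1977,
  .child 24 true 1977,
  .child 23 false 1709,
  .child 24 true 1709,
  .child 23 false 2556,
  .child 23 true 2556,
  .child 24 true 2556,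
  .child 57 false 1889,
  .child 24 false 365,
  .child 57 true 365,
  .child 24 false 2057,
  .child 57 true 2057,
  .child 23 true 251,
  .child 23 true 249,
  .child 23 false 1697,
  .child 23 true 1697,
  .child 24 true 1697,
  .child 57 true 1214,
  .child 57 true 687,
  .child 57 false 1162,
  .child 57 true 984,
  .child 24 false 2643,
  .child 57 true 2643,
  .child 57 false 1893,
  .child 57 false 1596,
  .child 57 true 1596,
  .child 57 false 1537,
  .child 23 true 2655,
  .child 57 false 2790,
  .child 57 true 2790,
  .child 57 true 2505,
  .child 57 true 1037,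
  .child 24 false 2100,
  .child 57 false 2100,
  .child 23 true 2100,
  .child 24 true 2100,
  .child 23 false 1616,
  .child 24 false 1616,
  .child 23 true 1616,
  .child 24 true 1616,
  .child 23 false 1694,
  .child 24 false 1694,
  .child 23 true 1694,
  .child 24 true 1694,
  .child 23 false 2003,
  .child 24 false 2003,
  .child 24 true 2003,
  .child 57 false 1078,
  .child 23 false 718,
  .child 23 true 718,
  .child 23 false 1392,
  .child 24 true 1392,
  .child 57 true 1556,
  .child 57 false 3445,
  .child 57 false 2933,
  .child 57 true 2933,
  .child 23 true 1477,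
  .child 24 true 1477,
  .child 57 false 3217,
  .child 24 false 197,
  .child 57 true 197,
  .child 57 false 1501]

/-- part 33 of `twTree3` -/
noncomputable def twTree3P33 : List (Leaf) := [
  .child 57 true 1501,
  .child 23 false 412,
  .child 24 true 412,
  .child 23 false 178,
  .child 23 true 178,
  .child 24 true 178,
  .child 23 true 408,
  .child 23 false 3267,
  .child 24 false 3267,
  .child 23 true 3267,
  .child 24 true 3267,
  .child 57 false 3810,
  .child 23 false 3129,
  .child 24 false 3129,
  .child 23 true 1036,
  .child 24 true 1036,
  .child 57 true 1483,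
  .child 57 false 1547,
  .child 24 false 1241,
  .child 23 true 1241,
  .child 24 true 1241,
  .child 23 false 710,
  .child 57 false 710,
  .child 57 true 710,
  .child 23 false 1561,
  .child 57 false 2487,
  .child 57 true 2487,
  .child 23 false 3305,
  .child 57 false 3305,
  .child 23 true 3305,
  .child 57 true 3305,
  .child 23 false 2633,
  .child 24 true 2633,
  .child 23 false 2744,
  .child 24 false 2744,
  .child 57 false 2744,
  .child 57 true 2744,
  .child 24 true 1727,
  .child 57 true 1727,
  .child 57 false 3120,
  .child 24 true 3120,
  .child 57 true 3120,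
  .child 24 false 2953,
  .child 57 false 2953,
  .child 57 true 1751,
  .child 23 true 1554,
  .child 57 false 1279,
  .child 23 false 183,
  .child 24 false 183,
  .child 57 false 183,
  .child 23 false 2456,
  .child 57 false 2456,
  .child 57 true 2456,
  .child 57 false 3746,
  .child 24 false 2316,
  .child 57 false 2316,
  .child 24 true 2316,
  .child 57 true 2316,
  .child 23 false 1811,
  .child 57 false 1811,
  .child 57 true 1811,
  .child 57 true 1538,
  .child 23 false 2480,
  .child 57 true 2480,
  .child 23 false 1182,
  .child 57 false 1182,
  .child 57 true 1182,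
  .child 24 false 1358,
  .child 57 false 1358,
  .child 24 true 1358,
  .child 57 true 1358,
  .child 23 false 1965,
  .child 57 false 1965,
  .child 24 true 1965,
  .child 57 true 1965,
  .child 23 true 1865,
  .child 23 true 2561,
  .child 24 true 2561,
  .child 23 false 1075,
  .child 23 true 1075,
  .child 23 false 56,
  .child 23 false 2250,
  .child 24 false 2250,
  .child 57 false 2250,
  .child 57 true 2250,
  .child 24 false 342,
  .child 57 false 342,
  .child 24 true 342,
  .child 57 false 2419,
  .child 57 true 2419,
  .child 57 true 3592,
  .child 23 false 1415,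
  .child 57 false 1415,
  .child 57 true 1415,
  .child 23 false 862,
  .child 24 false 862,
  .child 57 false 862,
  .child 24 false 398,
  .child 24 true 398,
  .child 57 true 398]

/-- part 34 of `twTree3` -/
noncomputable def twTree3P34 : List (Leaf) := [
  .child 57 false 1261,
  .child 23 false 2354,
  .child 23 true 2354,
  .child 23 false 58,
  .child 24 false 58,
  .child 24 true 58,
  .child 24 true 2251,
  .child 23 true 1404,
  .child 23 true 1399,
  .child 24 true 1399,
  .child 23 false 2322,
  .child 57 false 1321,
  .child 57 true 1321,
  .child 57 true 2286,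
  .child 57 false 2659,
  .child 57 false 589,
  .child 57 true 589,
  .child 24 false 2619,
  .child 57 false 2619,
  .child 57 true 2619,
  .child 23 true 1823,
  .child 24 true 1237,
  .child 57 true 1237,
  .child 57 false 1152,
  .child 57 true 1680,
  .child 24 false 785,
  .child 57 false 785,
  .child 57 true 785,
  .child 23 false 1367,
  .child 24 false 1367,
  .child 57 false 1367,
  .child 57 false 2259,
  .child 24 true 2259,
  .child 57 true 2259,
  .child 23 false 1354,
  .child 24 false 2455,
  .child 57 false 2455,
  .child 57 false 2263,
  .child 57 true 2263,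
  .child 57 true 852,
  .child 23 false 2047,
  .child 57 false 2047,
  .child 23 false 55,
  .child 57 true 1326,
  .child 23 false 1397,
  .child 57 true 1397,
  .child 23 false 1278,
  .child 23 false 670,
  .child 24 false 2045,
  .child 24 true 2045,
  .child 23 false 1286,
  .child 23 false 2079,
  .child 23 false 312,
  .child 57 false 312,
  .child 24 true 534,
  .child 57 true 170,
  .child 23 false 499,
  .child 23 true 499,
  .child 24 false 2547,
  .child 23 true 2547,
  .child 57 false 2435,
  .child 24 false 320,
  .child 24 true 320,
  .child 24 false 1418,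
  .child 23 true 1418,
  .child 24 false 1700,
  .child 57 false 1700,
  .child 24 true 1700,
  .child 57 true 1700,
  .child 57 true 2639,
  .child 24 false 2144,
  .child 57 false 2144,
  .child 57 true 2144,
  .child 57 false 1294,
  .child 57 false 2719,
  .child 57 true 2719,
  .child 57 false 2149,
  .child 24 false 2146,
  .child 57 true 2146,
  .child 57 false 477,
  .child 57 true 477,
  .child 57 true 1981,
  .child 24 false 3011,
  .child 57 false 3011,
  .child 57 true 3011,
  .child 57 false 323,
  .child 57 true 323,
  .child 24 false 3656,
  .child 23 true 3656,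
  .child 24 true 3656,
  .child 24 false 934,
  .child 23 true 934,
  .child 23 false 2666,
  .child 24 false 2138,
  .child 23 true 2138,
  .child 24 true 2138,
  .child 23 false 2606,
  .child 57 false 2606,
  .child 57 false 1215,
  .child 24 true 1850]

/-- part 35 of `twTree3` -/
noncomputable def twTree3P35 : List (Leaf) := [
  .child 57 false 2092,
  .child 24 true 476,
  .child 24 false 3286,
  .child 23 true 3286,
  .child 24 true 3286,
  .child 23 false 2498,
  .child 24 false 2498,
  .child 57 false 2498,
  .child 57 true 2498,
  .child 24 false 1990,
  .child 23 false 2330,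
  .child 57 false 1535,
  .child 57 true 1535,
  .child 57 false 954,
  .child 57 true 954,
  .child 23 false 3634,
  .child 57 false 3634,
  .child 57 true 3634,
  .child 24 false 2207,
  .child 57 false 2207,
  .child 24 true 2207,
  .child 57 true 2207,
  .child 57 false 1749,
  .child 24 true 1864,
  .child 24 true 1858,
  .child 23 false 3885,
  .child 23 false 1669,
  .child 57 false 1669,
  .child 57 true 1669,
  .child 24 false 1581,
  .child 57 false 1581,
  .child 24 true 1581,
  .child 57 true 1581,
  .child 57 true 3089,
  .child 57 false 2775,
  .child 23 false 2173,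
  .child 57 false 3218,
  .child 24 true 3218,
  .child 57 true 3218,
  .child 57 false 195,
  .child 57 true 195,
  .child 23 true 3728,
  .child 23 false 416,
  .child 24 false 416,
  .child 57 false 416,
  .child 57 true 416,
  .child 57 false 1888,
  .child 57 true 460,
  .child 24 true 1980,
  .child 23 false 2280,
  .child 24 true 2280,
  .child 23 false 444,
  .child 57 false 444,
  .child 57 true 444,
  .child 24 false 1192,
  .child 57 false 1192,
  .child 57 true 1192,
  .child 24 false 16,
  .child 57 true 16,
  .child 23 false 2948,
  .child 23 true 2948,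
  .child 24 true 2948,
  .child 24 true 402,
  .child 57 false 2267,
  .child 57 true 2267,
  .child 57 true 799,
  .child 57 true 1739,
  .child 57 true 1057,
  .child 57 true 697,
  .child 57 false 946,
  .child 57 true 2795,
  .child 57 false 220,
  .child 57 true 220,
  .child 57 false 3630,
  .child 57 true 3630,
  .child 57 false 1702,
  .child 24 false 2640,
  .child 57 true 1427,
  .child 24 false 3332,
  .child 57 false 1614,
  .child 24 true 1614,
  .child 57 true 1614,
  .child 57 true 2088,
  .child 24 false 3559,
  .child 57 false 3559,
  .child 57 true 3559,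
  .child 24 false 1582,
  .child 24 true 1582,
  .child 57 false 317,
  .child 57 true 2042,
  .child 57 true 797,
  .child 23 false 1725,
  .child 24 false 2104,
  .child 24 true 474,
  .child 23 false 2548,
  .child 57 false 2548,
  .child 57 false 840,
  .child 24 false 3486,
  .child 57 false 3486,
  .child 57 true 3486]

/-- part 36 of `twTree3` -/
noncomputable def twTree3P36 : List (Leaf) := [
  .child 24 false 1083,
  .child 23 false 3105,
  .child 57 false 3105,
  .child 57 true 3105,
  .child 24 false 1016,
  .child 57 false 2924,
  .child 57 true 2924,
  .child 23 false 3076,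
  .child 24 true 3370,
  .child 57 true 693,
  .child 24 true 309,
  .child 23 false 301,
  .child 23 true 609,
  .child 24 true 609,
  .child 23 false 153,
  .child 24 false 153,
  .child 23 true 153,
  .child 23 false 330,
  .child 24 false 330,
  .child 23 true 330,
  .child 57 false 252,
  .child 23 false 373,
  .child 23 false 370,
  .child 24 true 370,
  .child 57 true 370,
  .child 23 true 122,
  .child 24 true 122,
  .child 23 true 82,
  .child 24 true 82,
  .child 23 false 375,
  .child 23 true 375,
  .child 24 true 375,
  .child 23 true 623,
  .child 24 true 623,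
  .child 23 false 98,
  .child 24 false 98,
  .child 23 true 98,
  .child 24 true 98,
  .child 57 false 255,
  .child 23 true 355,
  .child 24 true 355,
  .child 23 true 113,
  .child 24 true 113,
  .child 23 true 336,
  .child 57 true 236,
  .child 23 false 1341,
  .child 23 true 1341,
  .child 24 true 1341,
  .child 24 false 3522,
  .child 23 true 3522,
  .child 24 true 2717,
  .child 23 true 3015,
  .child 24 true 3015,
  .child 23 false 1781,
  .child 23 true 1781,
  .child 24 true 1781,
  .child 24 false 3307,
  .child 23 true 1339,
  .child 24 true 1339,
  .child 24 true 3183,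
  .child 24 false 1618,
  .child 23 true 1618,
  .child 23 false 2716,
  .child 24 false 2716,
  .child 23 true 2716,
  .child 23 true 3590,
  .child 24 true 3590,
  .child 23 true 3021,
  .child 24 false 177,
  .child 23 true 177,
  .child 24 false 1676,
  .child 23 true 1646,
  .child 57 true 2789,
  .child 23 false 1437,
  .child 24 true 802,
  .child 57 true 802,
  .child 23 false 453,
  .child 24 false 2390,
  .child 57 true 1020,
  .child 57 true 3125,
  .child 23 false 3507,
  .child 57 true 3507,
  .child 57 false 1872,
  .child 57 true 1872,
  .child 23 false 2004,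
  .child 23 false 3424,
  .child 24 false 2215,
  .child 57 false 2215,
  .child 24 true 2215,
  .child 23 false 3532,
  .child 57 false 2132,
  .child 57 true 2132,
  .child 57 false 2118,
  .child 57 true 2118,
  .child 24 false 2815,
  .child 23 true 2815,
  .child 24 true 2815,
  .child 23 true 2379,
  .child 24 true 2379,
  .child 23 false 2667]

/-- part 37 of `twTree3` -/
noncomputable def twTree3P37 : List (Leaf) := [
  .child 23 true 2667,
  .child 57 false 1678,
  .child 24 true 1678,
  .child 57 true 1678,
  .child 57 true 3094,
  .child 57 false 1705,
  .child 57 false 2675,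
  .child 57 true 2675,
  .child 57 true 1720,
  .child 24 false 2673,
  .child 23 false 3761,
  .child 24 false 1989,
  .child 57 false 2670,
  .child 24 true 2670,
  .child 57 true 3123,
  .child 23 false 2700,
  .child 57 true 1862,
  .child 23 false 2154,
  .child 57 true 2154,
  .child 23 true 2284,
  .child 23 false 3819,
  .child 57 false 3819,
  .child 24 false 2746,
  .child 23 false 3659,
  .child 57 true 3659,
  .child 23 false 2836,
  .child 57 true 2836,
  .child 24 false 2634,
  .child 57 false 2634,
  .child 24 true 2634,
  .child 57 true 2634,
  .child 23 false 1480,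
  .child 57 false 1480,
  .child 57 true 1480,
  .child 23 true 443,
  .child 23 true 2246,
  .child 23 false 3244,
  .child 57 false 3244,
  .child 57 true 3244,
  .child 24 false 1798,
  .child 57 false 1798,
  .child 57 true 3513,
  .child 23 false 3176,
  .child 57 false 3176,
  .child 57 true 3176,
  .child 24 false 3905,
  .child 23 false 3154,
  .child 23 true 3154,
  .child 24 false 3106,
  .child 23 true 3106,
  .child 24 true 2560,
  .child 23 false 3013,
  .child 23 true 3013,
  .child 24 true 3013,
  .child 23 false 3536,
  .child 23 false 219,
  .child 24 false 219,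
  .child 23 true 232,
  .child 24 true 232,
  .child 24 false 900,
  .child 23 true 900,
  .child 24 true 900,
  .child 23 false 3109,
  .child 57 false 1473,
  .child 23 false 618,
  .child 57 true 1914,
  .child 57 true 2783,
  .child 57 false 2333,
  .child 57 true 655,
  .child 57 false 801,
  .child 24 true 452,
  .child 23 true 3512,
  .child 23 false 1664,
  .child 23 true 3820,
  .child 24 true 3820,
  .child 57 false 786,
  .child 24 false 1791,
  .child 57 false 3241,
  .child 23 false 2581,
  .child 23 false 991,
  .child 57 false 991,
  .child 23 false 1047,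
  .child 57 false 1047,
  .child 24 true 3651,
  .child 57 true 3277,
  .child 23 true 2616,
  .child 57 false 2145,
  .child 24 true 2743,
  .child 24 false 2710,
  .child 23 true 2710,
  .child 23 false 992,
  .child 23 false 1125,
  .child 23 true 2582,
  .child 23 true 2695,
  .child 23 false 3575,
  .child 57 true 3578,
  .child 57 false 1519,
  .child 57 false 3498,
  .child 57 true 1761,
  .child 57 true 2103]

/-- part 38 of `twTree3` -/
noncomputable def twTree3P38 : List (Leaf) := [
  .child 57 false 625,
  .child 57 false 1369,
  .child 23 false 1517,
  .child 23 false 2609,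
  .child 57 true 1701,
  .child 23 true 1444,
  .child 57 true 839,
  .child 24 false 2809,
  .child 23 true 2809,
  .child 24 true 2809,
  .child 57 false 1772,
  .child 57 true 1772,
  .child 24 false 180,
  .child 57 false 180,
  .child 23 true 2632,
  .child 24 false 2007,
  .child 23 true 2007,
  .child 24 true 2007,
  .child 23 true 3715,
  .child 57 false 3398,
  .child 23 false 3199,
  .child 24 false 1536,
  .child 57 false 2423,
  .child 23 true 2304,
  .child 23 true 318,
  .child 24 false 2861,
  .child 57 true 1216,
  .child 23 true 2272,
  .child 23 true 3027,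
  .child 23 false 2915,
  .child 23 true 2770,
  .child 24 true 2770,
  .child 57 true 2770,
  .child 57 false 2603,
  .child 23 false 3308,
  .child 57 true 2572,
  .child 23 true 1186,
  .child 23 false 1220,
  .child 23 true 2469,
  .child 23 true 2319,
  .child 24 true 2319,
  .child 23 false 816,
  .child 57 true 3019,
  .child 23 false 1187,
  .child 57 false 1187,
  .child 57 true 2256,
  .child 57 false 2601,
  .child 57 true 2601,
  .child 57 true 311,
  .child 24 false 278,
  .child 23 true 278,
  .child 24 true 278,
  .child 57 false 1412,
  .child 23 false 146,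
  .child 24 true 3364,
  .child 57 true 518,
  .child 57 true 313,
  .child 23 false 150,
  .child 23 false 280,
  .child 23 true 1915,
  .child 23 true 595,
  .child 23 false 3455,
  .child 23 true 2780,
  .child 24 true 2780,
  .child 23 false 2077,
  .child 23 true 1884,
  .child 23 false 144,
  .child 24 false 756,
  .child 23 true 756,
  .child 24 true 756,
  .child 24 false 528,
  .child 24 false 2113,
  .child 23 false 602,
  .child 23 true 3098,
  .child 24 true 3098,
  .child 23 false 1782,
  .child 24 true 1917,
  .child 23 true 3632,
  .child 24 true 1916,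
  .child 24 true 1957,
  .child 24 true 2829,
  .child 24 true 3763,
  .child 57 false 3698,
  .child 23 true 334,
  .child 24 false 683,
  .child 23 false 279,
  .child 23 true 368,
  .child 24 false 728,
  .child 23 true 958,
  .child 24 true 958,
  .child 23 false 1577,
  .child 23 false 3716,
  .child 23 false 584,
  .child 23 false 1312,
  .child 24 true 3454,
  .child 23 false 2583,
  .child 23 false 766,
  .child 24 true 3518,
  .child 23 false 369,
  .child 24 true 145]

/-- part 39 of `twTree3` -/
noncomputable def twTree3P39 : List (Leaf) := [
  .child 57 true 248,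
  .child 23 false 590,
  .child 23 false 1026,
  .child 23 false 3506,
  .child 24 false 621,
  .child 23 false 3655]

/-- certificate data -/
noncomputable def twTree3 : List (Leaf) :=
  [twTree3P0, twTree3P1, twTree3P2, twTree3P3, twTree3P4, twTree3P5, twTree3P6, twTree3P7, twTree3P8, twTree3P9, twTree3P10, twTree3P11, twTree3P12, twTree3P13, twTree3P14, twTree3P15, twTree3P16, twTree3P17, twTree3P18, twTree3P19, twTree3P20, twTree3P21, twTree3P22, twTree3P23, twTree3P24, twTree3P25, twTree3P26, twTree3P27, twTree3P28, twTree3P29, twTree3P30, twTree3P31, twTree3P32, twTree3P33, twTree3P34, twTree3P35, twTree3P36, twTree3P37, twTree3P38, twTree3P39].flatten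

/-- part 0 of `twRoots4` -/
noncomputable def twRoots4P0 : List (TRoot) := [
  ⟨[],
    [⟨26,[],[]⟩,⟨61,[],[(5,true)]⟩,⟨61,[(30,false),(27,false)],[(2,false),(1,true),(7,false),(3,false),(5,true)]⟩,⟨61,[(27,false)],[(1,false),(5,false),(7,true),(3,true),(6,true)]⟩,⟨61,[(30,false)],[(4,false),(2,true),(7,false),(6,false),(5,false),(0,false),(6,false)]⟩]⟩,
  ⟨[7],
    [⟨80,[(28,false),(60,false),(27,false),(69,false),(69,false)],[(6,false),(4,false),(5,false),(7,false),(6,true),(2,true),(5,false)]⟩,⟨63,[],[]⟩,⟨63,[(69,false),(30,false),(30,false),(60,false),(30,false),(69,false)],[(6,true),(5,true),(2,false),(6,false),(3,true),(7,true)]⟩,⟨115,[(30,false),(27,false),(69,false),(27,false)],[(1,false),(6,true),(3,false),(6,true),(5,true),(3,false)]⟩,⟨115,[(69,false),(30,false),(30,false),(69,false),(60,false),(29,false),(29,false)],[(0,false),(6,false),(7,false),(6,false),(3,false),(0,false)]⟩]⟩,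
  ⟨[4,7],
    [⟨77,[(69,false),(69,false),(28,false),(30,false),(69,false),(29,false)],[(6,true),(1,true),(7,false),(1,true),(6,false)]⟩,⟨96,[(28,false),(60,false),(29,false)],[(5,false),(1,true),(2,false),(5,false),(5,false),(3,false)]⟩,⟨96,[(60,false),(28,false),(60,false),(29,false)],[(5,false),(2,true),(0,false),(5,false),(7,false)]⟩,⟨77,[(69,false),(27,false),(60,false),(29,false)],[(2,false),(6,true),(1,true),(3,true),(0,true)]⟩,⟨96,[(29,false),(30,false),(60,false)],[(5,false),(7,false),(6,true),(2,false),(1,true),(7,false),(5,false)]⟩]⟩,
  ⟨[0,4,7],
    [⟨48,[(69,false),(60,false),(27,false),(60,false)],[(0,false),(3,false),(7,false),(3,true),(7,false),(6,false),(5,false)]⟩,⟨70,[(29,false),(60,false),(30,false),(28,false),(69,false)],[(1,false),(0,true),(5,true),(6,true),(0,true)]⟩,⟨70,[(60,false),(60,false),(30,false),(27,false),(69,false),(27,false),(27,false)],[(6,false),(5,false),(0,true),(3,true),(5,false),(7,false)]⟩,⟨70,[(30,false),(30,false),(69,false),(27,false),(60,false),(27,false),(27,false)],[(0,false),(7,true),(1,true),(3,true),(5,false),(6,false)]⟩,⟨70,[(27,false),(30,false),(69,false),(60,false),(27,false)],[(2,false),(6,false),(7,false),(6,false),(1,false),(5,false),(6,true)]⟩]⟩,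
  ⟨[3,4,2,4,3,5,7],
    [⟨73,[(69,false),(27,false),(27,false)],[(3,false),(5,true),(1,false),(6,true),(1,false)]⟩,⟨73,[(69,false),(29,false),(60,false),(30,false),(27,false)],[(2,true),(5,false),(6,false),(1,false),(7,false),(5,true)]⟩,⟨75,[(69,false),(29,false),(27,false),(27,false)],[(1,false),(7,false),(1,false),(6,true),(3,false),(7,false),(5,true)]⟩,⟨73,[(30,false),(69,false),(69,false),(28,false)],[(7,true),(0,true),(7,true),(2,false),(6,true),(5,true)]⟩,⟨75,[(30,false),(69,false),(60,false),(29,false)],[(7,true),(1,true),(6,false),(5,false),(3,false),(6,false)]⟩]⟩,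
  ⟨[4,1,5,0,5,1,4,7],
    [⟨55,[(30,false),(69,false),(28,false),(60,false),(29,false)],[(5,false),(6,false),(7,false),(5,true),(1,false),(2,false)]⟩,⟨55,[(30,false),(69,false),(28,false),(60,false),(30,false)],[(1,false),(1,false),(5,true),(1,false),(2,false)]⟩,⟨55,[(69,false),(69,false),(29,false),(27,false),(60,false)],[(5,true),(1,false),(2,true),(0,false)]⟩,⟨55,[(29,false),(28,false),(69,false),(60,false),(27,false)],[(1,false),(5,true),(6,true),(0,true),(5,true),(2,true),(7,false)]⟩,⟨55,[(30,false),(69,false),(28,false),(60,false)],[(5,true),(6,true),(2,false),(5,false),(3,true),(7,true)]⟩]⟩,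
  ⟨[2,1,3,5,7],
    [⟨65,[(29,false),(27,false)],[(6,false),(5,false),(7,false)]⟩,⟨43,[(29,false),(30,false),(69,false),(60,false),(27,false)],[(7,false),(6,false),(1,false),(6,false),(0,true),(6,false)]⟩,⟨65,[(69,false),(60,false),(30,false),(28,false),(27,false),(27,false)],[(5,false),(4,false),(7,true),(2,false),(6,true),(3,true)]⟩,⟨65,[(69,false),(60,false),(28,false),(60,false),(27,false)],[(2,false),(0,false),(6,false),(7,false),(6,true)]⟩,⟨65,[(27,false),(60,false),(30,false),(30,false)],[(0,false),(1,false),(5,true),(3,false),(6,true),(1,false),(7,true)]⟩]⟩,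
  ⟨[5,1,4,1,5,7],
    [⟨106,[(28,false),(69,false),(29,false)],[(5,false),(6,false),(7,true),(6,true),(2,true),(1,true),(5,false)]⟩,⟨106,[(69,false),(69,false),(60,false),(27,false),(27,false),(27,false)],[(2,true),(0,true),(5,true),(6,true),(1,false),(7,true)]⟩,⟨117,[(69,false),(30,false),(30,false),(28,false),(60,false)],[(6,false),(5,false),(7,false),(6,true),(3,true),(3,true)]⟩,⟨82,[(28,false),(69,false),(60,false),(29,false),(27,false)],[(2,false),(3,false),(6,true),(2,false)]⟩,⟨106,[(29,false),(29,false),(60,false),(30,false),(69,false)],[(1,false),(7,true),(3,false),(6,true),(3,false),(5,true)]⟩]⟩]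

/-- part 1 of `twRoots4` -/
noncomputable def twRoots4P1 : List (TRoot) := [
  ⟨[4,4,3,6,4,6],
    [⟨45,[(69,false),(27,false),(30,false),(69,false)],[(6,false),(7,false),(2,false),(2,false),(0,false),(5,false)]⟩,⟨45,[(69,false),(27,false),(27,false),(69,false)],[(5,false),(3,false),(5,false),(1,true),(7,false),(1,false)]⟩,⟨45,[(27,false),(27,false),(27,false),(69,false)],[(0,false),(7,false),(6,true),(1,true),(4,true)]⟩,⟨45,[(30,false),(30,false),(30,false),(69,false)],[(0,false),(5,false),(6,false),(1,false),(3,true),(5,false),(7,false)]⟩,⟨45,[(30,false),(27,false),(27,false),(69,false)],[(6,false),(7,false),(0,true),(7,false),(0,true),(7,false)]⟩]⟩]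

/-- certificate data -/
noncomputable def twRoots4 : List (TRoot) :=
  [twRoots4P0, twRoots4P1].flatten

/-- part 0 of `twTree4` -/
noncomputable def twTree4P0 : List (Leaf) := [
  .root 0,
  .child 60 false 0,
  .child 69 false 0,
  .child 60 true 0,
  .child 69 true 0,
  .child 27 false 1392,
  .child 69 false 1392,
  .child 27 true 1392,
  .child 69 true 1392,
  .child 27 true 21,
  .child 60 true 21,
  .child 30 true 1104,
  .child 69 true 1104,
  .child 27 false 3,
  .child 69 false 935,
  .child 69 true 935,
  .child 27 true 1244,
  .child 29 true 1244,
  .child 30 true 1244,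
  .child 69 true 2314,
  .child 27 false 188,
  .child 60 false 22,
  .child 69 false 22,
  .child 27 true 3699,
  .child 30 true 3699,
  .child 69 false 736,
  .child 69 true 736,
  .child 27 false 1599,
  .child 30 false 1599,
  .child 60 true 20,
  .child 30 false 1756,
  .child 69 false 1045,
  .child 69 false 545,
  .child 69 true 2977,
  .child 69 false 3368,
  .child 69 false 873,
  .root 1,
  .child 27 false 2,
  .child 28 false 2,
  .child 29 false 2,
  .child 30 false 2,
  .child 60 false 2,
  .child 69 false 2,
  .child 27 true 2,
  .child 28 true 2,
  .child 29 true 2,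
  .child 30 true 2,
  .child 60 true 2,
  .child 69 true 2,
  .child 27 false 2744,
  .child 28 false 2744,
  .child 29 false 2744,
  .child 30 false 2744,
  .child 60 false 2744,
  .child 69 false 2744,
  .child 28 true 2744,
  .child 29 true 2744,
  .child 30 true 2744,
  .child 60 true 2744,
  .child 69 true 2744,
  .child 29 false 3270,
  .child 30 false 3270,
  .child 60 false 3270,
  .child 69 false 3270,
  .child 29 true 3270,
  .child 30 true 3270,
  .child 60 true 3270,
  .child 69 true 3270,
  .child 27 false 372,
  .child 28 false 372,
  .child 29 false 372,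
  .child 30 false 372,
  .child 60 false 372,
  .child 69 false 372,
  .child 27 true 372,
  .child 28 true 372,
  .child 30 true 372,
  .child 60 true 372,
  .child 69 true 372,
  .child 27 false 2745,
  .child 28 false 2745,
  .child 29 false 2745,
  .child 30 false 2745,
  .child 60 false 2745,
  .child 69 false 2745,
  .child 29 true 2745,
  .child 60 true 2745,
  .child 69 true 2745,
  .child 27 false 1187,
  .child 28 false 1187,
  .child 29 false 1187,
  .child 30 false 1187,
  .child 69 false 1187,
  .child 27 true 1187,
  .child 28 true 1187,
  .child 29 true 1187,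
  .child 30 true 1187,
  .child 69 true 1187,
  .child 27 false 1010,
  .child 28 false 1010]

/-- part 1 of `twTree4` -/
noncomputable def twTree4P1 : List (Leaf) := [
  .child 30 false 1010,
  .child 27 true 1010,
  .child 28 true 1010,
  .child 29 true 1010,
  .child 30 true 1010,
  .child 60 true 1010,
  .child 29 false 854,
  .child 30 false 854,
  .child 60 false 854,
  .child 69 false 854,
  .child 29 true 854,
  .child 30 true 854,
  .child 60 true 854,
  .child 69 true 854,
  .child 29 false 2007,
  .child 30 false 2007,
  .child 60 false 2007,
  .child 69 false 2007,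
  .child 29 true 2007,
  .child 30 true 2007,
  .child 60 true 2007,
  .child 69 true 2007,
  .child 27 false 333,
  .child 28 false 333,
  .child 30 false 333,
  .child 60 false 333,
  .child 27 true 333,
  .child 28 true 333,
  .child 29 true 333,
  .child 30 true 333,
  .child 60 true 333,
  .child 69 true 333,
  .child 29 false 3072,
  .child 60 false 3072,
  .child 69 false 3072,
  .child 27 true 3072,
  .child 28 true 3072,
  .child 29 true 3072,
  .child 60 true 3072,
  .child 69 true 3072,
  .child 27 false 2398,
  .child 28 false 2398,
  .child 29 false 2398,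
  .child 30 false 2398,
  .child 27 true 2398,
  .child 28 true 2398,
  .child 29 true 2398,
  .child 30 true 2398,
  .child 69 true 2398,
  .child 27 false 2647,
  .child 28 false 2647,
  .child 30 false 2647,
  .child 27 true 2647,
  .child 28 true 2647,
  .child 30 true 2647,
  .child 29 false 2383,
  .child 30 false 2383,
  .child 60 false 2383,
  .child 69 false 2383,
  .child 29 true 2383,
  .child 30 true 2383,
  .child 60 true 2383,
  .child 69 true 2383,
  .child 29 false 2163,
  .child 60 false 2163,
  .child 69 false 2163,
  .child 29 true 2163,
  .child 60 true 2163,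
  .child 69 true 2163,
  .child 27 false 3465,
  .child 60 false 3465,
  .child 69 false 3465,
  .child 28 true 3465,
  .child 30 true 3465,
  .child 60 true 3465,
  .child 69 true 3465,
  .child 27 false 2881,
  .child 60 false 2881,
  .child 69 false 2881,
  .child 60 true 2881,
  .child 69 true 2881,
  .child 27 false 3694,
  .child 28 false 3694,
  .child 29 false 3694,
  .child 30 false 3694,
  .child 69 false 3694,
  .child 27 true 3694,
  .child 28 true 3694,
  .child 29 true 3694,
  .child 30 true 3694,
  .child 69 true 3694,
  .child 27 false 693,
  .child 28 false 693,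
  .child 30 false 693,
  .child 27 true 693,
  .child 28 true 693,
  .child 29 true 693,
  .child 30 true 693,
  .child 60 true 693,
  .child 29 false 3379]

/-- part 2 of `twTree4` -/
noncomputable def twTree4P2 : List (Leaf) := [
  .child 30 false 3379,
  .child 60 false 3379,
  .child 69 false 3379,
  .child 29 true 3379,
  .child 30 true 3379,
  .child 60 true 3379,
  .child 69 true 3379,
  .child 27 false 1141,
  .child 28 false 1141,
  .child 30 false 1141,
  .child 60 false 1141,
  .child 28 true 1141,
  .child 30 true 1141,
  .child 60 true 1141,
  .child 69 true 1141,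
  .child 29 false 2477,
  .child 60 false 2477,
  .child 69 false 2477,
  .child 28 true 2477,
  .child 60 true 2477,
  .child 69 true 2477,
  .child 27 false 1895,
  .child 28 false 1895,
  .child 29 false 1895,
  .child 30 false 1895,
  .child 27 true 1895,
  .child 28 true 1895,
  .child 29 true 1895,
  .child 30 true 1895,
  .child 69 true 1895,
  .child 27 false 3200,
  .child 28 false 3200,
  .child 30 false 3200,
  .child 27 true 3200,
  .child 28 true 3200,
  .child 30 true 3200,
  .child 69 false 3858,
  .child 30 true 3858,
  .child 60 true 3858,
  .child 69 true 3858,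
  .child 60 false 1929,
  .child 69 false 1929,
  .child 60 true 1929,
  .child 69 true 1929,
  .child 30 false 3250,
  .child 69 false 3250,
  .child 29 true 3250,
  .child 30 true 3250,
  .child 69 true 3250,
  .child 30 false 1859,
  .child 30 true 1859,
  .child 60 true 1859,
  .child 30 false 1612,
  .child 30 true 1612,
  .child 69 true 1612,
  .child 29 false 1504,
  .child 60 false 1504,
  .child 69 false 1504,
  .child 60 true 1504,
  .child 69 true 1504,
  .child 29 false 62,
  .child 30 false 62,
  .child 30 true 62,
  .child 69 true 62,
  .child 30 false 1911,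
  .child 30 true 1911,
  .child 60 false 1492,
  .child 69 false 1492,
  .child 60 true 1492,
  .child 69 true 1492,
  .child 60 false 1480,
  .child 69 false 1480,
  .child 60 true 1480,
  .child 69 true 1480,
  .child 60 false 215,
  .child 69 false 215,
  .child 60 true 215,
  .child 69 true 215,
  .child 60 false 1975,
  .child 69 false 1975,
  .child 60 true 1975,
  .child 69 true 1975,
  .child 27 false 3248,
  .child 28 false 3248,
  .child 30 false 3248,
  .child 69 false 3248,
  .child 27 true 3248,
  .child 28 true 3248,
  .child 29 true 3248,
  .child 30 true 3248,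
  .child 69 true 3248,
  .child 27 false 452,
  .child 28 false 452,
  .child 30 false 452,
  .child 27 true 452,
  .child 28 true 452,
  .child 30 true 452,
  .child 60 true 452,
  .child 60 false 2899,
  .child 69 false 2899]

/-- part 3 of `twTree4` -/
noncomputable def twTree4P3 : List (Leaf) := [
  .child 60 true 2899,
  .child 69 true 2899,
  .child 60 false 2040,
  .child 69 false 2040,
  .child 60 false 3350,
  .child 69 false 3350,
  .child 60 true 3350,
  .child 69 true 3350,
  .child 27 false 722,
  .child 28 false 722,
  .child 29 false 722,
  .child 27 true 722,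
  .child 28 true 722,
  .child 29 true 722,
  .child 30 true 722,
  .child 69 true 722,
  .child 27 false 2581,
  .child 28 false 2581,
  .child 30 false 2581,
  .child 27 true 2581,
  .child 60 false 3689,
  .child 69 false 3689,
  .child 60 true 3689,
  .child 69 true 3689,
  .child 60 false 2063,
  .child 69 false 2063,
  .child 60 true 2063,
  .child 69 true 2063,
  .child 60 false 2640,
  .child 69 false 2640,
  .child 60 true 2640,
  .child 69 true 2640,
  .child 60 false 2236,
  .child 69 false 2236,
  .child 60 true 2236,
  .child 69 true 2236,
  .child 27 false 1752,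
  .child 28 false 1752,
  .child 29 false 1752,
  .child 30 false 1752,
  .child 69 false 1752,
  .child 27 true 1752,
  .child 28 true 1752,
  .child 29 true 1752,
  .child 30 true 1752,
  .child 69 true 1752,
  .child 27 false 2991,
  .child 30 false 2991,
  .child 29 true 2991,
  .child 60 true 2991,
  .child 60 false 1467,
  .child 60 true 1467,
  .child 69 true 1467,
  .child 27 false 2914,
  .child 28 false 2914,
  .child 30 false 2914,
  .child 27 true 2914,
  .child 28 true 2914,
  .child 29 true 2914,
  .child 30 true 2914,
  .child 69 true 2914,
  .child 27 false 68,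
  .child 28 false 68,
  .child 30 false 68,
  .child 29 false 2928,
  .child 30 false 2928,
  .child 69 false 2928,
  .child 29 true 2928,
  .child 30 true 2928,
  .child 60 true 2928,
  .child 69 true 2928,
  .child 29 false 3900,
  .child 30 false 3900,
  .child 60 false 3900,
  .child 69 false 3900,
  .child 30 true 3900,
  .child 60 true 3900,
  .child 69 true 3900,
  .child 27 false 3097,
  .child 28 false 3097,
  .child 69 false 3097,
  .child 27 true 3097,
  .child 28 true 3097,
  .child 30 true 3097,
  .child 60 true 3097,
  .child 69 true 3097,
  .child 27 false 2824,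
  .child 28 false 2824,
  .child 29 false 2824,
  .child 30 false 2824,
  .child 60 false 2824,
  .child 69 false 2824,
  .child 60 true 2824,
  .child 69 true 2824,
  .child 27 false 3220,
  .child 28 false 3220,
  .child 30 false 3220,
  .child 27 true 3220,
  .child 28 true 3220,
  .child 29 true 3220]

/-- part 4 of `twTree4` -/
noncomputable def twTree4P4 : List (Leaf) := [
  .child 30 true 3220,
  .child 29 false 1407,
  .child 30 false 1407,
  .child 60 false 1407,
  .child 69 false 1407,
  .child 29 true 1407,
  .child 30 true 1407,
  .child 60 true 1407,
  .child 69 true 1407,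
  .child 29 false 2073,
  .child 30 false 2073,
  .child 60 false 2073,
  .child 69 false 2073,
  .child 29 true 2073,
  .child 30 true 2073,
  .child 60 true 2073,
  .child 69 true 2073,
  .child 30 false 1355,
  .child 60 false 1355,
  .child 27 true 1355,
  .child 29 true 1355,
  .child 30 true 1355,
  .child 60 true 1355,
  .child 69 true 1355,
  .child 29 false 1169,
  .child 69 false 1169,
  .child 27 true 1169,
  .child 28 true 1169,
  .child 29 true 1169,
  .child 69 true 1169,
  .child 27 false 486,
  .child 28 false 486,
  .child 30 false 486,
  .child 27 true 486,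
  .child 28 true 486,
  .child 27 false 662,
  .child 28 false 662,
  .child 29 false 662,
  .child 30 false 662,
  .child 60 false 662,
  .child 69 false 662,
  .child 29 true 662,
  .child 60 true 662,
  .child 69 true 662,
  .child 30 false 316,
  .child 60 false 316,
  .child 60 true 316,
  .child 69 true 316,
  .child 27 false 2419,
  .child 28 false 2419,
  .child 29 false 2419,
  .child 30 false 2419,
  .child 60 false 2419,
  .child 29 true 2419,
  .child 29 false 2048,
  .child 30 false 2048,
  .child 60 false 2048,
  .child 69 false 2048,
  .child 29 true 2048,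
  .child 30 true 2048,
  .child 60 true 2048,
  .child 69 true 2048,
  .child 29 false 1008,
  .child 30 false 1008,
  .child 60 false 1008,
  .child 29 true 1008,
  .child 30 true 1008,
  .child 69 true 1008,
  .child 27 false 972,
  .child 28 false 972,
  .child 60 false 972,
  .child 27 true 972,
  .child 28 true 972,
  .child 29 true 972,
  .child 30 true 972,
  .child 60 true 972,
  .child 29 false 1378,
  .child 60 false 1378,
  .child 69 false 1378,
  .child 27 true 1378,
  .child 28 true 1378,
  .child 29 true 1378,
  .child 60 true 1378,
  .child 69 true 1378,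
  .child 27 false 3839,
  .child 28 false 3839,
  .child 29 false 3839,
  .child 30 false 3839,
  .child 28 true 3839,
  .child 29 true 3839,
  .child 30 true 3839,
  .child 60 false 949,
  .child 69 false 949,
  .child 60 true 949,
  .child 69 true 949,
  .child 28 false 2374,
  .child 60 false 2374,
  .child 60 true 2374,
  .child 69 true 2374,
  .child 29 false 2366]

/-- part 5 of `twTree4` -/
noncomputable def twTree4P5 : List (Leaf) := [
  .child 30 false 2366,
  .child 69 false 2366,
  .child 29 true 2366,
  .child 30 true 2366,
  .child 69 true 2366,
  .child 27 false 3640,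
  .child 28 false 3640,
  .child 30 false 3640,
  .child 27 true 3640,
  .child 28 true 3640,
  .child 29 true 3640,
  .child 30 true 3640,
  .child 60 true 3640,
  .child 60 true 3498,
  .child 69 true 3498,
  .child 60 false 3431,
  .child 69 false 3431,
  .child 27 true 3431,
  .child 69 true 3431,
  .child 29 false 843,
  .child 29 true 843,
  .child 30 true 843,
  .child 69 true 843,
  .child 27 false 366,
  .child 28 false 366,
  .child 30 false 366,
  .child 27 true 366,
  .child 28 true 366,
  .child 30 true 366,
  .child 69 false 603,
  .child 60 false 1742,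
  .child 60 true 1742,
  .child 69 true 1742,
  .child 69 false 502,
  .child 29 true 502,
  .child 30 true 502,
  .child 69 true 502,
  .child 30 false 249,
  .child 29 true 249,
  .child 30 true 249,
  .child 60 true 249,
  .child 60 false 3541,
  .child 60 false 205,
  .child 69 false 205,
  .child 69 true 205,
  .child 29 false 2637,
  .child 30 true 2637,
  .child 69 true 2637,
  .child 30 false 738,
  .child 60 false 1735,
  .child 69 false 1735,
  .child 60 true 1735,
  .child 69 true 1735,
  .child 60 false 635,
  .child 69 false 635,
  .child 60 true 635,
  .child 69 true 635,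
  .child 60 false 3781,
  .child 60 true 3781,
  .child 69 true 3781,
  .child 27 false 481,
  .child 28 false 481,
  .child 30 false 481,
  .child 27 true 481,
  .child 28 true 481,
  .child 29 true 481,
  .child 60 false 554,
  .child 69 false 554,
  .child 60 true 554,
  .child 69 true 554,
  .child 60 false 3545,
  .child 69 false 3545,
  .child 60 true 3545,
  .child 60 false 339,
  .child 69 false 2189,
  .child 60 true 2189,
  .child 30 true 2915,
  .child 69 true 2915,
  .child 27 false 2951,
  .child 28 false 2951,
  .child 27 true 2951,
  .child 60 false 3760,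
  .child 60 true 3760,
  .child 29 false 3777,
  .child 30 false 3777,
  .child 69 false 3777,
  .child 27 true 3777,
  .child 28 true 3777,
  .child 30 true 3777,
  .child 27 true 1539,
  .child 28 true 1539,
  .child 29 true 1539,
  .child 60 true 1539,
  .child 60 false 3652,
  .child 69 false 3652,
  .child 60 true 3652,
  .child 69 true 3652,
  .child 60 false 3618,
  .child 69 false 3618,
  .child 60 true 3618]

/-- part 6 of `twTree4` -/
noncomputable def twTree4P6 : List (Leaf) := [
  .child 69 true 3618,
  .child 60 false 2845,
  .child 60 true 2845,
  .child 27 false 3269,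
  .child 29 false 3269,
  .child 30 false 3269,
  .child 29 true 3269,
  .child 30 true 3269,
  .child 69 true 3269,
  .child 27 true 344,
  .child 30 true 344,
  .child 29 false 111,
  .child 30 false 111,
  .child 60 false 111,
  .child 69 false 111,
  .child 29 true 111,
  .child 30 true 111,
  .child 60 true 111,
  .child 69 true 111,
  .child 30 false 213,
  .child 60 false 213,
  .child 69 false 213,
  .child 30 true 213,
  .child 60 true 213,
  .child 69 true 213,
  .child 28 false 1459,
  .child 29 false 1459,
  .child 30 false 1459,
  .child 60 false 1459,
  .child 27 true 1459,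
  .child 27 false 3862,
  .child 28 false 3862,
  .child 30 false 3862,
  .child 69 false 3862,
  .child 29 true 3862,
  .child 69 true 3862,
  .child 29 false 1483,
  .child 30 false 1483,
  .child 60 false 1483,
  .child 69 false 1483,
  .child 69 true 1483,
  .child 29 false 1893,
  .child 30 false 1893,
  .child 60 false 1893,
  .child 69 false 1893,
  .child 60 true 1893,
  .child 69 true 1893,
  .child 30 false 3324,
  .child 60 false 3324,
  .child 29 true 3324,
  .child 69 true 3324,
  .child 29 false 135,
  .child 69 false 135,
  .child 27 true 135,
  .child 28 true 135,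
  .child 29 true 135,
  .child 60 true 135,
  .child 69 true 135,
  .child 27 false 3238,
  .child 28 false 3238,
  .child 30 false 3238,
  .child 27 true 3238,
  .child 28 true 3238,
  .child 30 true 3238,
  .child 27 false 3057,
  .child 28 false 3057,
  .child 29 false 3057,
  .child 30 false 3057,
  .child 60 false 3057,
  .child 69 false 3057,
  .child 29 true 3057,
  .child 60 true 3057,
  .child 69 true 3057,
  .child 29 false 243,
  .child 30 false 243,
  .child 60 false 243,
  .child 60 true 243,
  .child 69 true 243,
  .child 27 false 999,
  .child 28 false 999,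
  .child 29 false 999,
  .child 60 false 999,
  .child 29 true 999,
  .child 60 true 999,
  .child 29 false 2008,
  .child 60 false 2008,
  .child 69 false 2008,
  .child 29 true 2008,
  .child 30 true 2008,
  .child 60 true 2008,
  .child 69 true 2008,
  .child 60 false 1228,
  .child 30 true 1228,
  .child 60 true 1228,
  .child 27 true 3535,
  .child 28 true 3535,
  .child 60 true 3535,
  .child 60 false 1656,
  .child 69 false 1656,
  .child 60 true 1656]

/-- part 7 of `twTree4` -/
noncomputable def twTree4P7 : List (Leaf) := [
  .child 69 true 1656,
  .child 60 false 3071,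
  .child 69 false 3071,
  .child 29 false 1936,
  .child 30 false 1936,
  .child 69 false 1936,
  .child 69 true 1936,
  .child 27 true 2487,
  .child 28 true 2487,
  .child 30 true 2487,
  .child 60 true 2487,
  .child 60 true 214,
  .child 69 true 214,
  .child 60 true 3550,
  .child 69 true 3550,
  .child 29 false 1846,
  .child 29 true 1846,
  .child 30 true 1846,
  .child 69 true 1846,
  .child 27 false 3028,
  .child 28 false 3028,
  .child 30 false 3028,
  .child 69 false 493,
  .child 60 true 493,
  .child 69 true 493,
  .child 69 false 3386,
  .child 69 true 3386,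
  .child 30 true 1211,
  .child 60 true 1211,
  .child 69 true 2334,
  .child 29 false 2557,
  .child 69 true 2557,
  .child 30 false 1243,
  .child 60 false 1308,
  .child 69 false 1308,
  .child 60 true 1308,
  .child 69 true 1308,
  .child 27 false 164,
  .child 28 false 164,
  .child 30 false 164,
  .child 69 false 164,
  .child 27 true 164,
  .child 28 true 164,
  .child 69 true 164,
  .child 27 false 1769,
  .child 30 true 1769,
  .child 60 true 1769,
  .child 60 false 480,
  .child 69 false 480,
  .child 69 false 3148,
  .child 60 true 3148,
  .child 69 true 3148,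
  .child 29 false 1571,
  .child 27 true 1571,
  .child 28 true 1571,
  .child 30 true 1571,
  .child 69 true 1571,
  .child 27 false 1687,
  .child 60 false 1932,
  .child 69 false 1932,
  .child 27 false 1376,
  .child 28 false 1376,
  .child 69 false 1376,
  .child 27 true 1376,
  .child 28 true 1376,
  .child 29 true 1376,
  .child 69 true 1376,
  .child 30 false 1646,
  .child 60 true 1646,
  .child 27 false 773,
  .child 28 false 773,
  .child 27 true 773,
  .child 30 true 773,
  .child 69 true 773,
  .child 27 false 3561,
  .child 28 false 3561,
  .child 30 false 3561,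
  .child 30 false 2204,
  .child 69 false 2204,
  .child 60 true 2204,
  .child 69 true 2204,
  .child 29 false 753,
  .child 30 false 753,
  .child 60 false 753,
  .child 69 false 753,
  .child 30 true 753,
  .child 60 true 753,
  .child 69 true 753,
  .child 27 false 1030,
  .child 28 false 1030,
  .child 27 true 1030,
  .child 28 true 1030,
  .child 30 true 1030,
  .child 69 true 1030,
  .child 28 false 3555,
  .child 69 false 3555,
  .child 60 true 3555,
  .child 69 true 3555,
  .child 27 false 2112,
  .child 28 false 2112]

/-- part 8 of `twTree4` -/
noncomputable def twTree4P8 : List (Leaf) := [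
  .child 30 false 2112,
  .child 27 true 2112,
  .child 28 true 2112,
  .child 29 true 2112,
  .child 30 true 2112,
  .child 29 false 1186,
  .child 30 false 1186,
  .child 60 false 1186,
  .child 69 false 1186,
  .child 29 true 1186,
  .child 60 true 1186,
  .child 69 true 1186,
  .child 30 false 1048,
  .child 69 false 1048,
  .child 29 true 1048,
  .child 60 true 1048,
  .child 69 true 1048,
  .child 30 false 3413,
  .child 60 false 3413,
  .child 27 true 3413,
  .child 69 true 3413,
  .child 29 false 18,
  .child 69 false 18,
  .child 27 true 18,
  .child 69 true 18,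
  .child 27 false 194,
  .child 28 false 194,
  .child 30 false 194,
  .child 27 true 194,
  .child 28 true 194,
  .child 29 false 2384,
  .child 60 false 2384,
  .child 60 true 2384,
  .child 60 false 2423,
  .child 60 true 2423,
  .child 29 false 3703,
  .child 30 false 3703,
  .child 60 false 3703,
  .child 29 true 3703,
  .child 60 false 3527,
  .child 69 false 3527,
  .child 60 true 3527,
  .child 69 true 3527,
  .child 60 false 2583,
  .child 69 false 2583,
  .child 60 true 2583,
  .child 69 true 2583,
  .child 60 false 1709,
  .child 30 true 1709,
  .child 60 true 1709,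
  .child 29 true 1198,
  .child 60 true 1198,
  .child 69 true 1198,
  .child 28 false 1779,
  .child 29 false 1779,
  .child 30 false 1779,
  .child 27 true 1779,
  .child 28 true 1779,
  .child 29 true 1779,
  .child 30 true 1779,
  .child 69 false 908,
  .child 60 false 2822,
  .child 69 true 2822,
  .child 69 false 2774,
  .child 69 true 2774,
  .child 30 true 1442,
  .child 60 true 1442,
  .child 69 false 1188,
  .child 30 true 2643,
  .child 69 true 2643,
  .child 30 false 2605,
  .child 60 false 3404,
  .child 69 false 3404,
  .child 60 false 1831,
  .child 69 false 1831,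
  .child 60 false 2342,
  .child 30 false 3451,
  .child 29 true 3451,
  .child 69 true 3451,
  .child 60 true 3445,
  .child 30 true 892,
  .child 69 true 892,
  .child 27 false 1908,
  .child 28 false 1908,
  .child 60 false 3251,
  .child 60 true 3251,
  .child 30 false 1594,
  .child 30 true 1594,
  .child 60 true 2810,
  .child 69 false 3276,
  .child 60 true 3276,
  .child 29 false 960,
  .child 29 true 960,
  .child 69 true 960,
  .child 30 false 40,
  .child 69 false 40,
  .child 29 true 40,
  .child 60 true 40,
  .child 69 true 40,
  .child 60 false 157]

/-- part 9 of `twTree4` -/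
noncomputable def twTree4P9 : List (Leaf) := [
  .child 69 false 157,
  .child 69 true 157,
  .child 30 false 655,
  .child 60 true 655,
  .child 69 true 655,
  .child 30 false 41,
  .child 69 false 41,
  .child 29 true 41,
  .child 69 true 41,
  .child 29 false 504,
  .child 30 false 504,
  .child 60 false 504,
  .child 69 false 504,
  .child 69 true 504,
  .child 29 false 312,
  .child 30 false 312,
  .child 60 false 312,
  .child 69 false 312,
  .child 69 true 312,
  .child 30 false 388,
  .child 29 true 388,
  .child 69 true 388,
  .child 29 false 670,
  .child 69 false 670,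
  .child 27 true 670,
  .child 28 true 670,
  .child 69 true 670,
  .child 27 false 1507,
  .child 30 false 1507,
  .child 27 true 1507,
  .child 28 true 1507,
  .child 30 true 1507,
  .child 27 false 3782,
  .child 28 false 3782,
  .child 29 false 3782,
  .child 30 false 3782,
  .child 60 false 3782,
  .child 29 true 3782,
  .child 60 true 3782,
  .child 69 true 3782,
  .child 29 false 2726,
  .child 30 false 2726,
  .child 60 false 2726,
  .child 60 true 2726,
  .child 69 true 2726,
  .child 27 false 1977,
  .child 28 false 1977,
  .child 29 false 1977,
  .child 30 false 1977,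
  .child 29 true 1977,
  .child 60 true 1977,
  .child 60 false 3599,
  .child 30 true 3599,
  .child 60 true 3599,
  .child 60 false 1007,
  .child 30 true 1007,
  .child 60 true 1007,
  .child 28 true 1906,
  .child 60 true 1906,
  .child 30 true 3026,
  .child 60 true 3026,
  .child 69 false 1583,
  .child 69 true 2131,
  .child 69 false 1806,
  .child 60 true 1653,
  .child 30 true 3880,
  .child 69 true 3880,
  .child 30 false 1473,
  .child 69 false 1543,
  .child 69 true 1543,
  .child 30 false 3294,
  .child 29 true 3294,
  .child 30 true 3294,
  .child 30 false 777,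
  .child 69 true 777,
  .child 29 false 3817,
  .child 69 false 3817,
  .child 69 true 3817,
  .child 30 false 950,
  .child 29 true 1952,
  .child 60 true 1952,
  .child 29 false 1592,
  .child 30 false 1592,
  .child 30 true 1592,
  .child 60 true 3597,
  .child 60 true 209,
  .child 60 true 2156,
  .child 30 false 1297,
  .child 60 true 1268,
  .child 69 true 2526,
  .child 30 false 573,
  .child 69 true 573,
  .child 30 false 2322,
  .child 69 false 2322,
  .child 29 true 2322,
  .child 69 true 2322,
  .child 29 false 272,
  .child 69 false 272,
  .child 69 true 272,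
  .child 30 false 3115]

/-- part 10 of `twTree4` -/
noncomputable def twTree4P10 : List (Leaf) := [
  .child 30 true 3115,
  .child 29 false 1643,
  .child 30 false 1643,
  .child 29 true 1643,
  .child 60 true 1643,
  .child 60 true 1085,
  .child 69 false 3506,
  .child 69 true 3506,
  .child 29 false 1692,
  .child 69 true 1692,
  .child 69 false 1867,
  .child 29 true 1867,
  .child 69 true 1867,
  .child 29 false 3399,
  .child 69 true 3399,
  .child 69 false 822,
  .child 69 true 822,
  .child 29 false 3283,
  .child 69 true 3283,
  .child 29 false 3228,
  .child 69 false 3228,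
  .child 69 true 3228,
  .child 60 true 2955,
  .child 69 true 684,
  .child 69 false 905,
  .child 69 true 905,
  .child 69 false 3509,
  .child 69 true 3509,
  .child 29 false 3191,
  .child 69 true 3191,
  .child 27 false 996,
  .child 28 false 996,
  .child 29 true 996,
  .child 69 false 2599,
  .child 69 false 3594,
  .child 30 true 2804,
  .child 69 true 2804,
  .child 69 false 2791,
  .child 27 false 1527,
  .child 28 false 1527,
  .child 27 true 1527,
  .child 28 true 1527,
  .child 27 false 2432,
  .child 28 false 2432,
  .child 30 false 2395,
  .child 60 false 2395,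
  .child 60 true 962,
  .child 60 false 341,
  .child 29 false 2301,
  .child 30 false 2301,
  .child 29 true 2301,
  .child 29 true 2717,
  .child 27 true 3576,
  .child 28 true 3576,
  .child 30 true 3576,
  .child 60 true 3576,
  .child 29 false 1216,
  .child 69 true 1216,
  .child 29 true 1204,
  .child 30 true 227,
  .child 69 false 1296,
  .child 30 true 199,
  .child 69 true 2720,
  .child 29 false 2444,
  .child 60 false 2444,
  .child 69 false 2444,
  .child 69 true 2444,
  .child 60 false 1193,
  .child 69 false 1193,
  .child 69 true 1193,
  .child 69 true 1447,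
  .child 69 true 1405,
  .child 69 true 528,
  .child 69 true 2800,
  .child 69 false 563,
  .child 69 true 563,
  .child 30 false 1004,
  .child 30 true 1004,
  .child 60 false 2683,
  .child 60 true 2929,
  .child 69 false 1737,
  .child 69 true 1737,
  .child 30 false 3662,
  .child 27 true 3662,
  .child 28 true 3662,
  .child 60 true 3662,
  .child 69 true 526,
  .child 30 false 1335,
  .child 69 false 1713,
  .child 69 true 1713,
  .child 60 true 3093,
  .child 69 true 2053,
  .child 30 false 2867,
  .child 69 false 131,
  .child 69 true 131,
  .child 60 true 3163,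
  .child 69 true 173,
  .child 69 false 697,
  .child 69 true 697,
  .child 60 true 885]

/-- part 11 of `twTree4` -/
noncomputable def twTree4P11 : List (Leaf) := [
  .child 27 false 3235,
  .child 28 false 3235,
  .child 30 false 3235,
  .child 29 false 2426,
  .child 29 false 2094,
  .child 27 false 984,
  .child 28 false 984,
  .child 69 true 984,
  .child 29 false 3604,
  .child 69 false 3604,
  .child 29 true 82,
  .child 69 true 128,
  .child 30 false 3647,
  .child 27 false 1812,
  .child 60 false 2349,
  .child 27 false 2555,
  .child 28 false 2555,
  .child 27 true 2555,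
  .child 28 true 2555,
  .child 29 true 2555,
  .child 69 true 3260,
  .child 69 true 96,
  .child 69 false 2072,
  .child 69 true 2072,
  .child 30 false 2255,
  .child 69 false 2255,
  .child 69 true 2255,
  .child 69 true 1084,
  .child 69 false 125,
  .child 69 true 125,
  .child 69 false 1171,
  .child 69 true 1171,
  .child 69 true 1941,
  .child 69 false 687,
  .child 69 true 687,
  .child 27 false 54,
  .child 28 false 54,
  .child 30 false 54,
  .child 27 true 54,
  .child 28 true 54,
  .child 30 true 54,
  .child 30 false 2602,
  .child 30 false 3878,
  .child 60 false 3878,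
  .child 69 false 3508,
  .child 69 true 3508,
  .child 69 false 1707,
  .child 69 true 1707,
  .child 30 false 2805,
  .child 30 true 2805,
  .child 60 true 2805,
  .child 30 true 1239,
  .child 69 true 1239,
  .child 69 false 2290,
  .child 69 true 2290,
  .child 69 true 3681,
  .child 30 false 608,
  .child 30 true 608,
  .child 69 false 1767,
  .child 69 true 1767,
  .child 69 false 3721,
  .child 69 true 3721,
  .child 69 true 761,
  .child 30 false 1491,
  .child 30 true 1491,
  .child 60 true 1491,
  .child 69 false 1622,
  .child 69 true 1622,
  .child 69 true 3726,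
  .child 30 false 2802,
  .child 30 true 2802,
  .child 69 false 1540,
  .child 69 true 1540,
  .child 69 false 1598,
  .child 69 true 1598,
  .child 27 false 895,
  .child 28 false 895,
  .child 27 true 895,
  .child 28 true 895,
  .child 60 true 895,
  .child 69 false 1989,
  .child 69 true 1989,
  .child 69 false 3672,
  .child 69 true 1231,
  .child 27 false 3333,
  .child 28 false 3333,
  .child 27 true 3333,
  .child 69 false 2880,
  .child 69 true 2880,
  .child 69 false 1965,
  .child 69 true 1965,
  .child 69 false 1918,
  .child 69 true 1918,
  .child 69 false 2351,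
  .child 69 true 2351,
  .child 69 false 2041,
  .child 69 true 2041,
  .child 69 true 2226,
  .child 27 false 1290,
  .child 28 false 1290]

/-- part 12 of `twTree4` -/
noncomputable def twTree4P12 : List (Leaf) := [
  .child 30 false 1290,
  .child 29 false 3052,
  .child 30 false 3052,
  .child 69 true 3052,
  .child 69 true 3671,
  .child 27 false 2885,
  .child 28 false 2885,
  .child 29 false 2885,
  .child 60 false 2885,
  .child 30 false 3289,
  .child 29 true 3289,
  .child 30 false 3354,
  .child 29 true 3354,
  .child 29 true 2582,
  .child 30 true 2582,
  .child 60 true 2582,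
  .child 29 false 788,
  .child 27 true 788,
  .child 28 true 788,
  .child 69 true 2105,
  .child 27 false 1693,
  .child 29 true 1693,
  .child 30 true 1693,
  .child 69 true 3012,
  .child 69 false 1974,
  .child 69 true 1974,
  .child 27 false 1914,
  .child 28 false 1914,
  .child 30 false 1914,
  .child 27 true 1914,
  .child 28 true 1914,
  .child 30 true 1914,
  .child 69 true 2097,
  .child 29 true 3214,
  .child 30 true 3214,
  .child 69 false 1164,
  .child 69 true 1164,
  .child 30 false 610,
  .child 69 true 646,
  .child 69 true 3887,
  .child 69 false 3826,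
  .child 27 true 898,
  .child 28 true 898,
  .child 29 true 898,
  .child 69 true 2562,
  .child 69 true 2515,
  .child 27 false 12,
  .child 28 false 12,
  .child 29 false 12,
  .child 69 false 12,
  .child 29 true 12,
  .child 29 false 1106,
  .child 30 false 1106,
  .child 29 false 2702,
  .child 60 false 2702,
  .child 29 true 2702,
  .child 60 true 2702,
  .child 69 false 834,
  .child 29 true 834,
  .child 60 false 961,
  .child 69 true 2670,
  .child 60 false 735,
  .child 60 true 735,
  .child 69 true 886,
  .child 69 true 3491,
  .child 69 true 2553,
  .child 69 false 412,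
  .child 60 false 1289,
  .child 69 false 1289,
  .child 60 true 1356,
  .child 69 false 869,
  .child 60 false 2367,
  .child 60 true 77,
  .child 29 false 1042,
  .child 30 false 1042,
  .child 60 true 1441,
  .child 60 true 598,
  .child 30 true 2986,
  .child 60 true 649,
  .child 60 true 445,
  .child 30 false 1117,
  .child 60 false 1019,
  .child 60 false 177,
  .child 60 false 721,
  .child 60 true 721,
  .child 60 false 1251,
  .child 60 false 342,
  .child 27 false 1025,
  .child 29 true 1025,
  .child 69 true 1025,
  .child 29 false 3536,
  .child 30 false 3536,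
  .child 29 true 3536,
  .child 30 false 3473,
  .child 29 false 621,
  .child 30 false 621,
  .child 30 false 1264,
  .child 29 false 1038,
  .child 30 false 1038,
  .child 69 true 1038]

/-- part 13 of `twTree4` -/
noncomputable def twTree4P13 : List (Leaf) := [
  .child 29 true 491,
  .child 27 true 1701,
  .child 29 true 1701,
  .child 60 true 1701,
  .child 60 true 3592,
  .child 69 false 299,
  .child 27 false 1147,
  .child 28 false 1147,
  .child 30 false 1147,
  .child 29 true 1147,
  .child 30 true 1147,
  .child 69 false 371,
  .child 69 true 371,
  .child 27 false 1098,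
  .child 30 false 1098,
  .child 27 true 1098,
  .child 27 false 2588,
  .child 28 false 2588,
  .child 60 true 2588,
  .child 30 false 2030,
  .child 60 true 2030,
  .child 60 true 644,
  .child 60 true 639,
  .child 27 false 1260,
  .child 28 false 1260,
  .child 30 false 1260,
  .child 69 true 1298,
  .child 69 false 841,
  .child 69 false 2024,
  .child 69 true 2024,
  .child 28 true 3011,
  .child 60 false 1017,
  .child 60 false 825,
  .child 30 false 1027,
  .child 29 true 1027,
  .child 69 false 813,
  .child 69 true 813,
  .child 30 false 3824,
  .child 60 false 285,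
  .child 60 true 3166,
  .child 29 false 868,
  .child 30 false 868,
  .child 69 false 3690,
  .child 69 false 3327,
  .child 69 true 3327,
  .child 69 true 1167,
  .child 69 true 1992,
  .child 69 true 968,
  .child 69 true 3901,
  .child 69 true 2936,
  .child 69 true 2682,
  .child 69 false 1588,
  .child 69 false 2009,
  .child 69 false 3565,
  .child 27 false 1862,
  .child 28 false 1862,
  .child 30 false 1862,
  .child 60 false 1524,
  .child 69 false 1524,
  .child 69 true 1524,
  .child 69 false 3405,
  .child 69 true 3405,
  .child 60 true 3432,
  .child 27 false 257,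
  .child 28 false 257,
  .child 30 true 257,
  .child 69 false 518,
  .child 69 true 518,
  .child 69 false 1374,
  .child 69 true 1374,
  .child 69 false 1923,
  .child 69 true 1923,
  .child 69 false 1728,
  .child 69 true 1728,
  .child 69 false 2436,
  .child 69 true 2436,
  .child 29 true 1755,
  .child 69 true 2740,
  .child 30 false 1842,
  .child 69 false 1224,
  .child 69 true 1224,
  .child 69 false 2267,
  .child 69 true 2267,
  .child 30 false 1026,
  .child 69 true 1246,
  .child 30 false 3678,
  .child 69 true 1274,
  .child 69 true 2406,
  .child 69 false 420,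
  .child 69 false 878,
  .child 69 false 1928,
  .child 69 true 1928,
  .child 69 true 1832,
  .child 30 false 3786,
  .child 69 false 1694,
  .child 69 true 1694,
  .child 30 false 2174,
  .child 30 true 2174,
  .child 69 false 3000,
  .child 69 true 3153]

/-- part 14 of `twTree4` -/
noncomputable def twTree4P14 : List (Leaf) := [
  .child 30 false 758,
  .child 30 true 758,
  .child 69 true 2597,
  .child 69 true 3735,
  .child 28 true 2799,
  .child 29 true 2799,
  .child 60 true 2799,
  .child 69 false 2648,
  .child 69 true 2648,
  .child 69 false 3184,
  .child 69 true 3184,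
  .child 27 true 2860,
  .child 30 true 2860,
  .child 30 false 3488,
  .child 29 true 3488,
  .child 30 false 200,
  .child 28 false 2911,
  .child 69 false 3514,
  .child 69 true 2797,
  .child 60 true 3855,
  .child 69 true 1945,
  .child 69 true 2128,
  .child 69 false 1420,
  .child 30 false 3389,
  .child 60 false 3756,
  .child 60 false 2828,
  .child 29 false 1272,
  .child 28 true 1272,
  .child 69 true 1816,
  .child 69 true 570,
  .child 69 true 228,
  .child 60 true 1080,
  .child 30 false 1927,
  .child 29 false 1357,
  .child 69 false 2856,
  .child 69 true 2856,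
  .child 69 false 368,
  .child 69 false 421,
  .child 69 true 2044,
  .child 27 true 2292,
  .child 28 true 2292,
  .child 30 false 1889,
  .child 69 false 2532,
  .child 69 false 993,
  .child 69 false 1705,
  .child 69 true 3645,
  .child 60 false 2143,
  .child 60 false 2498,
  .child 69 false 2220,
  .child 69 true 2220,
  .child 69 false 2433,
  .child 69 true 833,
  .child 69 false 3164,
  .child 69 false 2952,
  .child 69 true 809,
  .child 29 false 1843,
  .child 27 false 842,
  .child 30 false 3835,
  .child 69 true 2574,
  .child 30 false 3367,
  .child 69 false 2809,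
  .child 69 false 2589,
  .child 69 true 2488,
  .child 69 true 35,
  .child 27 true 2706,
  .child 69 true 2188,
  .child 69 true 534,
  .child 30 false 1501,
  .child 69 true 2060,
  .child 69 true 429,
  .child 69 false 2450,
  .child 30 false 1732,
  .child 30 true 1101,
  .child 29 false 3754,
  .child 69 true 1009,
  .child 69 true 1175,
  .root 2,
  .child 27 false 13,
  .child 28 false 13,
  .child 29 false 13,
  .child 30 false 13,
  .child 69 false 13,
  .child 27 true 13,
  .child 28 true 13,
  .child 29 true 13,
  .child 30 true 13,
  .child 69 true 13,
  .child 27 false 3036,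
  .child 28 false 3036,
  .child 29 false 3036,
  .child 30 false 3036,
  .child 60 false 3036,
  .child 69 false 3036,
  .child 28 true 3036,
  .child 29 true 3036,
  .child 30 true 3036,
  .child 60 true 3036,
  .child 69 true 3036,
  .child 29 false 2688,
  .child 30 false 2688]

/-- part 15 of `twTree4` -/
noncomputable def twTree4P15 : List (Leaf) := [
  .child 60 false 2688,
  .child 69 false 2688,
  .child 29 true 2688,
  .child 30 true 2688,
  .child 60 true 2688,
  .child 69 true 2688,
  .child 27 false 3063,
  .child 28 false 3063,
  .child 29 false 3063,
  .child 30 false 3063,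
  .child 60 false 3063,
  .child 69 false 3063,
  .child 27 true 3063,
  .child 28 true 3063,
  .child 30 true 3063,
  .child 60 true 3063,
  .child 69 true 3063,
  .child 27 false 3687,
  .child 28 false 3687,
  .child 29 false 3687,
  .child 30 false 3687,
  .child 60 false 3687,
  .child 69 false 3687,
  .child 29 true 3687,
  .child 69 true 3687,
  .child 27 false 2750,
  .child 28 false 2750,
  .child 30 false 2750,
  .child 27 true 2750,
  .child 28 true 2750,
  .child 29 true 2750,
  .child 30 true 2750,
  .child 29 false 2147,
  .child 30 false 2147,
  .child 60 false 2147,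
  .child 69 false 2147,
  .child 29 true 2147,
  .child 30 true 2147,
  .child 60 true 2147,
  .child 69 true 2147,
  .child 29 false 2421,
  .child 30 false 2421,
  .child 60 false 2421,
  .child 69 false 2421,
  .child 29 true 2421,
  .child 30 true 2421,
  .child 60 true 2421,
  .child 69 true 2421,
  .child 27 false 2981,
  .child 28 false 2981,
  .child 30 false 2981,
  .child 60 false 2981,
  .child 27 true 2981,
  .child 28 true 2981,
  .child 29 true 2981,
  .child 30 true 2981,
  .child 60 true 2981,
  .child 69 true 2981,
  .child 29 false 3288,
  .child 69 false 3288,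
  .child 27 true 3288,
  .child 28 true 3288,
  .child 29 true 3288,
  .child 60 true 3288,
  .child 69 true 3288,
  .child 27 false 95,
  .child 28 false 95,
  .child 30 false 95,
  .child 27 true 95,
  .child 28 true 95,
  .child 30 true 95,
  .child 29 false 2748,
  .child 30 false 2748,
  .child 69 false 2748,
  .child 29 true 2748,
  .child 30 true 2748,
  .child 69 true 2748,
  .child 29 false 2673,
  .child 69 false 2673,
  .child 29 true 2673,
  .child 69 true 2673,
  .child 27 false 3873,
  .child 60 false 3873,
  .child 69 false 3873,
  .child 28 true 3873,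
  .child 30 true 3873,
  .child 60 true 3873,
  .child 69 true 3873,
  .child 27 false 546,
  .child 60 false 546,
  .child 69 false 546,
  .child 60 true 546,
  .child 69 true 546,
  .child 27 false 161,
  .child 28 false 161,
  .child 30 false 161,
  .child 69 false 161,
  .child 27 true 161,
  .child 28 true 161,
  .child 29 true 161]

/-- part 16 of `twTree4` -/
noncomputable def twTree4P16 : List (Leaf) := [
  .child 30 true 161,
  .child 69 true 161,
  .child 27 false 2839,
  .child 28 false 2839,
  .child 30 false 2839,
  .child 27 true 2839,
  .child 28 true 2839,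
  .child 29 true 2839,
  .child 30 true 2839,
  .child 60 true 2839,
  .child 30 false 2724,
  .child 69 false 2724,
  .child 30 true 2724,
  .child 69 true 2724,
  .child 27 false 2757,
  .child 28 false 2757,
  .child 30 false 2757,
  .child 28 true 2757,
  .child 30 true 2757,
  .child 60 true 2757,
  .child 69 true 2757,
  .child 29 false 3904,
  .child 60 false 3904,
  .child 69 false 3904,
  .child 28 true 3904,
  .child 60 true 3904,
  .child 69 true 3904,
  .child 27 false 938,
  .child 28 false 938,
  .child 29 false 938,
  .child 30 false 938,
  .child 27 true 938,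
  .child 28 true 938,
  .child 29 true 938,
  .child 30 true 938,
  .child 69 true 938,
  .child 27 false 3348,
  .child 28 false 3348,
  .child 30 false 3348,
  .child 27 true 3348,
  .child 28 true 3348,
  .child 30 true 3348,
  .child 69 false 3155,
  .child 69 true 3155,
  .child 60 false 1471,
  .child 69 false 1471,
  .child 60 true 1471,
  .child 69 true 1471,
  .child 30 false 2510,
  .child 69 false 2510,
  .child 30 true 2510,
  .child 69 true 2510,
  .child 30 false 711,
  .child 30 true 711,
  .child 60 true 711,
  .child 30 false 702,
  .child 30 true 702,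
  .child 69 true 702,
  .child 29 false 3259,
  .child 60 false 3259,
  .child 69 false 3259,
  .child 69 true 3259,
  .child 30 false 1917,
  .child 30 true 1917,
  .child 69 true 1917,
  .child 30 false 3478,
  .child 30 true 3478,
  .child 69 false 1654,
  .child 60 true 1654,
  .child 69 true 1654,
  .child 60 false 1668,
  .child 69 false 1668,
  .child 60 true 1668,
  .child 69 true 1668,
  .child 60 false 3079,
  .child 69 false 3079,
  .child 69 true 3079,
  .child 69 false 2891,
  .child 69 true 2891,
  .child 30 false 883,
  .child 69 false 883,
  .child 69 true 883,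
  .child 27 false 1811,
  .child 28 false 1811,
  .child 30 false 1811,
  .child 27 true 1811,
  .child 28 true 1811,
  .child 30 true 1811,
  .child 60 true 1811,
  .child 60 false 2102,
  .child 69 true 2102,
  .child 60 false 557,
  .child 69 true 557,
  .child 27 false 2330,
  .child 28 false 2330,
  .child 29 true 2330,
  .child 69 true 2330,
  .child 27 false 1673,
  .child 28 false 1673,
  .child 30 false 1673]

/-- part 17 of `twTree4` -/
noncomputable def twTree4P17 : List (Leaf) := [
  .child 27 true 1673,
  .child 69 false 2737,
  .child 69 false 104,
  .child 69 false 1700,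
  .child 60 true 1700,
  .child 69 true 1700,
  .child 69 false 1884,
  .child 27 false 2438,
  .child 28 false 2438,
  .child 30 false 2438,
  .child 69 false 2438,
  .child 27 true 2438,
  .child 28 true 2438,
  .child 30 true 2438,
  .child 69 true 2438,
  .child 27 false 1498,
  .child 30 false 1498,
  .child 29 true 1498,
  .child 69 true 2992,
  .child 27 false 1804,
  .child 28 false 1804,
  .child 30 false 1804,
  .child 27 false 3776,
  .child 28 false 3776,
  .child 29 false 3776,
  .child 30 false 3776,
  .child 60 false 3776,
  .child 69 false 3776,
  .child 29 true 3776,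
  .child 30 false 1892,
  .child 60 false 1892,
  .child 27 false 290,
  .child 28 false 290,
  .child 29 false 290,
  .child 29 true 290,
  .child 29 false 1864,
  .child 30 false 1864,
  .child 69 false 1864,
  .child 29 true 1864,
  .child 30 true 1864,
  .child 60 true 1864,
  .child 69 true 1864,
  .child 29 false 1199,
  .child 30 false 1199,
  .child 69 false 1199,
  .child 29 true 1199,
  .child 30 true 1199,
  .child 60 true 1199,
  .child 69 true 1199,
  .child 27 false 3567,
  .child 28 false 3567,
  .child 60 false 3567,
  .child 27 true 3567,
  .child 28 true 3567,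
  .child 29 true 3567,
  .child 30 true 3567,
  .child 60 true 3567,
  .child 29 false 2344,
  .child 69 false 2344,
  .child 27 true 2344,
  .child 28 true 2344,
  .child 29 true 2344,
  .child 60 true 2344,
  .child 69 true 2344,
  .child 69 true 3414,
  .child 69 true 1220,
  .child 29 false 1799,
  .child 29 true 1799,
  .child 27 false 912,
  .child 30 false 912,
  .child 30 true 912,
  .child 60 true 1533,
  .child 69 true 1533,
  .child 69 false 2922,
  .child 69 true 382,
  .child 27 false 2464,
  .child 28 false 2464,
  .child 30 false 2464,
  .child 27 true 2464,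
  .child 28 true 2464,
  .child 69 true 1740,
  .child 30 true 2370,
  .child 30 false 218,
  .child 69 false 3196,
  .child 69 true 3196,
  .child 60 false 105,
  .child 69 false 105,
  .child 69 true 105,
  .child 60 false 1076,
  .child 69 true 1076,
  .child 69 true 3418,
  .child 69 true 3027,
  .child 27 false 3358,
  .child 28 false 3358,
  .child 27 true 3358,
  .child 60 false 1137,
  .child 60 true 1137,
  .child 29 true 630,
  .child 69 false 1554,
  .child 60 true 1554]

/-- part 18 of `twTree4` -/
noncomputable def twTree4P18 : List (Leaf) := [
  .child 69 false 596,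
  .child 30 false 3460,
  .child 29 true 3460,
  .child 27 true 2172,
  .child 30 true 2172,
  .child 27 false 119,
  .child 28 false 119,
  .child 29 false 119,
  .child 30 false 119,
  .child 60 false 119,
  .child 69 false 119,
  .child 29 true 119,
  .child 60 true 119,
  .child 69 true 119,
  .child 29 false 1759,
  .child 30 false 1759,
  .child 60 false 1759,
  .child 60 true 1759,
  .child 69 true 1759,
  .child 27 false 558,
  .child 28 false 558,
  .child 29 false 558,
  .child 30 false 558,
  .child 60 false 558,
  .child 29 true 558,
  .child 69 true 558,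
  .child 29 false 2154,
  .child 60 false 2154,
  .child 69 false 2154,
  .child 29 true 2154,
  .child 30 true 2154,
  .child 60 true 2154,
  .child 60 false 1451,
  .child 30 true 1451,
  .child 60 true 1451,
  .child 27 true 1233,
  .child 28 true 1233,
  .child 27 true 3412,
  .child 28 true 3412,
  .child 30 true 3412,
  .child 69 true 116,
  .child 69 true 489,
  .child 30 true 3060,
  .child 69 false 1450,
  .child 69 false 3458,
  .child 27 true 3458,
  .child 27 false 3400,
  .child 30 true 3400,
  .child 69 false 1657,
  .child 69 false 2579,
  .child 69 true 2579,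
  .child 69 true 3204,
  .child 27 true 2126,
  .child 27 false 519,
  .child 28 false 519,
  .child 30 false 519,
  .child 27 true 519,
  .child 28 true 519,
  .child 29 true 519,
  .child 30 true 519,
  .child 69 false 3744,
  .child 69 true 3744,
  .child 69 false 1067,
  .child 69 true 1067,
  .child 69 false 3697,
  .child 69 true 3697,
  .child 29 false 1113,
  .child 30 false 2820,
  .child 60 false 2820,
  .child 29 true 2820,
  .child 69 false 2213,
  .child 69 true 2213,
  .child 69 false 548,
  .child 69 true 548,
  .child 30 true 2215,
  .child 60 true 2215,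
  .child 29 true 3520,
  .child 60 true 3520,
  .child 69 true 3520,
  .child 27 false 1281,
  .child 28 false 1281,
  .child 29 false 1281,
  .child 30 false 1281,
  .child 27 true 1281,
  .child 28 true 1281,
  .child 29 true 1281,
  .child 30 true 1281,
  .child 69 true 2958,
  .child 30 true 2197,
  .child 30 false 1386,
  .child 69 false 3275,
  .child 69 false 3596,
  .child 69 false 1214,
  .child 30 true 2785,
  .child 69 true 2785,
  .child 27 false 3306,
  .child 28 false 3306,
  .child 28 true 2023,
  .child 60 true 2023,
  .child 69 false 338]

/-- part 19 of `twTree4` -/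
noncomputable def twTree4P19 : List (Leaf) := [
  .child 69 false 2471,
  .child 69 true 2471,
  .child 69 false 3215,
  .child 29 false 1240,
  .child 29 true 1240,
  .child 69 true 1240,
  .child 29 false 1215,
  .child 69 true 1215,
  .child 27 false 94,
  .child 28 false 94,
  .child 30 false 94,
  .child 29 true 94,
  .child 69 true 94,
  .child 30 true 983,
  .child 30 true 2894,
  .child 30 false 179,
  .child 30 true 179,
  .child 69 false 359,
  .child 69 true 359,
  .child 30 false 3490,
  .child 29 true 1183,
  .child 30 false 659,
  .child 30 true 659,
  .child 29 true 3340,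
  .child 69 true 3340,
  .child 60 true 3507,
  .child 69 true 1828,
  .child 60 true 2549,
  .child 69 true 1388,
  .child 69 false 3158,
  .child 69 false 1962,
  .child 69 false 3237,
  .child 69 false 2653,
  .child 69 true 3353,
  .child 30 false 1271,
  .child 60 false 782,
  .child 27 true 1821,
  .child 28 true 1821,
  .child 60 true 3286,
  .child 30 false 925,
  .child 27 true 925,
  .child 27 false 3335,
  .child 60 false 3335,
  .child 69 true 2543,
  .child 69 true 1990,
  .child 69 true 1787,
  .child 30 false 3566,
  .child 29 true 672,
  .child 30 true 672,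
  .child 29 true 2183,
  .child 30 true 2183,
  .child 27 true 716,
  .child 28 true 716,
  .child 69 true 2758,
  .child 30 false 522,
  .child 69 true 2377,
  .root 3,
  .child 27 false 65,
  .child 28 false 65,
  .child 29 false 65,
  .child 30 false 65,
  .child 60 false 65,
  .child 69 false 65,
  .child 27 true 65,
  .child 28 true 65,
  .child 29 true 65,
  .child 30 true 65,
  .child 60 true 65,
  .child 69 true 65,
  .child 27 false 1369,
  .child 28 false 1369,
  .child 29 false 1369,
  .child 30 false 1369,
  .child 60 false 1369,
  .child 69 false 1369,
  .child 28 true 1369,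
  .child 29 true 1369,
  .child 30 true 1369,
  .child 60 true 1369,
  .child 69 true 1369,
  .child 29 false 1778,
  .child 30 false 1778,
  .child 60 false 1778,
  .child 69 false 1778,
  .child 29 true 1778,
  .child 30 true 1778,
  .child 60 true 1778,
  .child 69 true 1778,
  .child 27 false 2832,
  .child 28 false 2832,
  .child 29 false 2832,
  .child 30 false 2832,
  .child 60 false 2832,
  .child 69 false 2832,
  .child 27 true 2832,
  .child 28 true 2832,
  .child 30 true 2832,
  .child 60 true 2832,
  .child 69 true 2832,
  .child 27 false 2769]

/-- part 20 of `twTree4` -/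
noncomputable def twTree4P20 : List (Leaf) := [
  .child 28 false 2769,
  .child 29 false 2769,
  .child 30 false 2769,
  .child 60 false 2769,
  .child 69 false 2769,
  .child 29 true 2769,
  .child 60 true 2769,
  .child 69 true 2769,
  .child 27 false 875,
  .child 28 false 875,
  .child 29 false 875,
  .child 30 false 875,
  .child 27 true 875,
  .child 28 true 875,
  .child 29 true 875,
  .child 30 true 875,
  .child 69 true 875,
  .child 27 false 345,
  .child 28 false 345,
  .child 30 false 345,
  .child 27 true 345,
  .child 28 true 345,
  .child 29 true 345,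
  .child 30 true 345,
  .child 60 true 345,
  .child 29 false 1995,
  .child 30 false 1995,
  .child 60 false 1995,
  .child 69 false 1995,
  .child 29 true 1995,
  .child 30 true 1995,
  .child 60 true 1995,
  .child 69 true 1995,
  .child 29 false 3013,
  .child 30 false 3013,
  .child 60 false 3013,
  .child 69 false 3013,
  .child 29 true 3013,
  .child 30 true 3013,
  .child 60 true 3013,
  .child 69 true 3013,
  .child 27 false 1875,
  .child 28 false 1875,
  .child 30 false 1875,
  .child 60 false 1875,
  .child 27 true 1875,
  .child 28 true 1875,
  .child 29 true 1875,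
  .child 30 true 1875,
  .child 60 true 1875,
  .child 69 true 1875,
  .child 29 false 1425,
  .child 60 false 1425,
  .child 69 false 1425,
  .child 27 true 1425,
  .child 28 true 1425,
  .child 29 true 1425,
  .child 60 true 1425,
  .child 69 true 1425,
  .child 27 false 332,
  .child 28 false 332,
  .child 29 false 332,
  .child 30 false 332,
  .child 27 true 332,
  .child 28 true 332,
  .child 29 true 332,
  .child 30 true 332,
  .child 69 true 332,
  .child 27 false 1948,
  .child 28 false 1948,
  .child 30 false 1948,
  .child 27 true 1948,
  .child 28 true 1948,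
  .child 30 true 1948,
  .child 29 false 775,
  .child 30 false 775,
  .child 60 false 775,
  .child 69 false 775,
  .child 29 true 775,
  .child 30 true 775,
  .child 60 true 775,
  .child 69 true 775,
  .child 29 false 3448,
  .child 60 false 3448,
  .child 69 false 3448,
  .child 29 true 3448,
  .child 60 true 3448,
  .child 69 true 3448,
  .child 27 false 1978,
  .child 60 false 1978,
  .child 69 false 1978,
  .child 28 true 1978,
  .child 30 true 1978,
  .child 60 true 1978,
  .child 69 true 1978,
  .child 27 false 3008,
  .child 60 false 3008,
  .child 69 false 3008,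
  .child 60 true 3008,
  .child 69 true 3008]

/-- part 21 of `twTree4` -/
noncomputable def twTree4P21 : List (Leaf) := [
  .child 28 false 47,
  .child 29 false 47,
  .child 30 false 47,
  .child 69 false 47,
  .child 27 true 47,
  .child 28 true 47,
  .child 29 true 47,
  .child 30 true 47,
  .child 69 true 47,
  .child 27 false 1905,
  .child 28 false 1905,
  .child 30 false 1905,
  .child 27 true 1905,
  .child 28 true 1905,
  .child 29 true 1905,
  .child 30 true 1905,
  .child 60 true 1905,
  .child 29 false 3442,
  .child 30 false 3442,
  .child 60 false 3442,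
  .child 69 false 3442,
  .child 29 true 3442,
  .child 30 true 3442,
  .child 60 true 3442,
  .child 69 true 3442,
  .child 27 false 2099,
  .child 28 false 2099,
  .child 30 false 2099,
  .child 60 false 2099,
  .child 30 true 2099,
  .child 60 true 2099,
  .child 69 true 2099,
  .child 29 false 1230,
  .child 60 false 1230,
  .child 69 false 1230,
  .child 28 true 1230,
  .child 60 true 1230,
  .child 69 true 1230,
  .child 27 false 1627,
  .child 28 false 1627,
  .child 29 false 1627,
  .child 30 false 1627,
  .child 27 true 1627,
  .child 28 true 1627,
  .child 29 true 1627,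
  .child 30 true 1627,
  .child 69 true 1627,
  .child 28 false 2382,
  .child 30 false 2382,
  .child 27 true 2382,
  .child 28 true 2382,
  .child 30 true 2382,
  .child 69 false 2541,
  .child 30 true 2541,
  .child 60 true 2541,
  .child 69 true 2541,
  .child 60 false 1870,
  .child 69 false 1870,
  .child 60 true 1870,
  .child 69 true 1870,
  .child 30 false 2338,
  .child 69 false 2338,
  .child 30 true 2338,
  .child 30 false 1838,
  .child 30 true 1838,
  .child 60 true 1838,
  .child 30 false 1736,
  .child 30 true 1736,
  .child 69 true 1736,
  .child 29 false 1665,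
  .child 60 false 1665,
  .child 69 false 1665,
  .child 60 true 1665,
  .child 69 true 1665,
  .child 29 false 2113,
  .child 30 false 2113,
  .child 30 true 2113,
  .child 69 true 2113,
  .child 30 false 1340,
  .child 30 true 1340,
  .child 60 false 244,
  .child 69 false 244,
  .child 60 true 244,
  .child 69 true 244,
  .child 60 false 3377,
  .child 69 false 3377,
  .child 60 true 3377,
  .child 69 true 3377,
  .child 60 false 130,
  .child 69 false 130,
  .child 60 true 130,
  .child 69 true 130,
  .child 27 false 1985,
  .child 28 false 1985,
  .child 30 false 1985,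
  .child 69 false 1985,
  .child 27 true 1985,
  .child 28 true 1985,
  .child 29 true 1985,
  .child 30 true 1985]

/-- part 22 of `twTree4` -/
noncomputable def twTree4P22 : List (Leaf) := [
  .child 27 false 1259,
  .child 28 false 1259,
  .child 30 false 1259,
  .child 27 true 1259,
  .child 28 true 1259,
  .child 30 true 1259,
  .child 60 false 1683,
  .child 69 false 1683,
  .child 60 true 1683,
  .child 69 true 1683,
  .child 60 false 1225,
  .child 69 false 1225,
  .child 60 false 1630,
  .child 69 false 1630,
  .child 60 true 1630,
  .child 69 true 1630,
  .child 27 false 2784,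
  .child 28 false 2784,
  .child 29 false 2784,
  .child 27 true 2784,
  .child 28 true 2784,
  .child 30 true 2784,
  .child 69 true 2784,
  .child 27 false 3635,
  .child 28 false 3635,
  .child 30 false 3635,
  .child 27 true 3635,
  .child 60 false 2263,
  .child 69 false 2263,
  .child 60 true 2263,
  .child 69 true 2263,
  .child 60 false 3208,
  .child 69 false 3208,
  .child 60 true 3208,
  .child 69 true 3208,
  .child 60 false 781,
  .child 69 false 781,
  .child 60 true 781,
  .child 69 true 781,
  .child 60 false 72,
  .child 69 false 72,
  .child 60 true 72,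
  .child 69 true 72,
  .child 27 false 2998,
  .child 28 false 2998,
  .child 29 false 2998,
  .child 30 false 2998,
  .child 69 false 2998,
  .child 27 true 2998,
  .child 28 true 2998,
  .child 30 true 2998,
  .child 27 false 103,
  .child 30 false 103,
  .child 29 true 103,
  .child 60 true 103,
  .child 60 false 2672,
  .child 60 true 2672,
  .child 69 true 2672,
  .child 27 false 401,
  .child 28 false 401,
  .child 30 false 401,
  .child 27 true 401,
  .child 28 true 401,
  .child 29 true 401,
  .child 30 true 401,
  .child 69 true 401,
  .child 27 false 3733,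
  .child 28 false 3733,
  .child 29 false 2332,
  .child 30 false 2332,
  .child 29 true 2332,
  .child 30 true 2332,
  .child 29 false 1314,
  .child 30 false 1314,
  .child 69 false 1314,
  .child 30 true 1314,
  .child 27 false 2051,
  .child 28 false 2051,
  .child 27 true 2051,
  .child 28 true 2051,
  .child 30 true 2051,
  .child 60 true 2051,
  .child 69 true 2051,
  .child 27 false 2389,
  .child 28 false 2389,
  .child 29 false 2389,
  .child 30 false 2389,
  .child 60 false 2389,
  .child 69 false 2389,
  .child 60 true 2389,
  .child 69 true 2389,
  .child 29 false 155,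
  .child 60 false 155,
  .child 69 false 155,
  .child 29 true 155,
  .child 30 true 155,
  .child 29 false 340,
  .child 30 false 340,
  .child 60 false 340,
  .child 69 false 340]

/-- part 23 of `twTree4` -/
noncomputable def twTree4P23 : List (Leaf) := [
  .child 29 true 340,
  .child 30 true 340,
  .child 69 true 340,
  .child 30 false 821,
  .child 60 false 821,
  .child 27 true 821,
  .child 29 true 821,
  .child 30 true 821,
  .child 60 true 821,
  .child 69 true 821,
  .child 29 false 265,
  .child 69 false 265,
  .child 27 true 265,
  .child 28 true 265,
  .child 29 true 265,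
  .child 69 true 265,
  .child 27 false 379,
  .child 28 false 379,
  .child 30 false 379,
  .child 29 false 2570,
  .child 30 false 2570,
  .child 60 false 2570,
  .child 69 false 2570,
  .child 60 true 2570,
  .child 69 true 2570,
  .child 60 false 934,
  .child 60 true 934,
  .child 69 true 934,
  .child 27 false 149,
  .child 28 false 149,
  .child 30 false 149,
  .child 30 false 801,
  .child 60 false 801,
  .child 29 true 801,
  .child 30 true 801,
  .child 69 true 801,
  .child 30 false 280,
  .child 29 true 280,
  .child 30 true 280,
  .child 60 true 280,
  .child 69 true 280,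
  .child 60 false 1327,
  .child 27 true 1327,
  .child 28 true 1327,
  .child 29 false 300,
  .child 69 false 300,
  .child 27 true 300,
  .child 28 true 300,
  .child 60 true 300,
  .child 69 true 300,
  .child 27 false 529,
  .child 28 false 529,
  .child 30 false 529,
  .child 29 true 529,
  .child 30 true 529,
  .child 60 false 3365,
  .child 69 false 3365,
  .child 60 true 3365,
  .child 69 true 3365,
  .child 28 false 3074,
  .child 60 false 3074,
  .child 60 true 3074,
  .child 69 true 3074,
  .child 29 false 2118,
  .child 69 false 2118,
  .child 29 true 2118,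
  .child 30 true 2118,
  .child 69 true 2118,
  .child 27 false 1320,
  .child 28 false 1320,
  .child 30 false 1320,
  .child 27 true 1320,
  .child 28 true 1320,
  .child 29 true 1320,
  .child 30 true 1320,
  .child 60 true 1320,
  .child 60 true 1140,
  .child 69 false 1162,
  .child 27 true 1162,
  .child 69 true 1162,
  .child 29 false 464,
  .child 69 true 464,
  .child 27 false 365,
  .child 28 false 365,
  .child 27 true 365,
  .child 28 true 365,
  .child 30 true 365,
  .child 69 false 1367,
  .child 60 false 1060,
  .child 60 true 1060,
  .child 69 true 1060,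
  .child 69 false 2000,
  .child 29 true 2000,
  .child 30 true 2000,
  .child 69 true 2000,
  .child 30 false 3085,
  .child 29 true 3085,
  .child 30 true 3085,
  .child 60 true 3085,
  .child 60 false 3221]

/-- part 24 of `twTree4` -/
noncomputable def twTree4P24 : List (Leaf) := [
  .child 69 false 1808,
  .child 69 true 1808,
  .child 29 false 399,
  .child 69 true 399,
  .child 69 false 492,
  .child 60 true 492,
  .child 69 false 3663,
  .child 60 false 2495,
  .child 29 true 334,
  .child 60 false 11,
  .child 69 false 11,
  .child 60 true 11,
  .child 69 true 11,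
  .child 60 false 3339,
  .child 69 false 3339,
  .child 69 false 2934,
  .child 30 true 414,
  .child 69 true 414,
  .child 27 false 118,
  .child 28 false 118,
  .child 27 true 118,
  .child 60 true 197,
  .child 29 false 60,
  .child 30 false 60,
  .child 69 false 60,
  .child 27 true 60,
  .child 28 true 60,
  .child 30 true 60,
  .child 27 true 917,
  .child 28 true 917,
  .child 29 true 917,
  .child 30 true 917,
  .child 60 true 917,
  .child 60 false 1476,
  .child 69 false 1476,
  .child 60 true 1476,
  .child 69 true 1476,
  .child 60 false 2760,
  .child 69 false 2760,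
  .child 60 true 2760,
  .child 69 true 2760,
  .child 60 true 1617,
  .child 69 true 311,
  .child 29 false 2621,
  .child 60 false 2621,
  .child 29 true 2621,
  .child 30 true 2621,
  .child 60 true 2621,
  .child 60 false 2484,
  .child 30 true 2484,
  .child 60 true 2484,
  .child 28 false 3470,
  .child 29 false 3470,
  .child 30 false 3470,
  .child 27 true 3470,
  .child 27 false 3265,
  .child 28 false 3265,
  .child 29 false 1449,
  .child 30 false 1449,
  .child 69 false 1449,
  .child 29 false 2130,
  .child 69 false 2130,
  .child 60 true 2130,
  .child 30 false 1005,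
  .child 60 false 1005,
  .child 29 false 3246,
  .child 69 false 3246,
  .child 27 true 3246,
  .child 28 true 3246,
  .child 29 true 3246,
  .child 60 true 3246,
  .child 69 true 3246,
  .child 30 true 1505,
  .child 27 false 794,
  .child 29 false 794,
  .child 30 false 794,
  .child 60 false 794,
  .child 69 false 794,
  .child 29 true 794,
  .child 60 true 794,
  .child 29 false 835,
  .child 30 false 835,
  .child 60 false 835,
  .child 60 true 835,
  .child 27 false 1528,
  .child 28 false 1528,
  .child 30 false 1528,
  .child 60 false 1528,
  .child 29 true 1528,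
  .child 60 true 1528,
  .child 29 false 2091,
  .child 60 false 2091,
  .child 29 true 2091,
  .child 30 true 2091,
  .child 69 true 2091,
  .child 60 false 3372,
  .child 30 true 3372,
  .child 69 true 1319,
  .child 69 false 2764,
  .child 29 false 487]

/-- part 25 of `twTree4` -/
noncomputable def twTree4P25 : List (Leaf) := [
  .child 30 false 487,
  .child 69 true 487,
  .child 30 true 2853,
  .child 60 true 2853,
  .child 60 true 3825,
  .child 69 true 3825,
  .child 60 true 2308,
  .child 29 false 800,
  .child 29 true 800,
  .child 30 true 800,
  .child 69 true 800,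
  .child 27 false 1955,
  .child 28 false 1955,
  .child 30 false 1955,
  .child 69 true 3409,
  .child 69 true 1635,
  .child 69 true 110,
  .child 29 false 1969,
  .child 69 true 1969,
  .child 60 true 2203,
  .child 69 true 2203,
  .child 30 false 789,
  .child 69 false 789,
  .child 27 true 789,
  .child 28 true 789,
  .child 69 true 789,
  .child 27 false 2542,
  .child 30 true 2542,
  .child 60 true 2542,
  .child 69 false 2473,
  .child 69 true 2473,
  .child 29 false 2361,
  .child 27 true 2361,
  .child 28 true 2361,
  .child 30 true 2361,
  .child 69 true 2361,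
  .child 60 false 3194,
  .child 69 false 3194,
  .child 27 false 2923,
  .child 28 false 2923,
  .child 27 true 2923,
  .child 28 true 2923,
  .child 69 true 2923,
  .child 30 false 556,
  .child 27 false 242,
  .child 28 false 242,
  .child 27 false 3416,
  .child 28 false 3416,
  .child 30 false 3416,
  .child 60 false 1423,
  .child 30 true 1423,
  .child 60 true 1423,
  .child 69 true 1423,
  .child 60 true 1254,
  .child 30 false 3047,
  .child 60 false 1437,
  .child 30 false 2442,
  .child 69 true 2442,
  .child 29 false 1383,
  .child 29 false 1336,
  .child 30 false 1336,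
  .child 69 false 3549,
  .child 69 true 3549,
  .child 69 false 2988,
  .child 69 true 2988,
  .child 30 true 612,
  .child 29 true 3313,
  .child 28 false 1762,
  .child 30 false 1762,
  .child 27 true 1762,
  .child 28 true 1762,
  .child 30 true 1762,
  .child 60 false 1926,
  .child 30 true 1241,
  .child 30 false 1999,
  .child 29 true 3177,
  .child 60 true 536,
  .child 30 false 1001,
  .child 30 true 1001,
  .child 69 false 3122,
  .child 29 false 1619,
  .child 30 false 3808,
  .child 69 false 3808,
  .child 29 true 3808,
  .child 60 true 3808,
  .child 69 true 3808,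
  .child 60 false 2664,
  .child 69 false 2664,
  .child 69 true 2664,
  .child 30 false 1593,
  .child 69 true 3821,
  .child 29 false 2012,
  .child 30 false 2012,
  .child 29 false 3332,
  .child 30 false 3332,
  .child 69 true 3332,
  .child 30 false 1446,
  .child 29 true 1446,
  .child 69 true 1446,
  .child 27 true 2893]

/-- part 26 of `twTree4` -/
noncomputable def twTree4P26 : List (Leaf) := [
  .child 28 true 2893,
  .child 28 false 1041,
  .child 27 true 2476,
  .child 28 true 2476,
  .child 60 true 2535,
  .child 69 true 3463,
  .child 30 false 2913,
  .child 60 false 91,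
  .child 29 true 91,
  .child 30 false 2045,
  .child 60 true 3851,
  .child 60 true 944,
  .child 30 false 3644,
  .child 69 true 2756,
  .child 69 false 2387,
  .child 69 false 1309,
  .child 29 true 1309,
  .child 29 false 500,
  .child 27 false 181,
  .child 28 false 181,
  .child 69 false 626,
  .child 69 false 2813,
  .child 30 true 1479,
  .child 27 true 3083,
  .child 28 true 3083,
  .child 60 true 3083,
  .child 69 false 2964,
  .child 27 true 1688,
  .child 30 true 1688,
  .child 60 true 1688,
  .child 29 false 476,
  .child 69 true 947,
  .child 69 false 1518,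
  .child 30 false 919,
  .child 69 true 601,
  .child 30 false 3004,
  .child 69 true 1172,
  .child 30 false 2341,
  .child 69 false 174,
  .child 27 false 611,
  .child 27 false 675,
  .child 30 true 675,
  .child 69 true 521,
  .child 30 false 2365,
  .child 69 true 2365,
  .child 69 true 1402,
  .child 69 true 819,
  .child 69 true 1305,
  .child 69 true 742,
  .child 69 false 269,
  .child 69 true 2354,
  .child 69 true 1404,
  .child 69 true 2058,
  .child 29 true 238,
  .child 29 true 43,
  .child 69 false 351,
  .child 27 true 28,
  .child 69 true 594,
  .child 69 true 2610,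
  .child 69 false 1252,
  .child 69 false 15,
  .child 69 false 2569,
  .child 69 true 2985,
  .child 69 false 2381,
  .child 27 false 3859,
  .child 28 false 3859,
  .child 27 true 3859,
  .child 69 true 3188,
  .child 30 false 3165,
  .child 30 false 2796,
  .child 29 false 3056,
  .child 60 true 576,
  .child 69 true 2139,
  .child 60 true 959,
  .child 69 true 1046,
  .child 60 false 2193,
  .root 4,
  .child 27 false 3572,
  .child 28 false 3572,
  .child 29 false 3572,
  .child 30 false 3572,
  .child 60 false 3572,
  .child 69 false 3572,
  .child 27 true 3572,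
  .child 28 true 3572,
  .child 29 true 3572,
  .child 30 true 3572,
  .child 60 true 3572,
  .child 69 true 3572,
  .child 27 false 3853,
  .child 28 false 3853,
  .child 29 false 3853,
  .child 30 false 3853,
  .child 60 false 3853,
  .child 69 false 3853,
  .child 28 true 3853,
  .child 30 true 3853,
  .child 60 true 3853,
  .child 69 true 3853,
  .child 29 false 2411]

/-- part 27 of `twTree4` -/
noncomputable def twTree4P27 : List (Leaf) := [
  .child 30 false 2411,
  .child 60 false 2411,
  .child 69 false 2411,
  .child 30 true 2411,
  .child 60 true 2411,
  .child 69 true 2411,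
  .child 27 false 1658,
  .child 28 false 1658,
  .child 30 false 1658,
  .child 60 false 1658,
  .child 69 false 1658,
  .child 30 true 1658,
  .child 60 true 1658,
  .child 69 true 1658,
  .child 29 false 3836,
  .child 69 false 3836,
  .child 69 true 3836,
  .child 27 false 3602,
  .child 29 false 3602,
  .child 69 false 3602,
  .child 28 true 3602,
  .child 69 true 3602,
  .child 27 false 141,
  .child 28 false 141,
  .child 30 false 141,
  .child 27 true 141,
  .child 28 true 141,
  .child 29 true 141,
  .child 30 true 141,
  .child 60 true 141,
  .child 30 false 2359,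
  .child 60 false 2359,
  .child 69 false 2359,
  .child 29 true 2359,
  .child 30 true 2359,
  .child 60 true 2359,
  .child 69 true 2359,
  .child 60 false 3557,
  .child 69 false 3557,
  .child 29 true 3557,
  .child 60 true 3557,
  .child 69 true 3557,
  .child 60 false 2307,
  .child 29 true 2307,
  .child 69 true 2307,
  .child 60 false 665,
  .child 69 false 665,
  .child 27 true 665,
  .child 28 true 665,
  .child 60 true 665,
  .child 69 true 665,
  .child 27 false 830,
  .child 29 false 830,
  .child 27 true 830,
  .child 28 true 830,
  .child 29 true 830,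
  .child 30 true 830,
  .child 69 true 830,
  .child 27 false 3437,
  .child 28 false 3437,
  .child 30 false 3437,
  .child 27 true 3437,
  .child 29 false 2691,
  .child 69 false 2691,
  .child 29 true 2691,
  .child 69 true 2691,
  .child 60 false 3425,
  .child 69 false 3425,
  .child 69 true 3425,
  .child 27 false 3845,
  .child 60 false 3845,
  .child 69 false 3845,
  .child 69 true 3845,
  .child 69 false 2900,
  .child 69 true 2900,
  .child 28 false 515,
  .child 30 false 515,
  .child 69 false 515,
  .child 30 true 515,
  .child 69 true 515,
  .child 27 false 1059,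
  .child 28 false 1059,
  .child 30 false 1059,
  .child 27 true 1059,
  .child 28 true 1059,
  .child 30 true 1059,
  .child 60 true 1059,
  .child 30 false 2242,
  .child 69 false 2242,
  .child 30 true 2242,
  .child 60 true 2242,
  .child 69 true 2242,
  .child 60 false 3767,
  .child 69 false 3767,
  .child 69 true 3767,
  .child 27 false 2285,
  .child 29 false 2285,
  .child 27 true 2285,
  .child 29 true 2285,
  .child 69 true 2285]

/-- part 28 of `twTree4` -/
noncomputable def twTree4P28 : List (Leaf) := [
  .child 27 false 2734,
  .child 27 true 2734,
  .child 28 true 2734,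
  .child 69 false 2904,
  .child 69 true 2904,
  .child 69 false 1983,
  .child 69 true 1983,
  .child 30 false 146,
  .child 69 false 146,
  .child 69 true 146,
  .child 30 false 3529,
  .child 30 true 3529,
  .child 60 false 1768,
  .child 69 false 1768,
  .child 69 true 1768,
  .child 29 false 283,
  .child 69 true 283,
  .child 30 true 3816,
  .child 69 false 2491,
  .child 69 false 3807,
  .child 69 true 3807,
  .child 69 false 3100,
  .child 69 false 310,
  .child 29 true 310,
  .child 69 true 310,
  .child 27 false 2631,
  .child 27 true 2631,
  .child 28 true 2631,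
  .child 30 true 2631,
  .child 60 true 2631,
  .child 60 false 2282,
  .child 69 false 2282,
  .child 69 true 2282,
  .child 29 false 63,
  .child 69 true 63,
  .child 27 false 857,
  .child 28 false 857,
  .child 30 false 857,
  .child 27 true 857,
  .child 69 false 589,
  .child 60 true 589,
  .child 69 true 589,
  .child 27 false 3676,
  .child 27 false 2200,
  .child 28 false 2200,
  .child 30 false 2200,
  .child 69 false 2085,
  .child 69 true 2085,
  .child 27 false 2765,
  .child 69 true 2765,
  .child 27 false 2917,
  .child 28 false 2917,
  .child 30 false 2917,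
  .child 69 false 1938,
  .child 69 true 1938,
  .child 27 false 3457,
  .child 28 false 3457,
  .child 27 false 2176,
  .child 28 false 2176,
  .child 30 false 2176,
  .child 60 false 2176,
  .child 60 true 2176,
  .child 69 true 2176,
  .child 30 false 3349,
  .child 60 false 3349,
  .child 60 true 3349,
  .child 27 false 2225,
  .child 28 false 2225,
  .child 30 false 2225,
  .child 29 false 3467,
  .child 60 false 3467,
  .child 29 true 3467,
  .child 69 true 3467,
  .child 29 false 1536,
  .child 29 true 1536,
  .child 30 true 1536,
  .child 60 true 1536,
  .child 69 true 1536,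
  .child 27 true 2944,
  .child 28 true 2944,
  .child 29 true 2944,
  .child 30 true 2944,
  .child 29 false 1874,
  .child 60 true 1874,
  .child 69 true 1874,
  .child 27 false 3651,
  .child 28 false 3651,
  .child 29 true 3651,
  .child 69 false 1377,
  .child 29 true 1979,
  .child 30 true 1979,
  .child 69 false 3385,
  .child 30 true 1278,
  .child 69 true 1278,
  .child 28 false 2328,
  .child 30 false 2328,
  .child 27 true 2328,
  .child 28 true 2328,
  .child 30 true 2328,
  .child 29 true 3524]

/-- part 29 of `twTree4` -/
noncomputable def twTree4P29 : List (Leaf) := [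
  .child 30 true 3524,
  .child 60 true 3524,
  .child 30 true 1364,
  .child 69 true 1364,
  .child 30 false 3022,
  .child 69 true 1202,
  .child 69 true 384,
  .child 29 false 2919,
  .child 27 false 1798,
  .child 28 false 1798,
  .child 29 true 1798,
  .child 69 false 286,
  .child 27 false 1901,
  .child 69 false 1365,
  .child 30 false 1083,
  .child 28 true 3730,
  .root 5,
  .child 27 false 3897,
  .child 28 false 3897,
  .child 29 false 3897,
  .child 30 false 3897,
  .child 60 false 3897,
  .child 69 false 3897,
  .child 27 true 3897,
  .child 28 true 3897,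
  .child 29 true 3897,
  .child 30 true 3897,
  .child 60 true 3897,
  .child 69 true 3897,
  .child 27 false 1039,
  .child 28 false 1039,
  .child 29 false 1039,
  .child 30 false 1039,
  .child 60 false 1039,
  .child 28 true 1039,
  .child 29 true 1039,
  .child 30 true 1039,
  .child 60 true 1039,
  .child 69 true 1039,
  .child 29 false 1129,
  .child 30 false 1129,
  .child 60 false 1129,
  .child 29 true 1129,
  .child 60 true 1129,
  .child 69 true 1129,
  .child 27 false 1659,
  .child 28 false 1659,
  .child 29 false 1659,
  .child 60 false 1659,
  .child 69 false 1659,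
  .child 27 true 1659,
  .child 28 true 1659,
  .child 30 true 1659,
  .child 69 true 1659,
  .child 27 false 1822,
  .child 28 false 1822,
  .child 30 false 1822,
  .child 60 false 1822,
  .child 29 true 1822,
  .child 60 true 1822,
  .child 69 true 1822,
  .child 28 false 1760,
  .child 29 false 1760,
  .child 69 false 1760,
  .child 27 true 1760,
  .child 28 true 1760,
  .child 29 true 1760,
  .child 30 true 1760,
  .child 69 true 1760,
  .child 28 false 1303,
  .child 30 false 1303,
  .child 29 true 1303,
  .child 30 true 1303,
  .child 60 true 1303,
  .child 29 false 1384,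
  .child 60 false 1384,
  .child 29 true 1384,
  .child 30 true 1384,
  .child 69 true 1384,
  .child 29 false 2253,
  .child 30 false 2253,
  .child 30 true 2253,
  .child 69 true 2253,
  .child 27 false 3337,
  .child 28 false 3337,
  .child 30 false 3337,
  .child 28 true 3337,
  .child 29 true 3337,
  .child 29 false 1789,
  .child 69 false 1789,
  .child 27 true 1789,
  .child 28 true 1789,
  .child 29 true 1789,
  .child 69 true 1789,
  .child 29 false 1550,
  .child 27 true 1550,
  .child 30 false 2312,
  .child 27 true 2312,
  .child 28 true 2312,
  .child 30 true 2312]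

/-- part 30 of `twTree4` -/
noncomputable def twTree4P30 : List (Leaf) := [
  .child 29 false 1124,
  .child 29 false 2973,
  .child 29 true 2973,
  .child 27 false 2830,
  .child 60 false 2830,
  .child 30 true 2830,
  .child 69 true 2830,
  .child 60 false 3492,
  .child 69 false 3492,
  .child 28 true 2962,
  .child 69 true 2962,
  .child 29 false 2157,
  .child 27 false 989,
  .child 28 false 989,
  .child 28 true 989,
  .child 69 true 989,
  .child 69 true 1427,
  .child 27 false 3629,
  .child 28 false 3629,
  .child 30 false 3629,
  .child 69 true 2348,
  .child 60 false 1794,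
  .child 69 true 3814,
  .child 69 true 1754,
  .child 69 true 1087,
  .child 30 false 2135,
  .child 60 true 115,
  .child 69 true 115,
  .child 60 true 1200,
  .child 69 true 1200,
  .child 69 false 1557,
  .child 60 true 1557,
  .child 28 false 1018,
  .child 27 true 1018,
  .child 28 true 1018,
  .child 30 true 1018,
  .child 60 false 3704,
  .child 69 true 3704,
  .child 60 false 691,
  .child 69 true 3522,
  .child 60 true 2521,
  .child 27 false 811,
  .child 27 true 811,
  .child 30 true 811,
  .child 69 true 811,
  .child 60 true 3150,
  .child 69 true 3150,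
  .child 69 true 2902,
  .child 27 true 2302,
  .child 28 true 2302,
  .child 60 true 3436,
  .child 60 true 1618,
  .child 60 false 178,
  .child 60 false 1559,
  .child 69 false 378,
  .child 60 false 3598,
  .child 60 false 2088,
  .child 60 true 76,
  .child 60 true 169,
  .child 69 true 1322,
  .root 6,
  .child 27 false 303,
  .child 28 false 303,
  .child 29 false 303,
  .child 30 false 303,
  .child 60 false 303,
  .child 69 false 303,
  .child 27 true 303,
  .child 28 true 303,
  .child 29 true 303,
  .child 30 true 303,
  .child 60 true 303,
  .child 69 true 303,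
  .child 27 false 2452,
  .child 28 false 2452,
  .child 29 false 2452,
  .child 30 false 2452,
  .child 69 false 2452,
  .child 28 true 2452,
  .child 29 true 2452,
  .child 30 true 2452,
  .child 60 true 2452,
  .child 69 true 2452,
  .child 29 false 2109,
  .child 30 false 2109,
  .child 69 false 2109,
  .child 29 true 2109,
  .child 30 true 2109,
  .child 60 true 2109,
  .child 69 true 2109,
  .child 27 false 2966,
  .child 28 false 2966,
  .child 29 false 2966,
  .child 30 false 2966,
  .child 60 false 2966,
  .child 69 false 2966,
  .child 27 true 2966,
  .child 28 true 2966,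
  .child 30 true 2966,
  .child 60 true 2966]

/-- part 31 of `twTree4` -/
noncomputable def twTree4P31 : List (Leaf) := [
  .child 69 true 2966,
  .child 27 false 1359,
  .child 28 false 1359,
  .child 29 false 1359,
  .child 30 false 1359,
  .child 60 false 1359,
  .child 69 false 1359,
  .child 29 true 1359,
  .child 60 true 1359,
  .child 69 true 1359,
  .child 27 false 112,
  .child 28 false 112,
  .child 29 false 112,
  .child 30 false 112,
  .child 69 false 112,
  .child 27 true 112,
  .child 28 true 112,
  .child 29 true 112,
  .child 30 true 112,
  .child 69 true 112,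
  .child 27 false 1168,
  .child 28 false 1168,
  .child 30 false 1168,
  .child 27 true 1168,
  .child 28 true 1168,
  .child 29 true 1168,
  .child 30 true 1168,
  .child 60 true 1168,
  .child 29 false 235,
  .child 30 false 235,
  .child 69 false 235,
  .child 29 true 235,
  .child 30 true 235,
  .child 69 true 235,
  .child 29 false 490,
  .child 30 false 490,
  .child 69 false 490,
  .child 29 true 490,
  .child 30 true 490,
  .child 69 true 490,
  .child 27 false 2417,
  .child 28 false 2417,
  .child 30 false 2417,
  .child 27 true 2417,
  .child 28 true 2417,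
  .child 29 true 2417,
  .child 30 true 2417,
  .child 60 true 2417,
  .child 69 true 2417,
  .child 29 false 3252,
  .child 60 false 3252,
  .child 69 false 3252,
  .child 27 true 3252,
  .child 28 true 3252,
  .child 29 true 3252,
  .child 60 true 3252,
  .child 69 true 3252,
  .child 27 false 973,
  .child 28 false 973,
  .child 29 false 973,
  .child 30 false 973,
  .child 27 true 973,
  .child 28 true 973,
  .child 29 true 973,
  .child 30 true 973,
  .child 27 false 3828,
  .child 28 false 3828,
  .child 30 false 3828,
  .child 28 true 3828,
  .child 30 true 3828,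
  .child 29 false 1474,
  .child 30 false 1474,
  .child 60 false 1474,
  .child 69 false 1474,
  .child 29 true 1474,
  .child 30 true 1474,
  .child 60 true 1474,
  .child 69 true 1474,
  .child 29 false 2212,
  .child 60 false 2212,
  .child 69 false 2212,
  .child 29 true 2212,
  .child 60 true 2212,
  .child 69 true 2212,
  .child 27 false 1236,
  .child 60 false 1236,
  .child 69 false 1236,
  .child 28 true 1236,
  .child 30 true 1236,
  .child 60 true 1236,
  .child 69 true 1236,
  .child 27 false 1499,
  .child 69 false 1499,
  .child 69 true 1499,
  .child 27 false 1944,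
  .child 28 false 1944,
  .child 30 false 1944,
  .child 28 true 1944,
  .child 29 true 1944,
  .child 30 true 1944]

/-- part 32 of `twTree4` -/
noncomputable def twTree4P32 : List (Leaf) := [
  .child 29 false 3790,
  .child 30 false 3790,
  .child 60 false 3790,
  .child 69 false 3790,
  .child 29 true 3790,
  .child 30 true 3790,
  .child 60 true 3790,
  .child 69 true 3790,
  .child 27 false 2728,
  .child 28 false 2728,
  .child 30 false 2728,
  .child 60 false 2728,
  .child 28 true 2728,
  .child 30 true 2728,
  .child 29 false 499,
  .child 69 false 499,
  .child 28 true 499,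
  .child 28 false 1279,
  .child 30 true 1279,
  .child 69 true 1279,
  .child 27 false 2216,
  .child 28 false 2216,
  .child 30 false 2216,
  .child 27 true 2216,
  .child 28 true 2216,
  .child 30 true 2216,
  .child 69 false 907,
  .child 30 true 907,
  .child 60 true 907,
  .child 69 true 907,
  .child 69 false 1591,
  .child 30 false 3344,
  .child 30 false 467,
  .child 30 true 467,
  .child 29 false 1049,
  .child 30 true 2989,
  .child 30 false 3683,
  .child 30 true 3683,
  .child 60 false 1606,
  .child 69 true 1606,
  .child 60 false 3447,
  .child 69 true 3447,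
  .child 60 false 3224,
  .child 60 true 3224,
  .child 69 true 3224,
  .child 60 true 2650,
  .child 69 true 2650,
  .child 27 true 441,
  .child 28 true 441,
  .child 29 true 441,
  .child 69 true 441,
  .child 27 false 559,
  .child 28 false 559,
  .child 30 false 559,
  .child 30 true 559,
  .child 69 false 3023,
  .child 60 true 3023,
  .child 69 true 3023,
  .child 69 false 1610,
  .child 27 true 2686,
  .child 29 true 2686,
  .child 30 true 2686,
  .child 69 true 2686,
  .child 28 false 2883,
  .child 60 false 3770,
  .child 69 false 3770,
  .child 60 false 3803,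
  .child 69 false 3803,
  .child 60 false 3593,
  .child 69 true 3593,
  .child 69 false 568,
  .child 60 true 568,
  .child 27 false 2208,
  .child 28 false 2208,
  .child 29 false 2208,
  .child 30 false 2208,
  .child 69 false 2208,
  .child 27 true 2208,
  .child 28 true 2208,
  .child 30 true 2208,
  .child 69 true 2208,
  .child 30 false 2441,
  .child 60 true 2441,
  .child 60 true 2346,
  .child 69 true 2346,
  .child 27 false 1608,
  .child 28 false 1608,
  .child 27 true 1608,
  .child 28 true 1608,
  .child 29 true 1608,
  .child 30 true 1608,
  .child 69 true 1608,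
  .child 30 false 615,
  .child 29 false 3559,
  .child 69 false 3559,
  .child 29 true 3559,
  .child 69 true 3559,
  .child 29 false 2556,
  .child 30 false 2556,
  .child 69 false 2556]

/-- part 33 of `twTree4` -/
noncomputable def twTree4P33 : List (Leaf) := [
  .child 30 true 2556,
  .child 69 true 2556,
  .child 27 false 251,
  .child 28 false 251,
  .child 69 false 251,
  .child 27 true 251,
  .child 28 true 251,
  .child 27 false 836,
  .child 28 false 836,
  .child 29 false 836,
  .child 30 false 836,
  .child 69 true 836,
  .child 28 false 963,
  .child 27 true 963,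
  .child 28 true 963,
  .child 29 true 963,
  .child 30 true 963,
  .child 29 false 3748,
  .child 30 false 3748,
  .child 29 true 3748,
  .child 69 true 3748,
  .child 29 false 3134,
  .child 30 false 3134,
  .child 69 false 3134,
  .child 29 true 3134,
  .child 30 false 361,
  .child 60 false 361,
  .child 27 true 361,
  .child 30 true 361,
  .child 60 true 361,
  .child 29 false 3844,
  .child 69 false 3844,
  .child 28 true 3844,
  .child 29 true 3844,
  .child 27 false 2949,
  .child 27 true 2949,
  .child 27 false 1650,
  .child 28 false 1650,
  .child 29 false 1650,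
  .child 30 false 1650,
  .child 29 true 1650,
  .child 30 false 3316,
  .child 60 false 3316,
  .child 60 true 3316,
  .child 29 false 1576,
  .child 30 false 1576,
  .child 29 true 1576,
  .child 30 false 1988,
  .child 29 true 1988,
  .child 60 true 1988,
  .child 30 false 953,
  .child 29 true 953,
  .child 30 true 953,
  .child 27 false 2234,
  .child 28 false 2234,
  .child 29 true 2234,
  .child 30 true 2234,
  .child 60 true 2234,
  .child 29 false 2777,
  .child 29 true 2777,
  .child 28 false 2837,
  .child 27 true 2837,
  .child 27 false 329,
  .child 28 false 329,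
  .child 27 true 329,
  .child 28 true 329,
  .child 29 true 329,
  .child 69 true 1002,
  .child 27 true 3820,
  .child 69 true 3820,
  .child 27 false 3848,
  .child 28 false 3848,
  .child 27 true 3848,
  .child 28 true 3848,
  .child 29 true 2043,
  .child 60 false 1750,
  .child 69 true 3031,
  .child 69 false 1068,
  .child 69 false 1773,
  .child 69 false 3606,
  .child 69 true 3606,
  .child 69 false 1910,
  .child 60 true 1721,
  .child 30 true 3055,
  .child 60 false 1324,
  .child 60 false 653,
  .child 60 true 653,
  .child 60 false 2274,
  .child 60 true 279,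
  .child 60 false 2884,
  .child 60 false 3381,
  .child 60 true 1777,
  .child 60 true 1907,
  .child 27 true 3590,
  .child 69 true 3590,
  .child 69 false 1637,
  .child 69 false 132,
  .child 60 false 2896,
  .child 60 true 3660,
  .child 60 true 704]

/-- part 34 of `twTree4` -/
noncomputable def twTree4P34 : List (Leaf) := [
  .child 60 false 555,
  .child 60 false 2148,
  .child 60 false 2034,
  .child 69 true 2898,
  .child 60 false 3101,
  .child 69 true 2662,
  .child 69 true 3183,
  .child 60 true 3872,
  .child 60 false 1444,
  .child 60 true 1444,
  .child 60 true 1003,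
  .child 69 false 190,
  .child 69 false 712,
  .child 27 false 862,
  .child 28 false 862,
  .child 69 true 2666,
  .child 69 true 2124,
  .child 30 true 2708,
  .child 69 true 839,
  .child 69 true 2620,
  .root 7,
  .child 27 false 3114,
  .child 28 false 3114,
  .child 29 false 3114,
  .child 30 false 3114,
  .child 60 false 3114,
  .child 69 false 3114,
  .child 27 true 3114,
  .child 28 true 3114,
  .child 29 true 3114,
  .child 30 true 3114,
  .child 60 true 3114,
  .child 69 true 3114,
  .child 27 false 2181,
  .child 28 false 2181,
  .child 29 false 2181,
  .child 30 false 2181,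
  .child 60 false 2181,
  .child 69 false 2181,
  .child 28 true 2181,
  .child 29 true 2181,
  .child 30 true 2181,
  .child 60 true 2181,
  .child 69 true 2181,
  .child 29 false 2067,
  .child 30 false 2067,
  .child 60 false 2067,
  .child 69 false 2067,
  .child 29 true 2067,
  .child 30 true 2067,
  .child 60 true 2067,
  .child 69 true 2067,
  .child 27 false 2153,
  .child 28 false 2153,
  .child 29 false 2153,
  .child 30 false 2153,
  .child 60 false 2153,
  .child 69 false 2153,
  .child 27 true 2153,
  .child 28 true 2153,
  .child 30 true 2153,
  .child 60 true 2153,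
  .child 69 true 2153,
  .child 27 false 551,
  .child 28 false 551,
  .child 29 false 551,
  .child 30 false 551,
  .child 60 false 551,
  .child 69 false 551,
  .child 29 true 551,
  .child 60 true 551,
  .child 69 true 551,
  .child 27 false 2162,
  .child 28 false 2162,
  .child 29 false 2162,
  .child 30 false 2162,
  .child 69 false 2162,
  .child 27 true 2162,
  .child 28 true 2162,
  .child 29 true 2162,
  .child 30 true 2162,
  .child 69 true 2162,
  .child 27 false 142,
  .child 28 false 142,
  .child 30 false 142,
  .child 27 true 142,
  .child 28 true 142,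
  .child 29 true 142,
  .child 30 true 142,
  .child 60 true 142,
  .child 29 false 3595,
  .child 30 false 3595,
  .child 60 false 3595,
  .child 69 false 3595,
  .child 29 true 3595,
  .child 30 true 3595,
  .child 60 true 3595,
  .child 69 true 3595,
  .child 29 false 1739,
  .child 30 false 1739]

/-- part 35 of `twTree4` -/
noncomputable def twTree4P35 : List (Leaf) := [
  .child 60 false 1739,
  .child 69 false 1739,
  .child 29 true 1739,
  .child 30 true 1739,
  .child 60 true 1739,
  .child 69 true 1739,
  .child 30 false 1919,
  .child 29 true 1919,
  .child 30 true 1919,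
  .child 60 true 1919,
  .child 69 true 1919,
  .child 29 false 903,
  .child 69 false 903,
  .child 27 true 903,
  .child 28 true 903,
  .child 29 true 903,
  .child 69 true 903,
  .child 28 false 2641,
  .child 27 true 2641,
  .child 29 true 2641,
  .child 69 true 2641,
  .child 27 false 3323,
  .child 28 false 3323,
  .child 30 false 3323,
  .child 27 true 3323,
  .child 28 true 3323,
  .child 30 true 3323,
  .child 29 false 745,
  .child 30 false 745,
  .child 69 false 745,
  .child 29 true 745,
  .child 60 true 745,
  .child 69 true 745,
  .child 29 false 1155,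
  .child 69 false 1155,
  .child 29 true 1155,
  .child 60 true 1155,
  .child 69 true 1155,
  .child 27 false 3322,
  .child 69 false 3322,
  .child 28 true 3322,
  .child 60 true 3322,
  .child 69 true 3322,
  .child 69 false 856,
  .child 69 false 426,
  .child 27 true 426,
  .child 30 true 426,
  .child 69 true 426,
  .child 27 false 3424,
  .child 28 false 3424,
  .child 30 false 3424,
  .child 27 true 3424,
  .child 28 true 3424,
  .child 29 true 3424,
  .child 30 true 3424,
  .child 60 true 3424,
  .child 29 false 3749,
  .child 30 false 3749,
  .child 60 false 3749,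
  .child 69 false 3749,
  .child 30 true 3749,
  .child 60 true 3749,
  .child 69 true 3749,
  .child 27 false 2563,
  .child 28 false 2563,
  .child 30 false 2563,
  .child 28 true 2563,
  .child 69 true 2563,
  .child 29 false 2096,
  .child 69 false 2096,
  .child 28 true 2096,
  .child 69 true 2096,
  .child 27 false 120,
  .child 28 false 120,
  .child 29 false 120,
  .child 30 false 120,
  .child 27 true 120,
  .child 28 true 120,
  .child 30 true 120,
  .child 69 true 120,
  .child 27 false 2625,
  .child 28 false 2625,
  .child 30 false 2625,
  .child 27 true 2625,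
  .child 28 true 2625,
  .child 30 true 2625,
  .child 69 false 2950,
  .child 60 true 2950,
  .child 69 true 2950,
  .child 69 false 3625,
  .child 69 false 2199,
  .child 69 true 2199,
  .child 30 false 1730,
  .child 30 true 1730,
  .child 60 true 1730,
  .child 30 false 2798,
  .child 69 true 2798,
  .child 69 false 1891,
  .child 69 true 1891,
  .child 29 false 1631]

/-- part 36 of `twTree4` -/
noncomputable def twTree4P36 : List (Leaf) := [
  .child 30 false 1631,
  .child 30 true 1631,
  .child 69 true 1631,
  .child 30 false 1852,
  .child 30 true 1852,
  .child 60 false 2753,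
  .child 69 false 2753,
  .child 69 true 2753,
  .child 60 false 106,
  .child 69 false 106,
  .child 69 true 106,
  .child 60 false 1835,
  .child 69 false 1835,
  .child 69 true 1835,
  .child 69 false 2668,
  .child 69 true 2668,
  .child 27 false 2373,
  .child 69 false 2373,
  .child 69 true 2373,
  .child 27 false 2710,
  .child 28 false 2710,
  .child 30 false 2710,
  .child 27 true 2710,
  .child 28 true 2710,
  .child 30 true 2710,
  .child 60 true 2710,
  .child 60 false 2075,
  .child 69 false 2075,
  .child 60 true 2075,
  .child 69 true 2075,
  .child 60 false 636,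
  .child 69 false 636,
  .child 60 false 566,
  .child 69 false 566,
  .child 60 true 566,
  .child 69 true 566,
  .child 29 false 3140,
  .child 27 true 3140,
  .child 28 true 3140,
  .child 29 true 3140,
  .child 30 true 3140,
  .child 69 true 3140,
  .child 27 false 2940,
  .child 28 false 2940,
  .child 30 false 2940,
  .child 27 true 2940,
  .child 69 false 1110,
  .child 69 false 1573,
  .child 60 false 2318,
  .child 69 false 2318,
  .child 60 true 2318,
  .child 69 true 2318,
  .child 69 false 2912,
  .child 29 false 2482,
  .child 69 false 2482,
  .child 27 true 2482,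
  .child 69 true 2482,
  .child 27 false 3778,
  .child 30 false 3778,
  .child 29 true 3778,
  .child 60 true 3778,
  .child 60 false 2930,
  .child 60 true 2930,
  .child 69 true 2930,
  .child 27 false 219,
  .child 28 false 219,
  .child 30 false 219,
  .child 27 true 219,
  .child 28 true 219,
  .child 29 true 219,
  .child 30 true 219,
  .child 69 true 219,
  .child 27 false 2454,
  .child 28 false 2454,
  .child 30 false 2454,
  .child 69 false 3638,
  .child 29 true 3638,
  .child 69 true 3638,
  .child 30 false 1931,
  .child 69 false 1931,
  .child 69 true 1931,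
  .child 69 false 3290,
  .child 30 true 3290,
  .child 69 true 3290,
  .child 69 false 473,
  .child 69 true 473,
  .child 27 false 477,
  .child 29 true 477,
  .child 30 true 477,
  .child 29 false 622,
  .child 30 true 622,
  .child 29 false 2669,
  .child 30 true 2669,
  .child 69 true 86,
  .child 27 true 765,
  .child 28 true 765,
  .child 69 true 765,
  .child 27 false 2286,
  .child 28 false 2286,
  .child 30 false 2286]

/-- part 37 of `twTree4` -/
noncomputable def twTree4P37 : List (Leaf) := [
  .child 27 true 2286,
  .child 28 true 2286,
  .child 27 false 1813,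
  .child 28 false 1813,
  .child 29 false 1813,
  .child 30 false 1813,
  .child 60 false 1813,
  .child 69 false 1813,
  .child 29 true 1813,
  .child 60 true 1813,
  .child 30 false 2849,
  .child 60 false 2849,
  .child 60 true 2849,
  .child 29 false 3607,
  .child 29 true 3607,
  .child 29 false 1783,
  .child 30 false 1783,
  .child 60 false 1783,
  .child 69 false 1783,
  .child 29 true 1783,
  .child 30 true 1783,
  .child 60 true 1783,
  .child 69 true 1783,
  .child 29 false 2855,
  .child 30 false 2855,
  .child 60 false 2855,
  .child 69 false 2855,
  .child 29 true 2855,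
  .child 30 true 2855,
  .child 60 true 2855,
  .child 69 true 2855,
  .child 29 true 2566,
  .child 30 true 2566,
  .child 60 true 2566,
  .child 29 false 3639,
  .child 69 false 3639,
  .child 27 true 3639,
  .child 28 true 3639,
  .child 29 true 3639,
  .child 69 true 3639,
  .child 28 false 541,
  .child 27 true 541,
  .child 29 true 541,
  .child 69 true 1436,
  .child 28 false 2882,
  .child 60 false 2882,
  .child 69 true 2882,
  .child 30 false 2115,
  .child 69 true 2115,
  .child 69 false 2657,
  .child 27 false 1899,
  .child 28 false 1899,
  .child 27 true 1899,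
  .child 28 true 1899,
  .child 30 true 1899,
  .child 69 true 2004,
  .child 69 true 3692,
  .child 30 false 2975,
  .child 69 false 3216,
  .child 69 true 2015,
  .child 69 true 1237,
  .child 69 true 580,
  .child 27 false 2259,
  .child 28 false 2259,
  .child 27 true 2259,
  .child 27 true 3505,
  .child 69 false 3768,
  .child 60 true 3768,
  .child 69 true 3768,
  .child 60 false 1620,
  .child 69 true 1964,
  .child 27 false 1490,
  .child 28 false 1490,
  .child 27 false 3528,
  .child 28 false 3528,
  .child 29 false 3528,
  .child 30 false 3528,
  .child 69 false 3528,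
  .child 29 true 3528,
  .child 60 true 3528,
  .child 69 true 3528,
  .child 29 false 2554,
  .child 30 false 2554,
  .child 60 true 2554,
  .child 69 true 2554,
  .child 27 false 1560,
  .child 28 false 1560,
  .child 30 false 1560,
  .child 60 false 1560,
  .child 29 true 1560,
  .child 60 true 1560,
  .child 69 true 1560,
  .child 29 false 3553,
  .child 60 false 3553,
  .child 69 false 3553,
  .child 30 true 3553,
  .child 60 false 1000,
  .child 30 true 1000,
  .child 27 true 2202,
  .child 28 true 2202]

/-- part 38 of `twTree4` -/
noncomputable def twTree4P38 : List (Leaf) := [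
  .child 69 false 3903,
  .child 28 true 3649,
  .child 30 true 3649,
  .child 30 true 2608,
  .child 30 true 252,
  .child 60 true 252,
  .child 69 false 987,
  .child 27 false 3831,
  .child 30 false 3314,
  .child 69 true 605,
  .child 27 false 3258,
  .child 60 true 787,
  .child 60 true 3881,
  .child 30 false 2425,
  .child 29 true 2425,
  .child 60 false 3731,
  .child 69 false 3731,
  .child 69 true 3731,
  .child 60 false 664,
  .child 69 false 664,
  .child 60 true 664,
  .child 69 true 664,
  .child 60 false 2580,
  .child 69 false 2580,
  .child 29 true 2580,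
  .child 69 true 2580,
  .child 27 false 806,
  .child 28 false 806,
  .child 29 false 806,
  .child 27 true 806,
  .child 69 false 837,
  .child 69 true 3168,
  .child 69 false 1940,
  .child 69 true 1940,
  .child 30 true 2906,
  .child 60 true 2906,
  .child 30 false 3171,
  .child 27 false 3454,
  .child 28 false 3454,
  .child 28 true 633,
  .child 69 true 3710,
  .child 69 false 470,
  .child 69 true 470,
  .child 69 false 1050,
  .child 69 true 1050,
  .child 69 false 2969,
  .child 69 true 2969,
  .child 27 false 2145,
  .child 30 false 2145,
  .child 29 true 2145,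
  .child 69 true 2145,
  .child 30 false 1863,
  .child 69 true 1863,
  .child 29 false 1229,
  .child 30 false 1229,
  .child 69 true 1229,
  .child 30 true 2825,
  .child 60 true 2825,
  .child 60 false 1980,
  .child 69 false 1980,
  .child 29 true 1980,
  .child 29 false 1430,
  .child 69 true 3103,
  .child 29 false 3091,
  .child 69 true 3091,
  .child 29 false 1758,
  .child 30 false 1758,
  .child 69 true 1758,
  .child 69 false 1894,
  .child 69 false 3468,
  .child 69 true 3123,
  .child 28 true 87,
  .child 69 false 980,
  .child 69 true 2806,
  .child 60 false 2736,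
  .child 60 false 2852,
  .child 69 true 102,
  .child 60 true 3876,
  .child 30 false 2241,
  .child 28 true 2241,
  .child 69 false 1032,
  .child 69 true 3387,
  .child 30 false 2694,
  .child 27 true 2457,
  .child 28 true 2457,
  .child 29 true 2457,
  .child 30 true 2457,
  .child 69 true 2175,
  .child 69 true 3544,
  .child 69 false 2623,
  .child 30 false 1493,
  .child 69 true 488,
  .child 27 false 2057,
  .child 28 false 2057,
  .child 29 true 2057,
  .child 29 false 248,
  .child 60 true 931,
  .child 69 true 2772,
  .child 60 true 921,
  .child 69 true 3501]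

/-- part 39 of `twTree4` -/
noncomputable def twTree4P39 : List (Leaf) := [
  .root 8,
  .child 27 false 654,
  .child 69 false 654,
  .child 27 true 654,
  .child 27 false 2371,
  .child 69 true 2371]

/-- certificate data -/
noncomputable def twTree4 : List (Leaf) :=
  [twTree4P0, twTree4P1, twTree4P2, twTree4P3, twTree4P4, twTree4P5, twTree4P6, twTree4P7, twTree4P8, twTree4P9, twTree4P10, twTree4P11, twTree4P12, twTree4P13, twTree4P14, twTree4P15, twTree4P16, twTree4P17, twTree4P18, twTree4P19, twTree4P20, twTree4P21, twTree4P22, twTree4P23, twTree4P24, twTree4P25, twTree4P26, twTree4P27, twTree4P28, twTree4P29, twTree4P30, twTree4P31, twTree4P32, twTree4P33, twTree4P34, twTree4P35, twTree4P36, twTree4P37, twTree4P38, twTree4P39].flatten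

/-- the closure -/
noncomputable def tw : TData where
  C := certA
  B := [0,13,2,65]
  U := [([4],[2,4,2,5,3,4,3,5]),
    ([1,4,0],[3,3,0,4,1,2,4,2]),
    ([3,4,2],[0,3,0,5,1,2,1]),
    ([2,4,3],[3,1,2,4,3,0,2]),
    ([1,4,0,5,1,5,0,4],[0,4,1,5,0,5,1,4]),
    ([0],[0,6,6]),
    ([2,0,3],[1,1,2,1,3]),
    ([2,2,0,3,3],[0,2,2,0,3,3,1])]
  cosL := [[], [2], [2,2], [2,2,2], [2,2,2,2]]
  pgens := [[0], [1], [2], [3], [4], [5]]
  cosMove := [[(0,[(5,false)]),(2,[(7,true),(6,true),(5,true)]),(1,[(5,true),(6,true),(7,true)]),(3,[(7,false)]),(4,[(6,false)])],
    [(0,[(5,true)]),(2,[(7,false),(6,false),(5,false)]),(1,[(5,false),(6,false),(7,false)]),(3,[(7,true)]),(4,[(6,true)])],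
    [(1,[]),(2,[]),(3,[]),(4,[]),(0,[])],
    [(4,[]),(0,[]),(1,[]),(2,[]),(3,[])],
    [(0,[(0,false)]),(1,[(2,false)]),(2,[(0,false),(0,false),(3,false),(2,true),(2,true)]),(3,[(6,false),(3,false),(1,true),(6,true)]),(4,[(3,false)])],
    [(0,[(0,true)]),(1,[(2,true)]),(2,[(0,false),(7,true),(0,true),(2,true),(7,false)]),(3,[(6,false),(1,false),(3,true),(6,true)]),(4,[(3,true)])]]
  sq := [0, 0]
  ns := 5
  par := [(0,[]),(0,[]),(1,[2,7]),(1,[7]),(1,[5,2,1,3,6,4,3,6])]
  facts := twFacts
  prfs := twJust
  menuE := [[3,3,1,2,2,1,1,10,3,3,1,2,2,1,1,10,3,3,1,2,2,1,1],(wOf 53 0x4614214604152242022a1146040346a110724034634204121312),(wOf 53 0x724034634204121312a1104614214604152242022a1146040346),(wOf 53 0x46040346a110724034634204121312a1104614214604152242022),(wOf 44 0x37a112412256514052213122a62a2131340414752415),(wOf 44 0x3302033415047433053a62a4053465051520203a1137),(wOf 44 0x37a113302033415047433053a62a4053465051520203),(wOf 47 0x1303303341535275227535a6a046302463024212212a117),(wOf 47 0x4246334634240522122120a6a303303531275312751a117),(wOf 84 0x312022025335375227535a111220534304475150526a424633462422431331302a615350461205022030)]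
  menuS := [(wOf 26 0x22133a111122133a1122133a11),(wOf 50 0x1303303341535275227535a6a046302463024212212a117a11)]
  roots := [twRoots0, twRoots1, twRoots2, twRoots3, twRoots4]

end CfsgLib.LyPres
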