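import Cfsg.Agent.Lib.TwistCoset.Index
import Cfsg.Agent.Lib.LyPres.TopData
import Cfsg.Agent.Lib.LyPres.TwistData
import Cfsg.Agent.Lib.LyPres.StabData

/-!
Kernel checks of the double cosets.
-/

set_option autoImplicit false
set_option Elab.async false

namespace CfsgLib.LyPres

open CfsgLib.CosetEnum CfsgLib.TwistCoset

theorem twFact0 : ((List.range 20).all fun k => tw.factOK (0 + k)) = true := by decide +kernel

theorem twFact20 : ((List.range 20).all fun k => tw.factOK (20 + k)) = true := by decide +kernel

theorem twFact40 : ((List.range 20).all fun k => tw.factOK (40 + k)) = true := by decide +kernel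

theorem twFact60 : ((List.range 20).all fun k => tw.factOK (60 + k)) = true := by decide +kernel

theorem twFact80 : ((List.range 20).all fun k => tw.factOK (80 + k)) = true := by decide +kernel

theorem twFact100 : ((List.range 19).all fun k => tw.factOK (100 + k)) = true := by decide +kernel

theorem tw_facts : ∀ n < 119, tw.factOK n = true := by
  intro n hn
  by_cases h0 : n < 20
  · have := List.all_eq_true.mp twFact0 (n - 0) (List.mem_range.mpr (by omega))
    rwa [show 0 + (n - 0) = n by omega] at this
  by_cases h20 : n < 40
  · have := List.all_eq_true.mp twFact20 (n - 20) (List.mem_range.mpr (by omega))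
    rwa [show 20 + (n - 20) = n by omega] at this
  by_cases h40 : n < 60
  · have := List.all_eq_true.mp twFact40 (n - 40) (List.mem_range.mpr (by omega))
    rwa [show 40 + (n - 40) = n by omega] at this
  by_cases h60 : n < 80
  · have := List.all_eq_true.mp twFact60 (n - 60) (List.mem_range.mpr (by omega))
    rwa [show 60 + (n - 60) = n by omega] at this
  by_cases h80 : n < 100
  · have := List.all_eq_true.mp twFact80 (n - 80) (List.mem_range.mpr (by omega))
    rwa [show 80 + (n - 80) = n by omega] at this
  by_cases h100 : n < 119
  · have := List.all_eq_true.mp twFact100 (n - 100) (List.mem_range.mpr (by omega))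
    rwa [show 100 + (n - 100) = n by omega] at this
  omega

theorem tw_cos : tw.cosOK = true := by decide +kernel

theorem tw_roots0 : tw.rootsOK 119 0 = true := by decide +kernel

theorem tw_reach0 : tw.reachOK 119 0 twTree0 = true := by decide +kernel

theorem tw_roots1 : tw.rootsOK 119 1 = true := by decide +kernel

theorem tw_reach1 : tw.reachOK 119 1 twTree1 = true := by decide +kernel

theorem tw_roots2 : tw.rootsOK 119 2 = true := by decide +kernel

theorem tw_reach2 : tw.reachOK 119 2 twTree2 = true := by decide +kernel

theorem tw_roots3 : tw.rootsOK 119 3 = true := by decide +kernel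

theorem tw_reach3 : tw.reachOK 119 3 twTree3 = true := by decide +kernel

theorem tw_roots4 : tw.rootsOK 119 4 = true := by decide +kernel

theorem tw_reach4 : tw.reachOK 119 4 twTree4 = true := by decide +kernel

theorem top_ok : cOK certA [] topChain = true ∧ cSize topChain = 5859000000 ∧
    (topChain.map CLev.base == tw.B) = true := by
  refine ⟨?_, ?_, ?_⟩ <;> decide +kernel

/-- a level of a stabiliser, its generators as products of facts -/
noncomputable def stabLev (l : ℕ × List (ℕ × List ℕ)) (ks : List (List (ℕ × Bool))) : CLev :=
  ⟨l.1, ks.map fun k => k.flatMap fun z => tw.sgn z.2 (match tw.fct z.1 with | .stab _ p => p | _ => []), l.2⟩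

/-- the chain of a state -/
noncomputable def stabChain (ls : List (ℕ × List (ℕ × List ℕ))) (wit : List (List (List (ℕ × Bool)))) :
    List CLev := (ls.zip wit).map fun z => stabLev z.1 z.2

/-- every generator is a product of stabiliser facts of the state -/
noncomputable def witOK (i : ℕ) (wit : List (List (List (ℕ × Bool)))) : Bool :=
  wit.all fun ks => ks.all fun k => k.all fun z => Nat.blt z.1 119 &&
    match tw.fct z.1 with
    | .stab i' _ => Nat.beq i' i
    | _ => false

theorem stab1_ok : cOK certA [] (stabChain kLevs1 kWit1) = true ∧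
    cSize (stabChain kLevs1 kWit1) = 300000 ∧ witOK 1 kWit1 = true := by
  refine ⟨?_, ?_, ?_⟩ <;> decide +kernel

theorem stab2_ok : cOK certA [] (stabChain kLevs2 kWit2) = true ∧
    cSize (stabChain kLevs2 kWit2) = 1008 ∧ witOK 2 kWit2 = true := by
  refine ⟨?_, ?_, ?_⟩ <;> decide +kernel

theorem stab3_ok : cOK certA [] (stabChain kLevs3 kWit3) = true ∧
    cSize (stabChain kLevs3 kWit3) = 6048 ∧ witOK 3 kWit3 = true := by
  refine ⟨?_, ?_, ?_⟩ <;> decide +kernel

theorem stab4_ok : cOK certA [] (stabChain kLevs4 kWit4) = true ∧
    cSize (stabChain kLevs4 kWit4) = 2880 ∧ witOK 4 kWit4 = true := by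
  refine ⟨?_, ?_, ?_⟩ <;> decide +kernel

end CfsgLib.LyPres
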