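import Cfsg.Agent.Lib.LyPres.Group

/-!
The relations of the presented group that involve `z`, as words.
-/

set_option autoImplicit false
set_option linter.style.longLine false
set_option maxHeartbeats 2000000

namespace CfsgLib.LyPres

open CfsgLib.CosetEnum

/-- the letters, with `z` and its inverse -/
def fz (c : ℕ) : G := if c < 10 then gen c else if c = 10 then gz else if c = 11 then gz⁻¹ else 1

theorem zword82 : prodW fz [3, 3, 0, 2, 2, 10, 3, 3, 0, 2, 2, 10, 3, 3, 0, 2, 2, 10, 0, 0] = 1 := by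
  have h := rel82
  simp only [gc1_eq, gc2_eq, gc3_eq, gc4_eq, gc5_eq, ga1_eq, ga2_eq, ga3_eq, ga4_eq, gu_eq, gx23_eq, gx24_eq, gx25_eq, gx29_eq, gx47_eq, gx96_eq, gx129_eq, gx162_eq, gx163_eq, gx164_eq, gx165_eq, gx166_eq, gx167_eq, gx168_eq, gx169_eq, gx364_eq, gx365_eq, gx366_eq, gx367_eq, gx368_eq, gx369_eq, gx370_eq, gx371_eq, mul_inv_rev, inv_inv, pow_succ, pow_zero, one_mul, mul_one, mul_assoc, inv_mul_cancel_left, mul_inv_cancel_left, inv_mul_cancel, mul_inv_cancel] at h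
  simp (config := { decide := true }) only [prodW_cons, prodW_nil, fz, gen, if_true, if_false]
  simp only [mul_inv_rev, inv_inv, pow_succ, pow_zero, one_mul, mul_one, mul_assoc, inv_mul_cancel_left, mul_inv_cancel_left, inv_mul_cancel, mul_inv_cancel]
  exact h

theorem zword83 : prodW fz [5, 7, 1, 5, 1, 2, 5, 7, 10, 1, 6, 3, 5, 1, 2, 5, 7, 2, 5, 3, 1, 5, 0, 3, 0, 2, 0, 3, 10, 1, 5, 7, 0, 5, 3, 0, 5, 7, 1, 5, 0, 4, 3, 3, 5, 3, 1, 3, 3, 10] = 1 := by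
  have h := rel83
  simp only [gc1_eq, gc2_eq, gc3_eq, gc4_eq, gc5_eq, ga1_eq, ga2_eq, ga3_eq, ga4_eq, gu_eq, gx23_eq, gx24_eq, gx25_eq, gx29_eq, gx47_eq, gx96_eq, gx129_eq, gx162_eq, gx163_eq, gx164_eq, gx165_eq, gx166_eq, gx167_eq, gx168_eq, gx169_eq, gx364_eq, gx365_eq, gx366_eq, gx367_eq, gx368_eq, gx369_eq, gx370_eq, gx371_eq, mul_inv_rev, inv_inv, pow_succ, pow_zero, one_mul, mul_one, mul_assoc, inv_mul_cancel_left, mul_inv_cancel_left, inv_mul_cancel, mul_inv_cancel] at h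
  simp (config := { decide := true }) only [prodW_cons, prodW_nil, fz, gen, if_true, if_false]
  simp only [mul_inv_rev, inv_inv, pow_succ, pow_zero, one_mul, mul_one, mul_assoc, inv_mul_cancel_left, mul_inv_cancel_left, inv_mul_cancel, mul_inv_cancel]
  exact h

theorem zword84 : prodW fz [11, 7, 11, 1, 5, 7, 2, 1, 3, 5, 7, 2, 1, 3, 5, 3, 0, 3, 3, 0, 3, 10, 6, 10, 0, 2, 1, 2, 2, 1, 2, 2, 5, 0, 4, 2, 4, 3, 6, 4, 3, 3, 6, 4, 2, 4] = 1 := by
  have h := rel84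
  simp only [gc1_eq, gc2_eq, gc3_eq, gc4_eq, gc5_eq, ga1_eq, ga2_eq, ga3_eq, ga4_eq, gu_eq, gx23_eq, gx24_eq, gx25_eq, gx29_eq, gx47_eq, gx96_eq, gx129_eq, gx162_eq, gx163_eq, gx164_eq, gx165_eq, gx166_eq, gx167_eq, gx168_eq, gx169_eq, gx364_eq, gx365_eq, gx366_eq, gx367_eq, gx368_eq, gx369_eq, gx370_eq, gx371_eq, mul_inv_rev, inv_inv, pow_succ, pow_zero, one_mul, mul_one, mul_assoc, inv_mul_cancel_left, mul_inv_cancel_left, inv_mul_cancel, mul_inv_cancel] at h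
  simp (config := { decide := true }) only [prodW_cons, prodW_nil, fz, gen, if_true, if_false]
  simp only [mul_inv_rev, inv_inv, pow_succ, pow_zero, one_mul, mul_one, mul_assoc, inv_mul_cancel_left, mul_inv_cancel_left, inv_mul_cancel, mul_inv_cancel]
  exact h

theorem zword85 : prodW fz [10, 2, 0, 3, 1, 3, 3, 1, 3, 4, 2, 2, 4, 2, 6, 4, 3, 3, 6, 4, 2, 4, 10, 0, 3, 3, 1, 4, 2, 5, 2, 1, 5, 5, 6, 4, 0, 4, 1, 4, 3, 7, 11, 5, 3, 5, 7, 2, 2, 5, 7, 3, 5, 3, 3, 5, 2, 0, 2, 2, 0, 2, 1, 3, 11, 7, 0, 4, 2, 4, 1, 5, 7, 0, 3, 1, 4, 1, 3, 3, 1, 2, 1] = 1 := by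
  have h := rel85
  simp only [gc1_eq, gc2_eq, gc3_eq, gc4_eq, gc5_eq, ga1_eq, ga2_eq, ga3_eq, ga4_eq, gu_eq, gx23_eq, gx24_eq, gx25_eq, gx29_eq, gx47_eq, gx96_eq, gx129_eq, gx162_eq, gx163_eq, gx164_eq, gx165_eq, gx166_eq, gx167_eq, gx168_eq, gx169_eq, gx364_eq, gx365_eq, gx366_eq, gx367_eq, gx368_eq, gx369_eq, gx370_eq, gx371_eq, mul_inv_rev, inv_inv, pow_succ, pow_zero, one_mul, mul_one, mul_assoc, inv_mul_cancel_left, mul_inv_cancel_left, inv_mul_cancel, mul_inv_cancel] at h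
  simp (config := { decide := true }) only [prodW_cons, prodW_nil, fz, gen, if_true, if_false]
  simp only [mul_inv_rev, inv_inv, pow_succ, pow_zero, one_mul, mul_one, mul_assoc, inv_mul_cancel_left, mul_inv_cancel_left, inv_mul_cancel, mul_inv_cancel]
  exact h

theorem zword86 : prodW fz [10, 2, 6, 10, 2, 2, 1, 3, 1, 2, 2, 5, 0, 4, 1, 5, 6, 5, 2, 2, 1, 4, 2, 11, 7, 3, 11, 5, 1, 4, 2, 5, 7, 4, 1, 4, 0, 4, 3, 1, 3, 1, 2] = 1 := by
  have h := rel86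
  simp only [gc1_eq, gc2_eq, gc3_eq, gc4_eq, gc5_eq, ga1_eq, ga2_eq, ga3_eq, ga4_eq, gu_eq, gx23_eq, gx24_eq, gx25_eq, gx29_eq, gx47_eq, gx96_eq, gx129_eq, gx162_eq, gx163_eq, gx164_eq, gx165_eq, gx166_eq, gx167_eq, gx168_eq, gx169_eq, gx364_eq, gx365_eq, gx366_eq, gx367_eq, gx368_eq, gx369_eq, gx370_eq, gx371_eq, mul_inv_rev, inv_inv, pow_succ, pow_zero, one_mul, mul_one, mul_assoc, inv_mul_cancel_left, mul_inv_cancel_left, inv_mul_cancel, mul_inv_cancel] at h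
  simp (config := { decide := true }) only [prodW_cons, prodW_nil, fz, gen, if_true, if_false]
  simp only [mul_inv_rev, inv_inv, pow_succ, pow_zero, one_mul, mul_one, mul_assoc, inv_mul_cancel_left, mul_inv_cancel_left, inv_mul_cancel, mul_inv_cancel]
  exact h

/-- the relators involving `z` -/
def zRels : List (List ℕ) := [[3, 3, 0, 2, 2, 10, 3, 3, 0, 2, 2, 10, 3, 3, 0, 2, 2, 10, 0, 0],
  [5, 7, 1, 5, 1, 2, 5, 7, 10, 1, 6, 3, 5, 1, 2, 5, 7, 2, 5, 3, 1, 5, 0, 3, 0, 2, 0, 3, 10, 1, 5, 7, 0, 5, 3, 0, 5, 7, 1, 5, 0, 4, 3, 3, 5, 3, 1, 3, 3, 10],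
  [11, 7, 11, 1, 5, 7, 2, 1, 3, 5, 7, 2, 1, 3, 5, 3, 0, 3, 3, 0, 3, 10, 6, 10, 0, 2, 1, 2, 2, 1, 2, 2, 5, 0, 4, 2, 4, 3, 6, 4, 3, 3, 6, 4, 2, 4],
  [10, 2, 0, 3, 1, 3, 3, 1, 3, 4, 2, 2, 4, 2, 6, 4, 3, 3, 6, 4, 2, 4, 10, 0, 3, 3, 1, 4, 2, 5, 2, 1, 5, 5, 6, 4, 0, 4, 1, 4, 3, 7, 11, 5, 3, 5, 7, 2, 2, 5, 7, 3, 5, 3, 3, 5, 2, 0, 2, 2, 0, 2, 1, 3, 11, 7, 0, 4, 2, 4, 1, 5, 7, 0, 3, 1, 4, 1, 3, 3, 1, 2, 1],
  [10, 2, 6, 10, 2, 2, 1, 3, 1, 2, 2, 5, 0, 4, 1, 5, 6, 5, 2, 2, 1, 4, 2, 11, 7, 3, 11, 5, 1, 4, 2, 5, 7, 4, 1, 4, 0, 4, 3, 1, 3, 1, 2]]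

theorem zRels_one : ∀ r ∈ zRels, prodW fz r = 1 := by
  simp only [zRels, List.mem_cons, List.not_mem_nil, or_false, forall_eq_or_imp, forall_eq]
  exact ⟨zword82, zword83, zword84, zword85, zword86⟩

/-- witnesses of the menus of words equal to `z` -/
def witE : List (ℕ × Bool × ℕ) := [(0, false, 17), (1, false, 28), (1, false, 8), (1, false, 49), (4, true, 16), (4, false, 3), (4, false, 0), (2, false, 23), (2, true, 45), (3, false, 0)]

/-- witnesses of the menus of words equal to `1` -/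
def witS : List (ℕ × Bool × ℕ) := [(0, true, 8), (2, true, 22)]

theorem twist0 : prodW fz [4] * gz = gz * prodW fz [1, 3, 1, 2, 5, 3, 0, 5, 2, 0] := by
  have h := mul_inv_eq_one.mp rel73
  have h2 : gc1 * gz = gz * gx162 := by rw [← h]; simp [mul_assoc]
  simp only [gc1_eq, gc2_eq, gc3_eq, gc4_eq, gc5_eq, ga1_eq, ga2_eq, ga3_eq, ga4_eq, gu_eq, gx23_eq, gx24_eq, gx25_eq, gx29_eq, gx47_eq, gx96_eq, gx129_eq, gx162_eq, gx163_eq, gx164_eq, gx165_eq, gx166_eq, gx167_eq, gx168_eq, gx169_eq, gx364_eq, gx365_eq, gx366_eq, gx367_eq, gx368_eq, gx369_eq, gx370_eq, gx371_eq, mul_inv_rev, inv_inv, pow_succ, pow_zero, one_mul, mul_one, mul_assoc, inv_mul_cancel_left, mul_inv_cancel_left, inv_mul_cancel, mul_inv_cancel] at h2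
  simp (config := { decide := true }) only [prodW_cons, prodW_nil, fz, gen, if_true, if_false]
  simp only [mul_inv_rev, inv_inv, pow_succ, pow_zero, one_mul, mul_one, mul_assoc, inv_mul_cancel_left, mul_inv_cancel_left, inv_mul_cancel, mul_inv_cancel]
  exact h2

theorem twist1 : prodW fz [1, 4, 0] * gz = gz * prodW fz [3, 3, 0, 4, 1, 2, 4, 2] := by
  have h := mul_inv_eq_one.mp rel74
  have h2 : gc2 * gz = gz * gx163 := by rw [← h]; simp [mul_assoc]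
  simp only [gc1_eq, gc2_eq, gc3_eq, gc4_eq, gc5_eq, ga1_eq, ga2_eq, ga3_eq, ga4_eq, gu_eq, gx23_eq, gx24_eq, gx25_eq, gx29_eq, gx47_eq, gx96_eq, gx129_eq, gx162_eq, gx163_eq, gx164_eq, gx165_eq, gx166_eq, gx167_eq, gx168_eq, gx169_eq, gx364_eq, gx365_eq, gx366_eq, gx367_eq, gx368_eq, gx369_eq, gx370_eq, gx371_eq, mul_inv_rev, inv_inv, pow_succ, pow_zero, one_mul, mul_one, mul_assoc, inv_mul_cancel_left, mul_inv_cancel_left, inv_mul_cancel, mul_inv_cancel] at h2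
  simp (config := { decide := true }) only [prodW_cons, prodW_nil, fz, gen, if_true, if_false]
  simp only [mul_inv_rev, inv_inv, pow_succ, pow_zero, one_mul, mul_one, mul_assoc, inv_mul_cancel_left, mul_inv_cancel_left, inv_mul_cancel, mul_inv_cancel]
  exact h2

theorem twist2 : prodW fz [3, 4, 2] * gz = gz * prodW fz [1, 3, 1, 4, 0, 2, 0] := by
  have h := mul_inv_eq_one.mp rel75
  have h2 : gc3 * gz = gz * gx164 := by rw [← h]; simp [mul_assoc]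
  simp only [gc1_eq, gc2_eq, gc3_eq, gc4_eq, gc5_eq, ga1_eq, ga2_eq, ga3_eq, ga4_eq, gu_eq, gx23_eq, gx24_eq, gx25_eq, gx29_eq, gx47_eq, gx96_eq, gx129_eq, gx162_eq, gx163_eq, gx164_eq, gx165_eq, gx166_eq, gx167_eq, gx168_eq, gx169_eq, gx364_eq, gx365_eq, gx366_eq, gx367_eq, gx368_eq, gx369_eq, gx370_eq, gx371_eq, mul_inv_rev, inv_inv, pow_succ, pow_zero, one_mul, mul_one, mul_assoc, inv_mul_cancel_left, mul_inv_cancel_left, inv_mul_cancel, mul_inv_cancel] at h2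
  simp (config := { decide := true }) only [prodW_cons, prodW_nil, fz, gen, if_true, if_false]
  simp only [mul_inv_rev, inv_inv, pow_succ, pow_zero, one_mul, mul_one, mul_assoc, inv_mul_cancel_left, mul_inv_cancel_left, inv_mul_cancel, mul_inv_cancel]
  exact h2

theorem twist3 : prodW fz [2, 4, 3] * gz = gz * prodW fz [3, 1, 2, 4, 3, 0, 2] := by
  have h := mul_inv_eq_one.mp rel76
  have h2 : gc4 * gz = gz * gx165 := by rw [← h]; simp [mul_assoc]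
  simp only [gc1_eq, gc2_eq, gc3_eq, gc4_eq, gc5_eq, ga1_eq, ga2_eq, ga3_eq, ga4_eq, gu_eq, gx23_eq, gx24_eq, gx25_eq, gx29_eq, gx47_eq, gx96_eq, gx129_eq, gx162_eq, gx163_eq, gx164_eq, gx165_eq, gx166_eq, gx167_eq, gx168_eq, gx169_eq, gx364_eq, gx365_eq, gx366_eq, gx367_eq, gx368_eq, gx369_eq, gx370_eq, gx371_eq, mul_inv_rev, inv_inv, pow_succ, pow_zero, one_mul, mul_one, mul_assoc, inv_mul_cancel_left, mul_inv_cancel_left, inv_mul_cancel, mul_inv_cancel] at h2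
  simp (config := { decide := true }) only [prodW_cons, prodW_nil, fz, gen, if_true, if_false]
  simp only [mul_inv_rev, inv_inv, pow_succ, pow_zero, one_mul, mul_one, mul_assoc, inv_mul_cancel_left, mul_inv_cancel_left, inv_mul_cancel, mul_inv_cancel]
  exact h2

theorem twist4 : prodW fz [5, 1, 5, 0, 4, 1, 4, 0] * gz = gz * prodW fz [2, 2, 1, 3, 4, 2, 0, 4, 3, 3, 5] := by
  have h := mul_inv_eq_one.mp rel77
  have h2 : gc5 * gz = gz * gx166 := by rw [← h]; simp [mul_assoc]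
  simp only [gc1_eq, gc2_eq, gc3_eq, gc4_eq, gc5_eq, ga1_eq, ga2_eq, ga3_eq, ga4_eq, gu_eq, gx23_eq, gx24_eq, gx25_eq, gx29_eq, gx47_eq, gx96_eq, gx129_eq, gx162_eq, gx163_eq, gx164_eq, gx165_eq, gx166_eq, gx167_eq, gx168_eq, gx169_eq, gx364_eq, gx365_eq, gx366_eq, gx367_eq, gx368_eq, gx369_eq, gx370_eq, gx371_eq, mul_inv_rev, inv_inv, pow_succ, pow_zero, one_mul, mul_one, mul_assoc, inv_mul_cancel_left, mul_inv_cancel_left, inv_mul_cancel, mul_inv_cancel] at h2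
  simp (config := { decide := true }) only [prodW_cons, prodW_nil, fz, gen, if_true, if_false]
  simp only [mul_inv_rev, inv_inv, pow_succ, pow_zero, one_mul, mul_one, mul_assoc, inv_mul_cancel_left, mul_inv_cancel_left, inv_mul_cancel, mul_inv_cancel]
  exact h2

theorem twist5 : prodW fz [0] * gz = gz * prodW fz [1, 1, 1] := by
  have h := mul_inv_eq_one.mp rel78
  have h2 : ga1 * gz = gz * gx167 := by rw [← h]; simp [mul_assoc]
  simp only [gc1_eq, gc2_eq, gc3_eq, gc4_eq, gc5_eq, ga1_eq, ga2_eq, ga3_eq, ga4_eq, gu_eq, gx23_eq, gx24_eq, gx25_eq, gx29_eq, gx47_eq, gx96_eq, gx129_eq, gx162_eq, gx163_eq, gx164_eq, gx165_eq, gx166_eq, gx167_eq, gx168_eq, gx169_eq, gx364_eq, gx365_eq, gx366_eq, gx367_eq, gx368_eq, gx369_eq, gx370_eq, gx371_eq, mul_inv_rev, inv_inv, pow_succ, pow_zero, one_mul, mul_one, mul_assoc, inv_mul_cancel_left, mul_inv_cancel_left, inv_mul_cancel, mul_inv_cancel] at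 h2
  simp (config := { decide := true }) only [prodW_cons, prodW_nil, fz, gen, if_true, if_false]
  simp only [mul_inv_rev, inv_inv, pow_succ, pow_zero, one_mul, mul_one, mul_assoc, inv_mul_cancel_left, mul_inv_cancel_left, inv_mul_cancel, mul_inv_cancel]
  exact h2

theorem twist6 : prodW fz [2, 0, 3] * gz = gz * prodW fz [2, 1, 3, 1, 1] := by
  have h := mul_inv_eq_one.mp rel79
  have h2 : ga2 * gz = gz * gx168 := by rw [← h]; simp [mul_assoc]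
  simp only [gc1_eq, gc2_eq, gc3_eq, gc4_eq, gc5_eq, ga1_eq, ga2_eq, ga3_eq, ga4_eq, gu_eq, gx23_eq, gx24_eq, gx25_eq, gx29_eq, gx47_eq, gx96_eq, gx129_eq, gx162_eq, gx163_eq, gx164_eq, gx165_eq, gx166_eq, gx167_eq, gx168_eq, gx169_eq, gx364_eq, gx365_eq, gx366_eq, gx367_eq, gx368_eq, gx369_eq, gx370_eq, gx371_eq, mul_inv_rev, inv_inv, pow_succ, pow_zero, one_mul, mul_one, mul_assoc, inv_mul_cancel_left, mul_inv_cancel_left, inv_mul_cancel, mul_inv_cancel] at h2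
  simp (config := { decide := true }) only [prodW_cons, prodW_nil, fz, gen, if_true, if_false]
  simp only [mul_inv_rev, inv_inv, pow_succ, pow_zero, one_mul, mul_one, mul_assoc, inv_mul_cancel_left, mul_inv_cancel_left, inv_mul_cancel, mul_inv_cancel]
  exact h2

theorem twist7 : prodW fz [2, 2, 0, 3, 3] * gz = gz * prodW fz [0, 2, 2, 0, 3, 3, 1] := by
  have h := mul_inv_eq_one.mp rel80
  have h2 : ga3 * gz = gz * gx169 := by rw [← h]; simp [mul_assoc]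
  simp only [gc1_eq, gc2_eq, gc3_eq, gc4_eq, gc5_eq, ga1_eq, ga2_eq, ga3_eq, ga4_eq, gu_eq, gx23_eq, gx24_eq, gx25_eq, gx29_eq, gx47_eq, gx96_eq, gx129_eq, gx162_eq, gx163_eq, gx164_eq, gx165_eq, gx166_eq, gx167_eq, gx168_eq, gx169_eq, gx364_eq, gx365_eq, gx366_eq, gx367_eq, gx368_eq, gx369_eq, gx370_eq, gx371_eq, mul_inv_rev, inv_inv, pow_succ, pow_zero, one_mul, mul_one, mul_assoc, inv_mul_cancel_left, mul_inv_cancel_left, inv_mul_cancel, mul_inv_cancel] at h2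
  simp (config := { decide := true }) only [prodW_cons, prodW_nil, fz, gen, if_true, if_false]
  simp only [mul_inv_rev, inv_inv, pow_succ, pow_zero, one_mul, mul_one, mul_assoc, inv_mul_cancel_left, mul_inv_cancel_left, inv_mul_cancel, mul_inv_cancel]
  exact h2

/-- the words conjugated by `z` and their images -/
def zPairs : List (List ℕ × List ℕ) := [([4], [1, 3, 1, 2, 5, 3, 0, 5, 2, 0]),
  ([1, 4, 0], [3, 3, 0, 4, 1, 2, 4, 2]),
  ([3, 4, 2], [1, 3, 1, 4, 0, 2, 0]),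
  ([2, 4, 3], [3, 1, 2, 4, 3, 0, 2]),
  ([5, 1, 5, 0, 4, 1, 4, 0], [2, 2, 1, 3, 4, 2, 0, 4, 3, 3, 5]),
  ([0], [1, 1, 1]),
  ([2, 0, 3], [2, 1, 3, 1, 1]),
  ([2, 2, 0, 3, 3], [0, 2, 2, 0, 3, 3, 1])]

theorem zPairs_twist : ∀ p ∈ zPairs, prodW fz p.1 * gz = gz * prodW fz p.2 := by
  simp only [zPairs, List.mem_cons, List.not_mem_nil, or_false, forall_eq_or_imp, forall_eq]
  exact ⟨twist0, twist1, twist2, twist3, twist4, twist5, twist6, twist7⟩

end CfsgLib.LyPres
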