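import Cfsg.Agent.Lib.LyPres.Pres
import Cfsg.Agent.Lib.LyPres.ZRels
import Cfsg.Agent.Lib.LyPres.TwistChk

/-!
An upper bound for the index of the subgroup of `a, b, c, d` in the presented group.
-/

set_option autoImplicit false

namespace CfsgLib.LyPres

open CfsgLib.CosetEnum CfsgLib.TwistCoset

/-- the formal inverse of a letter -/
def invZ (c : ℕ) : ℕ := [1, 0, 3, 2, 5, 4, 7, 6, 9, 8, 11, 10].getD c c

/-- the formal inverse of a word -/
def iwZ (w : List ℕ) : List ℕ := (w.map invZ).reverse

/-- replace the inverse of `z` -/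
def zlW (w : List ℕ) : List ℕ := w.flatMap fun c => if c = 11 then [1, 1, 10] else [c]

/-- a relator or its inverse, rotated -/
def menuRot (e : ℕ × Bool × ℕ) : List ℕ :=
  let r := if e.2.1 then iwZ (zRels.getD e.1 []) else zRels.getD e.1 []
  r.drop e.2.2 ++ r.take e.2.2

theorem fz_gen {c : ℕ} (h : c < 10) : fz c = gen c := by rw [fz, if_pos h]

theorem prodW_fz {w : List ℕ} (h : ∀ g ∈ w, g < 10) : prodW fz w = prodW gen w :=
  prodW_congr fun g hg => fz_gen (h g hg)

theorem fz_inv (c : ℕ) : fz (invZ c) = (fz c)⁻¹ := by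
  by_cases h : c < 12
  · interval_cases c <;> simp [invZ, fz, gen]
  · rw [invZ, List.getD_eq_default _ _ (by simp; omega)]
    simp [fz, show ¬ c < 10 by omega, show c ≠ 10 by omega, show c ≠ 11 by omega]

theorem prodW_iwZ : ∀ w : List ℕ, prodW fz (iwZ w) = (prodW fz w)⁻¹
  | [] => by simp [iwZ]
  | c :: w => by
    have e : iwZ (c :: w) = iwZ w ++ [invZ c] := by simp [iwZ]
    rw [e, prodW_append, prodW_iwZ w, prodW_cons, prodW_cons, prodW_nil, mul_one, fz_inv,
      mul_inv_rev]

theorem gz_sq : gz * gz = ga * ga := by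
  have h := mul_inv_eq_one.mp rel81
  rwa [gu_eq, sq, sq] at h

theorem gz_inv : gz⁻¹ = ga⁻¹ * ga⁻¹ * gz := by
  rw [← mul_inv_rev, ← gz_sq, mul_inv_rev, inv_mul_cancel_right]

theorem prodW_zlW : ∀ w : List ℕ, prodW fz (zlW w) = prodW fz w
  | [] => rfl
  | c :: w => by
    have e : zlW (c :: w) = (if c = 11 then [1, 1, 10] else [c]) ++ zlW w := List.flatMap_cons
    rw [e, prodW_append, prodW_zlW w, prodW_cons]
    congr 1
    split
    · subst c
      simp only [prodW_cons, prodW_nil, mul_one, fz, gen]
      simp only [show (10 : ℕ) ≠ 11 by norm_num, if_true, if_false, Nat.lt_irrefl,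
        show ¬ (11 : ℕ) < 10 by norm_num, show (1 : ℕ) < 10 by norm_num,
        show (11 : ℕ) ≠ 10 by norm_num, gz_inv, mul_assoc]
    · simp

theorem menuRot_one {e : ℕ × Bool × ℕ} (h : e.1 < zRels.length) : prodW fz (menuRot e) = 1 := by
  have hr : prodW fz (if e.2.1 then iwZ (zRels.getD e.1 []) else zRels.getD e.1 []) = 1 := by
    have h1 : prodW fz (zRels.getD e.1 []) = 1 := by
      rw [List.getD_eq_getElem _ _ h]
      exact zRels_one _ (List.getElem_mem h)
    split
    · rw [prodW_iwZ, h1, inv_one]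
    · exact h1
  unfold menuRot
  dsimp only
  generalize (if e.2.1 then iwZ (zRels.getD e.1 []) else zRels.getD e.1 []) = r at hr
  rw [prodW_append]
  rw [← List.take_append_drop e.2.2 r, prodW_append] at hr
  exact mul_eq_one_comm.mp hr

theorem menu_checks :
    ((tw.menuE == witE.map fun e => zlW (iwZ (menuRot e).tail)) &&
      (witE.all fun e => Nat.blt e.1 zRels.length && ((menuRot e).head? == some 10)) &&
      (tw.menuS == witS.map fun e => zlW (menuRot e)) &&
      (witS.all fun e => Nat.blt e.1 zRels.length) &&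
      ((tw.menuE ++ tw.menuS).all fun Q => Q.all fun c => Nat.ble c 10)) = true := by
  decide +kernel

theorem prodW_twoPart {Q : List ℕ} (h : ∀ c ∈ Q, c ≤ 10) :
    prodW (fun c => if c < certA.K then toG (gen0 c) else gz) Q = prodW fz Q := by
  refine prodW_congr fun c hc => ?_
  by_cases h' : c < 10
  · rw [if_pos (certA_facts.2.2.1.symm ▸ h'), toG_gen h', fz_gen h']
  · obtain rfl : c = 10 := by have := h c hc; omega
    rw [if_neg (by rw [certA_facts.2.2.1]; omega)]
    simp [fz]

theorem cSize_top : cSize topChain = 5859000000 := top_ok.2.1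

theorem bases_top : topChain.map CLev.base = tw.B := eq_of_beq top_ok.2.2

theorem eq_sound0 {l m : List ℕ} (h : tw.eq l m = true) : prodW gen0 l = prodW gen0 m := by
  haveI := finite_P0
  refine act.eqW_sound top_ok.1 (cSize_top ▸ card_P0_le.2) ?_
  rw [bases_top]
  exact h

theorem card_P0 : Nat.card P0 = 5859000000 := by
  haveI := finite_P0
  refine le_antisymm card_P0_le.2 ?_
  have h := act.card_ge (K := (⊤ : Subgroup P0)) top_ok.1 fun _ _ _ _ => trivial
  rwa [cSize_top, Subgroup.card_top] at h

theorem pairs_check : ((tw.U.length == zPairs.length) && (List.range zPairs.length).all fun k =>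
    tw.eq (tw.U.getD k ([], [])).1 (zPairs.getD k ([], [])).1 &&
    tw.eq (tw.U.getD k ([], [])).2 (zPairs.getD k ([], [])).2) = true := by
  decide +kernel

theorem eq_letters {l m : List ℕ} (h : tw.eq l m = true) :
    (∀ g ∈ l, g < 10) ∧ ∀ g ∈ m, g < 10 := by
  have hC : tw.C = certA := rfl
  simp only [TData.eq, Act.eqW, Bool.and_eq_true, lettersOK_iff, hC, certA_facts.2.2.1] at h
  exact ⟨h.1.1, h.1.2⟩

theorem twist_U : ∀ e ∈ tw.U, toG (prodW gen0 e.1) * gz = gz * toG (prodW gen0 e.2) := by
  have h := pairs_check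
  simp only [Bool.and_eq_true, beq_iff_eq, List.all_eq_true, List.mem_range] at h
  intro e he
  obtain ⟨k, hk, rfl⟩ := List.getElem_of_mem he
  have hk' : k < zPairs.length := h.1 ▸ hk
  obtain ⟨h1, h2⟩ := h.2 k hk'
  rw [List.getD_eq_getElem _ _ hk, List.getD_eq_getElem _ _ hk'] at h1 h2
  rw [eq_sound0 h1, eq_sound0 h2, toG_word (eq_letters h1).2, toG_word (eq_letters h2).2,
    ← prodW_fz (eq_letters h1).2, ← prodW_fz (eq_letters h2).2]
  exact zPairs_twist _ (List.getElem_mem hk')

theorem menuE_ok : ∀ Q ∈ tw.menuE,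
    prodW (fun c => if c < certA.K then toG (gen0 c) else gz) Q = gz := by
  have h := menu_checks
  simp only [Bool.and_eq_true, beq_iff_eq, List.all_eq_true, Nat.blt_eq, Nat.ble_eq] at h
  obtain ⟨⟨⟨⟨hE, hEw⟩, -⟩, -⟩, hlt⟩ := h
  intro Q hQ
  rw [prodW_twoPart (hlt Q (List.mem_append_left _ hQ))]
  rw [hE, List.mem_map] at hQ
  obtain ⟨e, he, rfl⟩ := hQ
  obtain ⟨he1, he2⟩ := hEw e he
  have h1 := menuRot_one he1
  cases hr : menuRot e with
  | nil => simp [hr] at he2
  | cons c r =>
    simp only [hr, List.head?_cons, Option.some.injEq] at he2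
    subst he2
    rw [hr, prodW_cons] at h1
    rw [List.tail_cons, prodW_zlW, prodW_iwZ]
    simp only [show fz 10 = gz by simp [fz]] at h1
    exact inv_eq_of_mul_eq_one_left h1

theorem menuS_ok : ∀ Q ∈ tw.menuS,
    prodW (fun c => if c < certA.K then toG (gen0 c) else gz) Q = 1 := by
  have h := menu_checks
  simp only [Bool.and_eq_true, beq_iff_eq, List.all_eq_true, Nat.blt_eq, Nat.ble_eq] at h
  obtain ⟨⟨⟨⟨-, -⟩, hS⟩, hSw⟩, hlt⟩ := h
  intro Q hQ
  rw [prodW_twoPart (hlt Q (List.mem_append_right _ hQ))]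
  rw [hS, List.mem_map] at hQ
  obtain ⟨e, he, rfl⟩ := hQ
  rw [prodW_zlW]
  exact menuRot_one (hSw e he)

theorem subH_eq_closure : subH = Subgroup.closure ({ga, gb, gc, gd} : Set G) := by
  unfold subH
  rw [MonoidHom.map_closure]
  simp only [Set.image_insert_eq, Set.image_singleton]
  rfl

theorem toG_range : subH = toG.range := by
  rw [subH_eq_closure]
  apply le_antisymm
  · rw [Subgroup.closure_le]
    rintro x (rfl | rfl | rfl | rfl)
    · exact ⟨gen0 0, toG_gen (by norm_num)⟩
    · exact ⟨gen0 2, toG_gen (by norm_num)⟩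
    · exact ⟨gen0 4, toG_gen (by norm_num)⟩
    · exact ⟨gen0 6, toG_gen (by norm_num)⟩
  · rw [MonoidHom.range_eq_map, ← gen0_top, MonoidHom.map_closure, Subgroup.closure_le]
    rintro _ ⟨_, ⟨g, hg, rfl⟩, rfl⟩
    rw [certA_facts.2.2.1] at hg
    rw [toG_gen hg]
    set K := Subgroup.closure ({ga, gb, gc, gd} : Set G) with hK
    have ha : ga ∈ K := Subgroup.subset_closure (by simp)
    have hb : gb ∈ K := Subgroup.subset_closure (by simp)
    have hc : gc ∈ K := Subgroup.subset_closure (by simp)
    have hd : gd ∈ K := Subgroup.subset_closure (by simp)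
    have he : ge ∈ K := by
      simp only [ge_eq, gc1_eq]
      repeat' first | exact ha | exact hb | exact hc | exact hd | apply mul_mem | apply inv_mem |
        apply pow_mem
    interval_cases g <;> simp only [gen, inv_mem_iff, ha, hb, hc, hd, he, SetLike.mem_coe]

theorem gen_top_G : Subgroup.closure (insert gz (subH : Set G)) = ⊤ := by
  rw [eq_top_iff, ← PresentedGroup.closure_range_of Rels, Subgroup.closure_le]
  rintro _ ⟨i, rfl⟩
  set K := Subgroup.closure (insert gz (subH : Set G)) with hK
  have hH : ∀ x ∈ ({ga, gb, gc, gd} : Set G), x ∈ K := fun x hx => Subgroup.subset_closure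
    (Set.mem_insert_of_mem _ (by rw [subH_eq_closure]; exact Subgroup.subset_closure hx))
  have ha : ga ∈ K := hH _ (by simp)
  have hb : gb ∈ K := hH _ (by simp)
  have hc : gc ∈ K := hH _ (by simp)
  have hd : gd ∈ K := hH _ (by simp)
  have hz : gz ∈ K := Subgroup.subset_closure (Set.mem_insert _ _)
  cases i
  case a => exact ha
  case b => exact hb
  case c => exact hc
  case d => exact hd
  case z => exact hz
  all_goals
    first
      | change ge ∈ K
      | change ga1 ∈ K
      | change ga2 ∈ K
      | change ga3 ∈ K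
      | change ga4 ∈ K
      | change gc1 ∈ K
      | change gc2 ∈ K
      | change gc3 ∈ K
      | change gc4 ∈ K
      | change gc5 ∈ K
      | change gu ∈ K
      | change gx23 ∈ K
      | change gx24 ∈ K
      | change gx25 ∈ K
      | change gx29 ∈ K
      | change gx47 ∈ K
      | change gx96 ∈ K
      | change gx129 ∈ K
      | change gx162 ∈ K
      | change gx163 ∈ K
      | change gx164 ∈ K
      | change gx165 ∈ K
      | change gx166 ∈ K
      | change gx167 ∈ K
      | change gx168 ∈ K
      | change gx169 ∈ K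
      | change gx364 ∈ K
      | change gx365 ∈ K
      | change gx366 ∈ K
      | change gx367 ∈ K
      | change gx368 ∈ K
      | change gx369 ∈ K
      | change gx370 ∈ K
      | change gx371 ∈ K
    simp only [ge_eq, ga1_eq, ga2_eq, ga3_eq, ga4_eq, gc1_eq, gc2_eq, gc3_eq, gc4_eq, gc5_eq,
      gu_eq, gx23_eq, gx24_eq, gx25_eq, gx29_eq, gx47_eq, gx96_eq, gx129_eq, gx162_eq, gx163_eq,
      gx164_eq, gx165_eq, gx166_eq, gx167_eq, gx168_eq, gx169_eq, gx364_eq, gx365_eq, gx366_eq,
      gx367_eq, gx368_eq, gx369_eq, gx370_eq, gx371_eq]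
    repeat' first | exact ha | exact hb | exact hc | exact hd | apply mul_mem | apply inv_mem |
      apply pow_mem

theorem modelA : Model certA (Subgroup.closure {y | ∃ g < 6, gen0 g = y}) gen0 where
  gen_K := by simp [certA_facts.2.2.1, gen0, free10]
  inv_mul := gen0_inv_mul
  rel r hr := gen0_rel (List.mem_append_left _ hr)
  sub w hw := by
    simp only [certA_facts.1, List.mem_cons, List.not_mem_nil, or_false] at hw
    rcases hw with rfl | rfl | rfl
    · exact Subgroup.subset_closure ⟨0, by norm_num, by simp⟩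
    · exact Subgroup.subset_closure ⟨2, by norm_num, by simp⟩
    · exact Subgroup.subset_closure ⟨4, by norm_num, by simp⟩

theorem tw_misc : ((tw.pgens == [[0], [1], [2], [3], [4], [5]]) && (tw.par.getD 0 (0, []) == (0, [])) &&
    (tw.sq == [0, 0]) && Nat.beq tw.ns 5) = true := by decide +kernel

theorem run0_eq {w : List ℕ} (hw : ∀ g ∈ w, g < certA.K) :
    certA.run 0 w = ((act.ψ (prodW gen0 w)).unop ⟨0, by decide⟩ : ℕ) :=
  (act.apply w hw ⟨0, by decide⟩).symm

theorem rig : TRig tw gen0 toG subH gz where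
  inv_mul := gen0_inv_mul
  inv_lt := act.inv_lt
  eq_sound _ _ h := eq_sound0 h
  H_eq := toG_range
  gen_top := gen_top_G
  gen0_top := gen0_top
  twist := twist_U
  t_sq := by
    have h := tw_misc
    simp only [Bool.and_eq_true, beq_iff_eq] at h
    rw [h.1.2, toG_word (by decide)]
    simp [gen, gz_sq]
  menuE := menuE_ok
  menuS := menuS_ok
  par0 := by
    have h := tw_misc
    simp only [Bool.and_eq_true, beq_iff_eq] at h
    exact h.1.1.2
  fixZero w hw h0 := by
    have h := tw_misc
    simp only [Bool.and_eq_true, beq_iff_eq] at h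
    refine Subgroup.closure_mono ?_ (mem_of_run_eq_zero certA_complete modelA hw h0)
    rintro y ⟨g, hg, rfl⟩
    rw [h.1.1.1]
    exact ⟨[g], by interval_cases g <;> simp, by simp⟩
  run_cong u w hu hw h := by
    change certA.run 0 u = certA.run 0 w
    rw [run0_eq hu, run0_eq hw, h]

/-- the facts all hold -/
theorem tw_holds : ∀ f < 119, TData.Holds rig (tw.fct f) := TData.facts_holds rig tw_facts

theorem stab_mem {i : ℕ} {z : ℕ × Bool} {p : List ℕ} (hz : z.1 < 119)
    (hf : tw.fct z.1 = .stab i p) :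
    prodW gen0 (tw.sgn z.2 p) ∈ tw.Kgrp gen0 119 i := by
  have h : prodW gen0 p ∈ tw.Kgrp gen0 119 i := Subgroup.subset_closure ⟨z.1, hz, p, hf, rfl⟩
  cases z.2 with
  | false => exact h
  | true =>
    rw [TData.sgn, if_pos rfl, TData.rev_eq rig]
    exact inv_mem h

theorem index_of_chain {i n : ℕ} {ls : List (ℕ × List (ℕ × List ℕ))}
    {wit : List (List (List (ℕ × Bool)))} (h : cOK certA [] (stabChain ls wit) = true)
    (hn : cSize (stabChain ls wit) = n) (hw : witOK i wit = true) :
    n * (tw.Kgrp gen0 119 i).index ≤ 5859000000 := by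
  haveI := finite_P0
  have hc : n ≤ Nat.card (tw.Kgrp gen0 119 i) := by
    rw [← hn]
    refine act.card_ge h fun l hl g hg => ?_
    simp only [stabChain, List.mem_map] at hl
    obtain ⟨⟨l0, ks⟩, hz, rfl⟩ := hl
    simp only [stabLev, List.mem_map] at hg
    obtain ⟨k, hk, rfl⟩ := hg
    simp only [witOK, List.all_eq_true, Bool.and_eq_true, Nat.blt_eq] at hw
    have hks := hw ks (List.of_mem_zip hz).2 k hk
    clear hk
    induction k with
    | nil => exact one_mem _
    | cons z k ih =>
      rw [List.flatMap_cons, prodW_append]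
      refine mul_mem ?_ (ih fun a ha => hks a (List.mem_cons_of_mem _ ha))
      obtain ⟨h1, h2⟩ := hks z List.mem_cons_self
      cases hf : tw.fct z.1 with
      | edge a b c d => simp [hf] at h2
      | stab i' p =>
        simp only [hf] at h2
        obtain rfl := Nat.eq_of_beq_eq_true h2
        exact stab_mem h1 hf
  calc n * (tw.Kgrp gen0 119 i).index ≤ Nat.card (tw.Kgrp gen0 119 i) * (tw.Kgrp gen0 119 i).index :=
        Nat.mul_le_mul_right _ hc
    _ = Nat.card P0 := Subgroup.card_mul_index _
    _ ≤ 5859000000 := card_P0_le.2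

theorem state0_check : ((List.range 4).all fun k =>
    match tw.fct k with
    | .stab i p => Nat.beq i 0 && (p == [2 * k])
    | _ => false) = true := by decide +kernel

theorem Kgrp_zero : tw.Kgrp gen0 119 0 = ⊤ := by
  have h := state0_check
  simp only [List.all_eq_true, List.mem_range] at h
  have hm : ∀ k < 4, gen0 (2 * k) ∈ tw.Kgrp gen0 119 0 := by
    intro k hk
    have h' := h k hk
    cases hf : tw.fct k with
    | edge a b c d => simp [hf] at h'
    | stab i p =>
      simp only [hf, Bool.and_eq_true, beq_iff_eq] at h'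
      obtain rfl := Nat.eq_of_beq_eq_true h'.1
      exact Subgroup.subset_closure ⟨k, by omega, p, hf, by rw [h'.2]; simp⟩
  have hl : ∀ g < 8, gen0 g ∈ tw.Kgrp gen0 119 0 := by
    intro g hg
    rcases Nat.even_or_odd' g with ⟨k, rfl | rfl⟩
    · exact hm k (by omega)
    · have e : certA.inv (2 * k) = 2 * k + 1 := by
        have : ∀ k < 4, certA.inv (2 * k) = 2 * k + 1 := by decide +kernel
        exact this k (by omega)
      rw [← e, (inv_eq_of_mul_eq_one_right (gen0_inv_mul (2 * k))).symm]
      exact inv_mem (hm k (by omega))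
  haveI := finite_P0
  have hgens : (topChain.all fun l => l.gens.all fun g => g.all fun c => Nat.blt c 8) = true := by
    decide +kernel
  simp only [List.all_eq_true, Nat.blt_eq] at hgens
  refine Subgroup.eq_top_of_card_eq _ (le_antisymm (Subgroup.card_le_card_group _) ?_)
  rw [card_P0, ← cSize_top]
  refine act.card_ge top_ok.1 fun l hl' g hg => ?_
  refine Subgroup.list_prod_mem _ fun x hx => ?_
  obtain ⟨c, hc, rfl⟩ := List.mem_map.mp hx
  exact hl c (hgens l hl' g hg c hc)

theorem finite_index_le : Finite (G ⧸ subH) ∧ subH.index ≤ 8835156 := by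
  haveI := finite_P0
  have hrun : ∀ w, (∀ g ∈ w, g < certA.K) → certA.run 0 w < certA.N := fun w hw => by
    rw [run0_eq hw]
    exact Fin.isLt _
  have hns : tw.ns = 5 := by
    have h := tw_misc
    simp only [Bool.and_eq_true] at h
    exact Nat.eq_of_beq_eq_true h.2
  have hroots : ∀ i < tw.ns, tw.rootsOK 119 i = true := by
    rw [hns]
    intro i hi
    interval_cases i
    exacts [tw_roots0, tw_roots1, tw_roots2, tw_roots3, tw_roots4]
  have hreach : ∀ i < tw.ns, ∀ p < tw.C.N, tw.Reach 119 i p := by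
    rw [hns]
    intro i hi
    interval_cases i
    exacts [TData.reach_of_ok rig tw_reach0, TData.reach_of_ok rig tw_reach1,
      TData.reach_of_ok rig tw_reach2, TData.reach_of_ok rig tw_reach3,
      TData.reach_of_ok rig tw_reach4]
  obtain ⟨hf, hle⟩ := TData.finite_index_le rig tw_cos tw_holds (by omega) hroots hreach hrun
  refine ⟨hf, hle.trans ?_⟩
  rw [← Fin.sum_congr' (fun i : Fin tw.ns => (tw.Kgrp gen0 119 i).index) hns.symm]
  simp only [Fin.sum_univ_five, Fin.cast_mk, Fin.val_cast]
  have h0 : (tw.Kgrp gen0 119 0).index = 1 := by rw [Kgrp_zero, Subgroup.index_top]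
  have h1 := index_of_chain stab1_ok.1 stab1_ok.2.1 stab1_ok.2.2
  have h2 := index_of_chain stab2_ok.1 stab2_ok.2.1 stab2_ok.2.2
  have h3 := index_of_chain stab3_ok.1 stab3_ok.2.1 stab3_ok.2.2
  have h4 := index_of_chain stab4_ok.1 stab4_ok.2.1 stab4_ok.2.2
  simp only [Fin.val_zero, Fin.val_one, Fin.val_two, show ((3 : Fin 5) : ℕ) = 3 from rfl,
    show ((4 : Fin 5) : ℕ) = 4 from rfl]
  omega

theorem finite_G : Finite G := by
  haveI := finite_P0
  haveI := finite_index_le.1
  haveI : Finite toG.range := Finite.of_surjective _ toG.rangeRestrict_surjective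
  haveI : Finite subH := toG_range ▸ this
  exact Finite.of_equiv _ (Subgroup.groupEquivQuotientProdSubgroup (s := subH)).symm

end CfsgLib.LyPres
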