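import Cfsg.Agent.Lib.TwistCoset.Exact
import Cfsg.Agent.Lib.LyPres.Index

/-!
The orders of the stabilisers of the double cosets divide their bounds exactly.
-/

set_option autoImplicit false
set_option Elab.async false

namespace CfsgLib.LyPres

open CfsgLib.CosetEnum CfsgLib.TwistCoset

theorem stab_closed : dOK certA (stabChain kLevs1 kWit1) = true ∧
    dOK certA (stabChain kLevs2 kWit2) = true ∧ dOK certA (stabChain kLevs3 kWit3) = true ∧
    dOK certA (stabChain kLevs4 kWit4) = true := by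
  refine ⟨?_, ?_, ?_, ?_⟩ <;> decide +kernel

theorem top_closed : dOK certA topChain = true := by decide +kernel

theorem dvd_card_Kgrp {i : ℕ} {ls : List (ℕ × List (ℕ × List ℕ))}
    {wit : List (List (List (ℕ × Bool)))} (h : cOK certA [] (stabChain ls wit) = true)
    (hd : dOK certA (stabChain ls wit) = true) (hw : witOK i wit = true)
    (hne : stabChain ls wit ≠ []) :
    cSize (stabChain ls wit) ∣ Nat.card (tw.Kgrp gen0 119 i) := by
  haveI := finite_P0
  cases hs : stabChain ls wit with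
  | nil => exact absurd hs hne
  | cons l rest =>
    rw [hs] at h hd
    refine (act.dOK_dvd h hd l rfl).trans (Subgroup.card_dvd_of_le ?_)
    rw [Subgroup.closure_le]
    rintro _ ⟨g, hg, rfl⟩
    have hl : l ∈ stabChain ls wit := hs ▸ List.mem_cons_self
    simp only [stabChain, List.mem_map] at hl
    obtain ⟨⟨l0, ks⟩, hz, rfl⟩ := hl
    simp only [stabLev, List.mem_map] at hg
    obtain ⟨k, hk, rfl⟩ := hg
    simp only [witOK, List.all_eq_true, Bool.and_eq_true, Nat.blt_eq] at hw
    have hks := hw ks (List.of_mem_zip hz).2 k hk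
    clear hk
    induction k with
    | nil => exact one_mem _
    | cons z k ih =>
      rw [List.flatMap_cons, prodW_append]
      refine mul_mem ?_ (ih fun a ha => hks a (List.mem_cons_of_mem _ ha))
      obtain ⟨h1, h2⟩ := hks z List.mem_cons_self
      cases hf : tw.fct z.1 with
      | edge a b c d => simp [hf] at h2
      | stab i' p =>
        simp only [hf] at h2
        obtain rfl := Nat.eq_of_beq_eq_true h2
        exact stab_mem h1 hf

theorem index_dvd_of {i n : ℕ} {ls : List (ℕ × List (ℕ × List ℕ))}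
    {wit : List (List (List (ℕ × Bool)))} (h : cOK certA [] (stabChain ls wit) = true)
    (hd : dOK certA (stabChain ls wit) = true) (hw : witOK i wit = true)
    (hn : cSize (stabChain ls wit) = n) (h1 : n ≠ 1) :
    (tw.Kgrp gen0 119 i).index ∣ 5859000000 / n ∧ (tw.Kgrp gen0 119 i).index ≠ 0 := by
  haveI := finite_P0
  refine ⟨?_, Subgroup.index_ne_zero_of_finite⟩
  have hne : stabChain ls wit ≠ [] := fun e => h1 (by rw [← hn, e]; rfl)
  obtain ⟨c, hc⟩ := hn ▸ dvd_card_Kgrp h hd hw hne
  have hm := Subgroup.card_mul_index (tw.Kgrp gen0 119 i)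
  rw [card_P0, hc] at hm
  have hn0 : 0 < n := Nat.pos_of_ne_zero fun e => by simp [e] at hm
  exact ⟨c, by rw [← hm, Nat.mul_assoc, Nat.mul_div_cancel_left _ hn0, Nat.mul_comm]⟩

theorem index_Kgrp :
    (tw.Kgrp gen0 119 1).index ∣ 19530 ∧ (tw.Kgrp gen0 119 2).index ∣ 5812500 ∧
    (tw.Kgrp gen0 119 3).index ∣ 968750 ∧ (tw.Kgrp gen0 119 4).index ∣ 2034375 :=
  ⟨(index_dvd_of stab1_ok.1 stab_closed.1 stab1_ok.2.2 stab1_ok.2.1 (by norm_num)).1,
    (index_dvd_of stab2_ok.1 stab_closed.2.1 stab2_ok.2.2 stab2_ok.2.1 (by norm_num)).1,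
    (index_dvd_of stab3_ok.1 stab_closed.2.2.1 stab3_ok.2.2 stab3_ok.2.1 (by norm_num)).1,
    (index_dvd_of stab4_ok.1 stab_closed.2.2.2 stab4_ok.2.2 stab4_ok.2.1 (by norm_num)).1⟩

end CfsgLib.LyPres
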