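import Cfsg.Agent.Lib.TwistCoset.Orbits
import Cfsg.Agent.Lib.LyPres.StabExact
import Cfsg.Agent.Lib.LyRep.Hom
import Cfsg.Agent.Lib.LyRep.LowerChk

/-!
The index of the subgroup of `a, b, c, d` is 8835156.
-/

set_option autoImplicit false

namespace CfsgLib.LyPres

open CfsgLib.CosetEnum CfsgLib.TwistCoset CfsgLib.LyRep

/-- block triangular -/
def BT (A : Matrix (Fin 111) (Fin 111) (ZMod 5)) : Prop :=
  ∀ i j : Fin 111, i.val < 7 → 7 ≤ j.val → A i j = 0

theorem bt_one : BT 1 := fun i j hi hj =>
  Matrix.one_apply_ne fun h => by subst h; omega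

theorem BT.mul {A B : Matrix (Fin 111) (Fin 111) (ZMod 5)} (hA : BT A) (hB : BT B) : BT (A * B) := by
  intro i j hi hj
  rw [Matrix.mul_apply]
  refine Finset.sum_eq_zero fun k _ => ?_
  by_cases hk : k.val < 7
  · rw [hB k j hk hj, mul_zero]
  · rw [hA i k hi (by omega), zero_mul]

/-- the elements with block triangular image, together with their inverses -/
noncomputable def btSub : Subgroup G where
  carrier := {x | BT (rho x : U111).val ∧ BT (rho x⁻¹ : U111).val}
  one_mem' := by simp [bt_one]
  mul_mem' := by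
    rintro x y ⟨hx, hx'⟩ ⟨hy, hy'⟩
    refine ⟨?_, ?_⟩
    · rw [map_mul, Units.val_mul]; exact hx.mul hy
    · rw [mul_inv_rev, map_mul, Units.val_mul]; exact hy'.mul hx'
  inv_mem' := by
    rintro x ⟨hx, hx'⟩
    exact ⟨hx', by rw [inv_inv]; exact hx⟩

theorem rho_of (x : Cfsg.Spor.Ly.Gen) : rho (PresentedGroup.of x) = fGen x :=
  PresentedGroup.toGroup.of relators_one

theorem rho_fz {c : ℕ} (hc : c < 8 ∨ c = 10 ∨ c = 11) : rho (fz c) = um c := by
  have ha : rho ga = um 0 := (rho_of _).trans (by simp [fGen])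
  have hb : rho gb = um 2 := (rho_of _).trans (by simp [fGen])
  have hC : rho gc = um 4 := (rho_of _).trans (by simp [fGen])
  have hd : rho gd = um 6 := (rho_of _).trans (by simp [fGen])
  have hz : rho gz = um 10 := (rho_of _).trans (by simp [fGen])
  rcases hc with hc | rfl | rfl
  · interval_cases c <;> simp [fz, gen, ha, hb, hC, hd, um_1, um_3, um_5, um_7]
  · simp [fz, hz]
  · simp [fz, hz, um_11]

/-- the letters that have matrices -/
def repLetters (w : List ℕ) : Bool := w.all fun c => Nat.blt c 8 || Nat.beq c 10 || Nat.beq c 11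

theorem rho_word {w : List ℕ} (hw : repLetters w = true) : rho (prodW fz w) = prodW um w := by
  rw [map_prodW]
  refine prodW_congr fun c hc => rho_fz ?_
  simp only [repLetters, List.all_eq_true, Bool.or_eq_true, Nat.blt_eq] at hw
  rcases hw c hc with (h | h) | h
  exacts [Or.inl h, Or.inr (Or.inl (Nat.eq_of_beq_eq_true h)),
    Or.inr (Or.inr (Nat.eq_of_beq_eq_true h))]

theorem genBlock_spec {c : ℕ} (hc : c < 8) : BT (um c).val := by
  have h := List.all_eq_true.mp genBlock_all c (List.mem_range.mpr hc)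
  simp only [genBlock, List.all_eq_true, List.mem_range] at h
  intro i j hi hj
  change toM (pk c) i j = 0
  have h2 := Nat.eq_of_beq_eq_true (h i.val hi (j.val - 7) (by omega))
  rw [Nat.sub_add_cancel hj] at h2
  rw [toM_apply, h2, Nat.cast_zero]

theorem subH_le_btSub : subH ≤ btSub := by
  rw [subH_eq_closure, Subgroup.closure_le]
  have key : ∀ c < 8, fz (invZ c) = (fz c)⁻¹ → invZ c < 8 → fz c ∈ btSub := fun c hc e hc' => by
    refine ⟨?_, ?_⟩
    · rw [rho_fz (Or.inl hc)]; exact genBlock_spec hc
    · rw [← e, rho_fz (Or.inl hc')]; exact genBlock_spec hc'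
  rintro x (rfl | rfl | rfl | rfl)
  · simpa [fz, gen] using key 0 (by norm_num) (fz_inv 0) (by decide)
  · simpa [fz, gen] using key 2 (by norm_num) (fz_inv 2) (by decide)
  · simpa [fz, gen] using key 4 (by norm_num) (fz_inv 4) (by decide)
  · simpa [fz, gen] using key 6 (by norm_num) (fz_inv 6) (by decide)

theorem not_mem_of_offBlock {w : List ℕ} {t : ℕ} (hl : repLetters w = true)
    (h : offBlock w t = true) : prodW fz w ∉ subH := by
  simp only [offBlock, Bool.and_eq_true, Nat.blt_eq, Nat.ble_eq] at h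
  obtain ⟨⟨ht, hj⟩, hpos⟩ := h
  intro hmem
  have hbt := (subH_le_btSub hmem).1
  rw [rho_word hl, val_prodW] at hbt
  have e := hbt ⟨t / 111, by omega⟩ ⟨t % 111, by omega⟩ (show t / 111 < 7 by omega) hj
  rw [toM_apply, show 111 * (t / 111) + t % 111 = t from Nat.div_add_mod t 111,
    ZMod.natCast_eq_zero_iff] at e
  have := good_mW w t (by omega)
  have := Nat.eq_zero_of_dvd_of_lt e this
  omega

theorem pow_of_isOneW {w : List ℕ} {p : ℕ} (h1 : isOneW (List.replicate p w).flatten = true) :
    prodW um w ^ p = 1 := by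
  have e : ∀ n, prodW um (List.replicate n w).flatten = prodW um w ^ n := by
    intro n
    induction n with
    | zero => simp
    | succ n ih => rw [List.replicate_succ, List.flatten_cons, prodW_append, ih, pow_succ']
  rw [← e]
  exact one_of_isOneW h1

theorem orderOf_dvd_card {w : List ℕ} {t p : ℕ} [Fact p.Prime] (hl : repLetters w = true)
    (hp : prodW um w ^ p = 1) (h2 : offOne w t = true) :
    p ∣ Nat.card G := by
  simp only [offOne, Bool.and_eq_true, Nat.blt_eq, Bool.not_eq_true'] at h2
  have hne : prodW um w ≠ 1 := fun e => by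
    have h3 := congrArg (fun u : U111 => u.val ⟨t / 111, by omega⟩ ⟨t % 111, by omega⟩) e
    simp only [val_prodW, Units.val_one, ← toM_oneN, toM_apply, Nat.div_add_mod] at h3
    rw [ZMod.natCast_eq_natCast_iff', Nat.mod_eq_of_lt (good_mW w t h2.1),
      Nat.mod_eq_of_lt (good_oneN t h2.1)] at h3
    rw [h3, Nat.beq_refl] at h2
    exact absurd h2.2 (by simp)
  rw [← orderOf_eq_prime hp hne, ← rho_word hl]
  exact (orderOf_map_dvd rho _).trans (orderOf_dvd_natCard _)

theorem ord_letters : repLetters [10, 2, 7, 4, 6, 10, 2, 7, 4, 6] = true ∧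
    repLetters [10, 1, 4, 7] = true ∧ repLetters [10, 3, 5, 10, 6] = true := by decide +kernel

theorem dvd_card_G : 27269 ∣ Nat.card G := by
  haveI : Fact (Nat.Prime 11) := ⟨by norm_num⟩
  haveI : Fact (Nat.Prime 37) := ⟨by norm_num⟩
  haveI : Fact (Nat.Prime 67) := ⟨by norm_num⟩
  have h11 := orderOf_dvd_card (p := 11) ord_letters.1 (pow_of_isOneW ord11.1) ord11.2
  have h37 := orderOf_dvd_card (p := 37) ord_letters.2.1 ord37.1 ord37.2
  have h67 := orderOf_dvd_card (p := 67) ord_letters.2.2 ord67.1 ord67.2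
  rw [show 27269 = 11 * 37 * 67 from rfl]
  exact Nat.Coprime.mul_dvd_of_dvd_of_dvd (by norm_num)
    (Nat.Coprime.mul_dvd_of_dvd_of_dvd (by norm_num) h11 h37) h67

theorem dvd_index : 27269 ∣ subH.index := by
  haveI := finite_P0
  have hH : Nat.card subH ∣ 5859000000 := by
    rw [← card_P0, toG_range]
    exact Subgroup.card_range_dvd toG
  have h := dvd_card_G
  rw [← Subgroup.card_mul_index subH] at h
  exact (Nat.Coprime.of_dvd_right hH (by norm_num)).dvd_of_dvd_mul_left h

/-- the point stabiliser in `P0` -/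
noncomputable def fixPoint : Subgroup P0 := act.fixer ⊤ [0]

theorem mem_fixPoint {w : List ℕ} (hw : ∀ g ∈ w, g < certA.K) :
    prodW gen0 w ∈ fixPoint ↔ certA.run 0 w = 0 := by
  constructor
  · intro h
    have h2 := congrArg Fin.val (h.2 0 List.mem_cons_self (by decide +kernel))
    rwa [act.apply w hw] at h2
  · intro h
    refine ⟨trivial, fun b hb hbN => Fin.ext ?_⟩
    rw [List.mem_singleton] at hb
    subst hb
    rw [act.apply w hw]
    exact h

theorem index_fixPoint : fixPoint.index = 3906 := by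
  haveI := finite_P0
  obtain ⟨hs, hN, hK, hrl, hlen⟩ := certA_facts
  have hle : fixPoint ≤ Subgroup.closure {y | ∃ g < 6, gen0 g = y} := by
    intro x hx
    obtain ⟨w, hw, rfl⟩ := TData.exists_word rig x
    exact mem_of_run_eq_zero certA_complete modelA hw ((mem_fixPoint hw).mp hx)
  have hc : Nat.card fixPoint ≤ 3125 * 480 :=
    haveI := card_mid.1
    (Subgroup.card_le_of_le hle).trans card_mid.2
  let F : P0 ⧸ fixPoint → Fin certA.N := fun q =>
    Quotient.liftOn q (fun y => (act.ψ y⁻¹).unop ⟨0, by decide⟩) fun a b hab => by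
      have hk : a⁻¹ * b ∈ fixPoint := QuotientGroup.leftRel_apply.mp hab
      have h := hk.2 0 List.mem_cons_self (by decide)
      rw [map_mul, MulOpposite.unop_mul, Equiv.Perm.mul_apply] at h
      have h3 := congrArg ((act.ψ b⁻¹).unop) h
      rw [← Equiv.Perm.mul_apply, ← MulOpposite.unop_mul, ← map_mul, mul_inv_cancel, map_one,
        MulOpposite.unop_one, Equiv.Perm.one_apply] at h3
      exact h3
  have hF : Function.Injective F := by
    intro p q
    induction p using QuotientGroup.induction_on with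
    | _ a =>
      induction q using QuotientGroup.induction_on with
      | _ b =>
        intro h
        change (act.ψ a⁻¹).unop ⟨0, _⟩ = (act.ψ b⁻¹).unop ⟨0, _⟩ at h
        rw [QuotientGroup.eq]
        refine ⟨trivial, fun c hc hcN => ?_⟩
        rw [List.mem_singleton] at hc
        subst hc
        rw [map_mul, MulOpposite.unop_mul, Equiv.Perm.mul_apply, h, ← Equiv.Perm.mul_apply,
          ← MulOpposite.unop_mul, ← map_mul, inv_mul_cancel, map_one, MulOpposite.unop_one,
          Equiv.Perm.one_apply]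
  have h1 := Nat.card_le_card_of_injective F hF
  rw [Nat.card_fin, hN] at h1
  have h2 := Subgroup.card_mul_index fixPoint
  rw [card_P0] at h2
  change fixPoint.index ≤ 3906 at h1
  nlinarith

theorem par_check : ((tw.par.getD 1 (1, []) == (0, [])) &&
    (tw.par.getD 4 (4, []) == (1, [5, 2, 1, 3, 6, 4, 3, 6]))) = true := by decide +kernel

theorem wst_one : TData.wst rig 1 = gz := by
  have h := par_check
  simp only [Bool.and_eq_true, beq_iff_eq] at h
  rw [TData.wst, dif_pos (by rw [h.1]; norm_num), h.1]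
  simp [TData.wst_zero, TData.ev_nil]

theorem wst_four : TData.wst rig 4 = prodW fz wFour := by
  have h := par_check
  simp only [Bool.and_eq_true, beq_iff_eq] at h
  rw [TData.wst, dif_pos (by rw [h.2]; norm_num), h.2]
  simp only [wst_one, TData.ev]
  rw [toG_word (by decide)]
  simp [wFour, fz, gen, mul_assoc]

theorem orb_ne : TData.orb rig 0 ≠ TData.orb rig 1 := by
  intro e
  have hl : repLetters [10] = true := by decide +kernel
  refine not_mem_of_offBlock hl z_off ?_
  obtain ⟨y, hy⟩ : TData.pt rig 1 ∈ TData.orb rig 0 := e ▸ ⟨1, by simp⟩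
  simp only [TData.pt, wst_one, TData.wst_zero, inv_one] at hy
  change ((toG y * 1 : G) : G ⧸ subH) = _ at hy
  rw [mul_one, QuotientGroup.eq] at hy
  have hy' : toG y ∈ subH := toG_range.ge ⟨y, rfl⟩
  have hz : gz⁻¹ ∈ subH := by simpa using mul_mem hy' hy
  simpa [fz] using inv_mem hz

/-- a coset candidate fixes the first point or comes with a witness -/
theorem cand_check : ((List.range 4).all fun r => (List.range 5).all fun m =>
    Nat.beq (certA.run 0 ((tw.root 1 r).g ++ tw.cosL.getD m [])) 0 ||
      moveWit.any fun e => Nat.beq e.1 r && Nat.beq e.2.1 m &&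
        repLetters (10 :: ((tw.root 1 e.1).g ++ tw.cosL.getD e.2.1 []) ++ [11]) &&
        (((tw.root 1 e.1).g ++ tw.cosL.getD e.2.1 []).all fun c => Nat.blt c 10)) = true := by
  decide +kernel

theorem one_fix_check : (((List.range 119).all fun f =>
    match tw.fct f with
    | .stab i p => !(Nat.beq i 1) || (lettersOK certA p && Nat.beq (certA.run 0 p) 0)
    | _ => true) && (tw.U.all fun e => lettersOK certA e.1 && Nat.beq (certA.run 0 e.1) 0) &&
    Nat.beq (tw.roots.getD 1 []).length 4 && Nat.beq tw.cosL.length 5) = true := by decide +kernel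

theorem mem_stb_one {c : List ℕ} (hl : ∀ g ∈ c, g < 10) :
    prodW gen0 c ∈ TData.stb rig 1 ↔ prodW fz (10 :: c ++ [11]) ∈ subH := by
  rw [TData.mem_stb, wst_one, toG_word hl, ← prodW_fz hl]
  simp [DCoset.Same, prodW_append, fz, mul_assoc]

theorem gz_sq_mem : gz * gz ∈ subH := by
  rw [gz_sq, subH_eq_closure]
  exact mul_mem (Subgroup.subset_closure (by simp)) (Subgroup.subset_closure (by simp))

theorem U_mem : ∀ e ∈ tw.U, prodW gen0 e.1 ∈ TData.stb rig 1 ⊓ fixPoint := by
  have h := one_fix_check
  simp only [Bool.and_eq_true, List.all_eq_true, lettersOK_iff] at h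
  intro e he
  obtain ⟨hl, h0⟩ := h.1.1.2 e he
  refine ⟨?_, (mem_fixPoint hl).mpr (Nat.eq_of_beq_eq_true h0)⟩
  show prodW gen0 e.1 ∈ TData.stb rig 1
  rw [TData.mem_stb, wst_one, DCoset.Same]
  have ht := rig.twist e he
  have hs : toG (prodW gen0 e.2) ∈ subH := toG_range.ge ⟨_, rfl⟩
  have e1 : gz * toG (prodW gen0 e.1) * gz⁻¹ =
      gz * gz * toG (prodW gen0 e.2) * (gz * gz)⁻¹ := by
    rw [eq_mul_inv_of_mul_eq ht]
    group
  rw [e1]
  exact mul_mem (mul_mem gz_sq_mem hs) (inv_mem gz_sq_mem)

theorem stab_mem_fix : tw.Kgrp gen0 119 1 ≤ fixPoint := by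
  rw [TData.Kgrp, Subgroup.closure_le]
  rintro _ ⟨f, hf, p, hfc, rfl⟩
  have h := one_fix_check
  simp only [Bool.and_eq_true, List.all_eq_true, List.mem_range, lettersOK_iff] at h
  have h1 := h.1.1.1 f hf
  simp only [hfc, Nat.beq_refl, Bool.not_true, Bool.false_or, Bool.and_eq_true, lettersOK_iff] at h1
  exact (mem_fixPoint h1.1).mpr (Nat.eq_of_beq_eq_true h1.2)

theorem kList_mem {M i : ℕ} : ∀ {kk : List (ℕ × Bool)} {k : List ℕ}, tw.kList M i kk = some k →
    prodW gen0 k ∈ tw.Kgrp gen0 M i
  | [], k, h => by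
    simp only [TData.kList, Option.some.injEq] at h
    subst h
    exact one_mem _
  | (f, s) :: r, k, h => by
    rw [TData.kList] at h
    cases hf : tw.fct f with
    | edge i' g j' h' => simp [hf] at h
    | stab i' p =>
      cases hr : tw.kList M i r with
      | none => simp [hf, hr] at h
      | some k0 =>
        simp only [hf, hr, Option.ite_none_right_eq_some, Bool.and_eq_true, Nat.blt_eq,
          Option.some.injEq] at h
        obtain ⟨⟨hfb, hi⟩, rfl⟩ := h
        obtain rfl := Nat.eq_of_beq_eq_true hi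
        rw [prodW_append]
        refine mul_mem ?_ (kList_mem hr)
        have hp : prodW gen0 p ∈ tw.Kgrp gen0 M i' := Subgroup.subset_closure ⟨f, hfb, p, hf, rfl⟩
        cases s with
        | false => exact hp
        | true =>
          rw [TData.sgn, if_pos rfl, TData.rev_eq rig]
          exact inv_mem hp

theorem stb_one_le : TData.stb rig 1 ≤ fixPoint := by
  haveI := finite_P0
  intro x hx
  obtain ⟨π, hπ, rfl⟩ := TData.exists_word rig x
  have hrun : tw.C.run 0 (tw.C.revInv π) < tw.C.N := by
    change certA.run 0 _ < certA.N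
    rw [run0_eq (TData.rev_lt rig hπ)]
    exact Fin.isLt _
  obtain ⟨r, hr, kk, k, hk, hkl, hrun'⟩ := TData.reach_of_ok rig tw_reach1 _ hrun
  have hlen := one_fix_check
  simp only [Bool.and_eq_true] at hlen
  have hr4 : r < 4 := by rwa [Nat.eq_of_beq_eq_true hlen.1.2] at hr
  have hro := tw_roots1
  simp only [TData.rootsOK, List.all_eq_true, List.mem_range] at hro
  have hro' := hro r hr
  simp only [TData.rootOK, Bool.and_eq_true, lettersOK_iff] at hro'
  have hkg : ∀ c ∈ k ++ (tw.root 1 r).g, c < tw.C.K := fun c hc =>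
    (List.mem_append.mp hc).elim (hkl c) (hro'.1 c)
  have hlt : ∀ c ∈ tw.C.revInv (k ++ (tw.root 1 r).g) ++ π, c < tw.C.K := fun c hc =>
    (List.mem_append.mp hc).elim (TData.rev_lt rig hkg c) (hπ c)
  have h0 : tw.C.run 0 (tw.C.revInv (k ++ (tw.root 1 r).g) ++ π) = 0 := by
    rw [run_append, hrun', ← run_append, rig.run_cong _ [] (fun c hc =>
      (List.mem_append.mp hc).elim (TData.rev_lt rig hπ c) (hπ c)) (by simp)
      (by rw [prodW_append, TData.rev_eq rig, inv_mul_cancel, prodW_nil])]
    exact Cert.run_nil _ 0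
  obtain ⟨m, hm, uw, he⟩ := TData.cos_spec rig tw_cos (rig.fixZero _ hlt h0)
  have hm5 : m < 5 := by rwa [Nat.eq_of_beq_eq_true hlen.2] at hm
  rw [prodW_append, TData.rev_eq rig, inv_mul_eq_iff_eq_mul] at he
  have hkmem : prodW gen0 k ∈ TData.stb rig 1 ⊓ fixPoint :=
    ⟨TData.Kgrp_le tw_holds (kList_mem hk), stab_mem_fix (kList_mem hk)⟩
  have humem : prodW gen0 (tw.uWord uw) ∈ TData.stb rig 1 ⊓ fixPoint := by
    clear he
    induction uw with
    | nil => exact one_mem _
    | cons z uw ih =>
      have e1 : tw.uWord (z :: uw) = tw.sgn z.2 (tw.U.getD z.1 ([], [])).1 ++ tw.uWord uw :=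
        List.flatMap_cons
      rw [e1, prodW_append]
      refine mul_mem ?_ ih
      have h1 : prodW gen0 (tw.U.getD z.1 ([], [])).1 ∈ TData.stb rig 1 ⊓ fixPoint := by
        by_cases hz : z.1 < tw.U.length
        · rw [List.getD_eq_getElem _ _ hz]
          exact U_mem _ (List.getElem_mem hz)
        · rw [List.getD_eq_default _ _ (by omega)]
          exact one_mem _
      cases z.2 with
      | false => exact h1
      | true => rw [TData.sgn, if_pos rfl, TData.rev_eq rig]; exact inv_mem h1
  set c := (tw.root 1 r).g ++ tw.cosL.getD m [] with hc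
  have e : prodW gen0 π = prodW gen0 k * prodW gen0 c * prodW gen0 (tw.uWord uw) := by
    rw [he, hc]
    simp only [prodW_append, mul_assoc]
  have hcmem : prodW gen0 c ∈ TData.stb rig 1 := by
    have : prodW gen0 c = (prodW gen0 k)⁻¹ * prodW gen0 π * (prodW gen0 (tw.uWord uw))⁻¹ := by
      rw [e]; group
    rw [this]
    exact mul_mem (mul_mem (inv_mem hkmem.1) hx) (inv_mem humem.1)
  rw [e]
  refine mul_mem (mul_mem hkmem.2 ?_) humem.2
  have hcand := cand_check
  simp only [List.all_eq_true, List.mem_range, Bool.or_eq_true, List.any_eq_true, Bool.and_eq_true,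
    Nat.blt_eq] at hcand
  rcases hcand r hr4 m hm5 with h | ⟨w, hw, ⟨⟨⟨hw1, hw2⟩, hwl⟩, hw10⟩⟩
  · refine (mem_fixPoint ?_).mpr (Nat.eq_of_beq_eq_true h)
    intro g hg
    rw [List.mem_append] at hg
    rcases hg with hg | hg
    · exact hro'.1 g hg
    · have hall : ∀ l ∈ tw.cosL, ∀ g ∈ l, g < certA.K := by decide +kernel
      rw [List.getD_eq_getElem _ _ hm] at hg
      exact hall _ (List.getElem_mem hm) g hg
  · exfalso
    obtain rfl := Nat.eq_of_beq_eq_true hw1
    obtain rfl := Nat.eq_of_beq_eq_true hw2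
    have hoff := List.all_eq_true.mp moveWit_ok w hw
    exact not_mem_of_offBlock hwl hoff ((mem_stb_one hw10).mp hcmem)

theorem stb_one_index : (TData.stb rig 1).index = 19530 := by
  haveI := finite_P0
  have h1 : (TData.stb rig 1).index ∣ 19530 :=
    (Subgroup.index_dvd_of_le (TData.Kgrp_le tw_holds)).trans index_Kgrp.1
  have h2 : 3906 ∣ (TData.stb rig 1).index := index_fixPoint ▸ Subgroup.index_dvd_of_le stb_one_le
  have h3 : (TData.stb rig 1).index ≠ 3906 := by
    intro e
    have hm := Subgroup.card_mul_index (TData.stb rig 1)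
    have hf := Subgroup.card_mul_index fixPoint
    rw [e] at hm
    rw [index_fixPoint] at hf
    have heq : TData.stb rig 1 = fixPoint :=
      Subgroup.eq_of_le_of_card_ge stb_one_le (by omega)
    have hb : prodW gen0 [2] ∈ fixPoint := by
      refine (mem_fixPoint (by decide +kernel)).mpr ?_
      decide +kernel
    rw [← heq, mem_stb_one (by decide)] at hb
    exact not_mem_of_offBlock (by decide +kernel) b_off hb
  obtain ⟨k, hk⟩ := h2
  rw [hk] at h1 h3 ⊢
  have hk5 : k ∣ 5 := Nat.dvd_of_mul_dvd_mul_left (show 0 < 3906 by norm_num) h1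
  rcases (Nat.dvd_prime (by norm_num)).mp hk5 with rfl | rfl
  · exact absurd rfl h3
  · rfl

theorem g31_check : (tw.eq (List.replicate 31 gThirtyOne).flatten [] &&
    (gThirtyOne.all fun c => Nat.blt c 10) &&
    repLetters (wFour ++ gThirtyOne ++ iwZ wFour)) = true := by decide +kernel

theorem stb_four_index : 31 ≤ (TData.stb rig 4).index := by
  haveI := finite_P0
  haveI : Fact (Nat.Prime 31) := ⟨by norm_num⟩
  have h := g31_check
  simp only [Bool.and_eq_true, List.all_eq_true, Nat.blt_eq] at h
  set x := prodW gen0 gThirtyOne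
  have e : ∀ n, prodW gen0 (List.replicate n gThirtyOne).flatten = x ^ n := by
    intro n
    induction n with
    | zero => simp
    | succ n ih => rw [List.replicate_succ, List.flatten_cons, prodW_append, ih, pow_succ']
  have h31 : x ^ 31 = 1 := by
    have := eq_sound0 h.1.1
    rwa [e, prodW_nil] at this
  have hnot : x ∉ TData.stb rig 4 := by
    intro hx
    rw [TData.mem_stb, wst_four, DCoset.Same, toG_word h.1.2, ← prodW_fz h.1.2, ← prodW_iwZ,
      ← prodW_append, ← prodW_append] at hx
    exact not_mem_of_offBlock h.2 four_off hx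
  have hne : x ≠ 1 := fun e => hnot (e ▸ one_mem _)
  have hord := orderOf_eq_prime h31 hne
  have hr : (TData.stb rig 4).relIndex (Subgroup.zpowers x) = 31 := by
    have hd : (TData.stb rig 4).relIndex (Subgroup.zpowers x) ∣ 31 := by
      rw [← hord, ← Nat.card_zpowers]
      exact Subgroup.relIndex_dvd_card _ _
    rcases (Nat.dvd_prime (by norm_num)).mp hd with h1 | h1
    · exact absurd (Subgroup.relIndex_eq_one.mp h1 (Subgroup.mem_zpowers x)) hnot
    · exact h1
  rw [← hr]
  exact Subgroup.relIndex_le_of_le_right le_top (by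
    rw [Subgroup.relIndex_top_right]; exact Subgroup.index_ne_zero_of_finite) |>.trans
    (le_of_eq (Subgroup.relIndex_top_right _))

/-- divisors of `x * 5 ^ k` and zero -/
def divList (x k : ℕ) : List ℕ := 0 :: ((List.range (x + 1)).filter fun d =>
  x % d == 0).flatMap fun d => (List.range (k + 1)).map fun i => d * 5 ^ i

theorem mem_divList {x k a : ℕ} (hx : x ≠ 0) (h : a = 0 ∨ a ∣ x * 5 ^ k) : a ∈ divList x k := by
  rcases h with rfl | h
  · exact List.mem_cons_self
  · obtain ⟨d, e, hd, he, rfl⟩ := Nat.dvd_mul.mp h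
    obtain ⟨i, hi, rfl⟩ := (Nat.dvd_prime_pow (by norm_num)).mp he
    refine List.mem_cons_of_mem _ (List.mem_flatMap.mpr ⟨d, List.mem_filter.mpr ⟨?_, ?_⟩, ?_⟩)
    · exact List.mem_range.mpr (Nat.lt_succ_of_le (Nat.le_of_dvd (Nat.pos_of_ne_zero hx) hd))
    · simpa using Nat.mod_eq_zero_of_dvd hd
    · exact List.mem_map.mpr ⟨i, List.mem_range.mpr (by omega), rfl⟩

theorem sum_check : ((divList 372 6).all fun b => (divList 62 6).all fun c =>
    (divList 651 5).all fun d => !(Nat.beq ((19531 + b + c + d) % 27269) 0) ||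
      Nat.ble 1 d && Nat.blt d 31 || Nat.beq (b + c + d) 8815625) = true := by decide +kernel

theorem index_eq : subH.index = 8835156 := by
  haveI := finite_P0
  have hrun : ∀ w, (∀ g ∈ w, g < certA.K) → certA.run 0 w < certA.N := fun w hw => by
    rw [run0_eq hw]
    exact Fin.isLt _
  have hns : tw.ns = 5 := by
    have h := tw_misc
    simp only [Bool.and_eq_true] at h
    exact Nat.eq_of_beq_eq_true h.2
  have hroots : ∀ i < tw.ns, tw.rootsOK 119 i = true := by
    rw [hns]
    intro i hi
    interval_cases i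
    exacts [tw_roots0, tw_roots1, tw_roots2, tw_roots3, tw_roots4]
  have hreach : ∀ i < tw.ns, ∀ p < tw.C.N, tw.Reach 119 i p := by
    rw [hns]
    intro i hi
    interval_cases i
    exacts [TData.reach_of_ok rig tw_reach0, TData.reach_of_ok rig tw_reach1,
      TData.reach_of_ok rig tw_reach2, TData.reach_of_ok rig tw_reach3,
      TData.reach_of_ok rig tw_reach4]
  have hs := TData.toCoset_surjective rig tw_cos tw_holds (by omega) hroots hreach hrun
  have hsum := TData.index_eq_sum tw_holds hs
  rw [hns] at hsum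
  simp only [Finset.sum_range_succ, Finset.sum_range_zero, zero_add] at hsum
  have h0 : TData.newCard rig 0 = 1 := by
    rw [TData.newCard_zero, TData.card_orb]
    refine Nat.eq_one_of_dvd_one ?_
    have := Subgroup.index_dvd_of_le (TData.Kgrp_le (R := rig) (i := 0) tw_holds)
    rwa [Kgrp_zero, Subgroup.index_top] at this
  have h1 : TData.newCard rig 1 = 19530 := by
    rw [TData.newCard_one orb_ne, TData.card_orb, stb_one_index]
  have d : ∀ i n, (tw.Kgrp gen0 119 i).index ∣ n →
      TData.newCard rig i = 0 ∨ TData.newCard rig i ∣ n := fun i n hn =>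
    (TData.newCard_dvd (R := rig) tw_holds).imp id fun h => h.trans hn
  obtain ⟨-, hK2, hK3, hK4⟩ := index_Kgrp
  have hb := mem_divList (x := 372) (k := 6) (by norm_num) (d 2 _ hK2)
  have hc := mem_divList (x := 62) (k := 6) (by norm_num) (d 3 _ hK3)
  have hd := mem_divList (x := 651) (k := 5) (by norm_num) (d 4 _ hK4)
  have hbig : TData.newCard rig 4 = 0 ∨ 31 ≤ TData.newCard rig 4 := by
    unfold TData.newCard
    split
    · exact Or.inl rfl
    · exact Or.inr (TData.card_orb (R := rig) 4 ▸ stb_four_index)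
  have hmod := dvd_index
  rw [hsum, h0, h1] at hmod
  have hk := sum_check
  simp only [List.all_eq_true] at hk
  have := hk _ hb _ hc _ hd
  simp only [Bool.or_eq_true, Bool.and_eq_true, Bool.not_eq_true', Nat.blt_eq, Nat.ble_eq] at this
  rw [hsum, h0, h1]
  rcases this with (h | h) | h
  · exfalso
    have h' : (19531 + TData.newCard rig 2 + TData.newCard rig 3 + TData.newCard rig 4) % 27269 = 0 :=
      Nat.mod_eq_zero_of_dvd (by simpa [add_assoc] using hmod)
    rw [h', Nat.beq_refl] at h
    exact Bool.noConfusion h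
  · omega
  · have := Nat.eq_of_beq_eq_true h
    omega

theorem card_subH_dvd : Nat.card subH ∣ 5859000000 := by
  haveI := finite_P0
  rw [← card_P0, toG_range]
  exact Subgroup.card_range_dvd toG

end CfsgLib.LyPres
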