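import Cfsg.Agent.Lib.LyPres.GTwoData
import Cfsg.Agent.Lib.LyPres.Lower
import Cfsg.Agent.Lib.Chev.OrderData
import Cfsg.Agent.Lib.Chev.SimpleData
import Cfsg.Agent.Lib.Chev.TwistFinal

/-!
The group on `a, b, c, d, e` presented by the first 44 relations is the Chevalley group of type G2
over the field with five elements, and it embeds in the presented Lyons group.
-/

set_option autoImplicit false

namespace CfsgLib.LyPres

open CfsgLib.CosetEnum Cfsg.Lie Matrix

open CfsgLib.LyRep.Small (mat mulM scalM shapeOK shape_mul mat_mul mat_scal)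

theorem shape_scalOne : shapeOK (scalM 1) = true := by decide +kernel

theorem shape_m14 (c : ℕ) : shapeOK (m14 c) = true := by
  by_cases h : c < 11
  · exact List.all_eq_true.mp m14_shape c (List.mem_range.mpr h)
  · rw [m14, List.getD_eq_default _ _ (by simp [g2Mats]; omega)]
    exact shape_scalOne

theorem shape_w14 : ∀ w : List ℕ, shapeOK (w14 w) = true
  | [] => shape_scalOne
  | c :: w => shape_mul _ (shape_m14 c)

/-- the matrix of a letter on the coordinates of the Chevalley group -/
def gMat (c : ℕ) : Matrix chevG2.Idx chevG2.Idx (ZMod 5) :=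
  (mat (m14 c)).submatrix idxEquiv idxEquiv

theorem w14_eq : ∀ w : List ℕ,
    (mat (w14 w)).submatrix idxEquiv idxEquiv = (w.map gMat).prod
  | [] => by
    rw [w14, mat_scal, List.map_nil, List.prod_nil]
    simp
  | c :: w => by
    rw [w14, mat_mul (shape_m14 c) (shape_w14 w), List.map_cons, List.prod_cons, ← w14_eq w, gMat,
      Matrix.submatrix_mul_equiv]

theorem pair_one {r : List ℕ} (hr : r ∈ certA.rels ++ cancelW) : (r.map gMat).prod = 1 := by
  have h := List.all_eq_true.mp m14_rels r hr
  rw [← w14_eq, eq_of_beq h, mat_scal]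
  simp

theorem gMat_ge {c : ℕ} (h : 10 ≤ c) : gMat c = 1 := by
  rw [gMat, m14, List.getD_eq_default _ _ (by simp [g2Mats]; omega), mat_scal]
  simp

theorem gMat_inv (c : ℕ) : gMat c * gMat (certA.inv c) = 1 := by
  by_cases h : c < 10
  · simpa using pair_one (List.mem_append_right _ (inv_cancel_mem c h))
  · have e : certA.inv c = c := List.getD_eq_default _ _ (by simp [certA]; omega)
    rw [e, gMat_ge (by omega), one_mul]

/-- a letter as an invertible matrix -/
def gUnit (c : ℕ) : GL chevG2.Idx (ZMod 5) where
  val := gMat c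
  inv := gMat (certA.inv c)
  val_inv := gMat_inv c
  inv_val := mul_eq_one_comm.mp (gMat_inv c)

theorem val_gUnit (w : List ℕ) :
    ((prodW gUnit w : GL chevG2.Idx (ZMod 5)) : Matrix chevG2.Idx chevG2.Idx (ZMod 5)) =
      (w.map gMat).prod := by
  induction w with
  | nil => simp
  | cons c w ih => simp [gUnit, ih]

theorem exists_toGL : ∃ f : P0 →* GL chevG2.Idx (ZMod 5), ∀ i < 10, f (gen0 i) = gUnit i := by
  have key : ∀ r ∈ relSet0, FreeGroup.lift (fun i : Fin 10 => gUnit (i : ℕ)) r = 1 := by
    rintro r ⟨w, hw, rfl⟩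
    rw [map_prodW]
    have hl : ∀ g ∈ w, g < 10 := by
      have hall : ∀ w ∈ certA.rels ++ cancelW, ∀ g ∈ w, g < 10 := by decide +kernel
      exact hall w hw
    refine Eq.trans (prodW_congr fun g hg => ?_) (Units.ext ((val_gUnit w).trans (pair_one hw)))
    simp [free10, hl g hg]
  refine ⟨PresentedGroup.toGroup key, fun i hi => ?_⟩
  have e : gen0 i = PresentedGroup.of (⟨i, hi⟩ : Fin 10) := by
    simp [gen0, free10, hi, PresentedGroup.of]
  rw [e, PresentedGroup.toGroup.of]

/-- the map to matrices of size 14 -/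
noncomputable def toGL : P0 →* GL chevG2.Idx (ZMod 5) := exists_toGL.choose

theorem toGL_word {w : List ℕ} (hw : ∀ g ∈ w, g < 10) : toGL (prodW gen0 w) = prodW gUnit w := by
  rw [map_prodW]
  exact prodW_congr fun g hg => exists_toGL.choose_spec g (hw g hg)

theorem rootWords_lt : (rootWords.all fun w => w.all fun c => Nat.blt c 10) = true := by
  decide +kernel

theorem group_le_range : chevG2.group (ZMod 5) ≤ toGL.range := by
  rw [ChevalleyDatum.group, Subgroup.closure_le]
  rintro g ⟨r, t, hg⟩
  let k : Fin 5 := ⟨t.val, ZMod.val_lt t⟩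
  set w := (List.replicate (k : ℕ) (rootWords.getD r.val [])).flatten with hw'
  have hw : ∀ c ∈ w, c < 10 := by
    intro c hc
    obtain ⟨l, hl, hcl⟩ := List.mem_flatten.mp hc
    rw [List.eq_of_mem_replicate hl] at hcl
    have h := rootWords_lt
    simp only [List.all_eq_true, Nat.blt_eq] at h
    rcases Nat.lt_or_ge r.val rootWords.length with hr | hr
    · rw [List.getD_eq_getElem _ _ hr] at hcl
      exact h _ (List.getElem_mem hr) c hcl
    · rw [List.getD_eq_default _ _ hr] at hcl
      simp at hcl
  refine ⟨prodW gen0 w, Units.ext ?_⟩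
  rw [toGL_word hw, val_gUnit, ← w14_eq, hg]
  have h := root_check r k
  rw [show ((k : ℕ) : ZMod 5) = t from ZMod.natCast_zmod_val t] at h
  exact h.symm

theorem card_chev : Nat.card (chevG2.group (ZMod 5)) = 5859000000 := by
  rw [CfsgLib.Chev.card_groupG2, ZMod.card]
  norm_num

theorem range_eq : toGL.range = chevG2.group (ZMod 5) := by
  haveI := finite_P0
  refine (Subgroup.eq_of_le_of_card_ge group_le_range ?_).symm
  rw [card_chev, ← card_P0]
  exact Nat.le_of_dvd Nat.card_pos (Subgroup.card_range_dvd toGL)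

theorem toGL_injective : Function.Injective toGL := by
  haveI := finite_P0
  rw [← MonoidHom.ker_eq_bot_iff]
  have h := Subgroup.card_mul_index toGL.ker
  rw [Subgroup.index_ker, range_eq, card_chev, card_P0] at h
  exact Subgroup.card_eq_one.mp (mul_right_cancel₀ (by norm_num) (h.trans (one_mul _).symm))

/-- the isomorphism -/
noncomputable def p0Equiv : P0 ≃* chevG2.group (ZMod 5) :=
  (MonoidHom.ofInjective toGL_injective).trans (MulEquiv.subgroupCongr range_eq)

theorem simple_chev : IsSimpleGroup (chevG2.group (ZMod 5)) :=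
  (CfsgLib.Chev.certG2.simple_group CfsgLib.Chev.connectedG2
    (CfsgLib.Chev.perfectG2 ⟨2, by decide, by decide⟩)
    (CfsgLib.Chev.certG2.isSolvable_borel (ZMod 5))).1

theorem simple_P0 : IsSimpleGroup P0 := by
  haveI := simple_chev
  exact p0Equiv.isSimpleGroup

theorem ga_ne_one : ga ≠ 1 := by
  intro e
  have h := congrArg LyRep.rho e
  rw [map_one, show ga = fz 0 from rfl, rho_fz (Or.inl (by norm_num))] at h
  have hoff : LyRep.offOne [0] 0 = true ∨ LyRep.offOne [0] 112 = true ∨ LyRep.offOne [0] 1 = true := by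
    decide +kernel
  have hw : prodW LyRep.um [0] = 1 := by simpa using h
  have key : ∀ t, LyRep.offOne [0] t = true → False := fun t ht => by
    simp only [LyRep.offOne, Bool.and_eq_true, Nat.blt_eq, Bool.not_eq_true'] at ht
    have h3 := congrArg (fun u : LyRep.U111 => u.val ⟨t / 111, by omega⟩ ⟨t % 111, by omega⟩) hw
    simp only [LyRep.val_prodW, Units.val_one, ← LyRep.toM_oneN, LyRep.toM_apply,
      Nat.div_add_mod] at h3
    rw [ZMod.natCast_eq_natCast_iff', Nat.mod_eq_of_lt (LyRep.good_mW _ t ht.1),
      Nat.mod_eq_of_lt (LyRep.good_oneN t ht.1)] at h3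
    rw [h3, Nat.beq_refl] at ht
    exact absurd ht.2 (by simp)
  rcases hoff with h | h | h <;> exact key _ h

theorem toG_injective : Function.Injective toG := by
  haveI := simple_P0
  rw [← MonoidHom.ker_eq_bot_iff]
  rcases toG.normal_ker.eq_bot_or_eq_top with h | h
  · exact h
  · exfalso
    have : gen0 0 ∈ toG.ker := by rw [h]; trivial
    rw [MonoidHom.mem_ker, toG_gen (by norm_num)] at this
    exact ga_ne_one this

/-- the subgroup of `a, b, c, d` is the Chevalley group -/
noncomputable def subHEquiv : subH ≃* chevG2.group (ZMod 5) :=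
  ((MulEquiv.subgroupCongr toG_range).trans (MonoidHom.ofInjective toG_injective).symm).trans p0Equiv

theorem card_subH : Nat.card subH = 5859000000 := by
  rw [Nat.card_congr subHEquiv.toEquiv, card_chev]

theorem card_G : Nat.card G = 51765179004000000 := by
  rw [← Subgroup.card_mul_index subH, card_subH, index_eq]

end CfsgLib.LyPres
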