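import Cfsg.Agent.Lib.LyPres.RelWords
import Cfsg.Agent.Lib.LyPres.CheckA
import Cfsg.Agent.Lib.LyPres.CheckB
import Cfsg.Agent.Lib.LyPres.CheckC
import Cfsg.Agent.Lib.TwistCoset.Act

/-!
The group on `a, b, c, d, e` presented by the first 44 relations: its action on 3906 points, a
bound for its order, and its map to the Lyons group.
-/

set_option autoImplicit false

namespace CfsgLib.LyPres

open CfsgLib.CosetEnum CfsgLib.TwistCoset

/-- inverse letters cancel -/
def cancelW : List (List ℕ) := [[0, 1], [1, 0], [2, 3], [3, 2], [4, 5], [5, 4], [6, 7], [7, 6], [8, 9], [9, 8]]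

/-- the letters as free generators -/
def free10 (i : ℕ) : FreeGroup (Fin 10) := if h : i < 10 then FreeGroup.of ⟨i, h⟩ else 1

/-- the relators -/
def relSet0 : Set (FreeGroup (Fin 10)) := {x | ∃ r ∈ certA.rels ++ cancelW, prodW free10 r = x}

/-- the presented group of the subgroup -/
abbrev P0 : Type := PresentedGroup relSet0

/-- its letters -/
def gen0 (i : ℕ) : P0 := PresentedGroup.mk relSet0 (free10 i)

theorem gen0_rel {r : List ℕ} (hr : r ∈ certA.rels ++ cancelW) : prodW gen0 r = 1 := by
  unfold gen0
  rw [← map_prodW]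
  exact PresentedGroup.one_of_mem ⟨r, hr, rfl⟩

theorem inv_cancel_mem : ∀ i < 10, [i, certA.inv i] ∈ cancelW := by decide +kernel

theorem gen0_inv_mul (i : ℕ) : gen0 i * gen0 (certA.inv i) = 1 := by
  by_cases h : i < 10
  · simpa using gen0_rel (List.mem_append_right _ (inv_cancel_mem i h))
  · have e : certA.inv i = i := List.getD_eq_default _ _ (by simp [certA]; omega)
    simp [e, gen0, free10, h]

theorem gen0_top : Subgroup.closure {y | ∃ g < certA.K, gen0 g = y} = ⊤ := by
  rw [eq_top_iff, ← PresentedGroup.closure_range_of relSet0, Subgroup.closure_le]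
  rintro _ ⟨i, rfl⟩
  exact Subgroup.subset_closure ⟨i, i.2, by simp [gen0, free10, i.2, PresentedGroup.of]⟩

theorem invs_agree : (∀ g < 6, certB.inv g = certA.inv g) ∧ (∀ g < 4, certC.inv g = certA.inv g) := by
  decide +kernel

theorem relsB_mem : ∀ r ∈ certB.rels, r ∈ certA.rels := by decide +kernel

theorem relsC_mem : ∀ r ∈ certC.rels, r ∈ certA.rels := by decide +kernel

/-- the letters below `n` -/
def gen0' (n g : ℕ) : P0 := if g < n then gen0 g else 1

theorem prodW_gen0' {n : ℕ} {w : List ℕ} (hw : ∀ g ∈ w, g < n) : prodW (gen0' n) w = prodW gen0 w :=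
  prodW_congr fun g hg => if_pos (hw g hg)

theorem closure_gen0' (n : ℕ) :
    Subgroup.closure {y | ∃ g < n, gen0' n g = y} = Subgroup.closure {y | ∃ g < n, gen0 g = y} := by
  congr 1
  ext y
  exact exists_congr fun g => and_congr_right fun hg => by rw [gen0', if_pos hg]

/-- a model of a certificate on the first letters -/
theorem model_low {C : Cert} {n : ℕ} (hK : C.K = n) (hinv : ∀ g < n, C.inv g = certA.inv g)
    (hlt : ∀ g < n, certA.inv g < n) (hinv' : ∀ g, n ≤ g → C.inv g = g)
    (hrels : ∀ r ∈ C.rels, r ∈ certA.rels) (hrl : ∀ r ∈ C.rels, ∀ g ∈ r, g < n)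
    (H : Subgroup P0) (hH : ∀ w ∈ C.subs, prodW (gen0' n) w ∈ H) : Model C H (gen0' n) where
  gen_K := by simp [gen0', hK]
  inv_mul g := by
    by_cases h : g < n
    · rw [hinv g h, gen0', gen0', if_pos h, if_pos (hlt g h)]
      exact gen0_inv_mul g
    · simp [hinv' g (Nat.le_of_not_lt h), gen0', h]
  rel r hr := by
    rw [prodW_gen0' (hrl r hr)]
    exact gen0_rel (List.mem_append_left _ (hrels r hr))
  sub := hH

theorem certC_facts : certC.subs = [] ∧ certC.N = 480 ∧ (∀ r ∈ certC.rels, ∀ g ∈ r, g < 4) ∧
    certC.K = 4 ∧ (∀ g < 4, certA.inv g < 4) ∧ certC.invs.length = 4 := by decide +kernel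

theorem certB_facts : certB.subs = [[0], [2]] ∧ certB.N = 3125 ∧ (∀ r ∈ certB.rels, ∀ g ∈ r, g < 6) ∧
    certB.K = 6 ∧ (∀ g < 6, certA.inv g < 6) ∧ certB.invs.length = 6 := by decide +kernel

theorem certA_facts : certA.subs = [[0], [2], [4]] ∧ certA.N = 3906 ∧ certA.K = 10 ∧
    (∀ r ∈ certA.rels, ∀ g ∈ r, g < 10) ∧ certA.invs.length = 10 := by decide +kernel

theorem card_low : Finite (Subgroup.closure {y | ∃ g < 4, gen0 g = y}) ∧
    Nat.card (Subgroup.closure {y | ∃ g < 4, gen0 g = y}) ≤ 480 := by
  obtain ⟨hs, hN, hrl, hK, hlt, hlen⟩ := certC_facts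
  have m := model_low hK invs_agree.2 hlt
    (fun g hg => List.getD_eq_default _ _ (by omega)) relsC_mem hrl (⊥ : Subgroup P0)
    (fun w hw => by simp [hs] at hw)
  have h := finite_card_le certC_complete m 1 (by simp)
  rw [hK, closure_gen0', hN] at h
  exact h

theorem card_mid : Finite (Subgroup.closure {y | ∃ g < 6, gen0 g = y}) ∧
    Nat.card (Subgroup.closure {y | ∃ g < 6, gen0 g = y}) ≤ 3125 * 480 := by
  obtain ⟨hs, hN, hrl, hK, hlt, hlen⟩ := certB_facts
  obtain ⟨hf, hc⟩ := card_low
  haveI := hf
  have m := model_low hK invs_agree.1 hlt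
    (fun g hg => List.getD_eq_default _ _ (by omega)) relsB_mem hrl
    (Subgroup.closure {y | ∃ g < 4, gen0 g = y}) (fun w hw => by
      simp only [hs, List.mem_cons, List.not_mem_nil, or_false] at hw
      rcases hw with rfl | rfl
      · exact Subgroup.subset_closure ⟨0, by norm_num, by simp [gen0']⟩
      · exact Subgroup.subset_closure ⟨2, by norm_num, by simp [gen0']⟩)
  have h := finite_card_le certB_complete m 480 hc
  rw [hK, closure_gen0', hN] at h
  exact h

theorem card_P0_le : Finite P0 ∧ Nat.card P0 ≤ 5859000000 := by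
  obtain ⟨hs, hN, hK, hrl, hlen⟩ := certA_facts
  obtain ⟨hf, hc⟩ := card_mid
  haveI := hf
  have m : Model certA (Subgroup.closure {y | ∃ g < 6, gen0 g = y}) gen0 :=
    { gen_K := by simp [hK, gen0, free10]
      inv_mul := gen0_inv_mul
      rel := fun r hr => gen0_rel (List.mem_append_left _ hr)
      sub := fun w hw => by
        simp only [hs, List.mem_cons, List.not_mem_nil, or_false] at hw
        rcases hw with rfl | rfl | rfl
        · exact Subgroup.subset_closure ⟨0, by norm_num, by simp⟩
        · exact Subgroup.subset_closure ⟨2, by norm_num, by simp⟩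
        · exact Subgroup.subset_closure ⟨4, by norm_num, by simp⟩ }
  have h := finite_card_le certA_complete m (3125 * 480) hc
  rw [gen0_top, hN] at h
  haveI := h.1
  exact ⟨Finite.of_equiv _ Subgroup.topEquiv.toEquiv,
    (Nat.card_congr Subgroup.topEquiv.toEquiv).ge.trans h.2⟩

theorem finite_P0 : Finite P0 := card_P0_le.1

theorem exists_toG : ∃ φ : P0 →* G, ∀ i < 10, φ (gen0 i) = gen i := by
  have key : ∀ r ∈ relSet0, FreeGroup.lift (fun i : Fin 10 => gen (i : ℕ)) r = 1 := by
    rintro r ⟨w, hw, rfl⟩
    rw [map_prodW]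
    have hl : ∀ g ∈ w, g < 10 := by
      have hall : ∀ w ∈ certA.rels ++ cancelW, ∀ g ∈ w, g < 10 := by decide +kernel
      exact hall w hw
    have h1 : prodW gen w = 1 := by
      rcases List.mem_append.mp hw with h | h
      · exact prodW_relsA w h
      · simp only [cancelW, List.mem_cons, List.not_mem_nil, or_false] at h
        rcases h with rfl | rfl | rfl | rfl | rfl | rfl | rfl | rfl | rfl | rfl <;> simp [gen]
    rw [← h1]
    exact prodW_congr fun g hg => by simp [free10, hl g hg]
  refine ⟨PresentedGroup.toGroup key, fun i hi => ?_⟩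
  have e : gen0 i = PresentedGroup.of (⟨i, hi⟩ : Fin 10) := by
    simp [gen0, free10, hi, PresentedGroup.of]
  rw [e, PresentedGroup.toGroup.of]

/-- the map to the Lyons group -/
noncomputable def toG : P0 →* G := exists_toG.choose

theorem toG_gen {i : ℕ} (hi : i < 10) : toG (gen0 i) = gen i := exists_toG.choose_spec i hi

theorem toG_word {w : List ℕ} (hw : ∀ g ∈ w, g < 10) : toG (prodW gen0 w) = prodW gen w := by
  rw [map_prodW]
  exact prodW_congr fun g hg => toG_gen (hw g hg)

theorem exists_act : ∃ ψ : P0 →* (Equiv.Perm (Fin certA.N))ᵐᵒᵖ, ∀ i < 10,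
    ψ (gen0 i) = MulOpposite.op (letterPerm certA_complete certA_action i)⁻¹ := by
  let f : ℕ → (Equiv.Perm (Fin certA.N))ᵐᵒᵖ := fun g =>
    MulOpposite.op (letterPerm certA_complete certA_action g)⁻¹
  have hf : ∀ w, prodW f w = MulOpposite.op (prodW (letterPerm certA_complete certA_action) w)⁻¹ := by
    intro w
    induction w with
    | nil => simp
    | cons g w ih => rw [prodW_cons, ih, prodW_cons, ← MulOpposite.op_mul, mul_inv_rev]
  have key : ∀ r ∈ relSet0, FreeGroup.lift (fun i : Fin 10 => f (i : ℕ)) r = 1 := by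
    rintro r ⟨w, hw, rfl⟩
    rw [map_prodW]
    have hl : ∀ g ∈ w, g < 10 := by
      have hall : ∀ w ∈ certA.rels ++ cancelW, ∀ g ∈ w, g < 10 := by decide +kernel
      exact hall w hw
    have h1 : prodW (letterPerm certA_complete certA_action) w = 1 := by
      rcases List.mem_append.mp hw with h | h
      · exact prodW_letterPerm_rel _ _ w h
      · refine Equiv.ext fun x => Fin.ext ?_
        rw [prodW_letterPerm certA_complete certA_action (fun g hg => certA_facts.2.2.1.symm ▸ hl g hg)]
        simp only [cancelW, List.mem_cons, List.not_mem_nil, or_false] at h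
        have hact : ∀ g < 10, certA.T (certA.T x g) (certA.inv g) = x := fun g hg => by
          have h2 := certA_action.act x x.2
          unfold Cert.actOK at h2
          simp only [strict_eq, band_eq_true] at h2
          have h3 := Cert.allBelow_spec h2.1 g (certA_facts.2.2.1.symm ▸ hg)
          simp only [band_eq_true, Cert.invK_eq] at h3
          exact Nat.eq_of_beq_eq_true h3.2
        rcases h with rfl | rfl | rfl | rfl | rfl | rfl | rfl | rfl | rfl | rfl <;>
          (simp only [Cert.revInv, List.map_cons, List.map_nil, List.reverse_cons, List.reverse_nil,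
            List.nil_append, List.singleton_append, Cert.run_cons, Cert.run_nil, Equiv.Perm.coe_one,
            id_eq]
           exact hact _ (by decide +kernel))
    have h2 : prodW f w = 1 := by rw [hf, h1, inv_one, MulOpposite.op_one]
    rw [← h2]
    exact prodW_congr fun g hg => by simp [free10, hl g hg]
  refine ⟨PresentedGroup.toGroup key, fun i hi => ?_⟩
  have e : gen0 i = PresentedGroup.of (⟨i, hi⟩ : Fin 10) := by
    simp [gen0, free10, hi, PresentedGroup.of]
  rw [e, PresentedGroup.toGroup.of]

/-- the action on 3906 points -/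
noncomputable def act : Act certA gen0 where
  ψ := exists_act.choose
  inv_mul := gen0_inv_mul
  inv_lt _ hg := certA_complete.inv_lt hg
  apply w := by
    induction w with
    | nil => intro _ x; simp [Cert.run_nil]
    | cons g w ih =>
      intro hw x
      rw [List.forall_mem_cons] at hw
      rw [prodW_cons, map_mul, exists_act.choose_spec g (certA_facts.2.2.1 ▸ hw.1),
        MulOpposite.unop_mul, MulOpposite.unop_op, Equiv.Perm.mul_apply, ih hw.2, Cert.run_cons]
      congr 1
      simp [letterPerm, hw.1]

end CfsgLib.LyPres
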