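import Cfsg.Agent.Lib.LyPres.Group
import Cfsg.Agent.Lib.LyPres.DataB
import Cfsg.Agent.Lib.LyPres.DataC

/-!
The words of the certificates are relations of the presented group.
-/

set_option autoImplicit false
set_option linter.style.longLine false
set_option maxHeartbeats 1000000

namespace CfsgLib.LyPres

open CfsgLib.CosetEnum

theorem word1 : prodW gen [0, 0, 0, 0, 0, 0, 0, 0] = 1 := by
  have h := rel1
  simp only [gc1_eq, gc2_eq, gc3_eq, gc4_eq, gc5_eq, mul_inv_rev, inv_inv, pow_succ, pow_zero, one_mul, mul_one, mul_assoc, inv_mul_cancel_left, mul_inv_cancel_left, inv_mul_cancel, mul_inv_cancel] at h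
  simp only [prodW_cons, prodW_nil, gen]
  simp only [gc1_eq, gc2_eq, gc3_eq, gc4_eq, gc5_eq, mul_inv_rev, inv_inv, pow_succ, pow_zero, one_mul, mul_one, mul_assoc, inv_mul_cancel_left, mul_inv_cancel_left, inv_mul_cancel, mul_inv_cancel]
  exact h

theorem word2 : prodW gen [2, 2, 2, 2, 2] = 1 := by
  have h := rel2
  simp only [gc1_eq, gc2_eq, gc3_eq, gc4_eq, gc5_eq, mul_inv_rev, inv_inv, pow_succ, pow_zero, one_mul, mul_one, mul_assoc, inv_mul_cancel_left, mul_inv_cancel_left, inv_mul_cancel, mul_inv_cancel] at h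
  simp only [prodW_cons, prodW_nil, gen]
  simp only [gc1_eq, gc2_eq, gc3_eq, gc4_eq, gc5_eq, mul_inv_rev, inv_inv, pow_succ, pow_zero, one_mul, mul_one, mul_assoc, inv_mul_cancel_left, mul_inv_cancel_left, inv_mul_cancel, mul_inv_cancel]
  exact h

theorem word3 : prodW gen [0, 2, 0, 2, 0, 2, 0, 2] = 1 := by
  have h := rel3
  simp only [gc1_eq, gc2_eq, gc3_eq, gc4_eq, gc5_eq, mul_inv_rev, inv_inv, pow_succ, pow_zero, one_mul, mul_one, mul_assoc, inv_mul_cancel_left, mul_inv_cancel_left, inv_mul_cancel, mul_inv_cancel] at h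
  simp only [prodW_cons, prodW_nil, gen]
  simp only [gc1_eq, gc2_eq, gc3_eq, gc4_eq, gc5_eq, mul_inv_rev, inv_inv, pow_succ, pow_zero, one_mul, mul_one, mul_assoc, inv_mul_cancel_left, mul_inv_cancel_left, inv_mul_cancel, mul_inv_cancel]
  exact h

theorem word4 : prodW gen [1, 1, 3, 0, 0, 2] = 1 := by
  have h := rel4
  simp only [gc1_eq, gc2_eq, gc3_eq, gc4_eq, gc5_eq, mul_inv_rev, inv_inv, pow_succ, pow_zero, one_mul, mul_one, mul_assoc, inv_mul_cancel_left, mul_inv_cancel_left, inv_mul_cancel, mul_inv_cancel] at h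
  simp only [prodW_cons, prodW_nil, gen]
  simp only [gc1_eq, gc2_eq, gc3_eq, gc4_eq, gc5_eq, mul_inv_rev, inv_inv, pow_succ, pow_zero, one_mul, mul_one, mul_assoc, inv_mul_cancel_left, mul_inv_cancel_left, inv_mul_cancel, mul_inv_cancel]
  exact h

theorem word5 : prodW gen [1, 3, 0, 2, 1, 3, 0, 2, 1, 3, 0, 2] = 1 := by
  have h := rel5
  simp only [gc1_eq, gc2_eq, gc3_eq, gc4_eq, gc5_eq, mul_inv_rev, inv_inv, pow_succ, pow_zero, one_mul, mul_one, mul_assoc, inv_mul_cancel_left, mul_inv_cancel_left, inv_mul_cancel, mul_inv_cancel] at h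
  simp only [prodW_cons, prodW_nil, gen]
  simp only [gc1_eq, gc2_eq, gc3_eq, gc4_eq, gc5_eq, mul_inv_rev, inv_inv, pow_succ, pow_zero, one_mul, mul_one, mul_assoc, inv_mul_cancel_left, mul_inv_cancel_left, inv_mul_cancel, mul_inv_cancel]
  exact h

theorem word11 : prodW gen [4, 4, 4, 4, 4] = 1 := by
  have h := rel11
  simp only [gc1_eq, gc2_eq, gc3_eq, gc4_eq, gc5_eq, mul_inv_rev, inv_inv, pow_succ, pow_zero, one_mul, mul_one, mul_assoc, inv_mul_cancel_left, mul_inv_cancel_left, inv_mul_cancel, mul_inv_cancel] at h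
  simp only [prodW_cons, prodW_nil, gen]
  simp only [gc1_eq, gc2_eq, gc3_eq, gc4_eq, gc5_eq, mul_inv_rev, inv_inv, pow_succ, pow_zero, one_mul, mul_one, mul_assoc, inv_mul_cancel_left, mul_inv_cancel_left, inv_mul_cancel, mul_inv_cancel]
  exact h

theorem word12 : prodW gen [5, 1, 5, 0, 4, 1, 4, 0, 5, 1, 5, 0, 4, 1, 4, 0, 5, 1, 5, 0, 4, 1, 4, 0, 5, 1, 5, 0, 4, 1, 4, 0, 5, 1, 5, 0, 4, 1, 4, 0] = 1 := by
  have h := rel12
  simp only [gc1_eq, gc2_eq, gc3_eq, gc4_eq, gc5_eq, mul_inv_rev, inv_inv, pow_succ, pow_zero, one_mul, mul_one, mul_assoc, inv_mul_cancel_left, mul_inv_cancel_left, inv_mul_cancel, mul_inv_cancel] at h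
  simp only [prodW_cons, prodW_nil, gen]
  simp only [gc1_eq, gc2_eq, gc3_eq, gc4_eq, gc5_eq, mul_inv_rev, inv_inv, pow_succ, pow_zero, one_mul, mul_one, mul_assoc, inv_mul_cancel_left, mul_inv_cancel_left, inv_mul_cancel, mul_inv_cancel]
  exact h

theorem word13 : prodW gen [5, 1, 5, 0, 5, 1, 4, 0, 4, 1, 5, 0, 4, 1, 4, 0] = 1 := by
  have h := rel13
  simp only [gc1_eq, gc2_eq, gc3_eq, gc4_eq, gc5_eq, mul_inv_rev, inv_inv, pow_succ, pow_zero, one_mul, mul_one, mul_assoc, inv_mul_cancel_left, mul_inv_cancel_left, inv_mul_cancel, mul_inv_cancel] at h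
  simp only [prodW_cons, prodW_nil, gen]
  simp only [gc1_eq, gc2_eq, gc3_eq, gc4_eq, gc5_eq, mul_inv_rev, inv_inv, pow_succ, pow_zero, one_mul, mul_one, mul_assoc, inv_mul_cancel_left, mul_inv_cancel_left, inv_mul_cancel, mul_inv_cancel]
  exact h

theorem word14 : prodW gen [1, 5, 5, 0, 5, 1, 4, 0, 4, 1, 4, 0, 5, 1, 5, 0, 4, 1, 4, 0] = 1 := by
  have h := rel14
  simp only [gc1_eq, gc2_eq, gc3_eq, gc4_eq, gc5_eq, mul_inv_rev, inv_inv, pow_succ, pow_zero, one_mul, mul_one, mul_assoc, inv_mul_cancel_left, mul_inv_cancel_left, inv_mul_cancel, mul_inv_cancel] at h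
  simp only [prodW_cons, prodW_nil, gen]
  simp only [gc1_eq, gc2_eq, gc3_eq, gc4_eq, gc5_eq, mul_inv_rev, inv_inv, pow_succ, pow_zero, one_mul, mul_one, mul_assoc, inv_mul_cancel_left, mul_inv_cancel_left, inv_mul_cancel, mul_inv_cancel]
  exact h

theorem word15 : prodW gen [3, 5, 2, 1, 5, 0, 5, 1, 4, 0, 4, 3, 4, 2, 5, 1, 5, 0, 4, 1, 4, 0] = 1 := by
  have h := rel15
  simp only [gc1_eq, gc2_eq, gc3_eq, gc4_eq, gc5_eq, mul_inv_rev, inv_inv, pow_succ, pow_zero, one_mul, mul_one, mul_assoc, inv_mul_cancel_left, mul_inv_cancel_left, inv_mul_cancel, mul_inv_cancel] at h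
  simp only [prodW_cons, prodW_nil, gen]
  simp only [gc1_eq, gc2_eq, gc3_eq, gc4_eq, gc5_eq, mul_inv_rev, inv_inv, pow_succ, pow_zero, one_mul, mul_one, mul_assoc, inv_mul_cancel_left, mul_inv_cancel_left, inv_mul_cancel, mul_inv_cancel]
  exact h

theorem word16 : prodW gen [2, 5, 3, 1, 5, 0, 5, 1, 4, 0, 4, 2, 4, 3, 5, 1, 5, 0, 4, 1, 4, 0] = 1 := by
  have h := rel16
  simp only [gc1_eq, gc2_eq, gc3_eq, gc4_eq, gc5_eq, mul_inv_rev, inv_inv, pow_succ, pow_zero, one_mul, mul_one, mul_assoc, inv_mul_cancel_left, mul_inv_cancel_left, inv_mul_cancel, mul_inv_cancel] at h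
  simp only [prodW_cons, prodW_nil, gen]
  simp only [gc1_eq, gc2_eq, gc3_eq, gc4_eq, gc5_eq, mul_inv_rev, inv_inv, pow_succ, pow_zero, one_mul, mul_one, mul_assoc, inv_mul_cancel_left, mul_inv_cancel_left, inv_mul_cancel, mul_inv_cancel]
  exact h

theorem word17 : prodW gen [5, 3, 5, 2, 4, 3, 4, 2, 5, 1, 5, 0, 4, 1, 4, 0, 5, 1, 5, 0, 4, 1, 4, 0] = 1 := by
  have h := rel17
  simp only [gc1_eq, gc2_eq, gc3_eq, gc4_eq, gc5_eq, mul_inv_rev, inv_inv, pow_succ, pow_zero, one_mul, mul_one, mul_assoc, inv_mul_cancel_left, mul_inv_cancel_left, inv_mul_cancel, mul_inv_cancel] at h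
  simp only [prodW_cons, prodW_nil, gen]
  simp only [gc1_eq, gc2_eq, gc3_eq, gc4_eq, gc5_eq, mul_inv_rev, inv_inv, pow_succ, pow_zero, one_mul, mul_one, mul_assoc, inv_mul_cancel_left, mul_inv_cancel_left, inv_mul_cancel, mul_inv_cancel]
  exact h

theorem word18 : prodW gen [5, 2, 5, 3, 4, 2, 4, 3, 1, 5, 0, 5, 1, 4, 0, 4, 1, 5, 0, 5, 1, 4, 0, 4] = 1 := by
  have h := rel18
  simp only [gc1_eq, gc2_eq, gc3_eq, gc4_eq, gc5_eq, mul_inv_rev, inv_inv, pow_succ, pow_zero, one_mul, mul_one, mul_assoc, inv_mul_cancel_left, mul_inv_cancel_left, inv_mul_cancel, mul_inv_cancel] at h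
  simp only [prodW_cons, prodW_nil, gen]
  simp only [gc1_eq, gc2_eq, gc3_eq, gc4_eq, gc5_eq, mul_inv_rev, inv_inv, pow_succ, pow_zero, one_mul, mul_one, mul_assoc, inv_mul_cancel_left, mul_inv_cancel_left, inv_mul_cancel, mul_inv_cancel]
  exact h

theorem word19 : prodW gen [1, 5, 0, 3, 5, 2, 1, 4, 0, 3, 4, 2, 5, 1, 5, 0, 4, 1, 4, 0] = 1 := by
  have h := rel19
  simp only [gc1_eq, gc2_eq, gc3_eq, gc4_eq, gc5_eq, mul_inv_rev, inv_inv, pow_succ, pow_zero, one_mul, mul_one, mul_assoc, inv_mul_cancel_left, mul_inv_cancel_left, inv_mul_cancel, mul_inv_cancel] at h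
  simp only [prodW_cons, prodW_nil, gen]
  simp only [gc1_eq, gc2_eq, gc3_eq, gc4_eq, gc5_eq, mul_inv_rev, inv_inv, pow_succ, pow_zero, one_mul, mul_one, mul_assoc, inv_mul_cancel_left, mul_inv_cancel_left, inv_mul_cancel, mul_inv_cancel]
  exact h

theorem word20 : prodW gen [1, 5, 0, 2, 5, 3, 1, 4, 0, 2, 4, 3] = 1 := by
  have h := rel20
  simp only [gc1_eq, gc2_eq, gc3_eq, gc4_eq, gc5_eq, mul_inv_rev, inv_inv, pow_succ, pow_zero, one_mul, mul_one, mul_assoc, inv_mul_cancel_left, mul_inv_cancel_left, inv_mul_cancel, mul_inv_cancel] at h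
  simp only [prodW_cons, prodW_nil, gen]
  simp only [gc1_eq, gc2_eq, gc3_eq, gc4_eq, gc5_eq, mul_inv_rev, inv_inv, pow_succ, pow_zero, one_mul, mul_one, mul_assoc, inv_mul_cancel_left, mul_inv_cancel_left, inv_mul_cancel, mul_inv_cancel]
  exact h

theorem word21 : prodW gen [3, 5, 2, 2, 5, 3, 3, 4, 2, 2, 4, 3, 5, 1, 5, 0, 4, 1, 4, 0] = 1 := by
  have h := rel21
  simp only [gc1_eq, gc2_eq, gc3_eq, gc4_eq, gc5_eq, mul_inv_rev, inv_inv, pow_succ, pow_zero, one_mul, mul_one, mul_assoc, inv_mul_cancel_left, mul_inv_cancel_left, inv_mul_cancel, mul_inv_cancel] at h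
  simp only [prodW_cons, prodW_nil, gen]
  simp only [gc1_eq, gc2_eq, gc3_eq, gc4_eq, gc5_eq, mul_inv_rev, inv_inv, pow_succ, pow_zero, one_mul, mul_one, mul_assoc, inv_mul_cancel_left, mul_inv_cancel_left, inv_mul_cancel, mul_inv_cancel]
  exact h

theorem word22 : prodW gen [1, 1, 4, 0, 0, 4, 4] = 1 := by
  have h := rel22
  simp only [gc1_eq, gc2_eq, gc3_eq, gc4_eq, gc5_eq, mul_inv_rev, inv_inv, pow_succ, pow_zero, one_mul, mul_one, mul_assoc, inv_mul_cancel_left, mul_inv_cancel_left, inv_mul_cancel, mul_inv_cancel] at h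
  simp only [prodW_cons, prodW_nil, gen]
  simp only [gc1_eq, gc2_eq, gc3_eq, gc4_eq, gc5_eq, mul_inv_rev, inv_inv, pow_succ, pow_zero, one_mul, mul_one, mul_assoc, inv_mul_cancel_left, mul_inv_cancel_left, inv_mul_cancel, mul_inv_cancel]
  exact h

theorem word23 : prodW gen [1, 3, 4, 2, 0, 2, 5, 3, 5, 3, 4, 4, 2] = 1 := by
  have h := rel23
  simp only [gc1_eq, gc2_eq, gc3_eq, gc4_eq, gc5_eq, mul_inv_rev, inv_inv, pow_succ, pow_zero, one_mul, mul_one, mul_assoc, inv_mul_cancel_left, mul_inv_cancel_left, inv_mul_cancel, mul_inv_cancel] at h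
  simp only [prodW_cons, prodW_nil, gen]
  simp only [gc1_eq, gc2_eq, gc3_eq, gc4_eq, gc5_eq, mul_inv_rev, inv_inv, pow_succ, pow_zero, one_mul, mul_one, mul_assoc, inv_mul_cancel_left, mul_inv_cancel_left, inv_mul_cancel, mul_inv_cancel]
  exact h

theorem word24 : prodW gen [1, 2, 4, 3, 0, 2, 5, 3, 5, 2, 5, 3, 3, 4, 2, 1, 4, 0, 5] = 1 := by
  have h := rel24
  simp only [gc1_eq, gc2_eq, gc3_eq, gc4_eq, gc5_eq, mul_inv_rev, inv_inv, pow_succ, pow_zero, one_mul, mul_one, mul_assoc, inv_mul_cancel_left, mul_inv_cancel_left, inv_mul_cancel, mul_inv_cancel] at h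
  simp only [prodW_cons, prodW_nil, gen]
  simp only [gc1_eq, gc2_eq, gc3_eq, gc4_eq, gc5_eq, mul_inv_rev, inv_inv, pow_succ, pow_zero, one_mul, mul_one, mul_assoc, inv_mul_cancel_left, mul_inv_cancel_left, inv_mul_cancel, mul_inv_cancel]
  exact h

theorem word25 : prodW gen [1, 5, 1, 5, 0, 4, 1, 4, 0, 5, 0, 5, 1, 4, 0, 4, 1, 5, 0, 5, 1, 4, 0, 4] = 1 := by
  have h := rel25
  simp only [gc1_eq, gc2_eq, gc3_eq, gc4_eq, gc5_eq, mul_inv_rev, inv_inv, pow_succ, pow_zero, one_mul, mul_one, mul_assoc, inv_mul_cancel_left, mul_inv_cancel_left, inv_mul_cancel, mul_inv_cancel] at h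
  simp only [prodW_cons, prodW_nil, gen]
  simp only [gc1_eq, gc2_eq, gc3_eq, gc4_eq, gc5_eq, mul_inv_rev, inv_inv, pow_succ, pow_zero, one_mul, mul_one, mul_assoc, inv_mul_cancel_left, mul_inv_cancel_left, inv_mul_cancel, mul_inv_cancel]
  exact h

theorem word26 : prodW gen [3, 1, 4, 0, 2, 2, 4, 3, 4, 2, 4, 3, 3, 5, 2, 1, 5, 0] = 1 := by
  have h := rel26
  simp only [gc1_eq, gc2_eq, gc3_eq, gc4_eq, gc5_eq, mul_inv_rev, inv_inv, pow_succ, pow_zero, one_mul, mul_one, mul_assoc, inv_mul_cancel_left, mul_inv_cancel_left, inv_mul_cancel, mul_inv_cancel] at h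
  simp only [prodW_cons, prodW_nil, gen]
  simp only [gc1_eq, gc2_eq, gc3_eq, gc4_eq, gc5_eq, mul_inv_rev, inv_inv, pow_succ, pow_zero, one_mul, mul_one, mul_assoc, inv_mul_cancel_left, mul_inv_cancel_left, inv_mul_cancel, mul_inv_cancel]
  exact h

theorem word27 : prodW gen [3, 3, 4, 2, 4, 4, 2, 2, 5, 3, 5, 5] = 1 := by
  have h := rel27
  simp only [gc1_eq, gc2_eq, gc3_eq, gc4_eq, gc5_eq, mul_inv_rev, inv_inv, pow_succ, pow_zero, one_mul, mul_one, mul_assoc, inv_mul_cancel_left, mul_inv_cancel_left, inv_mul_cancel, mul_inv_cancel] at h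
  simp only [prodW_cons, prodW_nil, gen]
  simp only [gc1_eq, gc2_eq, gc3_eq, gc4_eq, gc5_eq, mul_inv_rev, inv_inv, pow_succ, pow_zero, one_mul, mul_one, mul_assoc, inv_mul_cancel_left, mul_inv_cancel_left, inv_mul_cancel, mul_inv_cancel]
  exact h

theorem word28 : prodW gen [3, 5, 1, 5, 0, 4, 1, 4, 0, 2, 1, 5, 0, 5, 1, 4, 0, 4] = 1 := by
  have h := rel28
  simp only [gc1_eq, gc2_eq, gc3_eq, gc4_eq, gc5_eq, mul_inv_rev, inv_inv, pow_succ, pow_zero, one_mul, mul_one, mul_assoc, inv_mul_cancel_left, mul_inv_cancel_left, inv_mul_cancel, mul_inv_cancel] at h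
  simp only [prodW_cons, prodW_nil, gen]
  simp only [gc1_eq, gc2_eq, gc3_eq, gc4_eq, gc5_eq, mul_inv_rev, inv_inv, pow_succ, pow_zero, one_mul, mul_one, mul_assoc, inv_mul_cancel_left, mul_inv_cancel_left, inv_mul_cancel, mul_inv_cancel]
  exact h

theorem word29 : prodW gen [8, 7, 5, 7, 2, 1, 3, 5, 7, 1, 5, 0, 5, 1, 4, 0, 2, 2] = 1 := by
  have h := rel29
  simp only [gc1_eq, gc2_eq, gc3_eq, gc4_eq, gc5_eq, mul_inv_rev, inv_inv, pow_succ, pow_zero, one_mul, mul_one, mul_assoc, inv_mul_cancel_left, mul_inv_cancel_left, inv_mul_cancel, mul_inv_cancel] at h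
  simp only [prodW_cons, prodW_nil, gen]
  simp only [gc1_eq, gc2_eq, gc3_eq, gc4_eq, gc5_eq, mul_inv_rev, inv_inv, pow_succ, pow_zero, one_mul, mul_one, mul_assoc, inv_mul_cancel_left, mul_inv_cancel_left, inv_mul_cancel, mul_inv_cancel]
  exact h

theorem word30 : prodW gen [8, 8] = 1 := by
  have h := rel30
  simp only [gc1_eq, gc2_eq, gc3_eq, gc4_eq, gc5_eq, mul_inv_rev, inv_inv, pow_succ, pow_zero, one_mul, mul_one, mul_assoc, inv_mul_cancel_left, mul_inv_cancel_left, inv_mul_cancel, mul_inv_cancel] at h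
  simp only [prodW_cons, prodW_nil, gen]
  simp only [gc1_eq, gc2_eq, gc3_eq, gc4_eq, gc5_eq, mul_inv_rev, inv_inv, pow_succ, pow_zero, one_mul, mul_one, mul_assoc, inv_mul_cancel_left, mul_inv_cancel_left, inv_mul_cancel, mul_inv_cancel]
  exact h

theorem word31 : prodW gen [9, 4, 8, 4, 3, 3, 5] = 1 := by
  have h := rel31
  simp only [gc1_eq, gc2_eq, gc3_eq, gc4_eq, gc5_eq, mul_inv_rev, inv_inv, pow_succ, pow_zero, one_mul, mul_one, mul_assoc, inv_mul_cancel_left, mul_inv_cancel_left, inv_mul_cancel, mul_inv_cancel] at h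
  simp only [prodW_cons, prodW_nil, gen]
  simp only [gc1_eq, gc2_eq, gc3_eq, gc4_eq, gc5_eq, mul_inv_rev, inv_inv, pow_succ, pow_zero, one_mul, mul_one, mul_assoc, inv_mul_cancel_left, mul_inv_cancel_left, inv_mul_cancel, mul_inv_cancel]
  exact h

theorem word32 : prodW gen [9, 3, 4, 2, 8, 0, 2, 4, 3, 4, 1, 5, 3, 3] = 1 := by
  have h := rel32
  simp only [gc1_eq, gc2_eq, gc3_eq, gc4_eq, gc5_eq, mul_inv_rev, inv_inv, pow_succ, pow_zero, one_mul, mul_one, mul_assoc, inv_mul_cancel_left, mul_inv_cancel_left, inv_mul_cancel, mul_inv_cancel] at h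
  simp only [prodW_cons, prodW_nil, gen]
  simp only [gc1_eq, gc2_eq, gc3_eq, gc4_eq, gc5_eq, mul_inv_rev, inv_inv, pow_succ, pow_zero, one_mul, mul_one, mul_assoc, inv_mul_cancel_left, mul_inv_cancel_left, inv_mul_cancel, mul_inv_cancel]
  exact h

theorem word33 : prodW gen [9, 2, 4, 3, 8, 2, 5, 3, 3, 4, 3] = 1 := by
  have h := rel33
  simp only [gc1_eq, gc2_eq, gc3_eq, gc4_eq, gc5_eq, mul_inv_rev, inv_inv, pow_succ, pow_zero, one_mul, mul_one, mul_assoc, inv_mul_cancel_left, mul_inv_cancel_left, inv_mul_cancel, mul_inv_cancel] at h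
  simp only [prodW_cons, prodW_nil, gen]
  simp only [gc1_eq, gc2_eq, gc3_eq, gc4_eq, gc5_eq, mul_inv_rev, inv_inv, pow_succ, pow_zero, one_mul, mul_one, mul_assoc, inv_mul_cancel_left, mul_inv_cancel_left, inv_mul_cancel, mul_inv_cancel]
  exact h

theorem word34 : prodW gen [9, 5, 1, 5, 0, 4, 1, 4, 0, 8, 2, 4, 3, 5, 3, 4, 2, 5] = 1 := by
  have h := rel34
  simp only [gc1_eq, gc2_eq, gc3_eq, gc4_eq, gc5_eq, mul_inv_rev, inv_inv, pow_succ, pow_zero, one_mul, mul_one, mul_assoc, inv_mul_cancel_left, mul_inv_cancel_left, inv_mul_cancel, mul_inv_cancel] at h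
  simp only [prodW_cons, prodW_nil, gen]
  simp only [gc1_eq, gc2_eq, gc3_eq, gc4_eq, gc5_eq, mul_inv_rev, inv_inv, pow_succ, pow_zero, one_mul, mul_one, mul_assoc, inv_mul_cancel_left, mul_inv_cancel_left, inv_mul_cancel, mul_inv_cancel]
  exact h

theorem word35 : prodW gen [8, 0, 0, 8, 2, 4, 3, 1, 5, 0, 5, 1, 4, 2, 1, 3, 3, 1] = 1 := by
  have h := rel35
  simp only [gc1_eq, gc2_eq, gc3_eq, gc4_eq, gc5_eq, mul_inv_rev, inv_inv, pow_succ, pow_zero, one_mul, mul_one, mul_assoc, inv_mul_cancel_left, mul_inv_cancel_left, inv_mul_cancel, mul_inv_cancel] at h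
  simp only [prodW_cons, prodW_nil, gen]
  simp only [gc1_eq, gc2_eq, gc3_eq, gc4_eq, gc5_eq, mul_inv_rev, inv_inv, pow_succ, pow_zero, one_mul, mul_one, mul_assoc, inv_mul_cancel_left, mul_inv_cancel_left, inv_mul_cancel, mul_inv_cancel]
  exact h

theorem word36 : prodW gen [9, 2, 8, 2, 4, 4, 3, 3, 4, 2, 5] = 1 := by
  have h := rel36
  simp only [gc1_eq, gc2_eq, gc3_eq, gc4_eq, gc5_eq, mul_inv_rev, inv_inv, pow_succ, pow_zero, one_mul, mul_one, mul_assoc, inv_mul_cancel_left, mul_inv_cancel_left, inv_mul_cancel, mul_inv_cancel] at h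
  simp only [prodW_cons, prodW_nil, gen]
  simp only [gc1_eq, gc2_eq, gc3_eq, gc4_eq, gc5_eq, mul_inv_rev, inv_inv, pow_succ, pow_zero, one_mul, mul_one, mul_assoc, inv_mul_cancel_left, mul_inv_cancel_left, inv_mul_cancel, mul_inv_cancel]
  exact h

theorem word37 : prodW gen [8, 0, 2, 2, 0, 3, 0, 8, 2, 4, 3, 1, 5, 0, 5, 1, 4, 1] = 1 := by
  have h := rel37
  simp only [gc1_eq, gc2_eq, gc3_eq, gc4_eq, gc5_eq, mul_inv_rev, inv_inv, pow_succ, pow_zero, one_mul, mul_one, mul_assoc, inv_mul_cancel_left, mul_inv_cancel_left, inv_mul_cancel, mul_inv_cancel] at h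
  simp only [prodW_cons, prodW_nil, gen]
  simp only [gc1_eq, gc2_eq, gc3_eq, gc4_eq, gc5_eq, mul_inv_rev, inv_inv, pow_succ, pow_zero, one_mul, mul_one, mul_assoc, inv_mul_cancel_left, mul_inv_cancel_left, inv_mul_cancel, mul_inv_cancel]
  exact h

theorem word38 : prodW gen [8, 1, 4, 0, 8, 1, 5, 0, 8, 1, 4, 0, 2, 5, 3, 0, 3, 4, 2, 0, 0, 0] = 1 := by
  have h := rel38
  simp only [gc1_eq, gc2_eq, gc3_eq, gc4_eq, gc5_eq, mul_inv_rev, inv_inv, pow_succ, pow_zero, one_mul, mul_one, mul_assoc, inv_mul_cancel_left, mul_inv_cancel_left, inv_mul_cancel, mul_inv_cancel] at h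
  simp only [prodW_cons, prodW_nil, gen]
  simp only [gc1_eq, gc2_eq, gc3_eq, gc4_eq, gc5_eq, mul_inv_rev, inv_inv, pow_succ, pow_zero, one_mul, mul_one, mul_assoc, inv_mul_cancel_left, mul_inv_cancel_left, inv_mul_cancel, mul_inv_cancel]
  exact h

theorem word39 : prodW gen [6, 9, 3, 1, 4, 9, 1, 9, 1, 5, 1, 5, 0, 4, 1, 4, 0, 2, 4, 3, 4, 2, 0, 3, 3, 1] = 1 := by
  have h := rel39
  simp only [gc1_eq, gc2_eq, gc3_eq, gc4_eq, gc5_eq, mul_inv_rev, inv_inv, pow_succ, pow_zero, one_mul, mul_one, mul_assoc, inv_mul_cancel_left, mul_inv_cancel_left, inv_mul_cancel, mul_inv_cancel] at h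
  simp only [prodW_cons, prodW_nil, gen]
  simp only [gc1_eq, gc2_eq, gc3_eq, gc4_eq, gc5_eq, mul_inv_rev, inv_inv, pow_succ, pow_zero, one_mul, mul_one, mul_assoc, inv_mul_cancel_left, mul_inv_cancel_left, inv_mul_cancel, mul_inv_cancel]
  exact h

theorem word40 : prodW gen [6, 6, 1, 1, 1, 1] = 1 := by
  have h := rel40
  simp only [gc1_eq, gc2_eq, gc3_eq, gc4_eq, gc5_eq, mul_inv_rev, inv_inv, pow_succ, pow_zero, one_mul, mul_one, mul_assoc, inv_mul_cancel_left, mul_inv_cancel_left, inv_mul_cancel, mul_inv_cancel] at h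
  simp only [prodW_cons, prodW_nil, gen]
  simp only [gc1_eq, gc2_eq, gc3_eq, gc4_eq, gc5_eq, mul_inv_rev, inv_inv, pow_succ, pow_zero, one_mul, mul_one, mul_assoc, inv_mul_cancel_left, mul_inv_cancel_left, inv_mul_cancel, mul_inv_cancel]
  exact h

theorem word41 : prodW gen [3, 7, 2, 6] = 1 := by
  have h := rel41
  simp only [gc1_eq, gc2_eq, gc3_eq, gc4_eq, gc5_eq, mul_inv_rev, inv_inv, pow_succ, pow_zero, one_mul, mul_one, mul_assoc, inv_mul_cancel_left, mul_inv_cancel_left, inv_mul_cancel, mul_inv_cancel] at h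
  simp only [prodW_cons, prodW_nil, gen]
  simp only [gc1_eq, gc2_eq, gc3_eq, gc4_eq, gc5_eq, mul_inv_rev, inv_inv, pow_succ, pow_zero, one_mul, mul_one, mul_assoc, inv_mul_cancel_left, mul_inv_cancel_left, inv_mul_cancel, mul_inv_cancel]
  exact h

theorem word42 : prodW gen [7, 0, 6, 1, 1, 1] = 1 := by
  have h := rel42
  simp only [gc1_eq, gc2_eq, gc3_eq, gc4_eq, gc5_eq, mul_inv_rev, inv_inv, pow_succ, pow_zero, one_mul, mul_one, mul_assoc, inv_mul_cancel_left, mul_inv_cancel_left, inv_mul_cancel, mul_inv_cancel] at h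
  simp only [prodW_cons, prodW_nil, gen]
  simp only [gc1_eq, gc2_eq, gc3_eq, gc4_eq, gc5_eq, mul_inv_rev, inv_inv, pow_succ, pow_zero, one_mul, mul_one, mul_assoc, inv_mul_cancel_left, mul_inv_cancel_left, inv_mul_cancel, mul_inv_cancel]
  exact h

theorem word43 : prodW gen [6, 5, 1, 5, 0, 4, 1, 4, 0, 6, 5, 1, 5, 0, 4, 1, 4, 0, 6, 5, 1, 5, 0, 4, 1, 4, 0, 6, 5, 1, 5, 0, 4, 1, 4, 0, 6, 5, 1, 5, 0, 4, 1, 4, 0] = 1 := by
  have h := rel43
  simp only [gc1_eq, gc2_eq, gc3_eq, gc4_eq, gc5_eq, mul_inv_rev, inv_inv, pow_succ, pow_zero, one_mul, mul_one, mul_assoc, inv_mul_cancel_left, mul_inv_cancel_left, inv_mul_cancel, mul_inv_cancel] at h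
  simp only [prodW_cons, prodW_nil, gen]
  simp only [gc1_eq, gc2_eq, gc3_eq, gc4_eq, gc5_eq, mul_inv_rev, inv_inv, pow_succ, pow_zero, one_mul, mul_one, mul_assoc, inv_mul_cancel_left, mul_inv_cancel_left, inv_mul_cancel, mul_inv_cancel]
  exact h

theorem word44 : prodW gen [6, 5, 1, 5, 0, 4, 1, 4, 0, 6, 1, 5, 0, 5, 1, 4, 0, 4, 6, 5, 1, 5, 0, 4, 1, 4, 1] = 1 := by
  have h := rel44
  simp only [gc1_eq, gc2_eq, gc3_eq, gc4_eq, gc5_eq, mul_inv_rev, inv_inv, pow_succ, pow_zero, one_mul, mul_one, mul_assoc, inv_mul_cancel_left, mul_inv_cancel_left, inv_mul_cancel, mul_inv_cancel] at h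
  simp only [prodW_cons, prodW_nil, gen]
  simp only [gc1_eq, gc2_eq, gc3_eq, gc4_eq, gc5_eq, mul_inv_rev, inv_inv, pow_succ, pow_zero, one_mul, mul_one, mul_assoc, inv_mul_cancel_left, mul_inv_cancel_left, inv_mul_cancel, mul_inv_cancel]
  exact h

theorem prodW_relsA : ∀ r ∈ certA.rels, prodW gen r = 1 := by
  intro r hr
  simp only [certA, List.mem_cons, List.not_mem_nil, or_false] at hr
  rcases hr with rfl | rfl | rfl | rfl | rfl | rfl | rfl | rfl | rfl | rfl | rfl | rfl | rfl | rfl | rfl | rfl | rfl | rfl | rfl | rfl | rfl | rfl | rfl | rfl | rfl | rfl | rfl | rfl | rfl | rfl | rfl | rfl | rfl | rfl | rfl | rfl | rfl | rfl | rfl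
  · exact word1
  · exact word2
  · exact word3
  · exact word4
  · exact word5
  · exact word11
  · exact word12
  · exact word13
  · exact word14
  · exact word15
  · exact word16
  · exact word17
  · exact word18
  · exact word19
  · exact word20
  · exact word21
  · exact word22
  · exact word23
  · exact word24
  · exact word25
  · exact word26
  · exact word27
  · exact word28
  · exact word29
  · exact word30
  · exact word31
  · exact word32
  · exact word33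
  · exact word34
  · exact word35
  · exact word36
  · exact word37
  · exact word38
  · exact word39
  · exact word40
  · exact word41
  · exact word42
  · exact word43
  · exact word44

theorem prodW_relsB : ∀ r ∈ certB.rels, prodW gen r = 1 := fun r hr => prodW_relsA r <| by
  revert r
  decide +kernel

theorem prodW_relsC : ∀ r ∈ certC.rels, prodW gen r = 1 := fun r hr => prodW_relsA r <| by
  revert r
  decide +kernel

end CfsgLib.LyPres
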